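/-
Involutions of HS: classes, and a Sylow 2-subgroup of the centraliser of a non-2-central involution.
Generated by tools/pg.
-/
import Cfsg.Agent.Spor.PGTop2
import Cfsg.Agent.Spor.PGCov
import Cfsg.Agent.Spor.PGStruct
import Cfsg.Agent.Spor.StdHS
import Cfsg.Agent.Spor.PGCtx

set_option autoImplicit false
set_option maxRecDepth 200000
set_option Elab.async false
set_option linter.unusedVariables false

namespace CL.Q49.LkHS
open CL.PG

noncomputable def xa9 : Net := (.cons 96 (nat_lit 0x264ccc09fc222f140f8d41c0)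
 (.cons 48 (nat_lit 0xc880a932ddc0000000000000492acd6fa060)
 (.cons 24 (nat_lit 0xb4ee380000009ecd48000000e16080000000aac268)
 (.cons 12 (nat_lit 0xd8a0002d600084b000f14000990000222000502000e0a)
 (.cons 6 (nat_lit 0x1003303c03e01003003500000401502203000b02400b017)
 (.cons 3 (nat_lit 0x1460061020460c41061061870021041460001800830c5041)
 (.cons 1 (nat_lit 0x8000001200000041000200000200000000040200201)
 (.cons 1 (nat_lit 0x92410010402402492092400480002482400410480482402)
 (.cons 1 (nat_lit 0x200241001040040041040201200048049041040201001)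
 (.cons 3 (nat_lit 0x100180002004004080106180002004086000006080086184)
 (.cons 6 (nat_lit 0x1800c03c032030010004000004014022030034024028030)
 (.cons 12 (nat_lit 0xd8a0002d6000030000d140008900002220005020004d0)
 (.cons 24 (nat_lit 0x90ee300000009ecd48000000e16080000000aac268)
 (.cons 48 (nat_lit 0xc880a932ddc0000000000000492acd2fa060)
 (.cons 96 (nat_lit 0x264ccc09fc222f140f8d41c0)
 .nil)))))))))))))))
noncomputable def xa10 : Net := (.cons 96 (nat_lit 0x1428eb346409d891d6226cb6)
 (.cons 48 (nat_lit 0x41267f9afb9100000000000043bc63c595b3)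
 (.cons 24 (nat_lit 0xf6d80800000026726e000000eaa9f70000009f2595)
 (.cons 12 (nat_lit 0x28c000022000a430007db000bdb000e5d000772000569)
 (.cons 6 (nat_lit 0x3002601201300100902702e01f00e02502200100e012007)
 (.cons 3 (nat_lit 0x470840061820010801870070c51821c11c61420c1105006)
 (.cons 1 (nat_lit 0x48201040040200240008200040200000000240000200001)
 (.cons 1 (nat_lit 0x492402082480480480090400082490080402490092400492)
 (.cons 1 (nat_lit 0x1009000241200049049008008201201041201000001248)
 (.cons 3 (nat_lit 0x2184004000100080084000100082002002000000100002)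
 (.cons 6 (nat_lit 0x1801600201802600c02201003002e01001c02801000200c)
 (.cons 12 (nat_lit 0x89c0000a20008ec000bec000542000e940002c6000598)
 (.cons 24 (nat_lit 0xf6d64400000002a3dc000000006d40000000572714)
 (.cons 48 (nat_lit 0x45268462d4b2000000000000c0b96ad7152a)
 (.cons 96 (nat_lit 0x14289e23d2913f783c74b174)
 .nil)))))))))))))))
noncomputable def xa11 : Net := (.cons 96 (nat_lit 0x60160cf6d245b79912bdb663)
 (.cons 48 (nat_lit 0x12837d66d3d5000000000000ecb738c11cc2)
 (.cons 24 (nat_lit 0x60ee7f0000000e558b000000ce8e980000007cb068)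
 (.cons 12 (nat_lit 0xabf0006d8000c6a0000d1000122000b2e000418000274)
 (.cons 6 (nat_lit 0x1400601101f00e02101c01300900f01302c02b03d022029)
 (.cons 3 (nat_lit 0x1841800c01851400c01c10c40021c11431c4043004080102)
 (.cons 1 (nat_lit 0x1209040001008040240208048201000000209200240000)
 (.cons 1 (nat_lit 0x82412480412490082482412090482082410412490492082)
 (.cons 1 (nat_lit 0x1009048048049001208008249040201208209240040201)
 (.cons 3 (nat_lit 0x104100000104082004080000184086106182000100080106)
 (.cons 6 (nat_lit 0x3200601000402401600800000c03a01e03000003802a01e)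
 (.cons 12 (nat_lit 0xa90000258000e5c000050000e7c000b2c000d80000300)
 (.cons 24 (nat_lit 0x42ec82000000e275fa00000049a7ca0000006b7828)
 (.cons 48 (nat_lit 0x3287602abad2000000000000f3767d2319e0)
 (.cons 96 (nat_lit 0x6016daacdf6851c441922dc8)
 .nil)))))))))))))))
noncomputable def xa12 : Net := (.cons 96 (nat_lit 0xa4d264f3d792061f946bb512)
 (.cons 48 (nat_lit 0x2c58d6525e310000000000009d77a0725ea1)
 (.cons 24 (nat_lit 0x1e26c6000000fa548800000029a57c00000038bbf2)
 (.cons 12 (nat_lit 0x42e00063600055100038b0002dd0009100001cf000782)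
 (.cons 6 (nat_lit 0x1402b02200d00300003802503501b01200003800200200f)
 (.cons 3 (nat_lit 0x1c11401810431400461051830020421820060c6183006081)
 (.cons 1 (nat_lit 0x48000040200008001040041200041001041208000008001)
 (.cons 1 (nat_lit 0x92090082400410092490082402482402082410480412402)
 (.cons 1 (nat_lit 0x248049248001049048008009001200041009008001048041)
 (.cons 3 (nat_lit 0x82100180002082000004186082180084182084000000104)
 (.cons 6 (nat_lit 0x3000802000801c00001c02000202400201402a02a022004)
 (.cons 12 (nat_lit 0xce8000c7200026a000ab000089200043400047c0003f8)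
 (.cons 24 (nat_lit 0x963c12000000df96c8000000ecbb980000002a1a42)
 (.cons 48 (nat_lit 0xa8cab25e8d80000000000000dc7e2e9ae424)
 (.cons 96 (nat_lit 0xa4d2738b59cd63aaf7d49952)
 .nil)))))))))))))))
noncomputable def xa13 : Net := (.cons 96 (nat_lit 0x8a08fdb2c20abace1d14109e)
 (.cons 48 (nat_lit 0x9024d8436ba000000000000377583d6ea4d)
 (.cons 24 (nat_lit 0x62867900000047ea020000001220eb0000007f1135)
 (.cons 12 (nat_lit 0xea0000a490007d3000d3900018c00094a0005c7000f80)
 (.cons 6 (nat_lit 0x2003f01102400201b00500001000202401103400903b010)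
 (.cons 3 (nat_lit 0x800400c40061410070031040c1005007043181140103005)
 (.cons 1 (nat_lit 0x208200001040008200001040009041008040008040001200)
 (.cons 1 (nat_lit 0x410410082092092402012082012092412090490490412410)
 (.cons 1 (nat_lit 0x200008201041000008208001000009248009200208049001)
 (.cons 3 (nat_lit 0x180084002000000084004000080106000086080104002)
 (.cons 6 (nat_lit 0x1800e01802001002803c02401a00201803000801a030000)
 (.cons 12 (nat_lit 0x6a8000b0e0001300008320007fa000e26000da000068c)
 (.cons 24 (nat_lit 0x61867800000045c61400000065b026000000bf7714)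
 (.cons 48 (nat_lit 0x102e60a123c00000000000073d6c2950a98)
 (.cons 96 (nat_lit 0x8a088398141b3ff21fb8e950)
 .nil)))))))))))))))
noncomputable def xa14 : Net := (.cons 96 (nat_lit 0x83219885ff30b69bca824900)
 (.cons 48 (nat_lit 0xc230eaea0080000000000000dd873ccc9a24)
 (.cons 24 (nat_lit 0x87201800000083f9580000003f836c00000010544c)
 (.cons 12 (nat_lit 0x8d100031600022e000e8c000642000c83000b10000c48)
 (.cons 6 (nat_lit 0x2001403a01202803303a010007030020038008037020006)
 (.cons 3 (nat_lit 0x20040870030411040040400810011031851001461c5101)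
 (.cons 1 (nat_lit 0x48208000001200200041040001208041000208240208)
 (.cons 1 (nat_lit 0x400492412400092400402492492402412082092490480412)
 (.cons 1 (nat_lit 0x40048201049008200048209001049248041200209240241)
 (.cons 3 (nat_lit 0x4000000006100004180002004182100100104000106)
 (.cons 6 (nat_lit 0x2001403a012028020022010038030020030008036020006)
 (.cons 12 (nat_lit 0x8d000021600020e000aa400000a000488000910000c48)
 (.cons 24 (nat_lit 0x87201800000083f9580000001b8ce000000030544c)
 (.cons 48 (nat_lit 0xc230eaea0080000000000000ed85bdac9e60)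
 (.cons 96 (nat_lit 0x83219885ff30b69bca824900)
 .nil)))))))))))))))
noncomputable def xa15 : Net := (.cons 96 (nat_lit 0x39a7fd60bf546001b87bb588)
 (.cons 48 (nat_lit 0xeb9c7cafbb3c0000000000005629f1bb7905)
 (.cons 24 (nat_lit 0xb8a2a000000231a6d000000a6e173000000d56984)
 (.cons 12 (nat_lit 0xe5b000f660006940007be000b58000f57000d500004e1)
 (.cons 6 (nat_lit 0xe00801001003001900a00f00302001402102402a014033)
 (.cons 3 (nat_lit 0xc71051440471031c40061830811050c20801c2004144040)
 (.cons 1 (nat_lit 0x201040048000001000201001001040208041000)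
 (.cons 1 (nat_lit 0x10482090412480092010402080402092402482410482010)
 (.cons 1 (nat_lit 0x48201009041200008208209040201201040200240201248)
 (.cons 3 (nat_lit 0x82080004006180080002182100100086084004002184006)
 (.cons 6 (nat_lit 0x401000001802001201c00c012028010000024018034028)
 (.cons 12 (nat_lit 0xad8000560000472000728000212000fa0000224000ed0)
 (.cons 24 (nat_lit 0x13b87800000016d81e000000a0f1660000005e29b8)
 (.cons 48 (nat_lit 0xdb392ab85a20000000000000d029cf7c5980)
 (.cons 96 (nat_lit 0x39a78f7e6f079e66c8f4b54c)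
 .nil)))))))))))))))
noncomputable def xa16 : Net := (.cons 96 (nat_lit 0x49dcfa5b9d9bf52577166)
 (.cons 48 (nat_lit 0x70804b6caf6000000000000c70ba763b930)
 (.cons 24 (nat_lit 0x2081e0000001527d8000000584cbc000000dd2fad)
 (.cons 12 (nat_lit 0x472000fec000136000c640002eb00027c000fdf000762)
 (.cons 6 (nat_lit 0x200801001400c00802c02601103702a00b01b03d00403b)
 (.cons 3 (nat_lit 0x461461c00000470850061011021440870400c1185004)
 (.cons 1 (nat_lit 0x200009041209000040201001208049040041008048048)
 (.cons 1 (nat_lit 0x10402092092412010482402092492492082482412490492)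
 (.cons 1 (nat_lit 0x40241248048241208000001241201201241000049048000)
 (.cons 3 (nat_lit 0x80006100000100006004000000104180182100080004100)
 (.cons 6 (nat_lit 0x1202803001003601800a03802c03a01a02203001200a00c)
 (.cons 12 (nat_lit 0x42200061a00006a00014800032800027c000988000970)
 (.cons 24 (nat_lit 0x2005a0000001d719e000000a75ee600000026e652)
 (.cons 48 (nat_lit 0x70cc0251dc2000000000000295867990dc2)
 (.cons 96 (nat_lit 0x45fe17b3a66ee39e54e88)
 .nil)))))))))))))))
noncomputable def xa17 : Net := (.cons 96 (nat_lit 0x222f5dc0b5c64003ed0c3a0)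
 (.cons 48 (nat_lit 0x4693466eb2f4000000000000b000a377f240)
 (.cons 24 (nat_lit 0x8207d8000000bf4fa0000000ba1444000000278c28)
 (.cons 12 (nat_lit 0x8c40001a70008dc000b07000d1c000532000e8b000bb0)
 (.cons 6 (nat_lit 0x1003200a00b01a01200c00203c01000602e01002a01f03a)
 (.cons 3 (nat_lit 0x71c40400471020c41010020041011021850001c61c5140)
 (.cons 1 (nat_lit 0x9041001001240201200241201008009000008000040040)
 (.cons 1 (nat_lit 0x12482012012490492490492482012012400412090482492)
 (.cons 1 (nat_lit 0x49209001001008041208048201041049040240208040200)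
 (.cons 3 (nat_lit 0x4006000006084000000004006000180004182184080)
 (.cons 6 (nat_lit 0x1003200a00203001202403802c01000602c02a02000600a)
 (.cons 12 (nat_lit 0x8c400001000038c000312000d1c000536000644000bb0)
 (.cons 24 (nat_lit 0x8207d80000003f47200000009a1444000000a34428)
 (.cons 48 (nat_lit 0x4691462ea2f00000000000003000a3779240)
 (.cons 96 (nat_lit 0x222f3f82bdced683e50c3a0)
 .nil)))))))))))))))
noncomputable def xa18 : Net := (.cons 96 (nat_lit 0x7ed27f12798008ad8b59bd22)
 (.cons 48 (nat_lit 0x976efd9fa004000000000000e2bca9672c48)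
 (.cons 24 (nat_lit 0xbb62b0000000e0c16c000000b56b600000005884f4)
 (.cons 12 (nat_lit 0x371000f0c0003660009e30008f800001c0005cc000a00)
 (.cons 6 (nat_lit 0x1001403400700c01000903101f00d000033010000002014)
 (.cons 3 (nat_lit 0x70841c00c10c60c10800401440000021041861c3102040)
 (.cons 1 (nat_lit 0x8041248008209000201200248041001041008000000041)
 (.cons 1 (nat_lit 0x412492490090492000402480492492002482410480000482)
 (.cons 1 (nat_lit 0x41041249040041000209240209041201041048000041201)
 (.cons 3 (nat_lit 0x84000184102000000000004000000104184000002180)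
 (.cons 6 (nat_lit 0x10014034038002010008020020000000010010000002014)
 (.cons 12 (nat_lit 0x150000f0c0002420008840008f80000140005cc000a00)
 (.cons 24 (nat_lit 0xbb62b0000000fa9208000000b56b600000005884d4)
 (.cons 48 (nat_lit 0x976ef59fa00400000000000062bca9652c48)
 (.cons 96 (nat_lit 0x7ed27d12798008ad8b59bd22)
 .nil)))))))))))))))
noncomputable def xa19 : Net := (.cons 96 (nat_lit 0x44820999e098377e7af0c250)
 (.cons 48 (nat_lit 0x4287338eb178000000000000182a321db020)
 (.cons 24 (nat_lit 0xe84780000000e5b0c0000000c339740000001a55e1)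
 (.cons 12 (nat_lit 0x5a40002310002220000c4000f93000ec8000105000b00)
 (.cons 6 (nat_lit 0x2a00003402403503e01c01302801a01603b03703803601a)
 (.cons 3 (nat_lit 0xc20411070430801870040010821041040c41000c3187)
 (.cons 1 (nat_lit 0x248008000000000048200000000048040200009200048048)
 (.cons 1 (nat_lit 0x492010402410080090480010010090492400492402090092)
 (.cons 1 (nat_lit 0x248008008001201249209000009241048041001201049248)
 (.cons 3 (nat_lit 0x6000000180004004080180100000102002186)
 (.cons 6 (nat_lit 0x200002403400c03e01c01003802000001802201803601a)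
 (.cons 12 (nat_lit 0x5a00006280002380000c40001840005f4000d02000004)
 (.cons 24 (nat_lit 0xe84784000000a5a0c0000000417974000000f48940)
 (.cons 48 (nat_lit 0x4285218ab1680000000000001a02529fb410)
 (.cons 96 (nat_lit 0x44820d99a00c377a7af2c220)
 .nil)))))))))))))))
noncomputable def xa20 : Net := (.cons 96 (nat_lit 0x5818888f0601f1e293b7a09a)
 (.cons 48 (nat_lit 0x5a5ede2881970000000000003b55a2660cb6)
 (.cons 24 (nat_lit 0x2266b0000004f96af000000b391260000007d7c81)
 (.cons 12 (nat_lit 0xa0200053500059d00064300084d0001c7000664000c58)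
 (.cons 6 (nat_lit 0x2802903402802003501201801501a026019018018038027)
 (.cons 3 (nat_lit 0x10801c21850871c60801420420c11c10c7047044084083)
 (.cons 1 (nat_lit 0x8001040200008001000008048201008048041000000000)
 (.cons 1 (nat_lit 0x90402082400490082082012090412010492482482000080)
 (.cons 1 (nat_lit 0x8200201201048040001049240001040208209208040008)
 (.cons 3 (nat_lit 0x100000106100084102000000006006002182102004080102)
 (.cons 6 (nat_lit 0xc02a02c02802802c01203001a00800a01600001c010032)
 (.cons 12 (nat_lit 0xa240009a400049e000e18000a5800062800067a00005a)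
 (.cons 24 (nat_lit 0x407e58000000c78f30000000be81a8000000bc5800)
 (.cons 48 (nat_lit 0x5a5e2c0d127800000000000018316158c0ae)
 (.cons 96 (nat_lit 0x5818c7a312a4b65df77385d2)
 .nil)))))))))))))))
noncomputable def xa21 : Net := (.cons 96 (nat_lit 0xa066a0dc4832c1c7664d2440)
 (.cons 48 (nat_lit 0xc608523ff7240000000000001785d992f5d0)
 (.cons 24 (nat_lit 0xb76b6400000017ab400000007e6468000000a6707c)
 (.cons 12 (nat_lit 0x5560004f9000450000dd80005b200031c00064e000cd7)
 (.cons 6 (nat_lit 0xd01c00802203601203e00a01300601b024017029003)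
 (.cons 3 (nat_lit 0x1021001041000c50c20c20050861020831001851c6183184)
 (.cons 1 (nat_lit 0x200040000008208041001000001040201000040001000040)
 (.cons 1 (nat_lit 0x402082002092492492002410092082492010482002080082)
 (.cons 1 (nat_lit 0x200001040208041201009000001001208200041240208048)
 (.cons 3 (nat_lit 0x104080004100102102002100004084084000184004180104)
 (.cons 6 (nat_lit 0x3003200400802203601200801402400601800c00c022002)
 (.cons 12 (nat_lit 0x9200004b8000450000dd80005b200031c000424000c92)
 (.cons 24 (nat_lit 0xb36ba400000017ab400000007a64680000000660ac)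
 (.cons 48 (nat_lit 0xc608523ff7240000000000001785d992f5d0)
 (.cons 96 (nat_lit 0xa066a0dc4832c1c7664d2440)
 .nil)))))))))))))))
noncomputable def xa22 : Net := (.cons 96 (nat_lit 0xc048be276303684c845cac00)
 (.cons 48 (nat_lit 0xff1827905ca000000000000078588f21a600)
 (.cons 24 (nat_lit 0xc280740000002a8850000000e51dfe0000006bd750)
 (.cons 12 (nat_lit 0x3c4000037000304000806000ef100008c000fd6000dd2)
 (.cons 6 (nat_lit 0x2803501b03702603a03003301803201900d01202402c034)
 (.cons 3 (nat_lit 0x40041851420000870820c10c60041841c2187003084142)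
 (.cons 1 (nat_lit 0x1008000008000000009001048208200001200000000201)
 (.cons 1 (nat_lit 0x12090002410082400012402492412402082400000400482)
 (.cons 1 (nat_lit 0x241208008048200040049200208248208240209209041049)
 (.cons 3 (nat_lit 0x4004002080000080080184002100104106100000080082)
 (.cons 6 (nat_lit 0x2801400802400003a03000c01c02601803c012000024034)
 (.cons 12 (nat_lit 0x3c40006c000030400080600055c000088000f96000dd2)
 (.cons 24 (nat_lit 0xc280740000002a8850000000e518de0000006bd750)
 (.cons 48 (nat_lit 0xff1827905ca000000000000078588f21a600)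
 (.cons 96 (nat_lit 0xc048be276303684c845cac00)
 .nil)))))))))))))))
noncomputable def xa23 : Net := (.cons 96 (nat_lit 0xa7512946b209104a9a300144)
 (.cons 48 (nat_lit 0x47a06a2a19c2000000000000360f3a1559a2)
 (.cons 24 (nat_lit 0xa0482100000029b0b4000000c89b600000002ac074)
 (.cons 12 (nat_lit 0x41d000901000c85000e620003c6000192000f4c000c48)
 (.cons 6 (nat_lit 0x1703e02e00302801b01c03e01402203403803303001c03b)
 (.cons 3 (nat_lit 0x450461c21401c3046081080102180180104103004004142)
 (.cons 1 (nat_lit 0x201200000001008201040000001000040008000201040040)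
 (.cons 1 (nat_lit 0x402480480092092482482010082490080410080482490090)
 (.cons 1 (nat_lit 0x1040008241001209040041000001048048041209241201)
 (.cons 3 (nat_lit 0x184180000106100186080080106000100104182004004100)
 (.cons 6 (nat_lit 0x3e03e03a00001e03c00c03201002203001802203001c008)
 (.cons 12 (nat_lit 0x406000fb4000f32000e42000186000190000f48000450)
 (.cons 24 (nat_lit 0x20784600000029b0f4000000c89b6000000022c074)
 (.cons 48 (nat_lit 0xc7a0222a5982000000000000360f381559a2)
 (.cons 96 (nat_lit 0xa7512506b201136a9a321004)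
 .nil)))))))))))))))
noncomputable def xa24 : Net := (.cons 96 (nat_lit 0x86567115d46aae6eb942d939)
 (.cons 48 (nat_lit 0xac8e3777edd4000000000000a4485caa6ff1)
 (.cons 24 (nat_lit 0x7970900000044b03e0000005f60cc000000645877)
 (.cons 12 (nat_lit 0xdad0003d8000c8800017f000f60000fcc000c750003f9)
 (.cons 6 (nat_lit 0x502d01e02f03702601c01900401b000006018012021006)
 (.cons 3 (nat_lit 0xc00470030011821410840050041430840430c6083006005)
 (.cons 1 (nat_lit 0x41200200008040240008001040048040200208001001001)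
 (.cons 1 (nat_lit 0x82402400010082490410082090090490480412012402402)
 (.cons 1 (nat_lit 0x41240201249000200249049040209000248240041240208)
 (.cons 3 (nat_lit 0x104104102004180000006004100102004002080006006000)
 (.cons 6 (nat_lit 0x1000e00c00402401601a00a00000800400c02000003001c)
 (.cons 12 (nat_lit 0x5a4000d90000dc00004be000760000e1a000c3c0007ea)
 (.cons 24 (nat_lit 0x2b130000000040a7080000007629ae000000066470)
 (.cons 48 (nat_lit 0xae9e9b1cc856000000000000a4690a47a790)
 (.cons 96 (nat_lit 0x86566736f479c9f63fbd1460)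
 .nil)))))))))))))))
noncomputable def xa25 : Net := (.cons 96 (nat_lit 0x371b5e0ec6ced226a2b5941a)
 (.cons 48 (nat_lit 0xd28db660fb93000000000000db173f3c9aee)
 (.cons 24 (nat_lit 0x8f1646000000a221dd000000dc710f000000252a4c)
 (.cons 12 (nat_lit 0x50b000f5f0002b90005ec0000ff0002fe0000e20009ea)
 (.cons 6 (nat_lit 0x3201d02500502801300803102700303403e02e02400d036)
 (.cons 3 (nat_lit 0x1c71851001021c31401c40061001c70851801840070c0006)
 (.cons 1 (nat_lit 0x1048041241200208041041001000001200000008008)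
 (.cons 1 (nat_lit 0x482412092092482400410482482412002412402082012090)
 (.cons 1 (nat_lit 0x40249040241040000241041009049040008240241209040)
 (.cons 3 (nat_lit 0x84104000184082080180084006104084104084006080184)
 (.cons 6 (nat_lit 0x2000003c01c00801201800002400002802402c024020020)
 (.cons 12 (nat_lit 0xcd200001000036c0003b20001a8000b58000a3a000888)
 (.cons 24 (nat_lit 0x5e06ce000000b040400000008f446c000000856abe)
 (.cons 48 (nat_lit 0xe4872bd3440000000000000053138a296848)
 (.cons 96 (nat_lit 0x371b8dae7a26d575e9a9d5b2)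
 .nil)))))))))))))))
noncomputable def xa26 : Net := (.cons 96 (nat_lit 0x4e9faba48d5afb3b6e761776)
 (.cons 48 (nat_lit 0x5e53e69d9f6a000000000000f03bcab10c7e)
 (.cons 24 (nat_lit 0x88b8770000007f59be000000c09ec00000003865ce)
 (.cons 12 (nat_lit 0x4ce000e5100081600024d000c360005270003f800037a)
 (.cons 6 (nat_lit 0x3c02900600a00600c02a01801a01d002026004035025018)
 (.cons 3 (nat_lit 0x1c61c31801000450060c50c0081105082100102185084140)
 (.cons 1 (nat_lit 0x201040008201000009000000201008000040040040200008)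
 (.cons 1 (nat_lit 0x402090012402082092412400482010010082090490482412)
 (.cons 1 (nat_lit 0x49249008241048048009001201048008209000208)
 (.cons 3 (nat_lit 0x80184084184004100082102104004082106106084104102)
 (.cons 6 (nat_lit 0x3c02603200202403c00a01003e00000001c02002003c00c)
 (.cons 12 (nat_lit 0x8cc000ca00003b80006ee000834000ec2000248000134)
 (.cons 24 (nat_lit 0xc2bdac000000d0471000000080ae600000000a8100)
 (.cons 48 (nat_lit 0x1648d78297d0000000000000415bdd969a6c)
 (.cons 96 (nat_lit 0x4e9f24e527a6ed70c1d03c1c)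
 .nil)))))))))))))))
noncomputable def xa27 : Net := (.cons 96 (nat_lit 0x4a87eef439c895cda5369810)
 (.cons 48 (nat_lit 0x89a7115ff270000000000000205a20ad0190)
 (.cons 24 (nat_lit 0xdc20f0000007f7c800000001284f00000009f6f20)
 (.cons 12 (nat_lit 0xcba000068000f86000ffa000c47000010000a4f000d02)
 (.cons 6 (nat_lit 0x2e02901703400602e01c02402e01901102d03100900601a)
 (.cons 3 (nat_lit 0xc21870871001c21830440c01c50c1180103084000140082)
 (.cons 1 (nat_lit 0x41000001048040000001208000000249040001000040)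
 (.cons 1 (nat_lit 0x80082400082490080480002490002000492082402400090)
 (.cons 1 (nat_lit 0x240209049209208049009001040001041209248209009241)
 (.cons 3 (nat_lit 0x100006080186000000000000084000002000006080100002)
 (.cons 6 (nat_lit 0x2c02202402400602e01c00403201000200001c014006038)
 (.cons 12 (nat_lit 0x8520009c8000e86000ffa0006400000100005b0000d20)
 (.cons 24 (nat_lit 0x8765300000007f7c800000001284700000001d4f1a)
 (.cons 48 (nat_lit 0x89a7715fb270000000000000205a20ad0100)
 (.cons 96 (nat_lit 0x4a872e74394895cd85369a00)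
 .nil)))))))))))))))
noncomputable def xa28 : Net := (.cons 96 (nat_lit 0xabea88416c2175a06751512)
 (.cons 48 (nat_lit 0x732a45682d0000000000000036607344ec8c)
 (.cons 24 (nat_lit 0xb77a4b000000a6ae300000005cb7cc00000045de36)
 (.cons 12 (nat_lit 0x3d7000e7b0001cb0007c5000f8e000c38000388000684)
 (.cons 6 (nat_lit 0x300503c03600a01801f02401601c02801103102c019012)
 (.cons 3 (nat_lit 0x46181180083085007083103145003040100004141040140)
 (.cons 1 (nat_lit 0x208000008000049000209041001001200001001009008008)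
 (.cons 1 (nat_lit 0x410092090400492012412482412012410412082092092012)
 (.cons 1 (nat_lit 0x249048240208049209048049048000200041201248209048)
 (.cons 3 (nat_lit 0x80082104102180000002186180000004100004002104000)
 (.cons 6 (nat_lit 0x803003c03200403203c03401402a02001203000201e000)
 (.cons 12 (nat_lit 0xb68000f600009000002960008d6000d2c0004500001c2)
 (.cons 24 (nat_lit 0xa654100000002a12d8000000dd96da000000244914)
 (.cons 48 (nat_lit 0x7100117cb1400000000000009221b8cd638e)
 (.cons 96 (nat_lit 0xabe27298f9048964ed89b60)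
 .nil)))))))))))))))
noncomputable def xa29 : Net := (.cons 96 (nat_lit 0x4a1b4d11928da03292e0c0c)
 (.cons 48 (nat_lit 0xa4c26f6748c20000000000002bea5e0014a0)
 (.cons 24 (nat_lit 0xbe2a000000010a8b000000073c940000000bcdab0)
 (.cons 12 (nat_lit 0x1000085600004e000736000f8a0000f8000d26000e10)
 (.cons 6 (nat_lit 0x1400f02501c02703803202202e01f02d00403000801c012)
 (.cons 3 (nat_lit 0x1040000041020001c2043002084080045040187100105044)
 (.cons 1 (nat_lit 0x40208000000201000001000001200201201008040)
 (.cons 1 (nat_lit 0x2092080490400010402090412010402480412482412482)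
 (.cons 1 (nat_lit 0x240000049208049001249001001041200049208209001200)
 (.cons 3 (nat_lit 0x4000000100000002106106004002086180100100102184)
 (.cons 6 (nat_lit 0x1400002401c02003800c00402602003200403002801c032)
 (.cons 12 (nat_lit 0x1000081600004e0007760009a00000d8000d06000e10)
 (.cons 24 (nat_lit 0xbe2a00000001080b0000000b1c94000000038da10)
 (.cons 48 (nat_lit 0xa4c26f03588400000000000089ea5e001480)
 (.cons 96 (nat_lit 0x4a1b4d11928da03292e0c04)
 .nil)))))))))))))))
noncomputable def xa30 : Net := (.cons 96 (nat_lit 0xa74d7f38b56a6c5ba2418c8c)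
 (.cons 48 (nat_lit 0xebd5195bc83000000000000068d0139847b0)
 (.cons 24 (nat_lit 0x6802e700000071365c0000004c2fe8000000bf9480)
 (.cons 12 (nat_lit 0x2940001980000c1000742000f9f00046b000033000d30)
 (.cons 6 (nat_lit 0x3803503902600202800600301203e01301602e019005038)
 (.cons 3 (nat_lit 0x1441821401000400460440c10841871801830840001020c2)
 (.cons 1 (nat_lit 0x40040041001000048008208048008000200008040040048)
 (.cons 1 (nat_lit 0x80482482412482092010412090010402400412082090490)
 (.cons 1 (nat_lit 0x240001209041201040040008049209001008208208041000)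
 (.cons 3 (nat_lit 0x100106084186080104086180104086004180086102106002)
 (.cons 6 (nat_lit 0x3001400802201000001600801203601001600c03402401a)
 (.cons 12 (nat_lit 0x2f00005d00002a2000f40000a180004e0000ba80001a2)
 (.cons 24 (nat_lit 0x621770000000501d580000001c5fee0000002ea4b8)
 (.cons 48 (nat_lit 0x6995084e40d800000000000060c294b8feb8)
 (.cons 96 (nat_lit 0xa74de9ac03db916fa361b9e4)
 .nil)))))))))))))))
noncomputable def xa31 : Net := (.cons 96 (nat_lit 0x4e9faba48d5afb3b6e761776)
 (.cons 48 (nat_lit 0x5e53e69d9f6a000000000000f03bcab10c7e)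
 (.cons 24 (nat_lit 0x88b8770000007f59be000000c09ec00000003865ce)
 (.cons 12 (nat_lit 0x4ce000e5100081600024d000c360005270003f800037a)
 (.cons 6 (nat_lit 0x3c02900600a00600c02a01801a01d002026004035025018)
 (.cons 3 (nat_lit 0x1c61c31801000450060c50c0081105082100102185084140)
 (.cons 1 (nat_lit 0x201040008201000009000000201008000040040040200008)
 (.cons 1 (nat_lit 0x402090012402082092412400482010010082090490482412)
 (.cons 1 (nat_lit 0x49249008241048048009001201048008209000208)
 (.cons 3 (nat_lit 0x80184084184004100082102104004082106106084104102)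
 (.cons 6 (nat_lit 0x3c02603200202403c00a01003e00000001c02002003c00c)
 (.cons 12 (nat_lit 0x8cc000ca00003b80006ee000834000ec2000248000134)
 (.cons 24 (nat_lit 0xc2bdac000000d0471000000080ae600000000a8100)
 (.cons 48 (nat_lit 0x1648d78297d0000000000000415bdd969a6c)
 (.cons 96 (nat_lit 0x4e9f24e527a6ed70c1d03c1c)
 .nil)))))))))))))))
noncomputable def xa32 : Net := (.cons 96 (nat_lit 0xabe27298f9048964ed89b60)
 (.cons 48 (nat_lit 0x7100117cb14000000000000096a1b8cd67ce)
 (.cons 24 (nat_lit 0x59abef0000002a12d8000000d9d6d20000009ab488)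
 (.cons 12 (nat_lit 0x970004970006f600054100016d000b0c000856000fc6)
 (.cons 6 (nat_lit 0x1e03c00603b03200b01402301403f030025029014026010)
 (.cons 3 (nat_lit 0x10440030050071461811411420070041041860441c2140)
 (.cons 1 (nat_lit 0x1200041201009241048040000200000240048008001208)
 (.cons 1 (nat_lit 0x2410482402012492490490480490410490090412402490)
 (.cons 1 (nat_lit 0x200048000249200241049249001048000241200049200048)
 (.cons 3 (nat_lit 0x84000106082000002104100002106000004002180184080)
 (.cons 6 (nat_lit 0x1003c01201801802402402003a020000026016008022030)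
 (.cons 12 (nat_lit 0x104000c28000e10000870000020000a50000944000056)
 (.cons 24 (nat_lit 0x4885b4000000a6ae300000007c378c000000aab582)
 (.cons 48 (nat_lit 0x732a45682d0000000000000036e06944ec8c)
 (.cons 96 (nat_lit 0xabea88416c2175a06751512)
 .nil)))))))))))))))
noncomputable def xa33 : Net := (.cons 96 (nat_lit 0xa93ddc0022b7f8c47cb90480)
 (.cons 48 (nat_lit 0x958c07cff830000000000000ee735680b440)
 (.cons 24 (nat_lit 0x8c1cf40000005579000000003cf228000000a3b4e4)
 (.cons 12 (nat_lit 0x7520001df0001a10004c3000620000a8e000866000078)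
 (.cons 6 (nat_lit 0x2200603602c02801202603802600401e03c00801a008034)
 (.cons 3 (nat_lit 0x100004147041186142085181005081103181141184084186)
 (.cons 1 (nat_lit 0x8248000000040208041008209040001008008040040000)
 (.cons 1 (nat_lit 0x410490082010482492082010412092482412012080080000)
 (.cons 1 (nat_lit 0x9249208041048048249209209040208041001049240008)
 (.cons 3 (nat_lit 0x100004186002106080086000000000080186006100080002)
 (.cons 6 (nat_lit 0x2200600002002801402403002400401003c00801a008010)
 (.cons 12 (nat_lit 0x740000a00000420000a58000620000a8e000866000078)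
 (.cons 24 (nat_lit 0x8c1cd400000055790000000038f228000000a3b4e4)
 (.cons 48 (nat_lit 0x158c07cef830000000000000ee735680b440)
 (.cons 96 (nat_lit 0xa93ddc0022b7f8c07cb90480)
 .nil)))))))))))))))
noncomputable def xa34 : Net := (.cons 96 (nat_lit 0x31f5d7b3e2dee9f6075116ba)
 (.cons 48 (nat_lit 0x676dd469cae6000000000000db654c086394)
 (.cons 24 (nat_lit 0x835a1e000000d3631e000000aa0650000000be8f86)
 (.cons 12 (nat_lit 0xb44000b590008da000bbc00012e0004960004990008e8)
 (.cons 6 (nat_lit 0x2c03a00a00b02503600202903a02f014029015030035002)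
 (.cons 3 (nat_lit 0x20c71421800c0183183144046182002146184100086144)
 (.cons 1 (nat_lit 0x200040001001200200008201200009000240041000041008)
 (.cons 1 (nat_lit 0x410090012412402490012402480092090490092092482092)
 (.cons 1 (nat_lit 0x201241001201048200201000000049049241201049048000)
 (.cons 3 (nat_lit 0x6086000100000104086180100180080004104100104100)
 (.cons 6 (nat_lit 0x3c00000e01202603c02003800200a03600401401c01c000)
 (.cons 12 (nat_lit 0x504000a1800095a0008f20001ec000d5c0000980000c0)
 (.cons 24 (nat_lit 0xa61ba6000000f3d100000000bd40d0000000f21798)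
 (.cons 48 (nat_lit 0x764c6449d1440000000000009165b27702e8)
 (.cons 96 (nat_lit 0x31f50aead86612a7c0400e32)
 .nil)))))))))))))))
noncomputable def xa35 : Net := (.cons 96 (nat_lit 0x71d52f0048a803345af44210)
 (.cons 48 (nat_lit 0xfcbd191a68000000000000008a8540508240)
 (.cons 24 (nat_lit 0x2808200000004d612c000000110ba400000029df68)
 (.cons 12 (nat_lit 0x9a0000f4f0004fe000fb0000592000610000880000b36)
 (.cons 6 (nat_lit 0x2003602e03401e01c00a02800c00000b00000b002035028)
 (.cons 3 (nat_lit 0x1410040451c10060c01040461820440471801001c0006002)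
 (.cons 1 (nat_lit 0x240040200200001008000000000001000008041008241000)
 (.cons 1 (nat_lit 0x492080482482012012400410090082000010092010482080)
 (.cons 1 (nat_lit 0x240048040040041008009001200009201049241249201048)
 (.cons 3 (nat_lit 0x184006000100006104106002080100000004002)
 (.cons 6 (nat_lit 0x2003403002c00601c00a02803c00201000000c00203400c)
 (.cons 12 (nat_lit 0x9a00000b00004fa0007b0000c08000610000880000be2)
 (.cons 24 (nat_lit 0x2808200000004d612c0000001102a00000003d8768)
 (.cons 48 (nat_lit 0xfcbd181a68000000000000008a8540508240)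
 (.cons 96 (nat_lit 0x71d52f0048a803344ad44210)
 .nil)))))))))))))))
noncomputable def xa36 : Net := (.cons 96 (nat_lit 0xf588a722404bd8dc568ad210)
 (.cons 48 (nat_lit 0xcde1393eb1100000000000000d5c6e8aa710)
 (.cons 24 (nat_lit 0x6d2cd30000002b63c10000004e43ce000000efd0a0)
 (.cons 12 (nat_lit 0x5f0000eec000f14000158000f340004c0000b1c000d8a)
 (.cons 6 (nat_lit 0x801f03403e01501c01801602600602b03e02a000022030)
 (.cons 3 (nat_lit 0x184080046004102040102004006004184005145043080182)
 (.cons 1 (nat_lit 0x200000040001008200040208201041001000240041000000)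
 (.cons 1 (nat_lit 0x400402480002010492080412402082492402490492080002)
 (.cons 1 (nat_lit 0x48241208248049040041248241049040040240208201008)
 (.cons 3 (nat_lit 0x2002102000080180102004004004004004004184080002)
 (.cons 6 (nat_lit 0x1201803002400201c01000602200400003a02800000a038)
 (.cons 12 (nat_lit 0x8aa00072c000d14000158000b340004c0000b1c000f80)
 (.cons 24 (nat_lit 0xf42d940000002b63c00000004e42ca000000efd0a0)
 (.cons 48 (nat_lit 0xcde93d3eb0100000000000000d5c6e8aa710)
 (.cons 96 (nat_lit 0xf588a722404bd8dc568ad210)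
 .nil)))))))))))))))
noncomputable def xa37 : Net := (.cons 96 (nat_lit 0x4a1b4d11928da03292e0c0c)
 (.cons 48 (nat_lit 0xa4c26f6748c20000000000002bea5e0014a0)
 (.cons 24 (nat_lit 0xbe2a000000010a8b000000073c940000000bcdab0)
 (.cons 12 (nat_lit 0x1000085600004e000736000f8a0000f8000d26000e10)
 (.cons 6 (nat_lit 0x1400f02501c02703803202202e01f02d00403000801c012)
 (.cons 3 (nat_lit 0x1040000041020001c2043002084080045040187100105044)
 (.cons 1 (nat_lit 0x40208000000201000001000001200201201008040)
 (.cons 1 (nat_lit 0x2092080490400010402090412010402480412482412482)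
 (.cons 1 (nat_lit 0x240000049208049001249001001041200049208209001200)
 (.cons 3 (nat_lit 0x4000000100000002106106004002086180100100102184)
 (.cons 6 (nat_lit 0x1400002401c02003800c00402602003200403002801c032)
 (.cons 12 (nat_lit 0x1000081600004e0007760009a00000d8000d06000e10)
 (.cons 24 (nat_lit 0xbe2a00000001080b0000000b1c94000000038da10)
 (.cons 48 (nat_lit 0xa4c26f03588400000000000089ea5e001480)
 (.cons 96 (nat_lit 0x4a1b4d11928da03292e0c04)
 .nil)))))))))))))))
noncomputable def xa38 : Net := (.cons 96 (nat_lit 0xa74d7f38b56a6c5ba2418c8c)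
 (.cons 48 (nat_lit 0xebd5195bc83000000000000068d0139847b0)
 (.cons 24 (nat_lit 0x6802e700000071365c0000004c2fe8000000bf9480)
 (.cons 12 (nat_lit 0x2940001980000c1000742000f9f00046b000033000d30)
 (.cons 6 (nat_lit 0x3803503902600202800600301203e01301602e019005038)
 (.cons 3 (nat_lit 0x1441821401000400460440c10841871801830840001020c2)
 (.cons 1 (nat_lit 0x40040041001000048008208048008000200008040040048)
 (.cons 1 (nat_lit 0x80482482412482092010412090010402400412082090490)
 (.cons 1 (nat_lit 0x240001209041201040040008049209001008208208041000)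
 (.cons 3 (nat_lit 0x100106084186080104086180104086004180086102106002)
 (.cons 6 (nat_lit 0x3001400802201000001600801203601001600c03402401a)
 (.cons 12 (nat_lit 0x2f00005d00002a2000f40000a180004e0000ba80001a2)
 (.cons 24 (nat_lit 0x621770000000501d580000001c5fee0000002ea4b8)
 (.cons 48 (nat_lit 0x6995084e40d800000000000060c294b8feb8)
 (.cons 96 (nat_lit 0xa74de9ac03db916fa361b9e4)
 .nil)))))))))))))))
noncomputable def xa39 : Net := (.cons 96 (nat_lit 0x4a87eef439c895cda5369810)
 (.cons 48 (nat_lit 0x89a7115ff270000000000000205a20ad0190)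
 (.cons 24 (nat_lit 0xdc20f0000007f7c800000001284f00000009f6f20)
 (.cons 12 (nat_lit 0xcba000068000f86000ffa000c47000010000a4f000d02)
 (.cons 6 (nat_lit 0x2e02901703400602e01c02402e01901102d03100900601a)
 (.cons 3 (nat_lit 0xc21870871001c21830440c01c50c1180103084000140082)
 (.cons 1 (nat_lit 0x41000001048040000001208000000249040001000040)
 (.cons 1 (nat_lit 0x80082400082490080480002490002000492082402400090)
 (.cons 1 (nat_lit 0x240209049209208049009001040001041209248209009241)
 (.cons 3 (nat_lit 0x100006080186000000000000084000002000006080100002)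
 (.cons 6 (nat_lit 0x2c02202402400602e01c00403201000200001c014006038)
 (.cons 12 (nat_lit 0x8520009c8000e86000ffa0006400000100005b0000d20)
 (.cons 24 (nat_lit 0x8765300000007f7c800000001284700000001d4f1a)
 (.cons 48 (nat_lit 0x89a7715fb270000000000000205a20ad0100)
 (.cons 96 (nat_lit 0x4a872e74394895cd85369a00)
 .nil)))))))))))))))
noncomputable def xa40 : Net := (.cons 96 (nat_lit 0x4e9faba48d5afb3b6e761776)
 (.cons 48 (nat_lit 0x5e53e69d9f6a000000000000f03bcab10c7e)
 (.cons 24 (nat_lit 0x88b8770000007f59be000000c09ec00000003865ce)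
 (.cons 12 (nat_lit 0x4ce000e5100081600024d000c360005270003f800037a)
 (.cons 6 (nat_lit 0x3c02900600a00600c02a01801a01d002026004035025018)
 (.cons 3 (nat_lit 0x1c61c31801000450060c50c0081105082100102185084140)
 (.cons 1 (nat_lit 0x201040008201000009000000201008000040040040200008)
 (.cons 1 (nat_lit 0x402090012402082092412400482010010082090490482412)
 (.cons 1 (nat_lit 0x49249008241048048009001201048008209000208)
 (.cons 3 (nat_lit 0x80184084184004100082102104004082106106084104102)
 (.cons 6 (nat_lit 0x3c02603200202403c00a01003e00000001c02002003c00c)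
 (.cons 12 (nat_lit 0x8cc000ca00003b80006ee000834000ec2000248000134)
 (.cons 24 (nat_lit 0xc2bdac000000d0471000000080ae600000000a8100)
 (.cons 48 (nat_lit 0x1648d78297d0000000000000415bdd969a6c)
 (.cons 96 (nat_lit 0x4e9f24e527a6ed70c1d03c1c)
 .nil)))))))))))))))
noncomputable def xa41 : Net := (.cons 96 (nat_lit 0x371b5e0ec6ced226a2b5941a)
 (.cons 48 (nat_lit 0xd28db660fb93000000000000db173f3c9aee)
 (.cons 24 (nat_lit 0x8f1646000000a221dd000000dc710f000000252a4c)
 (.cons 12 (nat_lit 0x50b000f5f0002b90005ec0000ff0002fe0000e20009ea)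
 (.cons 6 (nat_lit 0x3201d02500502801300803102700303403e02e02400d036)
 (.cons 3 (nat_lit 0x1c71851001021c31401c40061001c70851801840070c0006)
 (.cons 1 (nat_lit 0x1048041241200208041041001000001200000008008)
 (.cons 1 (nat_lit 0x482412092092482400410482482412002412402082012090)
 (.cons 1 (nat_lit 0x40249040241040000241041009049040008240241209040)
 (.cons 3 (nat_lit 0x84104000184082080180084006104084104084006080184)
 (.cons 6 (nat_lit 0x2000003c01c00801201800002400002802402c024020020)
 (.cons 12 (nat_lit 0xcd200001000036c0003b20001a8000b58000a3a000888)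
 (.cons 24 (nat_lit 0x5e06ce000000b040400000008f446c000000856abe)
 (.cons 48 (nat_lit 0xe4872bd3440000000000000053138a296848)
 (.cons 96 (nat_lit 0x371b8dae7a26d575e9a9d5b2)
 .nil)))))))))))))))
noncomputable def xa42 : Net := (.cons 96 (nat_lit 0xabe27298f9048964ed89b60)
 (.cons 48 (nat_lit 0x7100117cb14000000000000096a1b8cd67ce)
 (.cons 24 (nat_lit 0x59abef0000002a12d8000000d9d6d20000009ab488)
 (.cons 12 (nat_lit 0x970004970006f600054100016d000b0c000856000fc6)
 (.cons 6 (nat_lit 0x1e03c00603b03200b01402301403f030025029014026010)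
 (.cons 3 (nat_lit 0x10440030050071461811411420070041041860441c2140)
 (.cons 1 (nat_lit 0x1200041201009241048040000200000240048008001208)
 (.cons 1 (nat_lit 0x2410482402012492490490480490410490090412402490)
 (.cons 1 (nat_lit 0x200048000249200241049249001048000241200049200048)
 (.cons 3 (nat_lit 0x84000106082000002104100002106000004002180184080)
 (.cons 6 (nat_lit 0x1003c01201801802402402003a020000026016008022030)
 (.cons 12 (nat_lit 0x104000c28000e10000870000020000a50000944000056)
 (.cons 24 (nat_lit 0x4885b4000000a6ae300000007c378c000000aab582)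
 (.cons 48 (nat_lit 0x732a45682d0000000000000036e06944ec8c)
 (.cons 96 (nat_lit 0xabea88416c2175a06751512)
 .nil)))))))))))))))
noncomputable def xa43 : Net := (.cons 96 (nat_lit 0xa93ddc0022b7f8c47cb90480)
 (.cons 48 (nat_lit 0x958c07cff830000000000000ee735680b440)
 (.cons 24 (nat_lit 0x8c1cf40000005579000000003cf228000000a3b4e4)
 (.cons 12 (nat_lit 0x7520001df0001a10004c3000620000a8e000866000078)
 (.cons 6 (nat_lit 0x2200603602c02801202603802600401e03c00801a008034)
 (.cons 3 (nat_lit 0x100004147041186142085181005081103181141184084186)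
 (.cons 1 (nat_lit 0x8248000000040208041008209040001008008040040000)
 (.cons 1 (nat_lit 0x410490082010482492082010412092482412012080080000)
 (.cons 1 (nat_lit 0x9249208041048048249209209040208041001049240008)
 (.cons 3 (nat_lit 0x100004186002106080086000000000080186006100080002)
 (.cons 6 (nat_lit 0x2200600002002801402403002400401003c00801a008010)
 (.cons 12 (nat_lit 0x740000a00000420000a58000620000a8e000866000078)
 (.cons 24 (nat_lit 0x8c1cd400000055790000000038f228000000a3b4e4)
 (.cons 48 (nat_lit 0x158c07cef830000000000000ee735680b440)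
 (.cons 96 (nat_lit 0xa93ddc0022b7f8c07cb90480)
 .nil)))))))))))))))
noncomputable def xws : List (List ℕ) :=
  [W (nat_lit 0x380b03805028060480103c04),
  W (nat_lit 0x34090240b0440502c050100f),
  W (nat_lit 0x3c1202c0e0141001c0101012),
  W (nat_lit 0xf044090140800c05),
  W (nat_lit 0x40090240b0140c0340203001),
  W (nat_lit 0x100241002c05028060180103c04),
  W (nat_lit 0x3c110280a0140c03c0201809),
  W (nat_lit 0x3c1202c090140701c0201809),
  W (nat_lit 0xf03009030050480a),
  W (nat_lit 0x901f0681f0541a078200681d06414084210541c0702207c1905822074150881f07016),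
  W (nat_lit 0x6023064230541e07c1d0502407c190641705418058140801b05423070230801508c1407c17),
  W (nat_lit 0x8c21084190582305c240641904c1906c2008c17078160582004c17054140682408420),
  W (nat_lit 0x9827),
  W (nat_lit 0xa428),
  W (nat_lit 0x9c260a826),
  W (nat_lit 0x2b0bc2d),
  W (nat_lit 0xd03c090440501405),
  W (nat_lit 0x340f0440a02c070180d),
  W (nat_lit 0x44090240b01407034050040103803),
  W (nat_lit 0xd034),
  W (nat_lit 0xcc350d034),
  W (nat_lit 0xe4390f03a),
  W (nat_lit 0x3d0e433),
  W (nat_lit 0x3d0f439),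
  W (nat_lit 0xf43d),
  W (nat_lit 0x340d0370bc2f0e0340dc330d4370c038),
  W (nat_lit 0xd0300d4340dc330e038),
  W (nat_lit 0x340bc350c0380bc370c0340dc360d0370bc38),
  W (nat_lit 0x1184812448),
  W (nat_lit 0x1184a),
  W (nat_lit 0x4e11c2f),
  W (nat_lit 0x1344a12c47),
  W (nat_lit 0x4d12847),
  W (nat_lit 0x1384b),
  W (nat_lit 0x1344d)]
noncomputable def xns : List Net := [CL.Std.HS.a0, CL.Std.HS.a1, CL.Std.HS.a2, CL.Std.HS.a3, CL.Std.HS.a4, CL.Std.HS.a5, CL.Std.HS.a6, CL.Std.HS.a7, CL.Std.HS.a8, xa9, xa10, xa11, xa12, xa13, xa14, xa15, xa16, xa17, xa18, xa19, xa20, xa21, xa22, xa23, xa24, xa25, xa26, xa27, xa28, xa29, xa30, xa31, xa32, xa33, xa34, xa35, xa36, xa37, xa38, xa39, xa40, xa41, xa42, xa43]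
noncomputable def xD : List (ℕ × List ℕ) := app CL.Std.HS.D (mkDefs xws 9)
noncomputable def xchk : List (List ℕ × List ℕ) → Bool := CL.Std.HS.P.relsB xns
noncomputable def xP_v0 : Lev :=
  ⟨9, 16, sg (W (nat_lit 0x7c1d05c15)), [[36], [38], [40]], 16, 3⟩
noncomputable def xP_v1 : Lev :=
  ⟨123, 2, sg [36], [[42], [44], [46]], 19, 3⟩
noncomputable def xP_v2 : Lev :=
  ⟨13, 4, sg (W (nat_lit 0xb42b)), [[48]], 22, 1⟩
noncomputable def xP_v3 : Lev :=
  ⟨0, 4, sg (W (nat_lit 0x310c431)), [], 23, 0⟩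
noncomputable def xP_vs4 : List Lev :=
  []
noncomputable def xP_vs3 : List Lev :=
  xP_v3 :: xP_vs4
noncomputable def xP_vs2 : List Lev :=
  xP_v2 :: xP_vs3
noncomputable def xP_vs1 : List Lev :=
  xP_v1 :: xP_vs2
noncomputable def xP_vs : List Lev :=
  xP_v0 :: xP_vs1
noncomputable def xP_ps : List PcG :=
  [⟨[20], 2, W (nat_lit 0x4c210741b), [W (nat_lit 0x8c1d06c17), W (nat_lit 0x1307c1d06c19), W (nat_lit 0x4c230841b), W (nat_lit 0x230841d), W (nat_lit 0x1308c1f), W (nat_lit 0x4c21), [34], [18]]⟩,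
  ⟨[22], 2, W (nat_lit 0x1308c21), [W (nat_lit 0x4c1f06c19), W (nat_lit 0x230841b), W (nat_lit 0x230841d), W (nat_lit 0x130841f), W (nat_lit 0x4c21), W (nat_lit 0x4c23), [18]]⟩,
  ⟨[24], 2, W (nat_lit 0x841f), [W (nat_lit 0x4c230841b), W (nat_lit 0x130841d), W (nat_lit 0x1308c1f), W (nat_lit 0x1308c21), [34], [18]]⟩,
  ⟨[26], 2, [18], [W (nat_lit 0x4c1d), W (nat_lit 0x1308c1f), W (nat_lit 0x4c21), [34], [18]]⟩,
  ⟨[28], 2, [], [W (nat_lit 0x1308c1f), W (nat_lit 0x4c21), [34], [18]]⟩,
  ⟨[30], 2, W (nat_lit 0x4c23), [[32], [34], [18]]⟩,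
  ⟨[32], 2, [18], [[34], [18]]⟩,
  ⟨[34], 2, [], [[18]]⟩,
  ⟨[18], 2, [], []⟩]
noncomputable def xv0_E : List (ℕ × List CE) :=
  [(3, [])]
noncomputable def xv0_R : List (List ℕ) :=
  [[],
  [20]]
noncomputable def xzcj6 : List (List (List ℕ)) :=
  [[W (nat_lit 0x8c1d06c17), W (nat_lit 0x1307c1d06c19), W (nat_lit 0x4c230841b), W (nat_lit 0x230841d), W (nat_lit 0x1308c1f), W (nat_lit 0x4c21), [34], [18]],
  [[22], W (nat_lit 0x4c1f06c19), W (nat_lit 0x230841b), W (nat_lit 0x230841d), W (nat_lit 0x130841f), W (nat_lit 0x4c21), W (nat_lit 0x4c23), [18]],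
  [W (nat_lit 0x1f06c17), [24], W (nat_lit 0x4c230841b), W (nat_lit 0x130841d), W (nat_lit 0x1308c1f), W (nat_lit 0x1308c21), [34], [18]],
  [W (nat_lit 0x4c2308417), W (nat_lit 0x2308419), [26], W (nat_lit 0x4c1d), W (nat_lit 0x1308c1f), W (nat_lit 0x4c21), [34], [18]],
  [W (nat_lit 0x4c2308417), W (nat_lit 0x8419), W (nat_lit 0x4c1b), [28], W (nat_lit 0x1308c1f), W (nat_lit 0x4c21), [34], [18]],
  [W (nat_lit 0x8417), W (nat_lit 0x1308c19), W (nat_lit 0x1308c1b), W (nat_lit 0x1308c1d), [30], [32], [34], [18]],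
  [W (nat_lit 0x4c17), W (nat_lit 0x1308c19), W (nat_lit 0x4c1b), W (nat_lit 0x4c1d), [30], [32], [34], [18]],
  [W (nat_lit 0x4c17), [24], [26], [28], [30], [32], [34], [18]],
  [[22], [24], [26], [28], [30], [32], [34], [18]]]
noncomputable def xv1_E : List (ℕ × List CE) :=
  [(3, []),
  (3, [])]
noncomputable def xv1_R : List (List ℕ) :=
  [[],
  [22],
  [20],
  W (nat_lit 0x5c15)]
noncomputable def xzcj13 : List (List (List ℕ)) :=
  [[W (nat_lit 0x1307c1d06c19), W (nat_lit 0x4c230841b), W (nat_lit 0x230841d), W (nat_lit 0x1308c1f), W (nat_lit 0x4c21), [34], [18]],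
  [W (nat_lit 0x4c1f06c19), W (nat_lit 0x230841b), W (nat_lit 0x230841d), W (nat_lit 0x130841f), W (nat_lit 0x4c21), W (nat_lit 0x4c23), [18]],
  [[24], W (nat_lit 0x4c230841b), W (nat_lit 0x130841d), W (nat_lit 0x1308c1f), W (nat_lit 0x1308c21), [34], [18]],
  [W (nat_lit 0x2308419), [26], W (nat_lit 0x4c1d), W (nat_lit 0x1308c1f), W (nat_lit 0x4c21), [34], [18]],
  [W (nat_lit 0x8419), W (nat_lit 0x4c1b), [28], W (nat_lit 0x1308c1f), W (nat_lit 0x4c21), [34], [18]],
  [W (nat_lit 0x1308c19), W (nat_lit 0x1308c1b), W (nat_lit 0x1308c1d), [30], [32], [34], [18]],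
  [W (nat_lit 0x1308c19), W (nat_lit 0x4c1b), W (nat_lit 0x4c1d), [30], [32], [34], [18]],
  [[24], [26], [28], [30], [32], [34], [18]],
  [[24], [26], [28], [30], [32], [34], [18]]]
noncomputable def xv2_E : List (ℕ × List CE) :=
  [(3, []),
  (3, []),
  (3, []),
  (3, [])]
noncomputable def xv2_R : List (List ℕ) :=
  [[],
  [24],
  [22],
  W (nat_lit 0x6417),
  [20],
  W (nat_lit 0x6415),
  W (nat_lit 0x5c15),
  W (nat_lit 0x1905c15)]
noncomputable def xzcj20 : List (List (List ℕ)) :=
  [[W (nat_lit 0x4c230841b), W (nat_lit 0x230841d), W (nat_lit 0x1308c1f), W (nat_lit 0x4c21), [34], [18]],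
  [W (nat_lit 0x230841b), W (nat_lit 0x230841d), W (nat_lit 0x130841f), W (nat_lit 0x4c21), W (nat_lit 0x4c23), [18]],
  [W (nat_lit 0x4c230841b), W (nat_lit 0x130841d), W (nat_lit 0x1308c1f), W (nat_lit 0x1308c21), [34], [18]],
  [[26], W (nat_lit 0x4c1d), W (nat_lit 0x1308c1f), W (nat_lit 0x4c21), [34], [18]],
  [W (nat_lit 0x4c1b), [28], W (nat_lit 0x1308c1f), W (nat_lit 0x4c21), [34], [18]],
  [W (nat_lit 0x1308c1b), W (nat_lit 0x1308c1d), [30], [32], [34], [18]],
  [W (nat_lit 0x4c1b), W (nat_lit 0x4c1d), [30], [32], [34], [18]],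
  [[26], [28], [30], [32], [34], [18]],
  [[26], [28], [30], [32], [34], [18]]]
noncomputable def xv3_E : List (ℕ × List CE) :=
  [(3, []),
  (1, [ceD, ⟨false, [20], 0, W (nat_lit 0x2107c1d)⟩]),
  (1, [ceD, ⟨false, [20], 0, W (nat_lit 0x841d)⟩]),
  (0, [⟨true, [], 1, W (nat_lit 0x1308c21)⟩, ⟨true, [], 1, W (nat_lit 0x4c21)⟩]),
  (0, [⟨true, [], 1, W (nat_lit 0x130841d)⟩, ⟨true, [], 1, W (nat_lit 0x1308c1d)⟩]),
  (1, [ceD, ⟨false, [20], 0, W (nat_lit 0x2107c1d)⟩]),
  (1, [ceD, ⟨false, [20], 0, W (nat_lit 0x841d)⟩]),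
  (3, [])]
noncomputable def xv3_R : List (List ℕ) :=
  [[],
  [26],
  [24],
  [22],
  W (nat_lit 0x6415),
  W (nat_lit 0x5c15),
  W (nat_lit 0x1905c15),
  W (nat_lit 0x6c1905c15)]
noncomputable def xzcj27 : List (List (List ℕ)) :=
  [[W (nat_lit 0x230841d), W (nat_lit 0x1308c1f), W (nat_lit 0x4c21), [34], [18]],
  [W (nat_lit 0x230841d), W (nat_lit 0x130841f), W (nat_lit 0x4c21), W (nat_lit 0x4c23), [18]],
  [W (nat_lit 0x130841d), W (nat_lit 0x1308c1f), W (nat_lit 0x1308c21), [34], [18]],
  [W (nat_lit 0x4c1d), W (nat_lit 0x1308c1f), W (nat_lit 0x4c21), [34], [18]],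
  [[28], W (nat_lit 0x1308c1f), W (nat_lit 0x4c21), [34], [18]],
  [W (nat_lit 0x1308c1d), [30], [32], [34], [18]],
  [W (nat_lit 0x4c1d), [30], [32], [34], [18]],
  [[28], [30], [32], [34], [18]],
  [[28], [30], [32], [34], [18]]]
noncomputable def xv4_E : List (ℕ × List CE) :=
  [(3, []),
  (3, []),
  (1, [ceD, ⟨false, [44], 0, W (nat_lit 0x8c21)⟩]),
  (1, [ceD, ⟨false, [36], 0, W (nat_lit 0x4c230841f)⟩]),
  (1, [ceD, ⟨false, [22], 0, W (nat_lit 0x230841f)⟩]),
  (1, [ceD, ⟨false, [24], 0, W (nat_lit 0x4c21)⟩]),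
  (0, [⟨true, [], 1, W (nat_lit 0x230841f)⟩, ⟨true, [], 1, W (nat_lit 0x8c1f)⟩]),
  (0, [⟨true, [], 1, [30]⟩, ⟨true, [], 1, W (nat_lit 0x130841f)⟩])]
noncomputable def xv4_R : List (List ℕ) :=
  [[],
  [28],
  [26],
  W (nat_lit 0x741b),
  [24],
  [22],
  W (nat_lit 0x6415),
  W (nat_lit 0x5c15)]
noncomputable def xzcj34 : List (List (List ℕ)) :=
  [[W (nat_lit 0x1308c1f), W (nat_lit 0x4c21), [34], [18]],
  [W (nat_lit 0x130841f), W (nat_lit 0x4c21), W (nat_lit 0x4c23), [18]],
  [W (nat_lit 0x1308c1f), W (nat_lit 0x1308c21), [34], [18]],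
  [W (nat_lit 0x1308c1f), W (nat_lit 0x4c21), [34], [18]],
  [W (nat_lit 0x1308c1f), W (nat_lit 0x4c21), [34], [18]],
  [[30], [32], [34], [18]],
  [[30], [32], [34], [18]],
  [[30], [32], [34], [18]],
  [[30], [32], [34], [18]]]
noncomputable def xv5_E : List (ℕ × List CE) :=
  [(3, []),
  (3, []),
  (3, []),
  (3, []),
  (0, [⟨true, [], 1, [32]⟩, ⟨true, [], 1, [32]⟩]),
  (3, []),
  (3, []),
  (3, [])]
noncomputable def xv5_R : List (List ℕ) :=
  [[],
  [30],
  [28],
  W (nat_lit 0x7c1d),
  [26],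
  W (nat_lit 0x7c1b),
  W (nat_lit 0x741b),
  W (nat_lit 0x1f0741b),
  [22],
  W (nat_lit 0x7c17),
  W (nat_lit 0x6415),
  W (nat_lit 0x1f06415),
  W (nat_lit 0x5c15),
  W (nat_lit 0x1f05c15)]
noncomputable def xzcj41 : List (List (List ℕ)) :=
  [[W (nat_lit 0x4c21), [34], [18]],
  [W (nat_lit 0x4c21), W (nat_lit 0x4c23), [18]],
  [W (nat_lit 0x1308c21), [34], [18]],
  [W (nat_lit 0x4c21), [34], [18]],
  [W (nat_lit 0x4c21), [34], [18]],
  [[32], [34], [18]],
  [[32], [34], [18]],
  [[32], [34], [18]],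
  [[32], [34], [18]]]
noncomputable def xv6_E : List (ℕ × List CE) :=
  [(3, []),
  (1, [ceD, ⟨false, [22], 0, [18]⟩]),
  (1, [ceD, ⟨false, [20], 0, [34]⟩]),
  (1, [ceD, ⟨false, [20], 0, [18]⟩]),
  (1, [ceD, ⟨false, [20], 0, W (nat_lit 0x4c23)⟩]),
  (1, [ceD, ⟨false, [20], 0, []⟩]),
  (3, []),
  (1, [ceD, ⟨false, [22], 0, [18]⟩]),
  (0, [⟨true, [], 1, W (nat_lit 0x4c23)⟩, ⟨true, [], 1, W (nat_lit 0x4c23)⟩]),
  (1, [ceD, ⟨false, [22], 0, [18]⟩]),
  (3, []),
  (3, []),
  (1, [ceD, ⟨false, [30], 0, [34]⟩]),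
  (0, [⟨true, [], 1, []⟩, ⟨true, [], 1, [18]⟩])]
noncomputable def xv6_R : List (List ℕ) :=
  [[],
  [32],
  [30],
  [28],
  W (nat_lit 0x7c1d),
  [26],
  W (nat_lit 0x7c1b),
  W (nat_lit 0x741b),
  W (nat_lit 0x210741b),
  W (nat_lit 0x1f0741b),
  W (nat_lit 0x7c17),
  W (nat_lit 0x6415),
  W (nat_lit 0x2106415),
  W (nat_lit 0x1f06415),
  W (nat_lit 0x841f06415),
  W (nat_lit 0x5c15)]
noncomputable def xzcj48 : List (List (List ℕ)) :=
  [[[34], [18]],
  [W (nat_lit 0x4c23), [18]],
  [[34], [18]],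
  [[34], [18]],
  [[34], [18]],
  [[34], [18]],
  [[34], [18]],
  [[34], [18]],
  [[34], [18]]]
noncomputable def xv7_E : List (ℕ × List CE) :=
  [(3, []),
  (1, [ceD, ⟨false, [24], 0, [18]⟩]),
  (0, [⟨true, [], 1, [18]⟩, ⟨true, [], 1, [18]⟩]),
  (1, [ceD, ⟨false, [30], 0, [18]⟩]),
  (1, [ceD, ⟨false, [22], 0, []⟩]),
  (1, [ceD, ⟨false, [30], 0, [18]⟩]),
  (1, [ceD, ⟨false, [22], 0, []⟩]),
  (1, [ceD, ⟨false, [24], 0, []⟩]),
  (3, []),
  (0, [⟨true, [], 1, [18]⟩, ⟨true, [], 1, [18]⟩]),
  (3, []),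
  (0, [⟨true, [], 1, [18]⟩, ⟨true, [], 1, [18]⟩]),
  (1, [ceD, ⟨false, [26], 0, [18]⟩]),
  (1, [ceD, ⟨false, [28], 0, []⟩]),
  (0, [⟨true, [], 1, [18]⟩, ⟨true, [], 1, [18]⟩]),
  (3, [])]
noncomputable def xv7_R : List (List ℕ) :=
  [[],
  [34],
  [32],
  [28],
  W (nat_lit 0x7c1d),
  [26],
  W (nat_lit 0x7c1b),
  W (nat_lit 0x741b),
  W (nat_lit 0x210741b),
  W (nat_lit 0x8c210741b),
  W (nat_lit 0x7c17),
  W (nat_lit 0x2307c17),
  W (nat_lit 0x2106415),
  W (nat_lit 0x1f06415),
  W (nat_lit 0x5c15),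
  W (nat_lit 0x2305c15)]
noncomputable def xzcj55 : List (List (List ℕ)) :=
  [[[18]],
  [[18]],
  [[18]],
  [[18]],
  [[18]],
  [[18]],
  [[18]],
  [[18]],
  [[18]]]
noncomputable def xv8_E : List (ℕ × List CE) :=
  [(3, []),
  (1, [ceD, ⟨false, [22], 0, []⟩]),
  (0, [⟨true, [], 1, []⟩, ⟨true, [], 1, []⟩]),
  (1, [ceD, ⟨false, [26], 0, []⟩]),
  (1, [ceD, ⟨false, [32], 0, []⟩]),
  (0, [⟨true, [], 1, []⟩, ⟨true, [], 1, []⟩]),
  (0, [⟨true, [], 1, []⟩, ⟨true, [], 1, []⟩]),
  (1, [ceD, ⟨false, [20], 0, []⟩]),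
  (0, [⟨true, [], 1, []⟩, ⟨true, [], 1, []⟩]),
  (0, [⟨true, [], 1, []⟩, ⟨true, [], 1, []⟩]),
  (1, [ceD, ⟨false, [32], 0, []⟩]),
  (0, [⟨true, [], 1, []⟩, ⟨true, [], 1, []⟩]),
  (1, [ceD, ⟨false, [48], 0, []⟩]),
  (1, [ceD, ⟨false, [26], 0, []⟩]),
  (1, [ceD, ⟨false, [28], 0, []⟩]),
  (0, [⟨true, [], 1, []⟩, ⟨true, [], 1, []⟩])]
noncomputable def xv8_R : List (List ℕ) :=
  [[],
  [18],
  [34],
  [28],
  W (nat_lit 0x7c1d),
  W (nat_lit 0x741b),
  W (nat_lit 0x7c17),
  W (nat_lit 0x2106415),
  W (nat_lit 0x1f06415),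
  W (nat_lit 0x5c15)]
noncomputable def xv9_F : List (List ℕ × ℕ × List ℕ) :=
  [([], 0, []),
  ([], 1, []),
  (W (nat_lit 0x340d0240e0140c0080e), 1, []),
  (W (nat_lit 0x3c120240b03406040080040c), 2, []),
  (W (nat_lit 0x110280a030070400200c02), 1, []),
  (W (nat_lit 0x380a0380a018060340101404), 1, []),
  (W (nat_lit 0x380902c100140a01c0103c07), 1, []),
  (W (nat_lit 0xd03c0b01c0203002), 1, []),
  (W (nat_lit 0xd0400c0240703c0103c07), 2, []),
  (W (nat_lit 0x340a0380a01c05020010100e), 2, [])]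
noncomputable def xv9_R : List (List ℕ) :=
  [[], [18], [46]]
noncomputable def xR_ps : List PcG :=
  [⟨[54], 2, [], [W (nat_lit 0x431043f), W (nat_lit 0x4310433), W (nat_lit 0x10c41), [66]]⟩,
  ⟨[62], 2, W (nat_lit 0x10c41), [W (nat_lit 0x10c33), [64], [66]]⟩,
  ⟨[50], 2, [64], [[64], [66]]⟩,
  ⟨[64], 2, [66], [[66]]⟩,
  ⟨[66], 2, [], []⟩]
noncomputable def xzE65 : List (ℕ × List ℕ) :=
  [(52, [62])]
noncomputable def xR_v0 : Lev :=
  ⟨0, 2, sg [54], [[50], [52]], 26, 0⟩
noncomputable def xR_v1 : Lev :=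
  ⟨62, 2, sg [50], [[56], [58]], 26, 2⟩
noncomputable def xR_v2 : Lev :=
  ⟨4, 2, sg [56], [[60]], 28, 1⟩
noncomputable def xR_v3 : Lev :=
  ⟨1, 4, sg (W (nat_lit 0x3d0f43d)), [], 29, 0⟩
noncomputable def xR_vs4 : List Lev :=
  []
noncomputable def xR_vs3 : List Lev :=
  xR_v3 :: xR_vs4
noncomputable def xR_vs2 : List Lev :=
  xR_v2 :: xR_vs3
noncomputable def xR_vs1 : List Lev :=
  xR_v1 :: xR_vs2
noncomputable def xR_vs : List Lev :=
  xR_v0 :: xR_vs1
noncomputable def xS_ps : List PcG :=
  [⟨[46], 2, [], [[78], [80], [82], [84], [86]]⟩,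
  ⟨[78], 2, [], [W (nat_lit 0x5715451), W (nat_lit 0x5715453), W (nat_lit 0x15c55), [86]]⟩,
  ⟨[80], 2, W (nat_lit 0x15c55), [W (nat_lit 0x15c53), [84], [86]]⟩,
  ⟨[82], 2, [84], [[84], [86]]⟩,
  ⟨[84], 2, [86], [[86]]⟩,
  ⟨[86], 2, [], []⟩]
noncomputable def xzE70 : List (ℕ × List ℕ) :=
  [(50, [82]),
  (52, [80]),
  (54, [78])]
noncomputable def xS_v0 : Lev :=
  ⟨0, 2, sg [54], [[68], [70], [72]], 32, 3⟩
noncomputable def xS_v1 : Lev :=
  ⟨62, 2, sg [70], [[74], [73], [76]], 35, 2⟩
noncomputable def xS_v2 : Lev :=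
  ⟨4, 4, sg (W (nat_lit 0x1284b)), [[76]], 37, 0⟩
noncomputable def xS_v3 : Lev :=
  ⟨1, 4, sg (W (nat_lit 0x4d1344d)), [], 37, 0⟩
noncomputable def xS_vs4 : List Lev :=
  []
noncomputable def xS_vs3 : List Lev :=
  xS_v3 :: xS_vs4
noncomputable def xS_vs2 : List Lev :=
  xS_v2 :: xS_vs3
noncomputable def xS_vs1 : List Lev :=
  xS_v1 :: xS_vs2
noncomputable def xS_vs : List Lev :=
  xS_v0 :: xS_vs1

theorem xzc0 : CL.Std.HS.P.chainB xns xD xP_vs [[20], [22], [24], [26], [28], [30], [32], [34], [18]] = true := by decide +kernel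
theorem xzr1 : xchk (pcsR xP_ps []) = true := by decide +kernel
theorem xzb2 : bnd (pcsB xD xP_ps []) (leB (app xD []) [[20], [22], [24], [26], [28], [30], [32], [34], [18]] (pcGens xP_ps [])) = true := by decide +kernel
theorem xzq3 : cvN 2 [20] [[]] xv0_E = xv0_R := by decide +kernel
theorem xzr4 : xchk (cvR 2 2 [20] [[]] xv0_E) = true := by decide +kernel
theorem xzb5 : cvB xD [[20], [22], [24], [26], [28], [30], [32], [34], [18]] [[22], [24], [26], [28], [30], [32], [34], [18]] 2 [20] [[]] xv0_E = true := by decide +kernel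
theorem xzm7 : nrmB xD [[20], [22], [24], [26], [28], [30], [32], [34], [18]] [[22], [24], [26], [28], [30], [32], [34], [18]] xzcj6 = true := by decide +kernel
theorem xzr8 : xchk (nrmR [[20], [22], [24], [26], [28], [30], [32], [34], [18]] [[22], [24], [26], [28], [30], [32], [34], [18]] xzcj6) = true := by decide +kernel
theorem xzm9 : leB xD [[22], [24], [26], [28], [30], [32], [34], [18]] [[20], [22], [24], [26], [28], [30], [32], [34], [18]] = true := by decide +kernel
theorem xzq10 : cvN 2 [22] xv0_R xv1_E = xv1_R := by decide +kernel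
theorem xzr11 : xchk (cvR 2 2 [22] xv0_R xv1_E) = true := by decide +kernel
theorem xzb12 : cvB xD [[20], [22], [24], [26], [28], [30], [32], [34], [18]] [[24], [26], [28], [30], [32], [34], [18]] 2 [22] xv0_R xv1_E = true := by decide +kernel
theorem xzm14 : nrmB xD [[20], [22], [24], [26], [28], [30], [32], [34], [18]] [[24], [26], [28], [30], [32], [34], [18]] xzcj13 = true := by decide +kernel
theorem xzr15 : xchk (nrmR [[20], [22], [24], [26], [28], [30], [32], [34], [18]] [[24], [26], [28], [30], [32], [34], [18]] xzcj13) = true := by decide +kernel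
theorem xzm16 : leB xD [[24], [26], [28], [30], [32], [34], [18]] [[20], [22], [24], [26], [28], [30], [32], [34], [18]] = true := by decide +kernel
theorem xzq17 : cvN 2 [24] xv1_R xv2_E = xv2_R := by decide +kernel
theorem xzr18 : xchk (cvR 2 2 [24] xv1_R xv2_E) = true := by decide +kernel
theorem xzb19 : cvB xD [[20], [22], [24], [26], [28], [30], [32], [34], [18]] [[26], [28], [30], [32], [34], [18]] 2 [24] xv1_R xv2_E = true := by decide +kernel
theorem xzm21 : nrmB xD [[20], [22], [24], [26], [28], [30], [32], [34], [18]] [[26], [28], [30], [32], [34], [18]] xzcj20 = true := by decide +kernel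
theorem xzr22 : xchk (nrmR [[20], [22], [24], [26], [28], [30], [32], [34], [18]] [[26], [28], [30], [32], [34], [18]] xzcj20) = true := by decide +kernel
theorem xzm23 : leB xD [[26], [28], [30], [32], [34], [18]] [[20], [22], [24], [26], [28], [30], [32], [34], [18]] = true := by decide +kernel
theorem xzq24 : cvN 2 [26] xv2_R xv3_E = xv3_R := by decide +kernel
theorem xzr25 : xchk (cvR 2 2 [26] xv2_R xv3_E) = true := by decide +kernel
theorem xzb26 : cvB xD [[20], [22], [24], [26], [28], [30], [32], [34], [18]] [[28], [30], [32], [34], [18]] 2 [26] xv2_R xv3_E = true := by decide +kernel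
theorem xzm28 : nrmB xD [[20], [22], [24], [26], [28], [30], [32], [34], [18]] [[28], [30], [32], [34], [18]] xzcj27 = true := by decide +kernel
theorem xzr29 : xchk (nrmR [[20], [22], [24], [26], [28], [30], [32], [34], [18]] [[28], [30], [32], [34], [18]] xzcj27) = true := by decide +kernel
theorem xzm30 : leB xD [[28], [30], [32], [34], [18]] [[20], [22], [24], [26], [28], [30], [32], [34], [18]] = true := by decide +kernel
theorem xzq31 : cvN 2 [28] xv3_R xv4_E = xv4_R := by decide +kernel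
theorem xzr32 : xchk (cvR 2 2 [28] xv3_R xv4_E) = true := by decide +kernel
theorem xzb33 : cvB xD [[20], [22], [24], [26], [28], [30], [32], [34], [18]] [[30], [32], [34], [18]] 2 [28] xv3_R xv4_E = true := by decide +kernel
theorem xzm35 : nrmB xD [[20], [22], [24], [26], [28], [30], [32], [34], [18]] [[30], [32], [34], [18]] xzcj34 = true := by decide +kernel
theorem xzr36 : xchk (nrmR [[20], [22], [24], [26], [28], [30], [32], [34], [18]] [[30], [32], [34], [18]] xzcj34) = true := by decide +kernel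
theorem xzm37 : leB xD [[30], [32], [34], [18]] [[20], [22], [24], [26], [28], [30], [32], [34], [18]] = true := by decide +kernel
theorem xzq38 : cvN 2 [30] xv4_R xv5_E = xv5_R := by decide +kernel
theorem xzr39 : xchk (cvR 2 2 [30] xv4_R xv5_E) = true := by decide +kernel
theorem xzb40 : cvB xD [[20], [22], [24], [26], [28], [30], [32], [34], [18]] [[32], [34], [18]] 2 [30] xv4_R xv5_E = true := by decide +kernel
theorem xzm42 : nrmB xD [[20], [22], [24], [26], [28], [30], [32], [34], [18]] [[32], [34], [18]] xzcj41 = true := by decide +kernel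
theorem xzr43 : xchk (nrmR [[20], [22], [24], [26], [28], [30], [32], [34], [18]] [[32], [34], [18]] xzcj41) = true := by decide +kernel
theorem xzm44 : leB xD [[32], [34], [18]] [[20], [22], [24], [26], [28], [30], [32], [34], [18]] = true := by decide +kernel
theorem xzq45 : cvN 2 [32] xv5_R xv6_E = xv6_R := by decide +kernel
theorem xzr46 : xchk (cvR 2 2 [32] xv5_R xv6_E) = true := by decide +kernel
theorem xzb47 : cvB xD [[20], [22], [24], [26], [28], [30], [32], [34], [18]] [[34], [18]] 2 [32] xv5_R xv6_E = true := by decide +kernel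
theorem xzm49 : nrmB xD [[20], [22], [24], [26], [28], [30], [32], [34], [18]] [[34], [18]] xzcj48 = true := by decide +kernel
theorem xzr50 : xchk (nrmR [[20], [22], [24], [26], [28], [30], [32], [34], [18]] [[34], [18]] xzcj48) = true := by decide +kernel
theorem xzm51 : leB xD [[34], [18]] [[20], [22], [24], [26], [28], [30], [32], [34], [18]] = true := by decide +kernel
theorem xzq52 : cvN 2 [34] xv6_R xv7_E = xv7_R := by decide +kernel
theorem xzr53 : xchk (cvR 2 2 [34] xv6_R xv7_E) = true := by decide +kernel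
theorem xzb54 : cvB xD [[20], [22], [24], [26], [28], [30], [32], [34], [18]] [[18]] 2 [34] xv6_R xv7_E = true := by decide +kernel
theorem xzm56 : nrmB xD [[20], [22], [24], [26], [28], [30], [32], [34], [18]] [[18]] xzcj55 = true := by decide +kernel
theorem xzr57 : xchk (nrmR [[20], [22], [24], [26], [28], [30], [32], [34], [18]] [[18]] xzcj55) = true := by decide +kernel
theorem xzm58 : leB xD [[18]] [[20], [22], [24], [26], [28], [30], [32], [34], [18]] = true := by decide +kernel
theorem xzq59 : cvN 2 [18] xv7_R xv8_E = xv8_R := by decide +kernel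
theorem xzr60 : xchk (cvR 2 2 [18] xv7_R xv8_E) = true := by decide +kernel
theorem xzb61 : cvB xD [[20], [22], [24], [26], [28], [30], [32], [34], [18]] [] 2 [18] xv7_R xv8_E = true := by decide +kernel
theorem xzr62 : xchk (fuR xv8_R xv9_R xv9_F) = true := by decide +kernel
theorem xzb63 : fuB xD [[0], [2]] [] xv8_R xv9_R xv9_F = true := by decide +kernel
theorem xzr64 : xchk (comR [[20], [22], [24], [26], [28], [30], [32], [34], [18]] [[18]]) = true := by decide +kernel
theorem xzr66 : xchk (pcsR xR_ps []) = true := by decide +kernel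
theorem xzr67 : xchk (defRels xzE65) = true := by decide +kernel
theorem xzb68 : bnd (pcsB xD xR_ps []) (leB (app xD xzE65) [[50], [52], [54]] (pcGens xR_ps [])) = true := by decide +kernel
theorem xzc69 : CL.Std.HS.P.chainB xns xD xR_vs [[50], [52], [54]] = true := by decide +kernel
theorem xzr71 : xchk (pcsR xS_ps []) = true := by decide +kernel
theorem xzr72 : xchk (defRels xzE70) = true := by decide +kernel
theorem xzb73 : bnd (pcsB xD xS_ps []) (leB (app xD xzE70) [[50], [52], [54], [46]] (pcGens xS_ps [])) = true := by decide +kernel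
theorem xzc74 : CL.Std.HS.P.chainB xns xD xS_vs [[50], [52], [54], [46]] = true := by decide +kernel
theorem xzr75 : xchk (comR [[50], [52], [54], [46]] [[46]]) = true := by decide +kernel
theorem xze76 : extB CL.Std.HS.ns xns 9 xws CL.Std.HS.D = true := by decide +kernel
theorem xzn77 : CL.Std.HS.P.netsB xns (mkDefs xws 9) = true := by decide +kernel

variable {G X : Type*} [Group G] [MulAction G X] {e : ℕ → X} {gs : List G}

theorem xlen {k} (c : Ctx CL.Std.HS.P e gs CL.Std.HS.ns CL.Std.HS.D k) : gs.length = 9 := c.len xze76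

theorem xctx0 {k} (c : Ctx CL.Std.HS.P e gs CL.Std.HS.ns CL.Std.HS.D k) : Ctx CL.Std.HS.P e (ext gs xws) xns xD chk0 :=
  c.ext rfl xze76 xzn77

theorem xctx {k} (c : Ctx CL.Std.HS.P e gs CL.Std.HS.ns CL.Std.HS.D k) {H : Subgroup G} (hF : Faithful e CL.Std.HS.P.n H) (hH : ∀ g ∈ gs, g ∈ H) :
    Ctx CL.Std.HS.P e (ext gs xws) xns xD xchk :=
  (xctx0 c).withB hF (mem_of_mem_ext hH _)

theorem xP_c : CL.Std.HS.P.chainB xns xD xP_vs [[20], [22], [24], [26], [28], [30], [32], [34], [18]] = true :=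
  xzc0

theorem xP_o : prodL xP_vs 1 = 512 := by decide +kernel

theorem xP_lb (c : Ctx CL.Std.HS.P e gs xns xD xchk) :
    LB (subW gs [[20], [22], [24], [26], [28], [30], [32], [34], [18]]) 512 :=
  c.lb xP_c xP_o

theorem xP_pr (c : Ctx CL.Std.HS.P e gs xns xD xchk) :
    Rels gs (pcsR xP_ps []) :=
  (c.rels _ xzr1)

theorem xP_pe (c : Ctx CL.Std.HS.P e gs xns xD xchk) :
    Rels gs (defRels []) :=
  (Rels.nil _)

theorem xP_pb : bnd (pcsB xD xP_ps []) (leB (app xD []) [[20], [22], [24], [26], [28], [30], [32], [34], [18]] (pcGens xP_ps [])) = true := xzb2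

theorem xP_ub (c : Ctx CL.Std.HS.P e gs xns xD xchk) :
    UB (subW gs [[20], [22], [24], [26], [28], [30], [32], [34], [18]]) 512 :=
  c.pcs (UB.nil gs) (xP_pe c) (xP_pr c) xP_pb (by decide +kernel)

theorem xP_card (c : Ctx CL.Std.HS.P e gs xns xD xchk) :
    Nat.card (subW gs [[20], [22], [24], [26], [28], [30], [32], [34], [18]]) = 512 :=
  (xP_ub c).card_eq (xP_lb c)

theorem xv0 (c : Ctx CL.Std.HS.P e gs xns xD xchk) :
    Cov 2 (subW gs [[20], [22], [24], [26], [28], [30], [32], [34], [18]]) ⊤ gs xv0_R (subW gs [[22], [24], [26], [28], [30], [32], [34], [18]]) :=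
  Cov.step' (q := 2) (g := [20]) c.defs (by norm_num) (Cov.init 2 (subW gs [[20], [22], [24], [26], [28], [30], [32], [34], [18]]) ⊤ gs)
    (pc_lvl' c.defs (xP_pr c) xP_pb (xP_lb c) 0 (by decide +kernel))
    (c.le_normalizer (cj := xzcj6) (((xP_ub c).mono (c.le xzm9)).1) (c.rels _ xzr8) xzm7) le_top
    (c.rels _ xzr4) xzb5 xzq3

theorem xv1 (c : Ctx CL.Std.HS.P e gs xns xD xchk) :
    Cov 2 (subW gs [[20], [22], [24], [26], [28], [30], [32], [34], [18]]) ⊤ gs xv1_R (subW gs [[24], [26], [28], [30], [32], [34], [18]]) :=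
  Cov.step' (q := 2) (g := [22]) c.defs (by norm_num) (xv0 c)
    (pc_lvl' c.defs (xP_pr c) xP_pb (xP_lb c) 1 (by decide +kernel))
    (c.le_normalizer (cj := xzcj13) (((xP_ub c).mono (c.le xzm16)).1) (c.rels _ xzr15) xzm14) le_top
    (c.rels _ xzr11) xzb12 xzq10

theorem xv2 (c : Ctx CL.Std.HS.P e gs xns xD xchk) :
    Cov 2 (subW gs [[20], [22], [24], [26], [28], [30], [32], [34], [18]]) ⊤ gs xv2_R (subW gs [[26], [28], [30], [32], [34], [18]]) :=
  Cov.step' (q := 2) (g := [24]) c.defs (by norm_num) (xv1 c)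
    (pc_lvl' c.defs (xP_pr c) xP_pb (xP_lb c) 2 (by decide +kernel))
    (c.le_normalizer (cj := xzcj20) (((xP_ub c).mono (c.le xzm23)).1) (c.rels _ xzr22) xzm21) le_top
    (c.rels _ xzr18) xzb19 xzq17

theorem xv3 (c : Ctx CL.Std.HS.P e gs xns xD xchk) :
    Cov 2 (subW gs [[20], [22], [24], [26], [28], [30], [32], [34], [18]]) ⊤ gs xv3_R (subW gs [[28], [30], [32], [34], [18]]) :=
  Cov.step' (q := 2) (g := [26]) c.defs (by norm_num) (xv2 c)
    (pc_lvl' c.defs (xP_pr c) xP_pb (xP_lb c) 3 (by decide +kernel))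
    (c.le_normalizer (cj := xzcj27) (((xP_ub c).mono (c.le xzm30)).1) (c.rels _ xzr29) xzm28) le_top
    (c.rels _ xzr25) xzb26 xzq24

theorem xv4 (c : Ctx CL.Std.HS.P e gs xns xD xchk) :
    Cov 2 (subW gs [[20], [22], [24], [26], [28], [30], [32], [34], [18]]) ⊤ gs xv4_R (subW gs [[30], [32], [34], [18]]) :=
  Cov.step' (q := 2) (g := [28]) c.defs (by norm_num) (xv3 c)
    (pc_lvl' c.defs (xP_pr c) xP_pb (xP_lb c) 4 (by decide +kernel))
    (c.le_normalizer (cj := xzcj34) (((xP_ub c).mono (c.le xzm37)).1) (c.rels _ xzr36) xzm35) le_top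
    (c.rels _ xzr32) xzb33 xzq31

theorem xv5 (c : Ctx CL.Std.HS.P e gs xns xD xchk) :
    Cov 2 (subW gs [[20], [22], [24], [26], [28], [30], [32], [34], [18]]) ⊤ gs xv5_R (subW gs [[32], [34], [18]]) :=
  Cov.step' (q := 2) (g := [30]) c.defs (by norm_num) (xv4 c)
    (pc_lvl' c.defs (xP_pr c) xP_pb (xP_lb c) 5 (by decide +kernel))
    (c.le_normalizer (cj := xzcj41) (((xP_ub c).mono (c.le xzm44)).1) (c.rels _ xzr43) xzm42) le_top
    (c.rels _ xzr39) xzb40 xzq38

theorem xv6 (c : Ctx CL.Std.HS.P e gs xns xD xchk) :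
    Cov 2 (subW gs [[20], [22], [24], [26], [28], [30], [32], [34], [18]]) ⊤ gs xv6_R (subW gs [[34], [18]]) :=
  Cov.step' (q := 2) (g := [32]) c.defs (by norm_num) (xv5 c)
    (pc_lvl' c.defs (xP_pr c) xP_pb (xP_lb c) 6 (by decide +kernel))
    (c.le_normalizer (cj := xzcj48) (((xP_ub c).mono (c.le xzm51)).1) (c.rels _ xzr50) xzm49) le_top
    (c.rels _ xzr46) xzb47 xzq45

theorem xv7 (c : Ctx CL.Std.HS.P e gs xns xD xchk) :
    Cov 2 (subW gs [[20], [22], [24], [26], [28], [30], [32], [34], [18]]) ⊤ gs xv7_R (subW gs [[18]]) :=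
  Cov.step' (q := 2) (g := [34]) c.defs (by norm_num) (xv6 c)
    (pc_lvl' c.defs (xP_pr c) xP_pb (xP_lb c) 7 (by decide +kernel))
    (c.le_normalizer (cj := xzcj55) (((xP_ub c).mono (c.le xzm58)).1) (c.rels _ xzr57) xzm56) le_top
    (c.rels _ xzr53) xzb54 xzq52

theorem xv8 (c : Ctx CL.Std.HS.P e gs xns xD xchk) :
    Cov 2 (subW gs [[20], [22], [24], [26], [28], [30], [32], [34], [18]]) ⊤ gs xv8_R (subW gs []) :=
  Cov.step' (q := 2) (g := [18]) c.defs (by norm_num) (xv7 c)
    (pc_lvl' c.defs (xP_pr c) xP_pb (xP_lb c) 8 (by decide +kernel))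
    (le_normalizer_nil gs _) le_top
    (c.rels _ xzr60) xzb61 xzq59

theorem xv9 (c : Ctx CL.Std.HS.P e gs xns xD xchk) :
    Cov 2 (subW gs [[20], [22], [24], [26], [28], [30], [32], [34], [18]]) ⊤ gs xv9_R (subW gs []) :=
  Cov.fuse c.defs (xv8 c) (le_normalizer_nil gs _) le_top
    (c.rels _ xzr62) xzb63

theorem xv_cls (c : Ctx CL.Std.HS.P e gs xns xD xchk) :
    Cls 2 (subW gs [[20], [22], [24], [26], [28], [30], [32], [34], [18]]) ⊤ gs [[], [18], [46]] :=
  (xv9 c).cls

theorem xpz (c : Ctx CL.Std.HS.P e gs xns xD xchk) :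
    ∀ x ∈ (subW gs [[20], [22], [24], [26], [28], [30], [32], [34], [18]]), ∀ y ∈ (subW gs [[18]]), x * y = y * x :=
  commute_of_comR (c.rels _ xzr64)

theorem xR_pr (c : Ctx CL.Std.HS.P e gs xns xD xchk) :
    Rels gs (pcsR xR_ps []) :=
  (c.rels _ xzr66)

theorem xR_pe (c : Ctx CL.Std.HS.P e gs xns xD xchk) :
    Rels gs (defRels xzE65) :=
  (c.rels _ xzr67)

theorem xR_pb : bnd (pcsB xD xR_ps []) (leB (app xD xzE65) [[50], [52], [54]] (pcGens xR_ps [])) = true := xzb68

theorem xR_ub (c : Ctx CL.Std.HS.P e gs xns xD xchk) :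
    UB (subW gs [[50], [52], [54]]) 32 :=
  c.pcs (UB.nil gs) (xR_pe c) (xR_pr c) xR_pb (by decide +kernel)

theorem xR_c : CL.Std.HS.P.chainB xns xD xR_vs [[50], [52], [54]] = true :=
  xzc69

theorem xR_o : prodL xR_vs 1 = 32 := by decide +kernel

theorem xR_lb (c : Ctx CL.Std.HS.P e gs xns xD xchk) :
    LB (subW gs [[50], [52], [54]]) 32 :=
  c.lb xR_c xR_o

theorem xR_card (c : Ctx CL.Std.HS.P e gs xns xD xchk) :
    Nat.card (subW gs [[50], [52], [54]]) = 32 :=
  (xR_ub c).card_eq (xR_lb c)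

theorem xS_pr (c : Ctx CL.Std.HS.P e gs xns xD xchk) :
    Rels gs (pcsR xS_ps []) :=
  (c.rels _ xzr71)

theorem xS_pe (c : Ctx CL.Std.HS.P e gs xns xD xchk) :
    Rels gs (defRels xzE70) :=
  (c.rels _ xzr72)

theorem xS_pb : bnd (pcsB xD xS_ps []) (leB (app xD xzE70) [[50], [52], [54], [46]] (pcGens xS_ps [])) = true := xzb73

theorem xS_ub (c : Ctx CL.Std.HS.P e gs xns xD xchk) :
    UB (subW gs [[50], [52], [54], [46]]) 64 :=
  c.pcs (UB.nil gs) (xS_pe c) (xS_pr c) xS_pb (by decide +kernel)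

theorem xS_c : CL.Std.HS.P.chainB xns xD xS_vs [[50], [52], [54], [46]] = true :=
  xzc74

theorem xS_o : prodL xS_vs 1 = 64 := by decide +kernel

theorem xS_lb (c : Ctx CL.Std.HS.P e gs xns xD xchk) :
    LB (subW gs [[50], [52], [54], [46]]) 64 :=
  c.lb xS_c xS_o

theorem xS_card (c : Ctx CL.Std.HS.P e gs xns xD xchk) :
    Nat.card (subW gs [[50], [52], [54], [46]]) = 64 :=
  (xS_ub c).card_eq (xS_lb c)

theorem xst (c : Ctx CL.Std.HS.P e gs xns xD xchk) :
    ∀ x ∈ (subW gs [[50], [52], [54], [46]]), ∀ y ∈ (subW gs [[46]]), x * y = y * x :=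
  commute_of_comR (c.rels _ xzr75)

theorem xtop {Γ : Type*} [Group Γ] (f : Nonempty (subW CL.Std.HS.gs1 [[0], [2]] ≃* Γ)) :
    ∃ (_ : MulAction Γ (Fin CL.Std.HS.P.n)) (cs : List Γ), Top CL.Std.HS.P xns xD xchk [[0], [2]] 44352000 (eF CL.Std.HS.P.n) cs := by
  obtain ⟨_, cs, t⟩ := CL.Std.HS.c1.exists_top (b := 9) (by decide +kernel) (by decide +kernel) ((faithful_eF _).mono le_top) CL.Std.HS.card (by norm_num) f
  exact ⟨_, _, t.ext (xctx t.c t.fa fun _ _ => trivial) (b := 9) (by decide +kernel) (by decide +kernel)⟩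


end CL.Q49.LkHS
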