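/-
Involutions of J2: classes, and a Sylow 2-subgroup of the centraliser of a non-2-central involution.
Generated by tools/pg.
-/
import Cfsg.Agent.Spor.PGTop2
import Cfsg.Agent.Spor.PGCov
import Cfsg.Agent.Spor.PGStruct
import Cfsg.Agent.Spor.StdJ2
import Cfsg.Agent.Spor.PGCtx

set_option autoImplicit false
set_option maxRecDepth 200000
set_option Elab.async false
set_option linter.unusedVariables false

namespace CL.Q49.LkJ2
open CL.PG

noncomputable def xa21 : Net := (.cons 64 (nat_lit 0x2c0118db3212400)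
 (.cons 32 (nat_lit 0x24c050000000000075f10a34)
 (.cons 16 (nat_lit 0x128800008182000017140000cdd1)
 (.cons 8 (nat_lit 0x40000200c80040006400f800d80064)
 (.cons 4 (nat_lit 0x6080408020202020e09020908060a0c)
 (.cons 2 (nat_lit 0x12000100022030020202130023222320)
 (.cons 1 (nat_lit 0x4000004510001004404050040100500)
 (.cons 2 (nat_lit 0x2000000020000002002000020200000)
 (.cons 4 (nat_lit 0x600040802000a080000020008020a08)
 (.cons 8 (nat_lit 0x40000000c800ca006400f800d80064)
 (.cons 16 (nat_lit 0x1288000001a0000017140000cdc0)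
 (.cons 32 (nat_lit 0x24c050000000000075f10a34)
 (.cons 64 (nat_lit 0x2c0118db3212400)
 .nil)))))))))))))
noncomputable def xa22 : Net := (.cons 64 (nat_lit 0xcc3ca56d133380d4)
 (.cons 32 (nat_lit 0xa2db562000000000e80ea88d)
 (.cons 16 (nat_lit 0x999a000029300000508d00006187)
 (.cons 8 (nat_lit 0x7100f4008000de0042008400d60084)
 (.cons 4 (nat_lit 0x60f0208050a040c0308020205020a0f)
 (.cons 2 (nat_lit 0x21221022122031002203100201130200)
 (.cons 1 (nat_lit 0x545041011414404104441140140041)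
 (.cons 2 (nat_lit 0x20022022222200002000200020020)
 (.cons 4 (nat_lit 0xa0c0404020c040200000a0406000e)
 (.cons 8 (nat_lit 0x74001800b4005200c80084008200bc)
 (.cons 16 (nat_lit 0xddb40000a93400008a0200007214)
 (.cons 32 (nat_lit 0xaaff774e00000000d90dfa1a)
 (.cons 64 (nat_lit 0xcc3ca56c3438cc1a)
 .nil)))))))))))))
noncomputable def xa23 : Net := (.cons 64 (nat_lit 0x4d12b204ae75a880)
 (.cons 32 (nat_lit 0xac86b18000000000ada7e62a)
 (.cons 16 (nat_lit 0xf88800005d2900009db500002021)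
 (.cons 8 (nat_lit 0x8400a8005c006a003f001a00700060)
 (.cons 4 (nat_lit 0x5040c0e0a080304080606000a09080b)
 (.cons 2 (nat_lit 0x20120302003200020323033312133113)
 (.cons 1 (nat_lit 0x40000041505455101544404510411005)
 (.cons 2 (nat_lit 0x20000002000200000020002000020000)
 (.cons 4 (nat_lit 0x4040c0c0a080000000a060a0a040802)
 (.cons 8 (nat_lit 0x400a8005c006a00b0003200200038)
 (.cons 16 (nat_lit 0xf88800005d280000b7b0000020e0)
 (.cons 32 (nat_lit 0xac86b18000000000bf46e660)
 (.cons 64 (nat_lit 0x4d12b204ae75a880)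
 .nil)))))))))))))
noncomputable def xa24 : Net := (.cons 64 (nat_lit 0xe7da157027926754)
 (.cons 32 (nat_lit 0x2442c9670000000012839080)
 (.cons 16 (nat_lit 0x7af80000529e0000d22600001535)
 (.cons 8 (nat_lit 0x2800040046007000820088003900dc)
 (.cons 4 (nat_lit 0xf080e04090606050808020a0a080b01)
 (.cons 2 (nat_lit 0x10200123131212311003002013010302)
 (.cons 1 (nat_lit 0x5100411155104540001100005401044)
 (.cons 2 (nat_lit 0x200020000002000000200000000002)
 (.cons 4 (nat_lit 0x20808040c0c0202000802080e0c0600)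
 (.cons 8 (nat_lit 0x28004200720050000200880078009a)
 (.cons 16 (nat_lit 0x7be00000738c0000d2260000dc64)
 (.cons 32 (nat_lit 0xe50acd20000000001aa2108c)
 (.cons 64 (nat_lit 0xe7da1570a1962166)
 .nil)))))))))))))
noncomputable def xa25 : Net := (.cons 64 (nat_lit 0x490842b13f58560)
 (.cons 32 (nat_lit 0x8144c0000000000c2d3702a)
 (.cons 16 (nat_lit 0x8b00000649400005bb900007c47)
 (.cons 8 (nat_lit 0x2400dc00fa00ee001f00ca000100b7)
 (.cons 4 (nat_lit 0x800080004000a0d090e0b0c02060003)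
 (.cons 2 (nat_lit 0x20002003022130132221002022202022)
 (.cons 1 (nat_lit 0x1445111051141405414111441451)
 (.cons 2 (nat_lit 0x2000020000000000020022222202)
 (.cons 4 (nat_lit 0x800080000000a0a0204000e00000008)
 (.cons 8 (nat_lit 0x2000dc00c800ee000c00d8000a0026)
 (.cons 16 (nat_lit 0x8b00000c4040000084200001b0a)
 (.cons 32 (nat_lit 0x8144c00000000008abd192c)
 (.cons 64 (nat_lit 0x490842b13f58560)
 .nil)))))))))))))
noncomputable def xa26 : Net := (.cons 64 (nat_lit 0x2f08c66443831db4)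
 (.cons 32 (nat_lit 0x374844d0000000005213f08b)
 (.cons 16 (nat_lit 0xfac800000f00000079b500008d8b)
 (.cons 8 (nat_lit 0xc0002e00ee008800960010006600c6)
 (.cons 4 (nat_lit 0x4080c0702020a0a0b08000103040f04)
 (.cons 2 (nat_lit 0x1001012003231203302200113232110)
 (.cons 1 (nat_lit 0x40405001010400441501101000110411)
 (.cons 2 (nat_lit 0x2000200200002202000020020)
 (.cons 4 (nat_lit 0x4000c000208080c0008000000000604)
 (.cons 8 (nat_lit 0x46008400d40000000200ce)
 (.cons 16 (nat_lit 0xfcc000008c080000692000008850)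
 (.cons 32 (nat_lit 0x3140c0d0000000004224f00a)
 (.cons 64 (nat_lit 0x2f08c66e7ccbd80c)
 .nil)))))))))))))
noncomputable def xa27 : Net := (.cons 64 (nat_lit 0x9208982cb0041748)
 (.cons 32 (nat_lit 0x9189e28000000000abb20050)
 (.cons 16 (nat_lit 0x9304000099000000a80200009f22)
 (.cons 8 (nat_lit 0x1000ab0020009000e0008e00a0002a)
 (.cons 4 (nat_lit 0x80900000a00040004030a0a0e00000d)
 (.cons 2 (nat_lit 0x2003222012210322200013010320031)
 (.cons 1 (nat_lit 0x45101004000000400000400041514)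
 (.cons 2 (nat_lit 0x202002000000200000000020020)
 (.cons 4 (nat_lit 0x8080000000004000400000a04000000)
 (.cons 8 (nat_lit 0x1000a00020009000e0008e00a0002a)
 (.cons 16 (nat_lit 0x9304000099000000880000009f22)
 (.cons 32 (nat_lit 0x9189e28000000000abb20050)
 (.cons 64 (nat_lit 0x9208982cb0041748)
 .nil)))))))))))))
noncomputable def xa28 : Net := (.cons 64 (nat_lit 0x2de31002f0019880)
 (.cons 32 (nat_lit 0x162210280000000081825542)
 (.cons 16 (nat_lit 0x11a00000cd940000bac400003074)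
 (.cons 8 (nat_lit 0x480024006800d80060002000840098)
 (.cons 4 (nat_lit 0x60a000806020108080e0500080c0209)
 (.cons 2 (nat_lit 0x22200102032313121020222122200133)
 (.cons 1 (nat_lit 0x44011001404041000110041004441055)
 (.cons 2 (nat_lit 0x22000002002002000020022002200000)
 (.cons 4 (nat_lit 0xa000806020c0800080400080c0200)
 (.cons 8 (nat_lit 0x480024004000880060002000840098)
 (.cons 16 (nat_lit 0x11a00000cd940000bac400003074)
 (.cons 32 (nat_lit 0x162210280000000081825542)
 (.cons 64 (nat_lit 0x2de31002f0019800)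
 .nil)))))))))))))
noncomputable def xa29 : Net := (.cons 64 (nat_lit 0x3568141fb763f258)
 (.cons 32 (nat_lit 0xbce659200000000bf84f442)
 (.cons 16 (nat_lit 0x7e36000086680000ccc00000aa35)
 (.cons 8 (nat_lit 0x8003e0060008000c1002400a00046)
 (.cons 4 (nat_lit 0x608080209040000030d030000000c03)
 (.cons 2 (nat_lit 0x102202310100213302002222010020)
 (.cons 1 (nat_lit 0x1040411450004004500010100144011)
 (.cons 2 (nat_lit 0x2000222200000002000000200000020)
 (.cons 4 (nat_lit 0x20808000c0400080a080202000a080a)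
 (.cons 8 (nat_lit 0x18003a0060008000d400200020004c)
 (.cons 16 (nat_lit 0x7b3400008620000028c00000aab8)
 (.cons 32 (nat_lit 0xbce6580000000003f85d502)
 (.cons 64 (nat_lit 0x35681417b765be5a)
 .nil)))))))))))))
noncomputable def xa30 : Net := (.cons 64 (nat_lit 0x35681417b765be5a)
 (.cons 32 (nat_lit 0xbca09a72000000003f85d502)
 (.cons 16 (nat_lit 0x19c800003732000028c000000047)
 (.cons 8 (nat_lit 0x800068004c0080002b0024004e0020)
 (.cons 4 (nat_lit 0x80304020604080d0501020401000a)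
 (.cons 2 (nat_lit 0x202102122120210231002200022203)
 (.cons 1 (nat_lit 0x4005141014010000051100104110011)
 (.cons 2 (nat_lit 0x2002000000000000200020002)
 (.cons 4 (nat_lit 0x60402060208080c000000080000)
 (.cons 8 (nat_lit 0x80006800580080003e0020004400a0)
 (.cons 16 (nat_lit 0x1980000032300000ccc0000000ca)
 (.cons 32 (nat_lit 0xbc809a6800000000bf84f442)
 (.cons 64 (nat_lit 0x3568141fb763f258)
 .nil)))))))))))))
noncomputable def xa31 : Net := (.cons 64 (nat_lit 0xa9c32112e877cd06)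
 (.cons 32 (nat_lit 0x95c207aa00000000a21c1860)
 (.cons 16 (nat_lit 0x9847000083a500009aac00005014)
 (.cons 8 (nat_lit 0x8200f500bc009600cc00600046001e)
 (.cons 4 (nat_lit 0xa000e02010a040e020c02000a020e0b)
 (.cons 2 (nat_lit 0x10203010202020200300310222011)
 (.cons 1 (nat_lit 0x1001415004011140400100550155015)
 (.cons 2 (nat_lit 0x2002000000002000200200000000000)
 (.cons 4 (nat_lit 0x80004080000080c000004000e000a08)
 (.cons 8 (nat_lit 0x86004c00bc001e00440060000c00d6)
 (.cons 16 (nat_lit 0x9846000003a40000988800001e50)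
 (.cons 32 (nat_lit 0xb40226bc00000000a01c1a60)
 (.cons 64 (nat_lit 0xa9c32118ce97c7ae)
 .nil)))))))))))))
noncomputable def xa32 : Net := (.cons 64 (nat_lit 0xe57fac9b1ecef868)
 (.cons 32 (nat_lit 0xa3e0c9cd0000000009286ac0)
 (.cons 16 (nat_lit 0x617d0000fd4c000063c000000651)
 (.cons 8 (nat_lit 0x6100610024007000fa000400fe00c1)
 (.cons 4 (nat_lit 0xc030008000209060004080a020d0404)
 (.cons 2 (nat_lit 0x1212021200101010202222230320130)
 (.cons 1 (nat_lit 0x1144014000441104114140140010110)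
 (.cons 2 (nat_lit 0x2002020000222202202220200020000)
 (.cons 4 (nat_lit 0xc04040008000a0008040802020e0004)
 (.cons 8 (nat_lit 0x240064002400ca0092000e006c00d4)
 (.cons 16 (nat_lit 0x20f00000f946000070e000001410)
 (.cons 32 (nat_lit 0x62a7e1c80000000013a86be8)
 (.cons 64 (nat_lit 0xe57fac9b16a77f34)
 .nil)))))))))))))
noncomputable def xa33 : Net := (.cons 64 (nat_lit 0x2c0118db3212400)
 (.cons 32 (nat_lit 0x24c050000000000075f10a34)
 (.cons 16 (nat_lit 0x128800008182000017140000cdd1)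
 (.cons 8 (nat_lit 0x40000200c80040006400f800d80064)
 (.cons 4 (nat_lit 0x6080408020202020e09020908060a0c)
 (.cons 2 (nat_lit 0x12000100022030020202130023222320)
 (.cons 1 (nat_lit 0x4000004510001004404050040100500)
 (.cons 2 (nat_lit 0x2000000020000002002000020200000)
 (.cons 4 (nat_lit 0x600040802000a080000020008020a08)
 (.cons 8 (nat_lit 0x40000000c800ca006400f800d80064)
 (.cons 16 (nat_lit 0x1288000001a0000017140000cdc0)
 (.cons 32 (nat_lit 0x24c050000000000075f10a34)
 (.cons 64 (nat_lit 0x2c0118db3212400)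
 .nil)))))))))))))
noncomputable def xa34 : Net := (.cons 64 (nat_lit 0x576b0872af534008)
 (.cons 32 (nat_lit 0x8764f3a000000000cdf43190)
 (.cons 16 (nat_lit 0xd12c000059f10000fc7000005b12)
 (.cons 8 (nat_lit 0x60026000800d000a0001d00ec009a)
 (.cons 4 (nat_lit 0x6040d03020a080e0804080400020c0f)
 (.cons 2 (nat_lit 0x1001300000011201230332320023220)
 (.cons 1 (nat_lit 0x50011451045000100150050515415044)
 (.cons 2 (nat_lit 0x200000000200200000020020002)
 (.cons 4 (nat_lit 0x6000200000a00080804000c00000c00)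
 (.cons 8 (nat_lit 0x60026000800d000a000b400ec009a)
 (.cons 16 (nat_lit 0x9024000059f00000f87000005b12)
 (.cons 32 (nat_lit 0x8764f38000000000cdf43190)
 (.cons 64 (nat_lit 0x576b0872af534008)
 .nil)))))))))))))
noncomputable def xa35 : Net := (.cons 64 (nat_lit 0x4d12b204ae75a880)
 (.cons 32 (nat_lit 0xac86b18000000000ada7e62a)
 (.cons 16 (nat_lit 0xf88800005d2900009db500002021)
 (.cons 8 (nat_lit 0x8400a8005c006a003f001a00700060)
 (.cons 4 (nat_lit 0x5040c0e0a080304080606000a09080b)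
 (.cons 2 (nat_lit 0x20120302003200020323033312133113)
 (.cons 1 (nat_lit 0x40000041505455101544404510411005)
 (.cons 2 (nat_lit 0x20000002000200000020002000020000)
 (.cons 4 (nat_lit 0x4040c0c0a080000000a060a0a040802)
 (.cons 8 (nat_lit 0x400a8005c006a00b0003200200038)
 (.cons 16 (nat_lit 0xf88800005d280000b7b0000020e0)
 (.cons 32 (nat_lit 0xac86b18000000000bf46e660)
 (.cons 64 (nat_lit 0x4d12b204ae75a880)
 .nil)))))))))))))
noncomputable def xa36 : Net := (.cons 64 (nat_lit 0x2214c005904d0040)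
 (.cons 32 (nat_lit 0x189802200000000088b12645)
 (.cons 16 (nat_lit 0xc2a80000e4040000d70e0000fa2e)
 (.cons 8 (nat_lit 0x4400040002006c003e00e9006a00c5)
 (.cons 4 (nat_lit 0x20800020e03010d0e0809000406000b)
 (.cons 2 (nat_lit 0x20300222231331132000213233022012)
 (.cons 1 (nat_lit 0x14000401451414144144005001441444)
 (.cons 2 (nat_lit 0x20000202200220020002000002002202)
 (.cons 4 (nat_lit 0x8000208040c020e0008000000020a)
 (.cons 8 (nat_lit 0x4400040002006c0020007800220054)
 (.cons 16 (nat_lit 0xc2a80000e4040000d70e00008120)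
 (.cons 32 (nat_lit 0x189802200000000015702690)
 (.cons 64 (nat_lit 0x2214c005904d0040)
 .nil)))))))))))))
noncomputable def xa37 : Net := (.cons 64 (nat_lit 0x66931cb131b76000)
 (.cons 32 (nat_lit 0xb8ea0f300000000019a4b008)
 (.cons 16 (nat_lit 0x2c91000062810000a2440000ef3c)
 (.cons 8 (nat_lit 0x1000bb0004004e00880000009000c2)
 (.cons 4 (nat_lit 0xe070b0700000806010008000e0d0200)
 (.cons 2 (nat_lit 0x20000312212232120220120332330030)
 (.cons 1 (nat_lit 0x54140411401410401104010554414405)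
 (.cons 2 (nat_lit 0x220202202220002000020002000000)
 (.cons 4 (nat_lit 0x20c0004000006080a00080008020000)
 (.cons 8 (nat_lit 0x4a008c000400b000880000009000c2)
 (.cons 16 (nat_lit 0x3490000062800000a2040000ee3c)
 (.cons 32 (nat_lit 0xb8ea0f300000000019a4b008)
 (.cons 64 (nat_lit 0x66931cb131b76000)
 .nil)))))))))))))
noncomputable def xa38 : Net := (.cons 64 (nat_lit 0x802a088e06a45c20)
 (.cons 32 (nat_lit 0xb10801000000000000425320)
 (.cons 16 (nat_lit 0x31200000c2400000b1400000b4d4)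
 (.cons 8 (nat_lit 0x880082008600b800a80070005400e0)
 (.cons 4 (nat_lit 0x80b020c060e02050e02040e000209)
 (.cons 2 (nat_lit 0x2022200022332000021110020201002)
 (.cons 1 (nat_lit 0x1001101004000000010001045000104)
 (.cons 2 (nat_lit 0x2002200002000000020000020000002)
 (.cons 4 (nat_lit 0x8000208060400000c00000e000200)
 (.cons 8 (nat_lit 0x880082008600b800280070004400e0)
 (.cons 16 (nat_lit 0x3120000042400000b1400000b0d4)
 (.cons 32 (nat_lit 0xb10801000000000000425320)
 (.cons 64 (nat_lit 0x802a088606a45420)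
 .nil)))))))))))))
noncomputable def xa39 : Net := (.cons 64 (nat_lit 0x66931cb131b76000)
 (.cons 32 (nat_lit 0xb8ea0f300000000019a4b008)
 (.cons 16 (nat_lit 0x2c91000062810000a2440000ef3c)
 (.cons 8 (nat_lit 0x1000bb0004004e00880000009000c2)
 (.cons 4 (nat_lit 0xe070b0700000806010008000e0d0200)
 (.cons 2 (nat_lit 0x20000312212232120220120332330030)
 (.cons 1 (nat_lit 0x54140411401410401104010554414405)
 (.cons 2 (nat_lit 0x220202202220002000020002000000)
 (.cons 4 (nat_lit 0x20c0004000006080a00080008020000)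
 (.cons 8 (nat_lit 0x4a008c000400b000880000009000c2)
 (.cons 16 (nat_lit 0x3490000062800000a2040000ee3c)
 (.cons 32 (nat_lit 0xb8ea0f300000000019a4b008)
 (.cons 64 (nat_lit 0x66931cb131b76000)
 .nil)))))))))))))
noncomputable def xa40 : Net := (.cons 64 (nat_lit 0x802a088e06a45c20)
 (.cons 32 (nat_lit 0xb10801000000000000425320)
 (.cons 16 (nat_lit 0x31200000c2400000b1400000b4d4)
 (.cons 8 (nat_lit 0x880082008600b800a80070005400e0)
 (.cons 4 (nat_lit 0x80b020c060e02050e02040e000209)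
 (.cons 2 (nat_lit 0x2022200022332000021110020201002)
 (.cons 1 (nat_lit 0x1001101004000000010001045000104)
 (.cons 2 (nat_lit 0x2002200002000000020000020000002)
 (.cons 4 (nat_lit 0x8000208060400000c00000e000200)
 (.cons 8 (nat_lit 0x880082008600b800280070004400e0)
 (.cons 16 (nat_lit 0x3120000042400000b1400000b0d4)
 (.cons 32 (nat_lit 0xb10801000000000000425320)
 (.cons 64 (nat_lit 0x802a088606a45420)
 .nil)))))))))))))
noncomputable def xa41 : Net := (.cons 64 (nat_lit 0x2c0118db3212400)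
 (.cons 32 (nat_lit 0x24c050000000000075f10a34)
 (.cons 16 (nat_lit 0x128800008182000017140000cdd1)
 (.cons 8 (nat_lit 0x40000200c80040006400f800d80064)
 (.cons 4 (nat_lit 0x6080408020202020e09020908060a0c)
 (.cons 2 (nat_lit 0x12000100022030020202130023222320)
 (.cons 1 (nat_lit 0x4000004510001004404050040100500)
 (.cons 2 (nat_lit 0x2000000020000002002000020200000)
 (.cons 4 (nat_lit 0x600040802000a080000020008020a08)
 (.cons 8 (nat_lit 0x40000000c800ca006400f800d80064)
 (.cons 16 (nat_lit 0x1288000001a0000017140000cdc0)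
 (.cons 32 (nat_lit 0x24c050000000000075f10a34)
 (.cons 64 (nat_lit 0x2c0118db3212400)
 .nil)))))))))))))
noncomputable def xa42 : Net := (.cons 64 (nat_lit 0x66931cb131b76000)
 (.cons 32 (nat_lit 0xb8ea0f300000000019a4b008)
 (.cons 16 (nat_lit 0x2c91000062810000a2440000ef3c)
 (.cons 8 (nat_lit 0x1000bb0004004e00880000009000c2)
 (.cons 4 (nat_lit 0xe070b0700000806010008000e0d0200)
 (.cons 2 (nat_lit 0x20000312212232120220120332330030)
 (.cons 1 (nat_lit 0x54140411401410401104010554414405)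
 (.cons 2 (nat_lit 0x220202202220002000020002000000)
 (.cons 4 (nat_lit 0x20c0004000006080a00080008020000)
 (.cons 8 (nat_lit 0x4a008c000400b000880000009000c2)
 (.cons 16 (nat_lit 0x3490000062800000a2040000ee3c)
 (.cons 32 (nat_lit 0xb8ea0f300000000019a4b008)
 (.cons 64 (nat_lit 0x66931cb131b76000)
 .nil)))))))))))))
noncomputable def xa43 : Net := (.cons 64 (nat_lit 0x4d12b204ae75a880)
 (.cons 32 (nat_lit 0xac86b18000000000ada7e62a)
 (.cons 16 (nat_lit 0xf88800005d2900009db500002021)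
 (.cons 8 (nat_lit 0x8400a8005c006a003f001a00700060)
 (.cons 4 (nat_lit 0x5040c0e0a080304080606000a09080b)
 (.cons 2 (nat_lit 0x20120302003200020323033312133113)
 (.cons 1 (nat_lit 0x40000041505455101544404510411005)
 (.cons 2 (nat_lit 0x20000002000200000020002000020000)
 (.cons 4 (nat_lit 0x4040c0c0a080000000a060a0a040802)
 (.cons 8 (nat_lit 0x400a8005c006a00b0003200200038)
 (.cons 16 (nat_lit 0xf88800005d280000b7b0000020e0)
 (.cons 32 (nat_lit 0xac86b18000000000bf46e660)
 (.cons 64 (nat_lit 0x4d12b204ae75a880)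
 .nil)))))))))))))
noncomputable def xws : List (List ℕ) :=
  [W (nat_lit 0x190540b04c0b00414),
  W (nat_lit 0x1905412034100281000403),
  W (nat_lit 0x6417054110340902c0a00c0d),
  W (nat_lit 0x64170440d0400a0300900415),
  W (nat_lit 0x15044100240d0400302c0a),
  W (nat_lit 0x190340f0240901403),
  W (nat_lit 0x440d05c0b0340102c0f),
  W (nat_lit 0x370b0370b02e0ac330c8370c4330dc2e0c82e0d02c),
  W (nat_lit 0x370ac360e0310d4310ac370c42d0c8370bc2d),
  W (nat_lit 0x3c0e439),
  W (nat_lit 0x3a0ec39),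
  W (nat_lit 0xf43f),
  W (nat_lit 0x10842),
  W (nat_lit 0x10c3d0f42f),
  W (nat_lit 0x6417054110340902c0a00c0d),
  W (nat_lit 0x5c150480d03c0b03807),
  W (nat_lit 0x6411034100240b0140e),
  W (nat_lit 0x130491204a),
  W (nat_lit 0x13447),
  W (nat_lit 0x12c451284b1204c124471284612848),
  W (nat_lit 0x128461284b11c4912c471244b),
  W (nat_lit 0x14c45),
  W (nat_lit 0x5314445)]
noncomputable def xns : List Net := [CL.Std.J2.a0, CL.Std.J2.a1, CL.Std.J2.a2, CL.Std.J2.a3, CL.Std.J2.a4, CL.Std.J2.a5, CL.Std.J2.a6, CL.Std.J2.a7, CL.Std.J2.a8, CL.Std.J2.a9, CL.Std.J2.a10, CL.Std.J2.a11, CL.Std.J2.a12, CL.Std.J2.a13, CL.Std.J2.a14, CL.Std.J2.a15, CL.Std.J2.a16, CL.Std.J2.a17, CL.Std.J2.a18, CL.Std.J2.a19, CL.Std.J2.a20, xa21, xa22, xa23, xa24, xa25, xa26, xa27, xa28, xa29, xa30, xa31, xa32, xa33, xa34, xa35, xa36, xa37, xa38, xa39, xa40, xa41, xa42, xa43]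
noncomputable def xD : List (ℕ × List ℕ) := app CL.Std.J2.D (mkDefs xws 21)
noncomputable def xchk : List (List ℕ × List ℕ) → Bool := CL.Std.J2.P.relsB xns
noncomputable def xP_v0 : Lev :=
  ⟨12, 4, sg (W (nat_lit 0xbc2d)), [[56], [58]], 24, 2⟩
noncomputable def xP_v1 : Lev :=
  ⟨30, 2, sg [56], [[60], [62]], 26, 2⟩
noncomputable def xP_v2 : Lev :=
  ⟨1, 4, sg (W (nat_lit 0x3d0f43d)), [[64]], 28, 1⟩
noncomputable def xP_v3 : Lev :=
  ⟨10, 2, sg [64], [[66]], 29, 1⟩
noncomputable def xP_v4 : Lev :=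
  ⟨0, 2, sg [66], [], 30, 0⟩
noncomputable def xP_vs5 : List Lev :=
  []
noncomputable def xP_vs4 : List Lev :=
  xP_v4 :: xP_vs5
noncomputable def xP_vs3 : List Lev :=
  xP_v3 :: xP_vs4
noncomputable def xP_vs2 : List Lev :=
  xP_v2 :: xP_vs3
noncomputable def xP_vs1 : List Lev :=
  xP_v1 :: xP_vs2
noncomputable def xP_vs : List Lev :=
  xP_v0 :: xP_vs1
noncomputable def xP_ps : List PcG :=
  [⟨[44], 2, [52], [W (nat_lit 0x2b0dc350c42f), W (nat_lit 0x2b0dc31), W (nat_lit 0x2b0d433), [52], W (nat_lit 0xac37), [42]]⟩,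
  ⟨[46], 2, [], [W (nat_lit 0xdc31), W (nat_lit 0x2b0dc33), W (nat_lit 0x2b0dc35), [54], [42]]⟩,
  ⟨[48], 2, [42], [W (nat_lit 0xdc33), W (nat_lit 0xac35), [54], [42]]⟩,
  ⟨[50], 2, [], [W (nat_lit 0xac35), [54], [42]]⟩,
  ⟨[52], 2, [42], [[54], [42]]⟩,
  ⟨[54], 2, [], [[42]]⟩,
  ⟨[42], 2, [], []⟩]
noncomputable def xv0_E : List (ℕ × List CE) :=
  [(3, [])]
noncomputable def xv0_R : List (List ℕ) :=
  [[],
  [44]]
noncomputable def xzcj6 : List (List (List ℕ)) :=
  [[W (nat_lit 0x2b0dc350c42f), W (nat_lit 0x2b0dc31), W (nat_lit 0x2b0d433), [52], W (nat_lit 0xac37), [42]],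
  [[46], W (nat_lit 0xdc31), W (nat_lit 0x2b0dc33), W (nat_lit 0x2b0dc35), [54], [42]],
  [W (nat_lit 0xdc2f), [48], W (nat_lit 0xdc33), W (nat_lit 0xac35), [54], [42]],
  [W (nat_lit 0x2b0dc2f), W (nat_lit 0xdc31), [50], W (nat_lit 0xac35), [54], [42]],
  [W (nat_lit 0x2b0dc2f), W (nat_lit 0xac31), W (nat_lit 0xac33), [52], [54], [42]],
  [[46], [48], [50], [52], [54], [42]],
  [[46], [48], [50], [52], [54], [42]]]
noncomputable def xv1_E : List (ℕ × List CE) :=
  [(3, []),
  (3, [])]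
noncomputable def xv1_R : List (List ℕ) :=
  [[],
  [46],
  [44],
  W (nat_lit 0xbc2d)]
noncomputable def xzcj13 : List (List (List ℕ)) :=
  [[W (nat_lit 0x2b0dc31), W (nat_lit 0x2b0d433), [52], W (nat_lit 0xac37), [42]],
  [W (nat_lit 0xdc31), W (nat_lit 0x2b0dc33), W (nat_lit 0x2b0dc35), [54], [42]],
  [[48], W (nat_lit 0xdc33), W (nat_lit 0xac35), [54], [42]],
  [W (nat_lit 0xdc31), [50], W (nat_lit 0xac35), [54], [42]],
  [W (nat_lit 0xac31), W (nat_lit 0xac33), [52], [54], [42]],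
  [[48], [50], [52], [54], [42]],
  [[48], [50], [52], [54], [42]]]
noncomputable def xv2_E : List (ℕ × List CE) :=
  [(3, []),
  (1, [ceD, ⟨false, [44], 0, W (nat_lit 0x2b0dc35)⟩]),
  (1, [ceD, ⟨false, [46], 0, [52]⟩]),
  (0, [⟨true, [], 1, [54]⟩, ⟨true, [], 1, [54]⟩])]
noncomputable def xv2_R : List (List ℕ) :=
  [[],
  [48],
  [46],
  [44]]
noncomputable def xzcj20 : List (List (List ℕ)) :=
  [[W (nat_lit 0x2b0d433), [52], W (nat_lit 0xac37), [42]],
  [W (nat_lit 0x2b0dc33), W (nat_lit 0x2b0dc35), [54], [42]],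
  [W (nat_lit 0xdc33), W (nat_lit 0xac35), [54], [42]],
  [[50], W (nat_lit 0xac35), [54], [42]],
  [W (nat_lit 0xac33), [52], [54], [42]],
  [[50], [52], [54], [42]],
  [[50], [52], [54], [42]]]
noncomputable def xv3_E : List (ℕ × List CE) :=
  [(3, []),
  (3, []),
  (3, []),
  (3, [])]
noncomputable def xv3_R : List (List ℕ) :=
  [[],
  [50],
  [48],
  W (nat_lit 0xcc31),
  [46],
  W (nat_lit 0xcc2f),
  [44],
  W (nat_lit 0xcc2d)]
noncomputable def xzcj27 : List (List (List ℕ)) :=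
  [[[52], W (nat_lit 0xac37), [42]],
  [W (nat_lit 0x2b0dc35), [54], [42]],
  [W (nat_lit 0xac35), [54], [42]],
  [W (nat_lit 0xac35), [54], [42]],
  [[52], [54], [42]],
  [[52], [54], [42]],
  [[52], [54], [42]]]
noncomputable def xv4_E : List (ℕ × List CE) :=
  [(3, []),
  (1, [ceD, ⟨false, [44], 0, [42]⟩]),
  (3, []),
  (1, [ceD, ⟨false, [44], 0, W (nat_lit 0xac37)⟩]),
  (3, []),
  (3, []),
  (0, [⟨true, [], 1, []⟩, ⟨true, [], 1, [42]⟩]),
  (1, [ceD, ⟨false, [44], 0, [42]⟩])]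
noncomputable def xv4_R : List (List ℕ) :=
  [[],
  [52],
  [50],
  [48],
  W (nat_lit 0xd431),
  W (nat_lit 0xcc31),
  [46],
  W (nat_lit 0xd42f),
  W (nat_lit 0xcc2f),
  W (nat_lit 0x350cc2f),
  W (nat_lit 0xcc2d)]
noncomputable def xzcj34 : List (List (List ℕ)) :=
  [[W (nat_lit 0xac37), [42]],
  [[54], [42]],
  [[54], [42]],
  [[54], [42]],
  [[54], [42]],
  [[54], [42]],
  [[54], [42]]]
noncomputable def xv5_E : List (ℕ × List CE) :=
  [(3, []),
  (1, [ceD, ⟨false, [46], 0, [42]⟩]),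
  (1, [ceD, ⟨false, [46], 0, [42]⟩]),
  (1, [ceD, ⟨false, [44], 0, [42]⟩]),
  (1, [ceD, ⟨false, [44], 0, [42]⟩]),
  (0, [⟨true, [], 1, [42]⟩, ⟨true, [], 1, [42]⟩]),
  (1, [ceD, ⟨false, [48], 0, []⟩]),
  (0, [⟨true, [], 1, []⟩, ⟨true, [], 1, []⟩]),
  (0, [⟨true, [], 1, [42]⟩, ⟨true, [], 1, [42]⟩]),
  (1, [ceD, ⟨false, [50], 0, []⟩]),
  (3, [])]
noncomputable def xv5_R : List (List ℕ) :=
  [[],
  [54],
  [52],
  [50],
  [48],
  W (nat_lit 0xd431),
  [46],
  W (nat_lit 0x350cc2f),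
  W (nat_lit 0xcc2d),
  W (nat_lit 0x370cc2d)]
noncomputable def xzcj41 : List (List (List ℕ)) :=
  [[[42]],
  [[42]],
  [[42]],
  [[42]],
  [[42]],
  [[42]],
  [[42]]]
noncomputable def xv6_E : List (ℕ × List CE) :=
  [(3, []),
  (1, [ceD, ⟨false, [44], 0, []⟩]),
  (0, [⟨true, [], 1, []⟩, ⟨true, [], 1, []⟩]),
  (1, [ceD, ⟨false, [52], 0, []⟩]),
  (0, [⟨true, [], 1, []⟩, ⟨true, [], 1, []⟩]),
  (0, [⟨true, [], 1, []⟩, ⟨true, [], 1, []⟩]),
  (1, [ceD, ⟨false, [64], 0, []⟩]),
  (1, [ceD, ⟨false, [48], 0, []⟩]),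
  (0, [⟨true, [], 1, []⟩, ⟨true, [], 1, []⟩]),
  (1, [ceD, ⟨false, [48], 0, []⟩])]
noncomputable def xv6_R : List (List ℕ) :=
  [[],
  [42],
  [54],
  [50],
  [46],
  W (nat_lit 0x350cc2f),
  W (nat_lit 0x370cc2d)]
noncomputable def xv7_F : List (List ℕ × ℕ × List ℕ) :=
  [([], 0, []),
  ([], 1, []),
  (W (nat_lit 0x64170440d02c130140f), 1, []),
  (W (nat_lit 0x64150480d05c0b03c0301410), 2, []),
  (W (nat_lit 0x17048100240b0280300409), 2, []),
  (W (nat_lit 0x150480d03c0a0400305c01), 2, []),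
  (W (nat_lit 0x64150480b04c0300419), 1, [])]
noncomputable def xv7_R : List (List ℕ) :=
  [[], [42], [68]]
noncomputable def xR_ps : List PcG :=
  [⟨[78], 2, [], [[72], [70]]⟩,
  ⟨[72], 2, [], [[70]]⟩,
  ⟨[70], 2, [], []⟩]
noncomputable def xzE51 : List (ℕ × List ℕ) :=
  [(74, [78])]
noncomputable def xR_v0 : Lev :=
  ⟨12, 4, sg (W (nat_lit 0x12447)), [[76]], 34, 1⟩
noncomputable def xR_v1 : Lev :=
  ⟨0, 2, sg [76], [], 35, 0⟩
noncomputable def xR_vs2 : List Lev :=
  []
noncomputable def xR_vs1 : List Lev :=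
  xR_v1 :: xR_vs2
noncomputable def xR_vs : List Lev :=
  xR_v0 :: xR_vs1
noncomputable def xS_ps : List PcG :=
  [⟨[68], 2, [], [[84], [72], [86]]⟩,
  ⟨[84], 2, [], [[72], [86]]⟩,
  ⟨[72], 2, [], [[86]]⟩,
  ⟨[86], 2, [], []⟩]
noncomputable def xzE56 : List (ℕ × List ℕ) :=
  [(70, [86]),
  (74, [84])]
noncomputable def xS_v0 : Lev :=
  ⟨12, 4, sg (W (nat_lit 0x12447)), [[80], [82]], 36, 2⟩
noncomputable def xS_v1 : Lev :=
  ⟨1, 2, sg [80], [[82]], 38, 0⟩
noncomputable def xS_v2 : Lev :=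
  ⟨0, 2, sg [82], [], 38, 0⟩
noncomputable def xS_vs3 : List Lev :=
  []
noncomputable def xS_vs2 : List Lev :=
  xS_v2 :: xS_vs3
noncomputable def xS_vs1 : List Lev :=
  xS_v1 :: xS_vs2
noncomputable def xS_vs : List Lev :=
  xS_v0 :: xS_vs1

theorem xzc0 : CL.Std.J2.P.chainB xns xD xP_vs [[44], [46], [48], [50], [52], [54], [42]] = true := by decide +kernel
theorem xzr1 : xchk (pcsR xP_ps []) = true := by decide +kernel
theorem xzb2 : bnd (pcsB xD xP_ps []) (leB (app xD []) [[44], [46], [48], [50], [52], [54], [42]] (pcGens xP_ps [])) = true := by decide +kernel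
theorem xzq3 : cvN 2 [44] [[]] xv0_E = xv0_R := by decide +kernel
theorem xzr4 : xchk (cvR 2 2 [44] [[]] xv0_E) = true := by decide +kernel
theorem xzb5 : cvB xD [[44], [46], [48], [50], [52], [54], [42]] [[46], [48], [50], [52], [54], [42]] 2 [44] [[]] xv0_E = true := by decide +kernel
theorem xzm7 : nrmB xD [[44], [46], [48], [50], [52], [54], [42]] [[46], [48], [50], [52], [54], [42]] xzcj6 = true := by decide +kernel
theorem xzr8 : xchk (nrmR [[44], [46], [48], [50], [52], [54], [42]] [[46], [48], [50], [52], [54], [42]] xzcj6) = true := by decide +kernel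
theorem xzm9 : leB xD [[46], [48], [50], [52], [54], [42]] [[44], [46], [48], [50], [52], [54], [42]] = true := by decide +kernel
theorem xzq10 : cvN 2 [46] xv0_R xv1_E = xv1_R := by decide +kernel
theorem xzr11 : xchk (cvR 2 2 [46] xv0_R xv1_E) = true := by decide +kernel
theorem xzb12 : cvB xD [[44], [46], [48], [50], [52], [54], [42]] [[48], [50], [52], [54], [42]] 2 [46] xv0_R xv1_E = true := by decide +kernel
theorem xzm14 : nrmB xD [[44], [46], [48], [50], [52], [54], [42]] [[48], [50], [52], [54], [42]] xzcj13 = true := by decide +kernel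
theorem xzr15 : xchk (nrmR [[44], [46], [48], [50], [52], [54], [42]] [[48], [50], [52], [54], [42]] xzcj13) = true := by decide +kernel
theorem xzm16 : leB xD [[48], [50], [52], [54], [42]] [[44], [46], [48], [50], [52], [54], [42]] = true := by decide +kernel
theorem xzq17 : cvN 2 [48] xv1_R xv2_E = xv2_R := by decide +kernel
theorem xzr18 : xchk (cvR 2 2 [48] xv1_R xv2_E) = true := by decide +kernel
theorem xzb19 : cvB xD [[44], [46], [48], [50], [52], [54], [42]] [[50], [52], [54], [42]] 2 [48] xv1_R xv2_E = true := by decide +kernel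
theorem xzm21 : nrmB xD [[44], [46], [48], [50], [52], [54], [42]] [[50], [52], [54], [42]] xzcj20 = true := by decide +kernel
theorem xzr22 : xchk (nrmR [[44], [46], [48], [50], [52], [54], [42]] [[50], [52], [54], [42]] xzcj20) = true := by decide +kernel
theorem xzm23 : leB xD [[50], [52], [54], [42]] [[44], [46], [48], [50], [52], [54], [42]] = true := by decide +kernel
theorem xzq24 : cvN 2 [50] xv2_R xv3_E = xv3_R := by decide +kernel
theorem xzr25 : xchk (cvR 2 2 [50] xv2_R xv3_E) = true := by decide +kernel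
theorem xzb26 : cvB xD [[44], [46], [48], [50], [52], [54], [42]] [[52], [54], [42]] 2 [50] xv2_R xv3_E = true := by decide +kernel
theorem xzm28 : nrmB xD [[44], [46], [48], [50], [52], [54], [42]] [[52], [54], [42]] xzcj27 = true := by decide +kernel
theorem xzr29 : xchk (nrmR [[44], [46], [48], [50], [52], [54], [42]] [[52], [54], [42]] xzcj27) = true := by decide +kernel
theorem xzm30 : leB xD [[52], [54], [42]] [[44], [46], [48], [50], [52], [54], [42]] = true := by decide +kernel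
theorem xzq31 : cvN 2 [52] xv3_R xv4_E = xv4_R := by decide +kernel
theorem xzr32 : xchk (cvR 2 2 [52] xv3_R xv4_E) = true := by decide +kernel
theorem xzb33 : cvB xD [[44], [46], [48], [50], [52], [54], [42]] [[54], [42]] 2 [52] xv3_R xv4_E = true := by decide +kernel
theorem xzm35 : nrmB xD [[44], [46], [48], [50], [52], [54], [42]] [[54], [42]] xzcj34 = true := by decide +kernel
theorem xzr36 : xchk (nrmR [[44], [46], [48], [50], [52], [54], [42]] [[54], [42]] xzcj34) = true := by decide +kernel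
theorem xzm37 : leB xD [[54], [42]] [[44], [46], [48], [50], [52], [54], [42]] = true := by decide +kernel
theorem xzq38 : cvN 2 [54] xv4_R xv5_E = xv5_R := by decide +kernel
theorem xzr39 : xchk (cvR 2 2 [54] xv4_R xv5_E) = true := by decide +kernel
theorem xzb40 : cvB xD [[44], [46], [48], [50], [52], [54], [42]] [[42]] 2 [54] xv4_R xv5_E = true := by decide +kernel
theorem xzm42 : nrmB xD [[44], [46], [48], [50], [52], [54], [42]] [[42]] xzcj41 = true := by decide +kernel
theorem xzr43 : xchk (nrmR [[44], [46], [48], [50], [52], [54], [42]] [[42]] xzcj41) = true := by decide +kernel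
theorem xzm44 : leB xD [[42]] [[44], [46], [48], [50], [52], [54], [42]] = true := by decide +kernel
theorem xzq45 : cvN 2 [42] xv5_R xv6_E = xv6_R := by decide +kernel
theorem xzr46 : xchk (cvR 2 2 [42] xv5_R xv6_E) = true := by decide +kernel
theorem xzb47 : cvB xD [[44], [46], [48], [50], [52], [54], [42]] [] 2 [42] xv5_R xv6_E = true := by decide +kernel
theorem xzr48 : xchk (fuR xv6_R xv7_R xv7_F) = true := by decide +kernel
theorem xzb49 : fuB xD [[0], [2], [4], [6]] [] xv6_R xv7_R xv7_F = true := by decide +kernel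
theorem xzr50 : xchk (comR [[44], [46], [48], [50], [52], [54], [42]] [[42]]) = true := by decide +kernel
theorem xzr52 : xchk (pcsR xR_ps []) = true := by decide +kernel
theorem xzr53 : xchk (defRels xzE51) = true := by decide +kernel
theorem xzb54 : bnd (pcsB xD xR_ps []) (leB (app xD xzE51) [[70], [72], [74]] (pcGens xR_ps [])) = true := by decide +kernel
theorem xzc55 : CL.Std.J2.P.chainB xns xD xR_vs [[70], [72], [74]] = true := by decide +kernel
theorem xzr57 : xchk (pcsR xS_ps []) = true := by decide +kernel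
theorem xzr58 : xchk (defRels xzE56) = true := by decide +kernel
theorem xzb59 : bnd (pcsB xD xS_ps []) (leB (app xD xzE56) [[70], [72], [74], [68]] (pcGens xS_ps [])) = true := by decide +kernel
theorem xzc60 : CL.Std.J2.P.chainB xns xD xS_vs [[70], [72], [74], [68]] = true := by decide +kernel
theorem xzr61 : xchk (comR [[70], [72], [74], [68]] [[68]]) = true := by decide +kernel
theorem xze62 : extB CL.Std.J2.ns xns 21 xws CL.Std.J2.D = true := by decide +kernel
theorem xzn63 : CL.Std.J2.P.netsB xns (mkDefs xws 21) = true := by decide +kernel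

variable {G X : Type*} [Group G] [MulAction G X] {e : ℕ → X} {gs : List G}

theorem xlen {k} (c : Ctx CL.Std.J2.P e gs CL.Std.J2.ns CL.Std.J2.D k) : gs.length = 21 := c.len xze62

theorem xctx0 {k} (c : Ctx CL.Std.J2.P e gs CL.Std.J2.ns CL.Std.J2.D k) : Ctx CL.Std.J2.P e (ext gs xws) xns xD chk0 :=
  c.ext rfl xze62 xzn63

theorem xctx {k} (c : Ctx CL.Std.J2.P e gs CL.Std.J2.ns CL.Std.J2.D k) {H : Subgroup G} (hF : Faithful e CL.Std.J2.P.n H) (hH : ∀ g ∈ gs, g ∈ H) :
    Ctx CL.Std.J2.P e (ext gs xws) xns xD xchk :=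
  (xctx0 c).withB hF (mem_of_mem_ext hH _)

theorem xP_c : CL.Std.J2.P.chainB xns xD xP_vs [[44], [46], [48], [50], [52], [54], [42]] = true :=
  xzc0

theorem xP_o : prodL xP_vs 1 = 128 := by decide +kernel

theorem xP_lb (c : Ctx CL.Std.J2.P e gs xns xD xchk) :
    LB (subW gs [[44], [46], [48], [50], [52], [54], [42]]) 128 :=
  c.lb xP_c xP_o

theorem xP_pr (c : Ctx CL.Std.J2.P e gs xns xD xchk) :
    Rels gs (pcsR xP_ps []) :=
  (c.rels _ xzr1)

theorem xP_pe (c : Ctx CL.Std.J2.P e gs xns xD xchk) :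
    Rels gs (defRels []) :=
  (Rels.nil _)

theorem xP_pb : bnd (pcsB xD xP_ps []) (leB (app xD []) [[44], [46], [48], [50], [52], [54], [42]] (pcGens xP_ps [])) = true := xzb2

theorem xP_ub (c : Ctx CL.Std.J2.P e gs xns xD xchk) :
    UB (subW gs [[44], [46], [48], [50], [52], [54], [42]]) 128 :=
  c.pcs (UB.nil gs) (xP_pe c) (xP_pr c) xP_pb (by decide +kernel)

theorem xP_card (c : Ctx CL.Std.J2.P e gs xns xD xchk) :
    Nat.card (subW gs [[44], [46], [48], [50], [52], [54], [42]]) = 128 :=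
  (xP_ub c).card_eq (xP_lb c)

theorem xv0 (c : Ctx CL.Std.J2.P e gs xns xD xchk) :
    Cov 2 (subW gs [[44], [46], [48], [50], [52], [54], [42]]) ⊤ gs xv0_R (subW gs [[46], [48], [50], [52], [54], [42]]) :=
  Cov.step' (q := 2) (g := [44]) c.defs (by norm_num) (Cov.init 2 (subW gs [[44], [46], [48], [50], [52], [54], [42]]) ⊤ gs)
    (pc_lvl' c.defs (xP_pr c) xP_pb (xP_lb c) 0 (by decide +kernel))
    (c.le_normalizer (cj := xzcj6) (((xP_ub c).mono (c.le xzm9)).1) (c.rels _ xzr8) xzm7) le_top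
    (c.rels _ xzr4) xzb5 xzq3

theorem xv1 (c : Ctx CL.Std.J2.P e gs xns xD xchk) :
    Cov 2 (subW gs [[44], [46], [48], [50], [52], [54], [42]]) ⊤ gs xv1_R (subW gs [[48], [50], [52], [54], [42]]) :=
  Cov.step' (q := 2) (g := [46]) c.defs (by norm_num) (xv0 c)
    (pc_lvl' c.defs (xP_pr c) xP_pb (xP_lb c) 1 (by decide +kernel))
    (c.le_normalizer (cj := xzcj13) (((xP_ub c).mono (c.le xzm16)).1) (c.rels _ xzr15) xzm14) le_top
    (c.rels _ xzr11) xzb12 xzq10

theorem xv2 (c : Ctx CL.Std.J2.P e gs xns xD xchk) :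
    Cov 2 (subW gs [[44], [46], [48], [50], [52], [54], [42]]) ⊤ gs xv2_R (subW gs [[50], [52], [54], [42]]) :=
  Cov.step' (q := 2) (g := [48]) c.defs (by norm_num) (xv1 c)
    (pc_lvl' c.defs (xP_pr c) xP_pb (xP_lb c) 2 (by decide +kernel))
    (c.le_normalizer (cj := xzcj20) (((xP_ub c).mono (c.le xzm23)).1) (c.rels _ xzr22) xzm21) le_top
    (c.rels _ xzr18) xzb19 xzq17

theorem xv3 (c : Ctx CL.Std.J2.P e gs xns xD xchk) :
    Cov 2 (subW gs [[44], [46], [48], [50], [52], [54], [42]]) ⊤ gs xv3_R (subW gs [[52], [54], [42]]) :=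
  Cov.step' (q := 2) (g := [50]) c.defs (by norm_num) (xv2 c)
    (pc_lvl' c.defs (xP_pr c) xP_pb (xP_lb c) 3 (by decide +kernel))
    (c.le_normalizer (cj := xzcj27) (((xP_ub c).mono (c.le xzm30)).1) (c.rels _ xzr29) xzm28) le_top
    (c.rels _ xzr25) xzb26 xzq24

theorem xv4 (c : Ctx CL.Std.J2.P e gs xns xD xchk) :
    Cov 2 (subW gs [[44], [46], [48], [50], [52], [54], [42]]) ⊤ gs xv4_R (subW gs [[54], [42]]) :=
  Cov.step' (q := 2) (g := [52]) c.defs (by norm_num) (xv3 c)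
    (pc_lvl' c.defs (xP_pr c) xP_pb (xP_lb c) 4 (by decide +kernel))
    (c.le_normalizer (cj := xzcj34) (((xP_ub c).mono (c.le xzm37)).1) (c.rels _ xzr36) xzm35) le_top
    (c.rels _ xzr32) xzb33 xzq31

theorem xv5 (c : Ctx CL.Std.J2.P e gs xns xD xchk) :
    Cov 2 (subW gs [[44], [46], [48], [50], [52], [54], [42]]) ⊤ gs xv5_R (subW gs [[42]]) :=
  Cov.step' (q := 2) (g := [54]) c.defs (by norm_num) (xv4 c)
    (pc_lvl' c.defs (xP_pr c) xP_pb (xP_lb c) 5 (by decide +kernel))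
    (c.le_normalizer (cj := xzcj41) (((xP_ub c).mono (c.le xzm44)).1) (c.rels _ xzr43) xzm42) le_top
    (c.rels _ xzr39) xzb40 xzq38

theorem xv6 (c : Ctx CL.Std.J2.P e gs xns xD xchk) :
    Cov 2 (subW gs [[44], [46], [48], [50], [52], [54], [42]]) ⊤ gs xv6_R (subW gs []) :=
  Cov.step' (q := 2) (g := [42]) c.defs (by norm_num) (xv5 c)
    (pc_lvl' c.defs (xP_pr c) xP_pb (xP_lb c) 6 (by decide +kernel))
    (le_normalizer_nil gs _) le_top
    (c.rels _ xzr46) xzb47 xzq45

theorem xv7 (c : Ctx CL.Std.J2.P e gs xns xD xchk) :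
    Cov 2 (subW gs [[44], [46], [48], [50], [52], [54], [42]]) ⊤ gs xv7_R (subW gs []) :=
  Cov.fuse c.defs (xv6 c) (le_normalizer_nil gs _) le_top
    (c.rels _ xzr48) xzb49

theorem xv_cls (c : Ctx CL.Std.J2.P e gs xns xD xchk) :
    Cls 2 (subW gs [[44], [46], [48], [50], [52], [54], [42]]) ⊤ gs [[], [42], [68]] :=
  (xv7 c).cls

theorem xpz (c : Ctx CL.Std.J2.P e gs xns xD xchk) :
    ∀ x ∈ (subW gs [[44], [46], [48], [50], [52], [54], [42]]), ∀ y ∈ (subW gs [[42]]), x * y = y * x :=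
  commute_of_comR (c.rels _ xzr50)

theorem xR_pr (c : Ctx CL.Std.J2.P e gs xns xD xchk) :
    Rels gs (pcsR xR_ps []) :=
  (c.rels _ xzr52)

theorem xR_pe (c : Ctx CL.Std.J2.P e gs xns xD xchk) :
    Rels gs (defRels xzE51) :=
  (c.rels _ xzr53)

theorem xR_pb : bnd (pcsB xD xR_ps []) (leB (app xD xzE51) [[70], [72], [74]] (pcGens xR_ps [])) = true := xzb54

theorem xR_ub (c : Ctx CL.Std.J2.P e gs xns xD xchk) :
    UB (subW gs [[70], [72], [74]]) 8 :=
  c.pcs (UB.nil gs) (xR_pe c) (xR_pr c) xR_pb (by decide +kernel)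

theorem xR_c : CL.Std.J2.P.chainB xns xD xR_vs [[70], [72], [74]] = true :=
  xzc55

theorem xR_o : prodL xR_vs 1 = 8 := by decide +kernel

theorem xR_lb (c : Ctx CL.Std.J2.P e gs xns xD xchk) :
    LB (subW gs [[70], [72], [74]]) 8 :=
  c.lb xR_c xR_o

theorem xR_card (c : Ctx CL.Std.J2.P e gs xns xD xchk) :
    Nat.card (subW gs [[70], [72], [74]]) = 8 :=
  (xR_ub c).card_eq (xR_lb c)

theorem xS_pr (c : Ctx CL.Std.J2.P e gs xns xD xchk) :
    Rels gs (pcsR xS_ps []) :=
  (c.rels _ xzr57)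

theorem xS_pe (c : Ctx CL.Std.J2.P e gs xns xD xchk) :
    Rels gs (defRels xzE56) :=
  (c.rels _ xzr58)

theorem xS_pb : bnd (pcsB xD xS_ps []) (leB (app xD xzE56) [[70], [72], [74], [68]] (pcGens xS_ps [])) = true := xzb59

theorem xS_ub (c : Ctx CL.Std.J2.P e gs xns xD xchk) :
    UB (subW gs [[70], [72], [74], [68]]) 16 :=
  c.pcs (UB.nil gs) (xS_pe c) (xS_pr c) xS_pb (by decide +kernel)

theorem xS_c : CL.Std.J2.P.chainB xns xD xS_vs [[70], [72], [74], [68]] = true :=
  xzc60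

theorem xS_o : prodL xS_vs 1 = 16 := by decide +kernel

theorem xS_lb (c : Ctx CL.Std.J2.P e gs xns xD xchk) :
    LB (subW gs [[70], [72], [74], [68]]) 16 :=
  c.lb xS_c xS_o

theorem xS_card (c : Ctx CL.Std.J2.P e gs xns xD xchk) :
    Nat.card (subW gs [[70], [72], [74], [68]]) = 16 :=
  (xS_ub c).card_eq (xS_lb c)

theorem xst (c : Ctx CL.Std.J2.P e gs xns xD xchk) :
    ∀ x ∈ (subW gs [[70], [72], [74], [68]]), ∀ y ∈ (subW gs [[68]]), x * y = y * x :=
  commute_of_comR (c.rels _ xzr61)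

theorem xtop {Γ : Type*} [Group Γ] (f : Nonempty (subW CL.Std.J2.gs1 [[0], [2], [4], [6]] ≃* Γ)) :
    ∃ (_ : MulAction Γ (Fin CL.Std.J2.P.n)) (cs : List Γ), Top CL.Std.J2.P xns xD xchk [[0], [2], [4], [6]] 604800 (eF CL.Std.J2.P.n) cs := by
  obtain ⟨_, cs, t⟩ := CL.Std.J2.c1.exists_top (b := 21) (by decide +kernel) (by decide +kernel) ((faithful_eF _).mono le_top) CL.Std.J2.card (by norm_num) f
  exact ⟨_, _, t.ext (xctx t.c t.fa fun _ _ => trivial) (b := 21) (by decide +kernel) (by decide +kernel)⟩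


end CL.Q49.LkJ2
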