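/-
Project Q49: quasisimple groups on the even type list with non-trivial centre.
-/
import Cfsg.Agent.Q49.Defs
import Cfsg.Agent.Q49.Rk3A
import Cfsg.Agent.Q49.Rk3B
import Cfsg.Agent.Q49.Rk3C
import Cfsg.Agent.QT.Cmp2
import Cfsg.Agent.Even.CTQuot
import Cfsg.Agent.RC.HZ2
import Cfsg.Agent.Known.LocBalL
import Cfsg.Agent.Cls.UniSimple
import Cfsg.Agent.S0253
import Cfsg.Agent.S0255
import Cfsg.Agent.S0256
import Cfsg.Agent.S2034
import Cfsg.Agent.S2037
import Cfsg.Agent.S2038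
import Cfsg.Agent.S2042
import Cfsg.Agent.S2096
import Cfsg.Agent.S2097
import Cfsg.Agent.S2099
import Cfsg.Agent.S2100
import Cfsg.Agent.S2103
import Cfsg.Agent.S2105
import Cfsg.Agent.S2106
import Cfsg.Agent.S2107
import Cfsg.Agent.S2108
import Cfsg.Agent.S2110
import Cfsg.Agent.S2114
import Cfsg.Agent.S2115

set_option autoImplicit false

namespace CL.Q49.RedC0

open Cfsg Subgroup CL.RC.HZ2x CL.Even CL.Grp CL.Loc

universe u

/-- the eight groups -/
def E8 (X : Type*) [Group X] : Prop :=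
  (∃ (F : Type) (_ : Field F) (_ : Fintype F), Fintype.card F = 4 ∧
      Nonempty (X ≃* Matrix.ProjectiveSpecialLinearGroup (Fin 3) F)) ∨
    (∃ (F : Type) (_ : Field F) (_ : Fintype F), Fintype.card F = 4 ∧ Nonempty (X ≃* Lie.chevG2.group F)) ∨
    (∃ (F : Type) (_ : Field F) (_ : Fintype F), Fintype.card F = 8 ∧ Nonempty (X ≃* Lie.Sz F 4)) ∨
    Spor.IsoM12 X ∨ Spor.IsoM22 X ∨ Spor.IsoJ2 X ∨ Spor.IsoHS X ∨ Spor.IsoRu X

/-- the six groups of 3-rank at least three -/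
structure Rk3 : Prop where
  psp : ∀ (F : Type) [Field F] [Fintype F] (K : Type u) [Group K] [Finite K], (K ≃* PSp 3 F) → ¬ PRankLE 3 2 K
  plus : ∀ (F : Type) [Field F] [Fintype F] (K : Type u) [Group K] [Finite K],
    (K ≃* POmega F (quadFormPlus 4 F)) → ¬ PRankLE 3 2 K
  psu : ∀ (F : Type) [Field F] [Fintype F] (K : Type u) [Group K] [Finite K], Fintype.card F = 2 ^ 2 →
    ∀ n : ℕ, n = 4 ∨ n = 6 → (K ≃* PSU n F 2) → ¬ PRankLE 3 2 K
  f4 : ∀ (F : Type) [Field F] [Fintype F] (K : Type u) [Group K] [Finite K],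
    (K ≃* Lie.chevF4.group F) → ¬ PRankLE 3 2 K
  e6 : ∀ (F : Type) [Field F] [Fintype F] (K : Type u) [Group K] [Finite K] (q : ℕ),
    (K ≃* Lie.twistedE6 F q) → ¬ PRankLE 3 2 K

theorem key {P Q W : Type*} [Group P] [Finite P] [Group Q] [Group W] {ξ : P →* Q}
    (le2 : Nat.card ↥(ξ.ker ⊓ _root_.commutator P) ≤ 2) (φ : P →* W) (ρ : W →* Q) (sφ : Function.Surjective φ)
    (pW : Group.IsPerfect W) (e : ∀ p, ρ (φ p) = ξ p) (n : ρ.ker ≠ ⊥) :
    Function.Bijective (φ.comp (_root_.commutator P).subtype) := by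
  have s : Function.Surjective (φ.comp (_root_.commutator P).subtype) := fun w => by
    have : w ∈ (_root_.commutator P).map φ := by
      rw [_root_.commutator, Subgroup.map_commutator, map_top_of_surjective φ sφ]
      exact (pW.commutator_eq_top.ge (mem_top w) : w ∈ _root_.commutator W)
    obtain ⟨p, hp, rfl⟩ := this
    exact ⟨⟨p, hp⟩, rfl⟩
  refine ⟨(injective_iff_map_eq_one _).2 fun c hc => ?_, s⟩
  by_contra c1
  obtain ⟨⟨w, hw⟩, w1⟩ := (ne_bot_iff_exists_ne_one).1 n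
  obtain ⟨d, rfl⟩ := s w
  have hc' : φ c.1 = 1 := hc
  have mc : c.1 ∈ ξ.ker ⊓ _root_.commutator P := ⟨(e _).symm.trans (by rw [hc', map_one]), c.2⟩
  have md : d.1 ∈ ξ.ker ⊓ _root_.commutator P := ⟨(e _).symm.trans hw, d.2⟩
  have d1 : φ d.1 ≠ 1 := fun h => w1 (Subtype.ext h)
  obtain ⟨x, hx, hx'⟩ : ∃ l : Finset ↥(ξ.ker ⊓ _root_.commutator P), l.card = 3 ∧ True := by
    classical
    refine ⟨{1, ⟨_, mc⟩, ⟨_, md⟩}, Finset.card_eq_three.2 ⟨_, _, _, ?_, ?_, ?_, rfl⟩, trivial⟩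
    · exact fun h => c1 (Subtype.ext (congrArg Subtype.val h).symm)
    · exact fun h => d1 (by rw [← show (1 : P) = d.1 from congrArg Subtype.val h, map_one])
    · exact fun h => d1 ((congrArg φ (Subtype.mk.inj h)).symm.trans hc')
  have := Fintype.ofFinite ↥(ξ.ker ⊓ _root_.commutator P)
  have := x.card_le_univ
  rw [Nat.card_eq_fintype_card] at le2
  omega

/-- uniqueness of the double cover -/
theorem dbl {Q A X Y : Type*} [Group Q] [CommGroup A] [Group X] [Group Y] [Finite X] [Finite Y]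
    (hA : HasSchurMultiplier Q A) (h4 : ¬ 4 ∣ Nat.card A) (σ : X →* Q) (τ : Y →* Q) (sσ : Function.Surjective σ)
    (sτ : Function.Surjective τ) (cσ : σ.ker ≤ center X) (cτ : τ.ker ≤ center Y) (pX : Group.IsPerfect X)
    (pY : Group.IsPerfect Y) (tσ : IsPGroup 2 σ.ker) (tτ : IsPGroup 2 τ.ker) (nσ : σ.ker ≠ ⊥) (nτ : τ.ker ≠ ⊥) :
    Nonempty (X ≃* Y) := by
  have : Fact (Nat.Prime 2) := ⟨Nat.prime_two⟩
  let P : Subgroup (X × Y) := (σ.comp (MonoidHom.fst X Y)).eqLocus (τ.comp (MonoidHom.snd X Y))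
  have mP : ∀ p : P, σ p.1.1 = τ p.1.2 := fun p => p.2
  let f : P →* X := (MonoidHom.fst X Y).comp P.subtype
  let g : P →* Y := (MonoidHom.snd X Y).comp P.subtype
  have sf : Function.Surjective f := fun x => by
    obtain ⟨y, hy⟩ := sτ (σ x)
    exact ⟨⟨(x, y), hy.symm⟩, rfl⟩
  have sg : Function.Surjective g := fun y => by
    obtain ⟨x, hx⟩ := sσ (τ y)
    exact ⟨⟨(x, y), hx⟩, rfl⟩
  let ξ : P →* Q := σ.comp f
  have k1 : ∀ p : P, p ∈ ξ.ker → p.1.1 ∈ σ.ker := fun p h => h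
  have k2 : ∀ p : P, p ∈ ξ.ker → p.1.2 ∈ τ.ker := fun p h => (mP p).symm.trans h
  have cξ : ξ.ker ≤ center P := fun p hp => mem_center_iff.2 fun r => Subtype.ext
    (Prod.ext (mem_center_iff.1 (cσ (k1 p hp)) _) (mem_center_iff.1 (cτ (k2 p hp)) _))
  have hd := CL.Schur.HasSM.card_ker_inf_dvd hA ξ (sσ.comp sf) cξ
  have t : IsPGroup 2 ↥(ξ.ker ⊓ _root_.commutator P) := by
    rintro ⟨p, hp⟩
    obtain ⟨a, ha⟩ := tσ ⟨_, k1 p hp.1⟩
    obtain ⟨b, hb⟩ := tτ ⟨_, k2 p hp.1⟩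
    have ha' : p.1.1 ^ 2 ^ a = 1 := congrArg Subtype.val ha
    have hb' : p.1.2 ^ 2 ^ b = 1 := congrArg Subtype.val hb
    refine ⟨a + b, Subtype.ext (Subtype.ext (Prod.ext ?_ ?_))⟩
    · change p.1.1 ^ 2 ^ (a + b) = 1
      rw [pow_add, pow_mul, ha', one_pow]
    · change p.1.2 ^ 2 ^ (a + b) = 1
      rw [pow_add, mul_comm, pow_mul, hb', one_pow]
  obtain ⟨k, hk⟩ := IsPGroup.iff_card.1 t
  have le2 : Nat.card ↥(ξ.ker ⊓ _root_.commutator P) ≤ 2 := by
    rw [hk] at hd ⊢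
    rcases k with _ | _ | k
    · decide
    · decide
    · exact absurd (Nat.dvd_trans ⟨2 ^ k, by ring⟩ hd) h4
  exact ⟨(MulEquiv.ofBijective _ (key le2 f σ sf pX (fun _ => rfl) nσ)).symm.trans
    (MulEquiv.ofBijective _ (key le2 g τ sg pY (fun p => (mP p).symm) nτ))⟩

theorem sl2 {K A : Type*} [Group K] [Finite K] [CommGroup A] (hp : Group.IsPerfect K) (hZ : IsPGroup 2 (center K))
    (ne : center K ≠ ⊥) {F : Type} [Field F] [Fintype F] (hF : Fintype.card F = 5 ∨ Fintype.card F = 7 ∨ Fintype.card F = 9)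
    (e : K ⧸ center K ≃* Matrix.ProjectiveSpecialLinearGroup (Fin 2) F)
    (hA : HasSchurMultiplier (Matrix.ProjectiveSpecialLinearGroup (Fin 2) F) A) (h4 : ¬ 4 ∣ Nat.card A) :
    Nonempty (K ≃* Matrix.SpecialLinearGroup (Fin 2) F) := by
  have : Fact (Nat.Prime 2) := ⟨Nat.prime_two⟩
  have hk : (e.toMonoidHom.comp (QuotientGroup.mk' (center K))).ker = center K := by
    ext x
    rw [MonoidHom.mem_ker, MonoidHom.comp_apply, MulEquiv.coe_toMonoidHom, map_eq_one_iff _ e.injective,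
      QuotientGroup.mk'_apply, QuotientGroup.eq_one_iff]
  have c : Nat.card (center (Matrix.SpecialLinearGroup (Fin 2) F)) = 2 := by
    rw [CL.SLn.card_center_SL, Fintype.card_fin]
    rcases hF with h | h | h <;> rw [h] <;> decide
  have pf : Group.IsPerfect (Matrix.SpecialLinearGroup (Fin 2) F) := by
    classical
    refine CL.SLn.isPerfect_SL (.inr ?_)
    by_contra! k
    have : (Finset.univ : Finset F) ⊆ {0, 1, -1} := fun a _ => by
      by_cases a0 : a = 0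
      · simp [a0]
      · rcases mul_self_eq_one_iff.1 ((sq a).symm.trans (k a a0)) with h | h <;> simp [h]
    have h1 := Finset.card_le_card this
    have h2 : ({0, 1, -1} : Finset F).card ≤ 3 := Finset.card_le_three
    rw [Finset.card_univ] at h1
    omega
  refine dbl hA h4 (e.toMonoidHom.comp (QuotientGroup.mk' (center K))) (QuotientGroup.mk' (center _))
    (e.surjective.comp (QuotientGroup.mk'_surjective _)) (QuotientGroup.mk'_surjective _) hk.le
    (QuotientGroup.ker_mk' _).le hp pf (hk.symm ▸ hZ) ?_ (hk.symm ▸ ne) ?_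
  · rw [QuotientGroup.ker_mk']
    exact IsPGroup.of_card (n := 1) (by rw [c]; rfl)
  · rw [QuotientGroup.ker_mk']
    intro h
    rw [h, card_bot] at c
    omega

theorem pc {L : Type*} [Group L] [Finite L] (hq : IsQuasisimple L) (hZ : IsPGroup 2 (center L)) :
    pCore 2 L = center L := by
  refine le_antisymm ((IsQuasisimple.normal_eq_top_or_le_center hq (pCore 2 L)).resolve_left fun k => ?_)
    (le_pCore hZ)
  have := (pCore_eq_top_iff.1 k).isNilpotent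
  exact IsQuasisimple.not_isSolvable hq inferInstance

theorem tits {X Y : Type*} [Group X] [Group Y] (e : X ≃* Y) (h : Lie.IsoTits Y) : Lie.IsoTits X :=
  h.elim fun f => ⟨e.trans f⟩

theorem sub {X H : Type*} [Group X] [Group H] (S : Subgroup H) (hp : Group.IsPerfect X)
    (h : Nonempty (X ⧸ center X ≃* S)) (r : HasCyclicSchurMultiplier S 1) : Nat.card (center X) ∣ 1 :=
  h.elim fun f => card_dvd' hp f r

theorem tits2 {X : Type*} [Group X] (hp : Group.IsPerfect X) (h : Lie.IsoTits (X ⧸ center X)) :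
    Nat.card (center X) ∣ 1 :=
  sub (_root_.commutator (Lie.twistedF4 (ZMod 2) 1)) hp h Cfsg.Agent.S2115.result

theorem redC (R : Rk3.{u}) {K : Type u} [Group K] [Finite K] (hq : IsQuasisimple K) (hZ : IsPGroup 2 (center K))
    (h : IsQTEvenTypeComponent K) (rk : PRankLE 3 2 (K ⧸ center K)) (ne : center K ≠ ⊥) : E8 (K ⧸ center K) := by
  have : Fact (Nat.Prime 2) := ⟨Nat.prime_two⟩
  have : Fact (Nat.Prime 3) := ⟨Nat.prime_three⟩
  have : Fact (Nat.Prime 5) := ⟨by norm_num⟩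
  have : Fact (Nat.Prime 7) := ⟨by norm_num⟩
  have hp := hq.1
  have h2 : 2 ∣ Nat.card (center K) := by
    obtain ⟨k, hk⟩ := IsPGroup.iff_card.1 hZ
    rcases k with _ | k
    · exact absurd (card_eq_one.1 hk) ne
    · exact hk ▸ dvd_pow_self 2 (by omega)
  have no : ∀ {n : ℕ}, Nat.card (center K) ∣ n → ¬ 2 ∣ n → E8 (K ⧸ center K) := fun a b => absurd (h2.trans a) b
  have ps : ∀ {n : ℕ} {F : Type} [Field F], (K ≃* Matrix.ProjectiveSpecialLinearGroup (Fin n) F) → False := fun f => by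
    rw [CL.Uni.card_center_congr f, CL.LocBal.center_psl, card_bot] at h2
    omega
  have ev : ∀ (F : Type) [Field F] [Fintype F] [CharP F 2], 2 ∣ Fintype.card F := fun F _ _ _ => by
    obtain ⟨n, -, hn⟩ := FiniteField.card F 2
    exact hn ▸ dvd_pow_self 2 n.2.ne'
  have g1 : ∀ (n : ℕ) {q : ℕ}, 2 ∣ q → 0 < q → ¬ 2 ∣ Nat.gcd n (q - 1) := fun n q a b c => by
    have := c.trans (Nat.gcd_dvd_right _ _); omega
  have g2 : ∀ (n : ℕ) {q : ℕ}, 2 ∣ q → ¬ 2 ∣ Nat.gcd n (q + 1) := fun n q a c => by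
    have := c.trans (Nat.gcd_dvd_right _ _); omega
  have e0 := (QuotientGroup.quotientMulEquivOfEq (pc hq hZ)).symm
  rcases h with ⟨h, ex, ex8, -⟩ | (⟨F, _, _, -, ⟨f⟩⟩ | ⟨F, _, _, -, ⟨f⟩⟩) | h
  · have x5 : (K ⧸ center K ≃* alternatingGroup (Fin 5)) → False := fun e => by
      have c : Fintype.card (ZMod 5) = 5 := ZMod.card 5
      obtain ⟨e'⟩ := Cfsg.Agent.S0253.result c
      exact ex ⟨ZMod 5, _, _, .inl c, sl2 hp hZ ne (.inl c) (e.trans e'.symm)
        (Cfsg.Agent.S2086.result c 2 le_rfl (fun _ => by decide) (by decide)) (by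
          rw [Nat.card_congr Multiplicative.toAdd, Nat.card_zmod]; decide)⟩
    have x6 : (K ⧸ center K ≃* alternatingGroup (Fin 6)) → False := fun e => by
      have := Fintype.ofFinite (GaloisField 3 2)
      have c : Fintype.card (GaloisField 3 2) = 9 := by
        rw [← Nat.card_eq_fintype_card, GaloisField.card 3 2 (by decide)]; norm_num
      obtain ⟨e'⟩ := Cfsg.Agent.S0254.result c
      exact ex ⟨GaloisField 3 2, _, _, .inr (.inr c), sl2 hp hZ ne (.inr (.inr c)) (e.trans e'.symm)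
        (CL.Schur.HasSM.congr_left (Cfsg.Agent.S2116.result 6 (.inl rfl)) e'.symm) (by
          rw [Nat.card_congr Multiplicative.toAdd, Nat.card_zmod]; decide)⟩
    rcases h with (⟨F, _, _, _, n, hn, h4, ⟨e⟩⟩ | ⟨F, _, _, _, m, hm, h3, ⟨e⟩⟩ | ⟨F, _, _, _, n, q, hF, hn, h3, ⟨e⟩⟩ |
      ⟨F, _, _, _, m, -, ho, -⟩ | ⟨F, _, _, _, m, hm, ⟨e⟩⟩ | ⟨F, _, _, _, m, a, b, hm, hab, ⟨e⟩⟩ |
      ⟨F, _, _, _, ⟨h3, ⟨e⟩⟩ | ⟨⟨e⟩⟩ | ⟨⟨e⟩⟩ | ⟨⟨e⟩⟩ | ⟨⟨e⟩⟩⟩ | ⟨F, _, _, _, q, hq', ⟨hF, ⟨e⟩⟩ | ⟨hF, ⟨e⟩⟩⟩ |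
      ⟨-, F, _, _, m, hm, hF, ⟨e⟩⟩ | ⟨-, F, _, _, m, hm, hF, ⟨e⟩⟩ | ⟨h, -⟩) |
      ⟨-, ⟨⟨e⟩⟩ | ⟨F, _, _, hF, ⟨e⟩⟩ | hT⟩ | ⟨h, -⟩
    all_goals try replace e := e0.trans e
    · have e2 := ev F
      by_cases hx : (n, Fintype.card F) ∈ ({(2, 4), (2, 9), (3, 2), (3, 4), (4, 2)} : Set (ℕ × ℕ))
      · simp only [Set.mem_insert_iff, Set.mem_singleton_iff, Prod.mk.injEq] at hx
        rcases hx with ⟨rfl, c⟩ | ⟨rfl, c⟩ | ⟨rfl, c⟩ | ⟨rfl, c⟩ | ⟨rfl, c⟩
        · exact (x5 (e.trans (Cfsg.Agent.S0252.result c).some)).elim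
        · omega
        · have c7 : Fintype.card (ZMod 7) = 7 := ZMod.card 7
          obtain ⟨e'⟩ := Cfsg.Agent.S0255.result c7 c
          exact (ex ⟨ZMod 7, _, _, .inr (.inl c7), sl2 hp hZ ne (.inr (.inl c7)) (e.trans e'.symm)
            (Cfsg.Agent.S2086.result c7 2 le_rfl (fun _ => by decide) (by decide)) (by
              rw [Nat.card_congr Multiplicative.toAdd, Nat.card_zmod]; decide)⟩).elim
        · exact .inl ⟨F, _, _, c, ⟨e⟩⟩
        · exact (ex8 ⟨(pc hq hZ).symm ▸ ne, ⟨e0.symm.trans (e.trans (Cfsg.Agent.S0256.result c).some)⟩⟩).elim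
      · exact no (card_dvd' hp e (Cfsg.Agent.S2086.result rfl n hn h4 hx)) (g1 _ e2 Fintype.card_pos)
    · by_cases hx : m = 3 ∧ Fintype.card F = 2
      · obtain ⟨rfl, -⟩ := hx
        exact (R.psp F _ e rk).elim
      · exact no (card_dvd' hp e (Cfsg.Agent.S2092.result rfl m hm h3 hx)) (g1 _ (ev F) Fintype.card_pos)
    · have e2 : 2 ∣ q := Nat.prime_two.dvd_of_dvd_pow (hF ▸ ev F)
      by_cases hx : (n, q) ∈ ({(4, 2), (4, 3), (6, 2)} : Set (ℕ × ℕ))
      · simp only [Set.mem_insert_iff, Set.mem_singleton_iff, Prod.mk.injEq] at hx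
        rcases hx with ⟨rfl, rfl⟩ | ⟨rfl, rfl⟩ | ⟨rfl, rfl⟩
        · exact (R.psu F _ hF 4 (.inl rfl) e rk).elim
        · omega
        · exact (R.psu F _ hF 6 (.inr rfl) e rk).elim
      · exact no (card_dvd' hp e (Cfsg.Agent.S2089.result n q hF hn h3 hx)) (g2 _ e2)
    · exact absurd (ev F) ho.not_two_dvd_nat
    · have e2 : 2 ∣ Fintype.card F ^ m := (ev F).trans (dvd_pow_self _ (by omega))
      have p0 : 0 < Fintype.card F ^ m := pow_pos Fintype.card_pos _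
      rcases Nat.even_or_odd m with he | he
      · by_cases hx : m = 4 ∧ Fintype.card F = 2
        · obtain ⟨rfl, -⟩ := hx
          exact (R.plus F _ e rk).elim
        · have := card_dvd hp e (Cfsg.Agent.S2097.result rfl m hm he hx)
          rw [Nat.card_congr Multiplicative.toAdd, Nat.card_prod, Nat.card_zmod] at this
          exact no this fun c => (Nat.prime_two.dvd_mul.1 c).elim (g1 _ e2 p0) (g1 _ e2 p0)
      · have : 5 ≤ m := by obtain ⟨k, hk⟩ := he; omega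
        exact no (card_dvd' hp e (Cfsg.Agent.S2096.result rfl m this he)) (g1 _ e2 p0)
    · exact no (card_dvd' hp e (Cfsg.Agent.S2099.result rfl m hm a b hab))
        (g2 _ ((ev F).trans (dvd_pow_self _ (by omega))))
    · by_cases c : Fintype.card F = 4
      · exact .inr (.inl ⟨F, _, _, c, ⟨e⟩⟩)
      · have := ev F
        exact no (card_dvd' hp e (Cfsg.Agent.S2100.result (by omega))) (by decide)
    · exact (R.f4 F _ e rk).elim
    · exact no ((card_dvd' hp e (Cfsg.Agent.S2105.result rfl)).trans (Nat.gcd_dvd_left _ _)) (by decide)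
    · exact no (card_dvd' hp e (Cfsg.Agent.S2106.result rfl)) (g1 _ (ev F) Fintype.card_pos)
    · exact no (card_dvd' hp e Cfsg.Agent.S2107.result) (by decide)
    · exact (R.e6 F _ q e rk).elim
    · exact no (card_dvd' hp e (Cfsg.Agent.S2110.result hq' hF)) (by decide)
    · rcases hm.eq_or_lt with rfl | hm'
      · exact .inr (.inr (.inl ⟨F, _, _, hF, ⟨e⟩⟩))
      · exact no (card_dvd' hp e (Cfsg.Agent.S2111.result hm' hF)) (by decide)
    · exact no (card_dvd' hp e (Cfsg.Agent.S2114.result hm hF)) (by decide)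
    · omega
    · exact (x6 e).elim
    · exact no (card_dvd' hp e (Cfsg.Agent.S2089.result 3 3 hF le_rfl (by decide) (by decide))) (by decide)
    · exact no (tits2 hp (tits e0 hT)) (by decide)
    · omega
  · exact (ps f).elim
  · exact (ps f).elim
  · rcases h with ⟨⟨e⟩⟩ | ⟨⟨e⟩⟩ | ⟨⟨e⟩⟩ | ⟨⟨e⟩⟩ | ⟨⟨e⟩⟩ | ⟨⟨e⟩⟩ | ⟨⟨e⟩⟩ | ⟨⟨e⟩⟩ | ⟨⟨e⟩⟩
    all_goals have e' := e0.trans e
    · exact no (card_dvd' hp e' Cfsg.Agent.S2034.result) (by decide)
    · exact .inr (.inr (.inr (.inl ⟨e'⟩)))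
    · exact .inr (.inr (.inr (.inr (.inl ⟨e'⟩))))
    · exact no (card_dvd' hp e' Cfsg.Agent.S2037.result) (by decide)
    · exact no (card_dvd' hp e' Cfsg.Agent.S2038.result) (by decide)
    · exact .inr (.inr (.inr (.inr (.inr (.inl ⟨e'⟩)))))
    · exact no (card_dvd' hp e' Cfsg.Agent.S2042.result) (by decide)
    · exact .inr (.inr (.inr (.inr (.inr (.inr (.inl ⟨e'⟩))))))
    · exact .inr (.inr (.inr (.inr (.inr (.inr (.inr ⟨e'⟩))))))

theorem rk3 : Rk3.{u} where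
  psp _ _ _ _ _ _ e := rk3_psp e
  plus _ _ _ _ _ _ e := rk3_plus e
  psu _ _ _ _ _ _ hF _ hn e := rk3_psu hF hn e
  f4 F _ _ _ _ _ e h := rk3_F4 F (CL.Even.CT.pRankLE_of e h)
  e6 F _ _ _ _ _ q e h := rk3_2E6 F q (CL.Even.CT.pRankLE_of e h)

end CL.Q49.RedC0

namespace CL.Q49

open Cfsg Subgroup

universe u

theorem redC : RedC.{u} := by
  intro K _ _ hq hZ ne ev rk
  have : Fact (Nat.Prime 3) := ⟨Nat.prime_three⟩
  have rk' : PRankLE 3 2 (K ⧸ center K) := CL.QT.pRankLE_of_surj rk (QuotientGroup.mk'_surjective _) (by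
    rintro x hx ⟨n, hn⟩
    rw [QuotientGroup.ker_mk'] at hx
    obtain ⟨k, hk⟩ := hZ ⟨x, hx⟩
    have hk' : x ^ 2 ^ k = 1 := congrArg Subtype.val hk
    have := pow_gcd_eq_one.2 ⟨hk', hn⟩
    rwa [Nat.Coprime.pow k n (by norm_num), pow_one] at this)
  rcases RedC0.redC RedC0.rk3 hq hZ ev rk' ne with h | h | h | h | h | h | h | h
  · exact .inr (.inl h)
  · exact .inr (.inr (.inl h))
  · exact .inr (.inr (.inr (.inr h)))
  · exact .inl (.inl h)
  · exact .inr (.inr (.inr (.inl h)))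
  · exact .inl (.inr (.inl h))
  · exact .inl (.inr (.inr (.inl h)))
  · exact .inl (.inr (.inr (.inr h)))

end CL.Q49
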