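/-
Involutions of Aut(HS) and their centralisers.
Generated by tools/pg.
-/
import Cfsg.Agent.Q49.TbA
import Cfsg.Agent.Spor.StdSym
import Cfsg.Agent.Spor.StdCore
import Cfsg.Agent.Spor.StdHS
import Cfsg.Agent.Q49.MHSA
import Cfsg.Agent.Spor.PGCtx

set_option autoImplicit false
set_option maxRecDepth 200000
set_option Elab.async false
set_option linter.unusedVariables false

namespace CL.Q49M.HS
open CL.PG

def P : Par := ⟨100, 128, 7, 3⟩
theorem hP : P.Ok := by decide
noncomputable def a0 : Net := (.cons 64 (nat_lit 0x1888e068fa7739d1)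
 (.cons 32 (nat_lit 0xbb65bbf600000000379c2780)
 (.cons 16 (nat_lit 0xf9df0000dc1200003bf60000366e)
 (.cons 8 (nat_lit 0xfe007200c0006e00ce00ef0020003e)
 (.cons 4 (nat_lit 0xb070a0900040e07030c09000b090e06)
 (.cons 2 (nat_lit 0x21010021000232132113100132203022)
 (.cons 1 (nat_lit 0x14114115000414050405441044114145)
 (.cons 2 (nat_lit 0x22200200000002000000200000202220)
 (.cons 4 (nat_lit 0xc0c0a08000c08020800020000080c0a)
 (.cons 8 (nat_lit 0xd600d20040005200c000dc006800f8)
 (.cons 16 (nat_lit 0xe8b20000d810000029fa0000b04a)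
 (.cons 32 (nat_lit 0xbb65fbd200000000f6fd3014)
 (.cons 64 (nat_lit 0x1888e061c49f35aa)
 .nil)))))))))))))
noncomputable def a1 : Net := (.cons 64 (nat_lit 0x39d67fd3200b8929)
 (.cons 32 (nat_lit 0xf9b81eaa000000000ddc3bfa)
 (.cons 16 (nat_lit 0x4cb2000002c0000090c80000202f)
 (.cons 8 (nat_lit 0x480062000e000500510054004000a4)
 (.cons 4 (nat_lit 0x50c0b030008070806050d00060c0006)
 (.cons 2 (nat_lit 0x10021010003123223112132010010002)
 (.cons 1 (nat_lit 0x44504151111411141441150140410041)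
 (.cons 2 (nat_lit 0x2222200002200020000020)
 (.cons 4 (nat_lit 0xc0a08000c080802000602060c0004)
 (.cons 8 (nat_lit 0xf00010000800020008005400460084)
 (.cons 16 (nat_lit 0x3ce400002a40000019bc0000e026)
 (.cons 32 (nat_lit 0xc1be1230000000004df5bbdc)
 (.cons 64 (nat_lit 0x39d67fd6279751b8)
 .nil)))))))))))))
noncomputable def a2 : Net := (.cons 64 (nat_lit 0x332de4521a01014)
 (.cons 32 (nat_lit 0xa2406e0000000000a6141290)
 (.cons 16 (nat_lit 0xf31200000675000062c0000079ca)
 (.cons 8 (nat_lit 0x40005a004e00cc008000f6008d0034)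
 (.cons 4 (nat_lit 0x900050801000c0c0e040004070c)
 (.cons 2 (nat_lit 0x203200103003103212130120021210)
 (.cons 1 (nat_lit 0x50405105044000145001051040044514)
 (.cons 2 (nat_lit 0x200200002000000002000020020022)
 (.cons 4 (nat_lit 0x40000000c0c0e0400040e06)
 (.cons 8 (nat_lit 0x40005a004c004c008000f4000000c0)
 (.cons 16 (nat_lit 0xf31000005740000062c0000079ca)
 (.cons 32 (nat_lit 0xa2406a0000000000a6141290)
 (.cons 64 (nat_lit 0x332de4521a01014)
 .nil)))))))))))))
noncomputable def a3 : Net := (.cons 64 (nat_lit 0x7fb03508cdc99468)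
 (.cons 32 (nat_lit 0x4b27f43d000000008007c08e)
 (.cons 16 (nat_lit 0x5c0a0000cae60000401f000081a6)
 (.cons 8 (nat_lit 0x56006800520012004c00ac00410040)
 (.cons 4 (nat_lit 0x10505090b04080e08020c02030a020c)
 (.cons 2 (nat_lit 0x33030321203210010200212331112)
 (.cons 1 (nat_lit 0x1114011144041154410404154411514)
 (.cons 2 (nat_lit 0x20000220022000000002200202022)
 (.cons 4 (nat_lit 0x20c040c0e0400040002040200040404)
 (.cons 8 (nat_lit 0x400078005c00f2004c00a600200068)
 (.cons 16 (nat_lit 0x590a0000c426000040580000aed8)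
 (.cons 32 (nat_lit 0x6437e438000000000006cab8)
 (.cons 64 (nat_lit 0x7fb03508a82d4622)
 .nil)))))))))))))
noncomputable def a4 : Net := (.cons 64 (nat_lit 0xd66bf00000000000)
 (.cons 32 (nat_lit 0xdb81fca80000000093904124)
 (.cons 16 (nat_lit 0x86ad0000903f0000b34000005344)
 (.cons 8 (nat_lit 0xd10002002e00d60044003c00be003c)
 (.cons 4 (nat_lit 0xc000e080003070908000d0908090900)
 (.cons 2 (nat_lit 0x130200120221020100200200103020)
 (.cons 1 (nat_lit 0x40404000000441414000111410404440)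
 (.cons 2 (nat_lit 0x220200000020200200000)
 (.cons 4 (nat_lit 0x808000c0000000c000a00000e0008)
 (.cons 8 (nat_lit 0x980008007c00c40044002c008200b0)
 (.cons 16 (nat_lit 0x9204000000200000b050000052cc)
 (.cons 32 (nat_lit 0xdf83fca000000000ba80405c)
 (.cons 64 (nat_lit 0xd66bf00000000000)
 .nil)))))))))))))
noncomputable def a5 : Net := (.cons 64 (nat_lit 0xfffff00000000000)
 (.cons 32 (nat_lit 0xd143628000000000dd800000)
 (.cons 16 (nat_lit 0x360e0000e0110000c4a40000fb28)
 (.cons 8 (nat_lit 0x3400a000cf005e00080059000e0000)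
 (.cons 4 (nat_lit 0x6040a0e010e0d010c0a0c0707000c)
 (.cons 2 (nat_lit 0x32033003220120100120100323020020)
 (.cons 1 (nat_lit 0x50011001444514100040540051040040)
 (.cons 2 (nat_lit 0x22000000002200000000000000000)
 (.cons 4 (nat_lit 0x40400080008000c000c02040004000c)
 (.cons 8 (nat_lit 0x8400240092006e000800d2004c0000)
 (.cons 16 (nat_lit 0x24880000147c0000c4a40000fb38)
 (.cons 32 (nat_lit 0x1c9228000000000dd800000)
 (.cons 64 (nat_lit 0xfffff00000000000)
 .nil)))))))))))))
noncomputable def a6 : Net := (.cons 64 (nat_lit 0xf000000000000000)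
 (.cons 32 (nat_lit 0x2253300100000000f0000000)
 (.cons 16 (nat_lit 0xf05100003dc60000f0000000a6d0)
 (.cons 8 (nat_lit 0x50004400840024003500d300e8)
 (.cons 4 (nat_lit 0x2000004040e0b030f0f0000090a0100)
 (.cons 2 (nat_lit 0x2001010023213020103030211010)
 (.cons 1 (nat_lit 0x15004044414114441114144010500)
 (.cons 2 (nat_lit 0x220022202202000000)
 (.cons 4 (nat_lit 0x408000602080800040e000a00)
 (.cons 8 (nat_lit 0x200000088000c001000b0007400a0)
 (.cons 16 (nat_lit 0xe0520000b4660000f0000000a990)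
 (.cons 32 (nat_lit 0x7253300e00000000f0000000)
 (.cons 64 (nat_lit 0xf000000000000000)
 .nil)))))))))))))
noncomputable def a7 : Net := (.cons 64 (nat_lit 0x1000000000000000)
 (.cons 32 (nat_lit 0x181840000000000000000000)
 (.cons 16 (nat_lit 0x181800009060000000000000d7a0)
 (.cons 8 (nat_lit 0x580087007100c9001900860050)
 (.cons 4 (nat_lit 0x805030e020c000a020705050000)
 (.cons 2 (nat_lit 0x2012102021322131132123203200)
 (.cons 1 (nat_lit 0x1005014440010114044405151110)
 (.cons 2 (nat_lit 0x2000002000000200020200202000)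
 (.cons 4 (nat_lit 0x800040804040404040a06020000)
 (.cons 8 (nat_lit 0x58004000400064002200240060)
 (.cons 16 (nat_lit 0x1810000015820000000000007eb0)
 (.cons 32 (nat_lit 0x181840000000000000000000)
 (.cons 64 (nat_lit 0x1000000000000000)
 .nil)))))))))))))
noncomputable def a8 : Net := (.cons 64 (nat_lit 0xf000000000000000)
 (.cons 32 (nat_lit 0xa800880500000000f0000000)
 (.cons 16 (nat_lit 0x200c0000c52a0000f00000007eb8)
 (.cons 8 (nat_lit 0x4800a800d1002d005300e1001c00c0)
 (.cons 4 (nat_lit 0x80400000c01060b0e0e0a090d050008)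
 (.cons 2 (nat_lit 0x20000022011013010213300132220320)
 (.cons 1 (nat_lit 0x10040001110451041405154004410010)
 (.cons 2 (nat_lit 0x20000000020200022000002002000000)
 (.cons 4 (nat_lit 0x20806040c08000c060e020400)
 (.cons 8 (nat_lit 0x4000a80090009a00220028007200c0)
 (.cons 16 (nat_lit 0xa00c0000c4c80000f00000007bf8)
 (.cons 32 (nat_lit 0x2800880a00000000f0000000)
 (.cons 64 (nat_lit 0xf000000000000000)
 .nil)))))))))))))
noncomputable def a9 : Net := (.cons 64 (nat_lit 0xf000000000000000)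
 (.cons 32 (nat_lit 0xdba17cb800000000f0000000)
 (.cons 16 (nat_lit 0xac0e0000e45a0000f00000004868)
 (.cons 8 (nat_lit 0x2c0078009000bf008d007c00480054)
 (.cons 4 (nat_lit 0xd020001000c0a0606050e060a060308)
 (.cons 2 (nat_lit 0x21232030002201212111321201131000)
 (.cons 1 (nat_lit 0x41010001050411441011140010114)
 (.cons 2 (nat_lit 0x20020002000002202002220020200)
 (.cons 4 (nat_lit 0xc0a000800000a00080606080a000000)
 (.cons 8 (nat_lit 0x2a00c8009000b800a00002000000e4)
 (.cons 16 (nat_lit 0xfc0e0000e45a0000f00000004278)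
 (.cons 32 (nat_lit 0xdba17cb800000000f0000000)
 (.cons 64 (nat_lit 0xf000000000000000)
 .nil)))))))))))))
noncomputable def a10 : Net := (.cons 64 (nat_lit 0xb000000000000000)
 (.cons 32 (nat_lit 0xbd81c0000000000000000000)
 (.cons 16 (nat_lit 0x41840000b60000000000000008d0)
 (.cons 8 (nat_lit 0x90002008a008600c400040042)
 (.cons 4 (nat_lit 0xc00080802000a09080e0c0b00090902)
 (.cons 2 (nat_lit 0x30010002121002020120002130202000)
 (.cons 1 (nat_lit 0x54000000040010110011115504404410)
 (.cons 2 (nat_lit 0x20000200020000000202000)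
 (.cons 4 (nat_lit 0xc00000802000a02000a000400000802)
 (.cons 8 (nat_lit 0x80000008a008400c400040042)
 (.cons 16 (nat_lit 0x41840000b60000000000000008d0)
 (.cons 32 (nat_lit 0xbd81c0000000000000000000)
 (.cons 64 (nat_lit 0xb000000000000000)
 .nil)))))))))))))
noncomputable def a11 : Net := (.cons 64 (nat_lit 0xf000000000000000)
 (.cons 32 (nat_lit 0xfb3754000000000000000000)
 (.cons 16 (nat_lit 0x48310000fb00000000000000ff30)
 (.cons 8 (nat_lit 0x60000c00680060007000f700c90000)
 (.cons 4 (nat_lit 0x3060c020608000a03080f00040f0000)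
 (.cons 2 (nat_lit 0x212003012030131101101100230300)
 (.cons 1 (nat_lit 0x10401010440040141105101410154140)
 (.cons 2 (nat_lit 0x202000200020020200200200202220)
 (.cons 4 (nat_lit 0x20408000a0000020000000002040000)
 (.cons 8 (nat_lit 0x600010006800e0007e00f800cc0000)
 (.cons 16 (nat_lit 0x8300000fb00000000000000ff20)
 (.cons 32 (nat_lit 0xfb3754000000000000000000)
 (.cons 64 (nat_lit 0xf000000000000000)
 .nil)))))))))))))
noncomputable def a12 : Net := (.cons 64 (nat_lit 0xd000000000000000)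
 (.cons 32 (nat_lit 0xd4000c000000000000000000)
 (.cons 16 (nat_lit 0x94000000710a000000000000ff40)
 (.cons 8 (nat_lit 0x980009001a0084005c00200000)
 (.cons 4 (nat_lit 0x4000009050a040508000a020e040000)
 (.cons 2 (nat_lit 0x23013323000102233032123020)
 (.cons 1 (nat_lit 0x415140501000011400401010510)
 (.cons 2 (nat_lit 0x20220002000002200002020020)
 (.cons 4 (nat_lit 0x602040000000a020e040000)
 (.cons 8 (nat_lit 0x98008200180084005c00000000)
 (.cons 16 (nat_lit 0x940000003002000000000000ff00)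
 (.cons 32 (nat_lit 0xd4000c000000000000000000)
 (.cons 64 (nat_lit 0xd000000000000000)
 .nil)))))))))))))
noncomputable def a13 : Net := (.cons 64 (nat_lit 0xf000000000000000)
 (.cons 32 (nat_lit 0xfd81d0000000000000000000)
 (.cons 16 (nat_lit 0x35010000fd000000000000009c68)
 (.cons 8 (nat_lit 0x8000440006007a00c4008400140010)
 (.cons 4 (nat_lit 0x800000c080808050c0e080908040004)
 (.cons 2 (nat_lit 0x2102212202200330002220012000)
 (.cons 1 (nat_lit 0x40000044000450004551000441001514)
 (.cons 2 (nat_lit 0x2000200000000000220000020)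
 (.cons 4 (nat_lit 0x800000c080808000c0e000800040004)
 (.cons 8 (nat_lit 0x440006007a00c40084000000a0)
 (.cons 16 (nat_lit 0x25000000fd000000000000009c68)
 (.cons 32 (nat_lit 0xfd81d0000000000000000000)
 (.cons 64 (nat_lit 0xf000000000000000)
 .nil)))))))))))))
noncomputable def a14 : Net := (.cons 64 (nat_lit 0x6000000000000000)
 (.cons 32 (nat_lit 0x740084000000000000000000)
 (.cons 16 (nat_lit 0xd0080000d0b000000000000059c0)
 (.cons 8 (nat_lit 0x8001400b000700042004400e00050)
 (.cons 4 (nat_lit 0x40104050a00040406090b010700)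
 (.cons 2 (nat_lit 0x20000002230200202202212031200210)
 (.cons 1 (nat_lit 0x4000004150410051151400041041100)
 (.cons 2 (nat_lit 0x2200200002202200020002000)
 (.cons 4 (nat_lit 0x40402000004060804000800)
 (.cons 8 (nat_lit 0x80014009000300040004400e00050)
 (.cons 16 (nat_lit 0xd0080000d0b000000000000059c0)
 (.cons 32 (nat_lit 0x740084000000000000000000)
 (.cons 64 (nat_lit 0x6000000000000000)
 .nil)))))))))))))
noncomputable def a15 : Net := (.cons 64 (nat_lit 0x6000000000000000)
 (.cons 32 (nat_lit 0x740088000000000000000000)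
 (.cons 16 (nat_lit 0x50000000f044000000000000fdf0)
 (.cons 8 (nat_lit 0x5800ec00f4004400c400f100f0)
 (.cons 4 (nat_lit 0x40008050f06020c0400010e0c0c0900)
 (.cons 2 (nat_lit 0x20000013220331000203132000201330)
 (.cons 1 (nat_lit 0x40000000001550440415141544401450)
 (.cons 2 (nat_lit 0x20000000000000000200022002202200)
 (.cons 4 (nat_lit 0x4000000000602000400060e00040e00)
 (.cons 8 (nat_lit 0x5800ec00d4004400c400e000f0)
 (.cons 16 (nat_lit 0x50000000f044000000000000f7b0)
 (.cons 32 (nat_lit 0x740088000000000000000000)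
 (.cons 64 (nat_lit 0x6000000000000000)
 .nil)))))))))))))
noncomputable def a16 : Net := (.cons 64 (nat_lit 0xd000000000000000)
 (.cons 32 (nat_lit 0xd0008c000000000000000000)
 (.cons 16 (nat_lit 0xd0080000d980000000000000f9c0)
 (.cons 8 (nat_lit 0x800080006c00d100c60057003c0000)
 (.cons 4 (nat_lit 0x804080304080e0c000505020e0000)
 (.cons 2 (nat_lit 0x1000002122020303311323203210)
 (.cons 1 (nat_lit 0x405154001514515541510155400)
 (.cons 2 (nat_lit 0x2002020000022020200200)
 (.cons 4 (nat_lit 0x4080004080e0c000a0a020e0000)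
 (.cons 8 (nat_lit 0x800080006c001000c600a8003c0000)
 (.cons 16 (nat_lit 0xd0080000d980000000000000f9c0)
 (.cons 32 (nat_lit 0xd0008c000000000000000000)
 (.cons 64 (nat_lit 0xd000000000000000)
 .nil)))))))))))))
noncomputable def a17 : Net := (.cons 64 (nat_lit 0x6000000000000000)
 (.cons 32 (nat_lit 0x638040000000000000000000)
 (.cons 16 (nat_lit 0x180000067000000000000003098)
 (.cons 8 (nat_lit 0x4200f200c000c400cf00100030)
 (.cons 4 (nat_lit 0x400000c020c0a000409010100050608)
 (.cons 2 (nat_lit 0x2000002100222000322033200313200)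
 (.cons 1 (nat_lit 0x4000101055110144504400450000150)
 (.cons 2 (nat_lit 0x2000002000220000002200000000200)
 (.cons 4 (nat_lit 0x4000008020c0a000408060c00000608)
 (.cons 8 (nat_lit 0x4200f0008000c4003000100030)
 (.cons 16 (nat_lit 0x180000067000000000000003098)
 (.cons 32 (nat_lit 0x638040000000000000000000)
 (.cons 64 (nat_lit 0x6000000000000000)
 .nil)))))))))))))
noncomputable def a18 : Net := (.cons 64 (nat_lit 0x3e01c2feb7216ffe)
 (.cons 32 (nat_lit 0x14f0e4960000000049577364)
 (.cons 16 (nat_lit 0xd0130000d24a00009da500003990)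
 (.cons 8 (nat_lit 0x4400b40049000b006100cd00f60016)
 (.cons 4 (nat_lit 0xa0a060d0406090209010c0600020104)
 (.cons 2 (nat_lit 0x20233021302132013112010120120210)
 (.cons 1 (nat_lit 0x404040144011104004410515440440)
 (.cons 2 (nat_lit 0x200000002022200000220000200200)
 (.cons 4 (nat_lit 0xc0608000600000c04040e040a000c)
 (.cons 8 (nat_lit 0x460090004e0018006400ec00240002)
 (.cons 16 (nat_lit 0xf4c20000c1400000d4c600002d98)
 (.cons 32 (nat_lit 0x30f0a6980000000008ff5264)
 (.cons 64 (nat_lit 0x3e01c2f872fe0f9e)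
 .nil)))))))))))))
noncomputable def a19 : Net := (.cons 64 (nat_lit 0x4cff6fdb75000d5c)
 (.cons 32 (nat_lit 0xfb82e61900000000b6f6e8e2)
 (.cons 16 (nat_lit 0xe6fb000011ac0000e50600008818)
 (.cons 8 (nat_lit 0xa200c500c1005600b2004f00810026)
 (.cons 4 (nat_lit 0xc0b060604010e080008070400000000)
 (.cons 2 (nat_lit 0x11122033130210001010202030200002)
 (.cons 1 (nat_lit 0x40004454011410411004414040101404)
 (.cons 2 (nat_lit 0x2020220002002002020200002)
 (.cons 4 (nat_lit 0xc000208040c0a020a0a0402080200)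
 (.cons 8 (nat_lit 0xf0002c009c005800a000e200900024)
 (.cons 16 (nat_lit 0x2df00000157e0000758000000910)
 (.cons 32 (nat_lit 0xffbbcbd40000000087f6f8c4)
 (.cons 64 (nat_lit 0x4cff6fda4dc92032)
 .nil)))))))))))))
noncomputable def a20 : Net := (.cons 64 (nat_lit 0xfffff00000000000)
 (.cons 32 (nat_lit 0xb6d1560800000000ff800000)
 (.cons 16 (nat_lit 0x7ae00001b29000047d400009330)
 (.cons 8 (nat_lit 0xbc008a00df00a200b000c500b90068)
 (.cons 4 (nat_lit 0x60f0b000505070000060a06000f0c08)
 (.cons 2 (nat_lit 0x30100021230200200212220202100010)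
 (.cons 1 (nat_lit 0x40444101144114140044010410144014)
 (.cons 2 (nat_lit 0x20022000222202220002020200002000)
 (.cons 4 (nat_lit 0x20208000c04060600020200000e080c)
 (.cons 8 (nat_lit 0xee002800260010002000ce00ba0020)
 (.cons 16 (nat_lit 0x75aa000072840000485400009360)
 (.cons 32 (nat_lit 0x78d7060400000000ff800000)
 (.cons 64 (nat_lit 0xfffff00000000000)
 .nil)))))))))))))
noncomputable def a21 : Net := (.cons 64 (nat_lit 0xf000000000000000)
 (.cons 32 (nat_lit 0x53d29a2600000000b0000000)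
 (.cons 16 (nat_lit 0x6e000098640000f0000000de58)
 (.cons 8 (nat_lit 0xc0008a006000ac008700ad00c7001e)
 (.cons 4 (nat_lit 0xc0206040e05020e0e0b0b0e06090c)
 (.cons 2 (nat_lit 0x20200023000102010103212112322002)
 (.cons 1 (nat_lit 0x11041001004141145104015411411040)
 (.cons 2 (nat_lit 0x20000002000022000000020022200000)
 (.cons 4 (nat_lit 0x208020e000a080a080608060a0c0804)
 (.cons 8 (nat_lit 0x70008a002000a40060001a009a003e)
 (.cons 16 (nat_lit 0x6c0000fc6c0000f0000000dc98)
 (.cons 32 (nat_lit 0x3d29a2000000000b0000000)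
 (.cons 64 (nat_lit 0xf000000000000000)
 .nil)))))))))))))
noncomputable def a22 : Net := (.cons 64 (nat_lit 0xf000000000000000)
 (.cons 32 (nat_lit 0xd4b0ff1f00000000f0000000)
 (.cons 16 (nat_lit 0x922200004bef0000f0390000dadc)
 (.cons 8 (nat_lit 0x74008d00c400040092000700fa0018)
 (.cons 4 (nat_lit 0x80c0504040204040e050c08020b010c)
 (.cons 2 (nat_lit 0x2302232302201011023212121100200)
 (.cons 1 (nat_lit 0x444141400001055540544014500040)
 (.cons 2 (nat_lit 0x202202000002000020000022000020)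
 (.cons 4 (nat_lit 0x80e00040000000400020e000c02000c)
 (.cons 8 (nat_lit 0x6400b000c4000c0072007400380034)
 (.cons 16 (nat_lit 0x422200004ba8000000000000dca4)
 (.cons 32 (nat_lit 0x44b0ff1c00000000f0000000)
 (.cons 64 (nat_lit 0xf000000000000000)
 .nil)))))))))))))
noncomputable def a23 : Net := (.cons 64 (nat_lit 0xf000000000000000)
 (.cons 32 (nat_lit 0xd38b580800000000f0000000)
 (.cons 16 (nat_lit 0x638c00003a640000f10000001856)
 (.cons 8 (nat_lit 0xc0008a008400fb00ce006500580070)
 (.cons 4 (nat_lit 0x30000080502010d080d08090506)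
 (.cons 2 (nat_lit 0x33200023003201331303301202302)
 (.cons 1 (nat_lit 0x401001044450150115440140105404)
 (.cons 2 (nat_lit 0x2002022000200000200200200200)
 (.cons 4 (nat_lit 0x4020000080c0a020c0a0a08080000)
 (.cons 8 (nat_lit 0xc0008800c400560018004a00480010)
 (.cons 16 (nat_lit 0x638400003a000000b00000001856)
 (.cons 32 (nat_lit 0xd38b580800000000f0000000)
 (.cons 64 (nat_lit 0xf000000000000000)
 .nil)))))))))))))
noncomputable def a24 : Net := (.cons 64 (nat_lit 0xf000000000000000)
 (.cons 32 (nat_lit 0xd0f17c8400000000f0000000)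
 (.cons 16 (nat_lit 0xc8a2000082520000f03900003fe6)
 (.cons 8 (nat_lit 0xd8004c00360085009100e600c900a2)
 (.cons 4 (nat_lit 0xb02040e02000a0d06010801030204)
 (.cons 2 (nat_lit 0x20102221321201002110010012022302)
 (.cons 1 (nat_lit 0x50101400411001004140414101014404)
 (.cons 2 (nat_lit 0x202000220000000020220000002000)
 (.cons 4 (nat_lit 0xa020002000000040a00020e020008)
 (.cons 8 (nat_lit 0xd800ec0020008400a8007800c000a4)
 (.cons 16 (nat_lit 0x88a2000003520000000000003fde)
 (.cons 32 (nat_lit 0x50f17c8000000000f0000000)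
 (.cons 64 (nat_lit 0xf000000000000000)
 .nil)))))))))))))
noncomputable def a25 : Net := (.cons 64 (nat_lit 0x1000000000000000)
 (.cons 32 (nat_lit 0x181840000000000000000000)
 (.cons 16 (nat_lit 0x1808000015820000000000007eb0)
 (.cons 8 (nat_lit 0x5800b70082009b00dd00610090)
 (.cons 4 (nat_lit 0x8000f06030007040405040d080000)
 (.cons 2 (nat_lit 0x200011020121133321101122120010)
 (.cons 1 (nat_lit 0x100050441001404104140150511140)
 (.cons 2 (nat_lit 0x200000020000000202220000020200)
 (.cons 4 (nat_lit 0x8000a000400000a0008020a020000)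
 (.cons 8 (nat_lit 0x5800700010003600e6008800a0)
 (.cons 16 (nat_lit 0x180000009060000000000000d7a0)
 (.cons 32 (nat_lit 0x181840000000000000000000)
 (.cons 64 (nat_lit 0x1000000000000000)
 .nil)))))))))))))
noncomputable def a26 : Net := (.cons 64 (nat_lit 0xf000000000000000)
 (.cons 32 (nat_lit 0xffadfd000000000000000000)
 (.cons 16 (nat_lit 0xd20c0000f200000000000000226c)
 (.cons 8 (nat_lit 0x9000de0010003000a7006a00c20062)
 (.cons 4 (nat_lit 0x80d0209020400090201070802030504)
 (.cons 2 (nat_lit 0x1000002000210130211312213203112)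
 (.cons 1 (nat_lit 0x4400144100440100504141101404010)
 (.cons 2 (nat_lit 0x200202000200000002002200000000)
 (.cons 4 (nat_lit 0x4040204020400020804080000000c04)
 (.cons 8 (nat_lit 0xb000d8001000c000a2006a00b000da)
 (.cons 16 (nat_lit 0xaf000000f200000000000000182c)
 (.cons 32 (nat_lit 0xffadfd000000000000000000)
 (.cons 64 (nat_lit 0xf000000000000000)
 .nil)))))))))))))
noncomputable def a27 : Net := (.cons 64 (nat_lit 0x6000000000000000)
 (.cons 32 (nat_lit 0x6680b0000000000000000000)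
 (.cons 16 (nat_lit 0x200000067000000000000000f10)
 (.cons 8 (nat_lit 0x8000a200be00a4000000f2005c0040)
 (.cons 4 (nat_lit 0xc00020c020a0408000a040005020000)
 (.cons 2 (nat_lit 0x20000020331122000220023233130320)
 (.cons 1 (nat_lit 0x44001041451001500115505100055010)
 (.cons 2 (nat_lit 0x20000020200002000220000200000020)
 (.cons 4 (nat_lit 0xc00020402020008000a040000020000)
 (.cons 8 (nat_lit 0x8000a200ec00a4000000f2005c0040)
 (.cons 16 (nat_lit 0x200000067000000000000000f10)
 (.cons 32 (nat_lit 0x6680b0000000000000000000)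
 (.cons 64 (nat_lit 0x6000000000000000)
 .nil)))))))))))))
noncomputable def a28 : Net := (.cons 64 (nat_lit 0xf000000000000000)
 (.cons 32 (nat_lit 0xef00c4010000000000000000)
 (.cons 16 (nat_lit 0x920c0000c86400000000000058a0)
 (.cons 8 (nat_lit 0x4c00d2004a00dd000100e200250050)
 (.cons 4 (nat_lit 0xc000d08040109000f080104030d00)
 (.cons 2 (nat_lit 0x21000203303201200030022221331010)
 (.cons 1 (nat_lit 0x4400405401151410115410411414110)
 (.cons 2 (nat_lit 0x200000200220200020220002000)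
 (.cons 4 (nat_lit 0x8000c0a0c08080006000008080400)
 (.cons 8 (nat_lit 0x4000d00072008c000e00e400ea0060)
 (.cons 16 (nat_lit 0x920c0000c85800000000000064e0)
 (.cons 32 (nat_lit 0x6f00c4000000000000000000)
 (.cons 64 (nat_lit 0xf000000000000000)
 .nil)))))))))))))
noncomputable def a29 : Net := (.cons 64 (nat_lit 0xe000000000000000)
 (.cons 32 (nat_lit 0xe781d8000000000000000000)
 (.cons 16 (nat_lit 0xc3890000e700000000000000af2e)
 (.cons 8 (nat_lit 0xc000cf0066009c00400051008f00c0)
 (.cons 4 (nat_lit 0x40c0700050402080404050a00050004)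
 (.cons 2 (nat_lit 0x20011000233212220112123010320132)
 (.cons 1 (nat_lit 0x40001041444004410151515510154014)
 (.cons 2 (nat_lit 0x20002002202000220200000000202002)
 (.cons 4 (nat_lit 0x404060002040a08040e0a040000000c)
 (.cons 8 (nat_lit 0xc0004c005400dc004400a8008e0070)
 (.cons 16 (nat_lit 0x83880000e7000000000000009f2e)
 (.cons 32 (nat_lit 0xe781d8000000000000000000)
 (.cons 64 (nat_lit 0xe000000000000000)
 .nil)))))))))))))
noncomputable def a30 : Net := (.cons 64 (nat_lit 0x6000000000000000)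
 (.cons 32 (nat_lit 0x740084000000000000000000)
 (.cons 16 (nat_lit 0xd0080000d0b000000000000059c0)
 (.cons 8 (nat_lit 0x8001400b000700042004400e00050)
 (.cons 4 (nat_lit 0x40104050a00040406090b010700)
 (.cons 2 (nat_lit 0x20000002230200202202212031200210)
 (.cons 1 (nat_lit 0x4000004150410051151400041041100)
 (.cons 2 (nat_lit 0x2200200002202200020002000)
 (.cons 4 (nat_lit 0x40402000004060804000800)
 (.cons 8 (nat_lit 0x80014009000300040004400e00050)
 (.cons 16 (nat_lit 0xd0080000d0b000000000000059c0)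
 (.cons 32 (nat_lit 0x740084000000000000000000)
 (.cons 64 (nat_lit 0x6000000000000000)
 .nil)))))))))))))
noncomputable def a31 : Net := (.cons 64 (nat_lit 0x6000000000000000)
 (.cons 32 (nat_lit 0x740088000000000000000000)
 (.cons 16 (nat_lit 0x50000000f044000000000000fdf0)
 (.cons 8 (nat_lit 0x5800ec00f4004400c400f100f0)
 (.cons 4 (nat_lit 0x40008050f06020c0400010e0c0c0900)
 (.cons 2 (nat_lit 0x20000013220331000203132000201330)
 (.cons 1 (nat_lit 0x40000000001550440415141544401450)
 (.cons 2 (nat_lit 0x20000000000000000200022002202200)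
 (.cons 4 (nat_lit 0x4000000000602000400060e00040e00)
 (.cons 8 (nat_lit 0x5800ec00d4004400c400e000f0)
 (.cons 16 (nat_lit 0x50000000f044000000000000f7b0)
 (.cons 32 (nat_lit 0x740088000000000000000000)
 (.cons 64 (nat_lit 0x6000000000000000)
 .nil)))))))))))))
noncomputable def a32 : Net := (.cons 64 (nat_lit 0xf000000000000000)
 (.cons 32 (nat_lit 0xfb0130000000000000000000)
 (.cons 16 (nat_lit 0x8a000000ff000000000000003f10)
 (.cons 8 (nat_lit 0x10001a00c600aa00c600c600390080)
 (.cons 4 (nat_lit 0x40100010a060a0c0a090e00030d0000)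
 (.cons 2 (nat_lit 0x1002000210202022122210200200310)
 (.cons 1 (nat_lit 0x4401050114004400444001000)
 (.cons 2 (nat_lit 0x200000022002200200000000)
 (.cons 4 (nat_lit 0x400000002020a080208060000080000)
 (.cons 8 (nat_lit 0x10001800c600aa00c600c000280000)
 (.cons 16 (nat_lit 0x8a000000ff000000000000003f10)
 (.cons 32 (nat_lit 0xfb0130000000000000000000)
 (.cons 64 (nat_lit 0xf000000000000000)
 .nil)))))))))))))
noncomputable def a33 : Net := (.cons 64 (nat_lit 0xb000000000000000)
 (.cons 32 (nat_lit 0xbd81c0000000000000000000)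
 (.cons 16 (nat_lit 0x41840000b60000000000000008d0)
 (.cons 8 (nat_lit 0x90002008a008600c400040042)
 (.cons 4 (nat_lit 0xc00080802000a09080e0c0b00090902)
 (.cons 2 (nat_lit 0x30010002121002020120002130202000)
 (.cons 1 (nat_lit 0x54000000040010110011115504404410)
 (.cons 2 (nat_lit 0x20000200020000000202000)
 (.cons 4 (nat_lit 0xc00000802000a02000a000400000802)
 (.cons 8 (nat_lit 0x80000008a008400c400040042)
 (.cons 16 (nat_lit 0x41840000b60000000000000008d0)
 (.cons 32 (nat_lit 0xbd81c0000000000000000000)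
 (.cons 64 (nat_lit 0xb000000000000000)
 .nil)))))))))))))
noncomputable def a34 : Net := (.cons 64 (nat_lit 0xd000000000000000)
 (.cons 32 (nat_lit 0xd0008c000000000000000000)
 (.cons 16 (nat_lit 0xd0080000d980000000000000f9c0)
 (.cons 8 (nat_lit 0x800080006c00d100c60057003c0000)
 (.cons 4 (nat_lit 0x804080304080e0c000505020e0000)
 (.cons 2 (nat_lit 0x1000002122020303311323203210)
 (.cons 1 (nat_lit 0x405154001514515541510155400)
 (.cons 2 (nat_lit 0x2002020000022020200200)
 (.cons 4 (nat_lit 0x4080004080e0c000a0a020e0000)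
 (.cons 8 (nat_lit 0x800080006c001000c600a8003c0000)
 (.cons 16 (nat_lit 0xd0080000d980000000000000f9c0)
 (.cons 32 (nat_lit 0xd0008c000000000000000000)
 (.cons 64 (nat_lit 0xd000000000000000)
 .nil)))))))))))))
noncomputable def a35 : Net := (.cons 64 (nat_lit 0x6000000000000000)
 (.cons 32 (nat_lit 0x638040000000000000000000)
 (.cons 16 (nat_lit 0x180000067000000000000003098)
 (.cons 8 (nat_lit 0x4200f200c000c400cf00100030)
 (.cons 4 (nat_lit 0x400000c020c0a000409010100050608)
 (.cons 2 (nat_lit 0x2000002100222000322033200313200)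
 (.cons 1 (nat_lit 0x4000101055110144504400450000150)
 (.cons 2 (nat_lit 0x2000002000220000002200000000200)
 (.cons 4 (nat_lit 0x4000008020c0a000408060c00000608)
 (.cons 8 (nat_lit 0x4200f0008000c4003000100030)
 (.cons 16 (nat_lit 0x180000067000000000000003098)
 (.cons 32 (nat_lit 0x638040000000000000000000)
 (.cons 64 (nat_lit 0x6000000000000000)
 .nil)))))))))))))
noncomputable def a36 : Net := (.cons 64 (nat_lit 0xb3e87d13fc3491b3)
 (.cons 32 (nat_lit 0xd92ca68600000000ddf6062d)
 (.cons 16 (nat_lit 0x306c0000179a000011e20000198d)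
 (.cons 8 (nat_lit 0xac00760048002000ec0088001900d6)
 (.cons 4 (nat_lit 0xb08020805020406040805080e0c0206)
 (.cons 2 (nat_lit 0x20202312010003312030022231120201)
 (.cons 1 (nat_lit 0x14000411440104444011414501011404)
 (.cons 2 (nat_lit 0x2200002022022022000020002)
 (.cons 4 (nat_lit 0xe0008060802060800080c0a0a04040e)
 (.cons 8 (nat_lit 0x2400000058003800e8000c000600de)
 (.cons 16 (nat_lit 0x7864000003980000158000005182)
 (.cons 32 (nat_lit 0x692cfa940000000095e404e4)
 (.cons 64 (nat_lit 0xb3e87d11ba00d0b2)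
 .nil)))))))))))))
noncomputable def a37 : Net := (.cons 64 (nat_lit 0x314009e2d8808000)
 (.cons 32 (nat_lit 0x2ab4606c00000000bb808000)
 (.cons 16 (nat_lit 0x138000002402000078800000cce8)
 (.cons 8 (nat_lit 0x6400fa00400000004100980004002a)
 (.cons 4 (nat_lit 0x8000c040504030803010c040c00000c)
 (.cons 2 (nat_lit 0x1202303110200300020200202330002)
 (.cons 1 (nat_lit 0x40100515000411011041404040054104)
 (.cons 2 (nat_lit 0x200000000200000020200000000002)
 (.cons 4 (nat_lit 0x8000c0400040008020004040c000004)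
 (.cons 8 (nat_lit 0x4400b800400000005200880004000a)
 (.cons 16 (nat_lit 0x138000002402000078800000cce8)
 (.cons 32 (nat_lit 0x2ab4604000000000bb808000)
 (.cons 64 (nat_lit 0x314009e258808000)
 .nil)))))))))))))
noncomputable def a38 : Net := (.cons 64 (nat_lit 0xd867f04f58faf472)
 (.cons 32 (nat_lit 0x8590e04f00000000e9e63570)
 (.cons 16 (nat_lit 0x5c4300000d25000011e8000032a0)
 (.cons 8 (nat_lit 0x8500cc00d00072007600e800ab00fa)
 (.cons 4 (nat_lit 0x10a0400040b0402020400060e01090c)
 (.cons 2 (nat_lit 0x1301001203302311230021002000002)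
 (.cons 1 (nat_lit 0x410045411414511540410141010414)
 (.cons 2 (nat_lit 0x220000200020002000200000000222)
 (.cons 4 (nat_lit 0x4080000060a04040402060406000806)
 (.cons 8 (nat_lit 0x4008800b00038009200e800aa00ec)
 (.cons 16 (nat_lit 0x9c0000007f0600001be0000031a0)
 (.cons 32 (nat_lit 0x1df6204800000000ca6e38c4)
 (.cons 64 (nat_lit 0xd867f04cb87cf2d4)
 .nil)))))))))))))
noncomputable def a39 : Net := (.cons 64 (nat_lit 0xe000000000000000)
 (.cons 32 (nat_lit 0x64a0000800000000f0000000)
 (.cons 16 (nat_lit 0x84200000694500000fff00008120)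
 (.cons 8 (nat_lit 0x8000a40091008100db001d00820010)
 (.cons 4 (nat_lit 0x408000208000e0b050008040808)
 (.cons 2 (nat_lit 0x20002003000002120233312100310032)
 (.cons 1 (nat_lit 0x4000005004001510041505504054)
 (.cons 2 (nat_lit 0x2000000002002020000000000002)
 (.cons 4 (nat_lit 0x40800020000000a040e08040808)
 (.cons 8 (nat_lit 0x8000a40090008000e2002400820010)
 (.cons 16 (nat_lit 0x8420000008400000f00000008120)
 (.cons 32 (nat_lit 0x64a0000800000000f0000000)
 (.cons 64 (nat_lit 0xe000000000000000)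
 .nil)))))))))))))
noncomputable def a40 : Net := (.cons 64 (nat_lit 0x9ffdf00000000000)
 (.cons 32 (nat_lit 0xd69690c900000000be020000)
 (.cons 16 (nat_lit 0x30860000f7e000001d800000009c)
 (.cons 8 (nat_lit 0xe00000000500a900400078008a008e)
 (.cons 4 (nat_lit 0x80000020c080403060c0a0106040d02)
 (.cons 2 (nat_lit 0x21322021000032010200020002012032)
 (.cons 1 (nat_lit 0x4541040101041414104440104001010)
 (.cons 2 (nat_lit 0x2020002000002002020000002020)
 (.cons 4 (nat_lit 0xa08000202080402060c08000c000800)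
 (.cons 8 (nat_lit 0x2000c00008002e00400070008a008a)
 (.cons 16 (nat_lit 0xa002000077e800001d800000001c)
 (.cons 32 (nat_lit 0x430f10ce00000000fe000080)
 (.cons 64 (nat_lit 0x9ffdf00000000000)
 .nil)))))))))))))
noncomputable def a41 : Net := (.cons 64 (nat_lit 0xa8dfd00000000000)
 (.cons 32 (nat_lit 0xf2992090000000003b800000)
 (.cons 16 (nat_lit 0xe80c00004568000076800000c404)
 (.cons 8 (nat_lit 0xf0002000d40024000000e400c10090)
 (.cons 4 (nat_lit 0x409040b090802040000070700020c08)
 (.cons 2 (nat_lit 0x2222000202021030000200001210020)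
 (.cons 1 (nat_lit 0x4441415040510000400440001441110)
 (.cons 2 (nat_lit 0x2222000000020000000020000020020)
 (.cons 4 (nat_lit 0x40004080808000400000800000c0008)
 (.cons 8 (nat_lit 0xf0002000100024000000e400c60090)
 (.cons 16 (nat_lit 0xe80c00004568000076800000c404)
 (.cons 32 (nat_lit 0xf2992090000000003b800000)
 (.cons 64 (nat_lit 0xa8dfd00000000000)
 .nil)))))))))))))
noncomputable def a42 : Net := (.cons 64 (nat_lit 0xfffff00000000000)
 (.cons 32 (nat_lit 0x18b2b29500000000ee800000)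
 (.cons 16 (nat_lit 0xae3b00009ead00008a1000000c2c)
 (.cons 8 (nat_lit 0x6800a20090008700100048002a0084)
 (.cons 4 (nat_lit 0x40f0e08060f05020800040006040000)
 (.cons 2 (nat_lit 0x23132001113231030200002320013300)
 (.cons 1 (nat_lit 0x15144404014014041400440440001440)
 (.cons 2 (nat_lit 0x20002002000000022200020220002220)
 (.cons 4 (nat_lit 0x408040802000c040c00080004000000)
 (.cons 8 (nat_lit 0x2800a200c400000010004000220084)
 (.cons 16 (nat_lit 0x1c3200007ae200008a9000000c24)
 (.cons 32 (nat_lit 0x8af2329400000000ee800000)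
 (.cons 64 (nat_lit 0xfffff00000000000)
 .nil)))))))))))))
noncomputable def a43 : Net := (.cons 64 (nat_lit 0xa1c645a0b484c18a)
 (.cons 32 (nat_lit 0x2046552900000000aef862e2)
 (.cons 16 (nat_lit 0x742a00000f5500002ccf0000c649)
 (.cons 8 (nat_lit 0xb40020002b002700500010008b000e)
 (.cons 4 (nat_lit 0xa0c00060f05020d0e03000f0004080d)
 (.cons 2 (nat_lit 0x1100000211023210023100101212030)
 (.cons 1 (nat_lit 0x5040041440445011414140104514010)
 (.cons 2 (nat_lit 0x20200200000222000202000020)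
 (.cons 4 (nat_lit 0xe000004060e0208040604060002080c)
 (.cons 8 (nat_lit 0x30002000b80028001a00c800820014)
 (.cons 16 (nat_lit 0x742c0000e768000094ee0000d442)
 (.cons 32 (nat_lit 0x21c4108000000000a2c9f0b4)
 (.cons 64 (nat_lit 0xa1c645a042ea9c48)
 .nil)))))))))))))
noncomputable def a44 : Net := (.cons 64 (nat_lit 0x9c3906a1f9a8950e)
 (.cons 32 (nat_lit 0x3fc5b7da00000000f77f020e)
 (.cons 16 (nat_lit 0x1e3d0000c00600002eb90000b9d8)
 (.cons 8 (nat_lit 0x9300a3001000ce00c40009005c004c)
 (.cons 4 (nat_lit 0xb0f0b04080000000408090e0300000c)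
 (.cons 2 (nat_lit 0x1130123100102020112030101120100)
 (.cons 1 (nat_lit 0x1511150401400440401111504000044)
 (.cons 2 (nat_lit 0x2002000000200220200020002000002)
 (.cons 4 (nat_lit 0xa0400080c0008000200020c0a080400)
 (.cons 8 (nat_lit 0xa600000008004c0094008c00540008)
 (.cons 16 (nat_lit 0xea4000084040000ddb00000f8d8)
 (.cons 32 (nat_lit 0xabc4b7d20000000096f94b10)
 (.cons 64 (nat_lit 0x9c3906ac0e551494)
 .nil)))))))))))))
noncomputable def a45 : Net := (.cons 64 (nat_lit 0xfffff00000000000)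
 (.cons 32 (nat_lit 0x6c7680a400000000fb800000)
 (.cons 16 (nat_lit 0x83dc0000c65c0000fdc00000f1c4)
 (.cons 8 (nat_lit 0x7400410074007b004000290044006c)
 (.cons 4 (nat_lit 0x8070d0809080f050200090e01050200)
 (.cons 2 (nat_lit 0x20020123301032012100203201022000)
 (.cons 1 (nat_lit 0x4441115110401014400504040154404)
 (.cons 2 (nat_lit 0x20200020202002000000020202000)
 (.cons 4 (nat_lit 0xc00040a0a060600020c00060400)
 (.cons 8 (nat_lit 0x74008000b6007c004000ba00640060)
 (.cons 16 (nat_lit 0x13d00000e30e0000fd400000f1c0)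
 (.cons 32 (nat_lit 0x761b40a800000000fb800000)
 (.cons 64 (nat_lit 0xfffff00000000000)
 .nil)))))))))))))
noncomputable def a46 : Net := (.cons 64 (nat_lit 0xe84089306e208060)
 (.cons 32 (nat_lit 0x2e8e6308000000003cbebcf8)
 (.cons 16 (nat_lit 0x4fda000065d1000044b20000b340)
 (.cons 8 (nat_lit 0x6c004c00f500610074009000280080)
 (.cons 4 (nat_lit 0x80a0e0e09080d0800070c050004040c)
 (.cons 2 (nat_lit 0x1102203120001110011102301320202)
 (.cons 1 (nat_lit 0x5100441110414501514501005140404)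
 (.cons 2 (nat_lit 0x200200020000000002002000220202)
 (.cons 4 (nat_lit 0x808080008080c0a000e040a00040004)
 (.cons 8 (nat_lit 0x6e00a400740040005c0018005a0080)
 (.cons 16 (nat_lit 0x4fd2000065800000680c0000f140)
 (.cons 32 (nat_lit 0x868e62300000000038b6fcf8)
 (.cons 64 (nat_lit 0xe84089307ab01040)
 .nil)))))))))))))
noncomputable def a47 : Net := (.cons 64 (nat_lit 0xfffff00000000000)
 (.cons 32 (nat_lit 0x557ed12e00000000fe800000)
 (.cons 16 (nat_lit 0xc668000064cd000074480000970c)
 (.cons 8 (nat_lit 0xec0001002d00e400cc004700820050)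
 (.cons 4 (nat_lit 0xf050804060104060408030207040004)
 (.cons 2 (nat_lit 0x32202101230012000000012230030020)
 (.cons 1 (nat_lit 0x10154400111404110404044440101004)
 (.cons 2 (nat_lit 0x20202200202002020200000220200000)
 (.cons 4 (nat_lit 0x60e0804040a00080400000006000008)
 (.cons 8 (nat_lit 0xdc00660044006400cc005600800058)
 (.cons 16 (nat_lit 0x17680000b600000074c80000970c)
 (.cons 32 (nat_lit 0xcd9e312c00000000fe800000)
 (.cons 64 (nat_lit 0xfffff00000000000)
 .nil)))))))))))))
noncomputable def a48 : Net := (.cons 64 (nat_lit 0xfffff00000000000)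
 (.cons 32 (nat_lit 0x18b2b29500000000ee800000)
 (.cons 16 (nat_lit 0xae3b00009ead00008a1000000c2c)
 (.cons 8 (nat_lit 0x6800a20090008700100048002a0084)
 (.cons 4 (nat_lit 0x40f0e08060f05020800040006040000)
 (.cons 2 (nat_lit 0x23132001113231030200002320013300)
 (.cons 1 (nat_lit 0x15144404014014041400440440001440)
 (.cons 2 (nat_lit 0x20002002000000022200020220002220)
 (.cons 4 (nat_lit 0x408040802000c040c00080004000000)
 (.cons 8 (nat_lit 0x2800a200c400000010004000220084)
 (.cons 16 (nat_lit 0x1c3200007ae200008a9000000c24)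
 (.cons 32 (nat_lit 0x8af2329400000000ee800000)
 (.cons 64 (nat_lit 0xfffff00000000000)
 .nil)))))))))))))
noncomputable def a49 : Net := (.cons 64 (nat_lit 0xf000000000000000)
 (.cons 32 (nat_lit 0x7502004000000000e0000000)
 (.cons 16 (nat_lit 0x8400000030c80000f00000000120)
 (.cons 8 (nat_lit 0x1000c400c00000007c00e800a00008)
 (.cons 4 (nat_lit 0x202040808040608060902000a060000)
 (.cons 2 (nat_lit 0x3002131122320000200211220)
 (.cons 1 (nat_lit 0x1100005000050010504445405400440)
 (.cons 2 (nat_lit 0x20000000200200220)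
 (.cons 4 (nat_lit 0x202000800040608060800000a060000)
 (.cons 8 (nat_lit 0x1000c400c00000007c002800a00000)
 (.cons 16 (nat_lit 0x8400000010c00000f00000000120)
 (.cons 32 (nat_lit 0x7502004000000000e0000000)
 (.cons 64 (nat_lit 0xf000000000000000)
 .nil)))))))))))))
noncomputable def a50 : Net := (.cons 64 (nat_lit 0xa9bd83a5b5edd62)
 (.cons 32 (nat_lit 0x3a596e350000000055b49ee8)
 (.cons 16 (nat_lit 0xf8cb00004c34000026b80000ef03)
 (.cons 8 (nat_lit 0x8200840034001400e00089006c001b)
 (.cons 4 (nat_lit 0x800060f07000502040c040c0c020204)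
 (.cons 2 (nat_lit 0x20200031020030021000301031201102)
 (.cons 1 (nat_lit 0x40114041500110111040404110410045)
 (.cons 2 (nat_lit 0x222000000220202020200020200000)
 (.cons 4 (nat_lit 0x800040802080c020204040a08000004)
 (.cons 8 (nat_lit 0x800098003c00000020002c0028009c)
 (.cons 16 (nat_lit 0xf0c200000c240000023800008f40)
 (.cons 32 (nat_lit 0x3ada362c0000000015d0b9a4)
 (.cons 64 (nat_lit 0xa9bd8323fca72ec)
 .nil)))))))))))))
noncomputable def a51 : Net := (.cons 64 (nat_lit 0x56441295fe68dba9)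
 (.cons 32 (nat_lit 0x5f642ea500000000a1b274e3)
 (.cons 16 (nat_lit 0x4fe400006648000009bb00009b6a)
 (.cons 8 (nat_lit 0x1400c000b600a300a1001900ac)
 (.cons 4 (nat_lit 0xe000901020b060708020401070e030f)
 (.cons 2 (nat_lit 0x20203313103030130002320331210301)
 (.cons 1 (nat_lit 0x50005414100410050101111110050451)
 (.cons 2 (nat_lit 0x200200000000000020220000202)
 (.cons 4 (nat_lit 0xe000a02020e060a00020c0200000400)
 (.cons 8 (nat_lit 0x4000000d000e2008a00b800f20088)
 (.cons 16 (nat_lit 0x41e4000024080000099800003810)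
 (.cons 32 (nat_lit 0x4d202ea800000000a098bcc6)
 (.cons 64 (nat_lit 0x564412983297f002)
 .nil)))))))))))))
noncomputable def a52 : Net := (.cons 64 (nat_lit 0x915d8c816a0a4d08)
 (.cons 32 (nat_lit 0x7bdc140a0000000097820843)
 (.cons 16 (nat_lit 0x34c300007f67000049800000d496)
 (.cons 8 (nat_lit 0x8e001800a40091002200c800940017)
 (.cons 4 (nat_lit 0xf0808050407000701000205000f0704)
 (.cons 2 (nat_lit 0x1022011021020300300220030210021)
 (.cons 1 (nat_lit 0x54010044051410111100101044540000)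
 (.cons 2 (nat_lit 0x20000002220002000000022020000)
 (.cons 4 (nat_lit 0x200080006080008000000000a00000c)
 (.cons 8 (nat_lit 0x18001800ca0004002000e0003c0070)
 (.cons 16 (nat_lit 0x34c200007f0a00007aa00000b650)
 (.cons 32 (nat_lit 0x7b88980000000000ffa2584a)
 (.cons 64 (nat_lit 0x915d8c8e095fdb08)
 .nil)))))))))))))
noncomputable def a53 : Net := (.cons 64 (nat_lit 0x108826d5f988eeaf)
 (.cons 32 (nat_lit 0xd9cda05d00000000ecb2deb2)
 (.cons 16 (nat_lit 0x59c500003a5000008b6200002724)
 (.cons 8 (nat_lit 0xf80070009900be00740032003b)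
 (.cons 4 (nat_lit 0xf03020200070200070401080e05)
 (.cons 2 (nat_lit 0x13320102012101021230210112110)
 (.cons 1 (nat_lit 0x400154140045015001114041400401)
 (.cons 2 (nat_lit 0x200000000000000200022200000)
 (.cons 4 (nat_lit 0xc020006000006040a00000a0c0c04)
 (.cons 8 (nat_lit 0x80003e0060009c001c00f00042003c)
 (.cons 16 (nat_lit 0xd9c4000038780000876000007f20)
 (.cons 32 (nat_lit 0xc9cda2080000000063d70e9c)
 (.cons 64 (nat_lit 0x108826d5f7ade5aa)
 .nil)))))))))))))
noncomputable def a54 : Net := (.cons 64 (nat_lit 0x5000054979f64d2d)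
 (.cons 32 (nat_lit 0x126bd7ff000000003980a629)
 (.cons 16 (nat_lit 0x808b00001dce000002cc00004fd6)
 (.cons 8 (nat_lit 0xe80007002800b000b000e800300017)
 (.cons 4 (nat_lit 0x80c050400020407060406030c04090d)
 (.cons 2 (nat_lit 0x20020332012002103002021201200331)
 (.cons 1 (nat_lit 0x50441044041011150144414404415)
 (.cons 2 (nat_lit 0x220002002002000002022000020)
 (.cons 4 (nat_lit 0xc04000c000c060c040e080404000c)
 (.cons 8 (nat_lit 0xaa0004006000b0003c00b20010008c)
 (.cons 16 (nat_lit 0xc08800001dca000004f200000f46)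
 (.cons 32 (nat_lit 0x126bd7fe0000000036406c20)
 (.cons 64 (nat_lit 0x50000546b7c5bca4)
 .nil)))))))))))))
noncomputable def a55 : Net := (.cons 64 (nat_lit 0xa000000c80704110)
 (.cons 32 (nat_lit 0x810002800000000044c17c00)
 (.cons 16 (nat_lit 0xbd200000048000007210)
 (.cons 8 (nat_lit 0x200410052007000b10054005a)
 (.cons 4 (nat_lit 0x200000800080a010c010e0c030e0008)
 (.cons 2 (nat_lit 0x2000200002000003012122230)
 (.cons 1 (nat_lit 0x1000001401010000040440055011151)
 (.cons 2 (nat_lit 0x2000000000000000000022200)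
 (.cons 4 (nat_lit 0x2000008000802000800000c0c0c0008)
 (.cons 8 (nat_lit 0x400012007000b00054005a)
 (.cons 16 (nat_lit 0x99200000048000007210)
 (.cons 32 (nat_lit 0x810002800000000044c17c00)
 (.cons 64 (nat_lit 0xa000000c80704110)
 .nil)))))))))))))
noncomputable def a56 : Net := (.cons 64 (nat_lit 0xd000000000000000)
 (.cons 32 (nat_lit 0xd00031040000000000000000)
 (.cons 16 (nat_lit 0xd0000000da000000000000009f68)
 (.cons 8 (nat_lit 0x88008c00c00024002a00320000)
 (.cons 4 (nat_lit 0x808000004020504090a000008)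
 (.cons 2 (nat_lit 0x2200222012030013322301022030)
 (.cons 1 (nat_lit 0x4104010004550400501500041400)
 (.cons 2 (nat_lit 0x2200020002000000002000022000)
 (.cons 4 (nat_lit 0x8080000040000040000000008)
 (.cons 8 (nat_lit 0x88008800c00024002a00220000)
 (.cons 16 (nat_lit 0xc0000000d2000000000000009f68)
 (.cons 32 (nat_lit 0x500031000000000000000000)
 (.cons 64 (nat_lit 0xd000000000000000)
 .nil)))))))))))))
noncomputable def a57 : Net := (.cons 64 (nat_lit 0xf000000000000000)
 (.cons 32 (nat_lit 0xd04031040000000000000000)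
 (.cons 16 (nat_lit 0x40440000c3180000000000003b96)
 (.cons 8 (nat_lit 0xa0007800a0006500180081005900d0)
 (.cons 4 (nat_lit 0x404070800020a010e020303090004)
 (.cons 2 (nat_lit 0x302102202330323112303100112)
 (.cons 1 (nat_lit 0x400104100441410041145444400444)
 (.cons 2 (nat_lit 0x200202200222020022200020200002)
 (.cons 4 (nat_lit 0x4040402080402000c02080a000006)
 (.cons 8 (nat_lit 0xa00078001400ae00100014003000c0)
 (.cons 16 (nat_lit 0x504400000180000000000000ae86)
 (.cons 32 (nat_lit 0x504031000000000000000000)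
 (.cons 64 (nat_lit 0xf000000000000000)
 .nil)))))))))))))
noncomputable def a58 : Net := (.cons 64 (nat_lit 0xd000000000000000)
 (.cons 32 (nat_lit 0xd00031040000000000000000)
 (.cons 16 (nat_lit 0xd0000000da000000000000009f68)
 (.cons 8 (nat_lit 0x88008c00c00024002a00320000)
 (.cons 4 (nat_lit 0x808000004020504090a000008)
 (.cons 2 (nat_lit 0x2200222012030013322301022030)
 (.cons 1 (nat_lit 0x4104010004550400501500041400)
 (.cons 2 (nat_lit 0x2200020002000000002000022000)
 (.cons 4 (nat_lit 0x8080000040000040000000008)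
 (.cons 8 (nat_lit 0x88008800c00024002a00220000)
 (.cons 16 (nat_lit 0xc0000000d2000000000000009f68)
 (.cons 32 (nat_lit 0x500031000000000000000000)
 (.cons 64 (nat_lit 0xd000000000000000)
 .nil)))))))))))))
noncomputable def a59 : Net := (.cons 64 (nat_lit 0x986b2b824a6743ac)
 (.cons 32 (nat_lit 0xff67c60a000000005f1588a4)
 (.cons 16 (nat_lit 0xd18200002071000023e30000a714)
 (.cons 8 (nat_lit 0xa500a60028005a00620047000a0085)
 (.cons 4 (nat_lit 0xa0a0d02080909090a040d030002060f)
 (.cons 2 (nat_lit 0x1012120003030023221301103022102)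
 (.cons 1 (nat_lit 0x1041004101011054410001004144041)
 (.cons 2 (nat_lit 0x22002000020000220000000022000)
 (.cons 4 (nat_lit 0x20c0800000208020a0404020002000e)
 (.cons 8 (nat_lit 0x8000a000800048003200d6002a00e0)
 (.cons 16 (nat_lit 0x9b8a00003088000073f20000c714)
 (.cons 32 (nat_lit 0x7f47e504000000005805c880)
 (.cons 64 (nat_lit 0x986b2b86116743bc)
 .nil)))))))))))))
noncomputable def a60 : Net := (.cons 64 (nat_lit 0x2d1b4c1b5c7ad5a)
 (.cons 32 (nat_lit 0x6b6d2c9c00000000010f9c25)
 (.cons 16 (nat_lit 0x9ec0000044a100002d2d0000c2da)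
 (.cons 8 (nat_lit 0x7d00a800a400e400600098001600a7)
 (.cons 4 (nat_lit 0xa06080200000008030c0c05030c0203)
 (.cons 2 (nat_lit 0x11100210302133010300211001300222)
 (.cons 1 (nat_lit 0x41040014101014040441404114544400)
 (.cons 2 (nat_lit 0x2020002002022020200002000000200)
 (.cons 4 (nat_lit 0xa0600000200000202080e0c00080400)
 (.cons 8 (nat_lit 0x800a000e400e00068009000440004)
 (.cons 16 (nat_lit 0xbe00000046a00000780800008ab8)
 (.cons 32 (nat_lit 0x6b3c985800000000f503d708)
 (.cons 64 (nat_lit 0x2d1b4c1d5e90712)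
 .nil)))))))))))))
noncomputable def a61 : Net := (.cons 64 (nat_lit 0x62a4800abeaa55c2)
 (.cons 32 (nat_lit 0x1b80166200000000dcc171b8)
 (.cons 16 (nat_lit 0x6628000046f70000d3ce0000e284)
 (.cons 8 (nat_lit 0xb8009400000077008d00c900b900ea)
 (.cons 4 (nat_lit 0x20c060b000d0f0407040d0f08050606)
 (.cons 2 (nat_lit 0x3300202201203033113300131131202)
 (.cons 1 (nat_lit 0x4100400004154441004040114140451)
 (.cons 2 (nat_lit 0x200200000202200002000200000202)
 (.cons 4 (nat_lit 0xa0c00080004040c020404040a00060c)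
 (.cons 8 (nat_lit 0xb000d4000000dc00c0004000f400da)
 (.cons 16 (nat_lit 0x642c000086e20000875600004298)
 (.cons 32 (nat_lit 0x7b841666000000005cc91108)
 (.cons 64 (nat_lit 0x62a4800eb4b07d4c)
 .nil)))))))))))))
noncomputable def a62 : Net := (.cons 64 (nat_lit 0x208000673ad20492)
 (.cons 32 (nat_lit 0x25c010000000000085840790)
 (.cons 16 (nat_lit 0x50000006a2a0000c0000000f214)
 (.cons 8 (nat_lit 0x40007000820040003200dc00c00032)
 (.cons 4 (nat_lit 0x601080c0e080004000c0a0b040a)
 (.cons 2 (nat_lit 0x20000000302020203002230200002011)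
 (.cons 1 (nat_lit 0x40000100504101050144150040004400)
 (.cons 2 (nat_lit 0x20000000002000000002200000002000)
 (.cons 4 (nat_lit 0x20008040a080004000808000400)
 (.cons 8 (nat_lit 0x40007000820040003200dc00c00032)
 (.cons 16 (nat_lit 0x50000006a2a0000c0000000d014)
 (.cons 32 (nat_lit 0x254010000000000081840790)
 (.cons 64 (nat_lit 0x208000673ac20490)
 .nil)))))))))))))
noncomputable def a63 : Net := (.cons 64 (nat_lit 0xc015dc4c15af4a49)
 (.cons 32 (nat_lit 0x81267ec400000000c2b8e5f4)
 (.cons 16 (nat_lit 0x6c9a000000e100004554000015e7)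
 (.cons 8 (nat_lit 0x4c00d6009000040016005400260045)
 (.cons 4 (nat_lit 0xa080402060e080d0808080602080905)
 (.cons 2 (nat_lit 0x2211010000110100100120100000012)
 (.cons 1 (nat_lit 0x5040010140400044114014104015001)
 (.cons 2 (nat_lit 0x20000200022002000002020000)
 (.cons 4 (nat_lit 0x20e0402020a000c00080a020008080e)
 (.cons 8 (nat_lit 0x6400840098009400e800f400260040)
 (.cons 16 (nat_lit 0xec98000048a40000a57c000017cc)
 (.cons 32 (nat_lit 0x4122a68200000000d7b0c758)
 (.cons 64 (nat_lit 0xc015dc489c358b88)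
 .nil)))))))))))))
noncomputable def a64 : Net := (.cons 64 (nat_lit 0x27af5802a47ca3a0)
 (.cons 32 (nat_lit 0x7a7a8dcc00000000ca40c3ac)
 (.cons 16 (nat_lit 0x9c00000039bb00002baa0000db27)
 (.cons 8 (nat_lit 0xbd004400280020001a0004008400ba)
 (.cons 4 (nat_lit 0x30905000403040a05020c010a08000a)
 (.cons 2 (nat_lit 0x10331000100003010320021120331320)
 (.cons 1 (nat_lit 0x15400444100504041450400004401411)
 (.cons 2 (nat_lit 0x2022200000000202220)
 (.cons 4 (nat_lit 0x4080000040006080c000c000808000a)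
 (.cons 8 (nat_lit 0x3400400008002200a8000400a8005e)
 (.cons 16 (nat_lit 0x850400003b9000006baa0000f70a)
 (.cons 32 (nat_lit 0x78f8cdcc000000008a00c304)
 (.cons 64 (nat_lit 0x27af580670c6c900)
 .nil)))))))))))))
noncomputable def a65 : Net := (.cons 64 (nat_lit 0x69c03e5768fdcb3e)
 (.cons 32 (nat_lit 0xaf85f3240000000004b88d04)
 (.cons 16 (nat_lit 0xc065000019600000c41600009e6d)
 (.cons 8 (nat_lit 0x400b000b000fd0054003a008300ac)
 (.cons 4 (nat_lit 0xc00000d00060f0d0002030804090e02)
 (.cons 2 (nat_lit 0x3200220000023000212230002103203)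
 (.cons 1 (nat_lit 0x5400040400455400444150004415040)
 (.cons 2 (nat_lit 0x200000000200200200000002220000)
 (.cons 4 (nat_lit 0xc0400000804080c000c080004060c0e)
 (.cons 8 (nat_lit 0x400e000a000e000d0003e00c0006c)
 (.cons 16 (nat_lit 0xf60000019600000c43400001e40)
 (.cons 32 (nat_lit 0xa705d32c0000000016b38d04)
 (.cons 64 (nat_lit 0x69c03e53dbcd2c20)
 .nil)))))))))))))
noncomputable def a66 : Net := (.cons 64 (nat_lit 0xf5d500000000000)
 (.cons 32 (nat_lit 0x9114004000000000b000000)
 (.cons 16 (nat_lit 0x44080000e7780000290400003624)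
 (.cons 8 (nat_lit 0x14000400c6004800040098009a0080)
 (.cons 4 (nat_lit 0xa0404000c08050e0008060400020000)
 (.cons 2 (nat_lit 0x1011002303113130202320100000210)
 (.cons 1 (nat_lit 0x50000004510041055400010054015100)
 (.cons 2 (nat_lit 0x2000002000200020000000200)
 (.cons 4 (nat_lit 0xa0404000c08080e0008060400020000)
 (.cons 8 (nat_lit 0x140004004600480004009800980080)
 (.cons 16 (nat_lit 0x44000000e5780000210400003620)
 (.cons 32 (nat_lit 0x9114004000000000b000000)
 (.cons 64 (nat_lit 0xf5d500000000000)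
 .nil)))))))))))))
noncomputable def a67 : Net := (.cons 64 (nat_lit 0x6444482454b89400)
 (.cons 32 (nat_lit 0x6e804000000000000b864200)
 (.cons 16 (nat_lit 0xc040000a2440000c1000000f964)
 (.cons 8 (nat_lit 0x48002000ca00d00040000c00b20090)
 (.cons 4 (nat_lit 0x400040000040006000600050c0f0d08)
 (.cons 2 (nat_lit 0x2002002232031030201230020000002)
 (.cons 1 (nat_lit 0x4444404400150400050150041444411)
 (.cons 2 (nat_lit 0x2002002200000000000200020000002)
 (.cons 4 (nat_lit 0x4000400000000060006000004000008)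
 (.cons 8 (nat_lit 0x48002000ca00d00040000c00b20090)
 (.cons 16 (nat_lit 0xc04000082040000c1000000f964)
 (.cons 32 (nat_lit 0x6e804000000000000b864200)
 (.cons 64 (nat_lit 0x6444482454a89400)
 .nil)))))))))))))
noncomputable def a68 : Net := (.cons 64 (nat_lit 0xf000000000000000)
 (.cons 32 (nat_lit 0x23080a000000000070000000)
 (.cons 16 (nat_lit 0x61080000fddc0000700000000e70)
 (.cons 8 (nat_lit 0x100042004200d80036005400c80090)
 (.cons 4 (nat_lit 0x808080c050a0606090802010c030004)
 (.cons 2 (nat_lit 0x2202002310312030030103103003220)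
 (.cons 1 (nat_lit 0x100144414004404001041445115004)
 (.cons 2 (nat_lit 0x200002200002000000002000000000)
 (.cons 4 (nat_lit 0x808080c020a06060808000c0c000004)
 (.cons 8 (nat_lit 0x100042005200c80032005400c80090)
 (.cons 16 (nat_lit 0x61080000c98c0000700000000e70)
 (.cons 32 (nat_lit 0x23080a000000000070000000)
 (.cons 64 (nat_lit 0xf000000000000000)
 .nil)))))))))))))
noncomputable def a69 : Net := (.cons 64 (nat_lit 0x4714080430548280)
 (.cons 32 (nat_lit 0x42950000000000000af612a0)
 (.cons 16 (nat_lit 0x40000003f9400004a0800000ac8)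
 (.cons 8 (nat_lit 0x40026008c00fc0000009c009d)
 (.cons 4 (nat_lit 0x40900000002080d0e0c00080e0a0a0e)
 (.cons 2 (nat_lit 0x1000002200201200003020023301231)
 (.cons 1 (nat_lit 0x40404055050041005000400044515)
 (.cons 2 (nat_lit 0x2000000000000000000000020)
 (.cons 4 (nat_lit 0x40800000c0e080c020c0008040a0e0a)
 (.cons 8 (nat_lit 0x400ca008c00dc0000009c0060)
 (.cons 16 (nat_lit 0x40000003f9400004a0800000ac8)
 (.cons 32 (nat_lit 0x40950000000000000af612a0)
 (.cons 64 (nat_lit 0x4714080430548280)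
 .nil)))))))))))))
noncomputable def a70 : Net := (.cons 64 (nat_lit 0x8181228030a52810)
 (.cons 32 (nat_lit 0xf1810000000000006a514120)
 (.cons 16 (nat_lit 0x530000008b3800005b0800002888)
 (.cons 8 (nat_lit 0xe2008300860056000c0038004a)
 (.cons 4 (nat_lit 0x200000c08080a00000408050402000a)
 (.cons 2 (nat_lit 0x2020002003332001220002002020)
 (.cons 1 (nat_lit 0x1100010545554100140054500405)
 (.cons 2 (nat_lit 0x2000000000002000220002000000)
 (.cons 4 (nat_lit 0x800080a00000408000402000a)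
 (.cons 8 (nat_lit 0xe2008000860042000c0030000a)
 (.cons 16 (nat_lit 0x530000008b380000530800002888)
 (.cons 32 (nat_lit 0xf1810000000000006a514120)
 (.cons 64 (nat_lit 0x8181228030a52800)
 .nil)))))))))))))
noncomputable def a71 : Net := (.cons 64 (nat_lit 0xef55700000000000)
 (.cons 32 (nat_lit 0x33090a14000000003a8a0440)
 (.cons 16 (nat_lit 0x98040000cc64000018c00000cd44)
 (.cons 8 (nat_lit 0x38007000e6004c0080008800340090)
 (.cons 4 (nat_lit 0xa0d08080001040200040a01000c0e08)
 (.cons 2 (nat_lit 0x31202232212220002202000032220300)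
 (.cons 1 (nat_lit 0x50001004404400410004100401101040)
 (.cons 2 (nat_lit 0x2002202200000002000002200000)
 (.cons 4 (nat_lit 0xa080808000000020004020000080e08)
 (.cons 8 (nat_lit 0x380070000600440080008800340090)
 (.cons 16 (nat_lit 0x98040000cc64000018c00000cd40)
 (.cons 32 (nat_lit 0x33090a14000000003a8a0440)
 (.cons 64 (nat_lit 0xef55700000000000)
 .nil)))))))))))))
noncomputable def a72 : Net := (.cons 64 (nat_lit 0xf000000000000000)
 (.cons 32 (nat_lit 0x23080a000000000070000000)
 (.cons 16 (nat_lit 0x61080000fddc0000700000000e70)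
 (.cons 8 (nat_lit 0x100042004200d80036005400c80090)
 (.cons 4 (nat_lit 0x808080c050a0606090802010c030004)
 (.cons 2 (nat_lit 0x2202002310312030030103103003220)
 (.cons 1 (nat_lit 0x100144414004404001041445115004)
 (.cons 2 (nat_lit 0x200002200002000000002000000000)
 (.cons 4 (nat_lit 0x808080c020a06060808000c0c000004)
 (.cons 8 (nat_lit 0x100042005200c80032005400c80090)
 (.cons 16 (nat_lit 0x61080000c98c0000700000000e70)
 (.cons 32 (nat_lit 0x23080a000000000070000000)
 (.cons 64 (nat_lit 0xf000000000000000)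
 .nil)))))))))))))
noncomputable def a73 : Net := (.cons 64 (nat_lit 0xcbe1112b39914dc0)
 (.cons 32 (nat_lit 0xfa41cd5e00000000f4dcf61a)
 (.cons 16 (nat_lit 0xb1340000a8090000484e00000e91)
 (.cons 8 (nat_lit 0x7c00400013002700d400d4009000b5)
 (.cons 4 (nat_lit 0xf080802070a0008000a0009020c010e)
 (.cons 2 (nat_lit 0x31001300030021000030100220301222)
 (.cons 1 (nat_lit 0x41004100044505010410504001510540)
 (.cons 2 (nat_lit 0x22002200022000000000000000000000)
 (.cons 4 (nat_lit 0xc00080004020000080202040a0c0000)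
 (.cons 8 (nat_lit 0xfc0008003200ac00d400d400b000b4)
 (.cons 16 (nat_lit 0xa1340000aaa80000cc4000000c90)
 (.cons 32 (nat_lit 0xbb81cd7a00000000f4cc7498)
 (.cons 64 (nat_lit 0xcbe1112bc3830a58)
 .nil)))))))))))))
noncomputable def a74 : Net := (.cons 64 (nat_lit 0x9c400073c9e9c03)
 (.cons 32 (nat_lit 0x408055b400000000f37df5c4)
 (.cons 16 (nat_lit 0x48400000937700003d31000034af)
 (.cons 8 (nat_lit 0x8400f00062004c00a8008a00de00a4)
 (.cons 4 (nat_lit 0x8000d050c0805090a0d00080e0c020e)
 (.cons 2 (nat_lit 0x1002000000133202122220210233020)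
 (.cons 1 (nat_lit 0x4001000400545010140010440414011)
 (.cons 2 (nat_lit 0x20000020000020200002)
 (.cons 4 (nat_lit 0x8000000080a02080c080008060c080a)
 (.cons 8 (nat_lit 0x8400b00062006600f0000a0056009e)
 (.cons 16 (nat_lit 0x9c00000193a000019180000fcbc)
 (.cons 32 (nat_lit 0x408055b000000000937dfd48)
 (.cons 64 (nat_lit 0x9c40002dfe08800)
 .nil)))))))))))))
noncomputable def a75 : Net := (.cons 64 (nat_lit 0x986b2b824a6743ac)
 (.cons 32 (nat_lit 0xff67c60a000000005f1588a4)
 (.cons 16 (nat_lit 0xd18200002071000023e30000a714)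
 (.cons 8 (nat_lit 0xa500a60028005a00620047000a0085)
 (.cons 4 (nat_lit 0xa0a0d02080909090a040d030002060f)
 (.cons 2 (nat_lit 0x1012120003030023221301103022102)
 (.cons 1 (nat_lit 0x1041004101011054410001004144041)
 (.cons 2 (nat_lit 0x22002000020000220000000022000)
 (.cons 4 (nat_lit 0x20c0800000208020a0404020002000e)
 (.cons 8 (nat_lit 0x8000a000800048003200d6002a00e0)
 (.cons 16 (nat_lit 0x9b8a00003088000073f20000c714)
 (.cons 32 (nat_lit 0x7f47e504000000005805c880)
 (.cons 64 (nat_lit 0x986b2b86116743bc)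
 .nil)))))))))))))
noncomputable def a76 : Net := (.cons 64 (nat_lit 0x8181228030a52810)
 (.cons 32 (nat_lit 0xf1810000000000006a514120)
 (.cons 16 (nat_lit 0x530000008b3800005b0800002888)
 (.cons 8 (nat_lit 0xe2008300860056000c0038004a)
 (.cons 4 (nat_lit 0x200000c08080a00000408050402000a)
 (.cons 2 (nat_lit 0x2020002003332001220002002020)
 (.cons 1 (nat_lit 0x1100010545554100140054500405)
 (.cons 2 (nat_lit 0x2000000000002000220002000000)
 (.cons 4 (nat_lit 0x800080a00000408000402000a)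
 (.cons 8 (nat_lit 0xe2008000860042000c0030000a)
 (.cons 16 (nat_lit 0x530000008b380000530800002888)
 (.cons 32 (nat_lit 0xf1810000000000006a514120)
 (.cons 64 (nat_lit 0x8181228030a52800)
 .nil)))))))))))))
noncomputable def a77 : Net := (.cons 64 (nat_lit 0x83344a8eee4746a0)
 (.cons 32 (nat_lit 0x11964282000000007569fef2)
 (.cons 16 (nat_lit 0x4a2c000073740000035c0000fd4c)
 (.cons 8 (nat_lit 0x4008000f500c900b6000000b40068)
 (.cons 4 (nat_lit 0x90a08020f0b020f060c060a080f0c0a)
 (.cons 2 (nat_lit 0x11000200012201001001030003223001)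
 (.cons 1 (nat_lit 0x41100000401444014411044005005040)
 (.cons 2 (nat_lit 0x2200000202020000220002000000020)
 (.cons 4 (nat_lit 0xc0208000e0a0202000c020008000c0c)
 (.cons 8 (nat_lit 0x9c008000a4004c00f400c80024002c)
 (.cons 16 (nat_lit 0x4a280000396c00006bdc0000dd4e)
 (.cons 32 (nat_lit 0x1296028a00000000552a5ed8)
 (.cons 64 (nat_lit 0x83344a8e0d5505e4)
 .nil)))))))))))))
noncomputable def a78 : Net := (.cons 64 (nat_lit 0x436678a67463e849)
 (.cons 32 (nat_lit 0x426a1524000000000b62c94c)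
 (.cons 16 (nat_lit 0x4600000baa200000d400000cc0b)
 (.cons 8 (nat_lit 0x2e00e800b400140052004c008800b4)
 (.cons 4 (nat_lit 0xe0006080a0e060d0508080500090e0a)
 (.cons 2 (nat_lit 0x1020100120220232122020000022201)
 (.cons 1 (nat_lit 0x41040140110444141110440404001405)
 (.cons 2 (nat_lit 0x20020220020002220220020200000000)
 (.cons 4 (nat_lit 0x8000e0c02080006040a040008080a0a)
 (.cons 8 (nat_lit 0x2e0080000000bc00d0004000980090)
 (.cons 16 (nat_lit 0x44640000f08400008e400000cc06)
 (.cons 32 (nat_lit 0x412e1d20000000008b73c94c)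
 (.cons 64 (nat_lit 0x436678a25405c198)
 .nil)))))))))))))
noncomputable def a79 : Net := (.cons 64 (nat_lit 0x4714080430548280)
 (.cons 32 (nat_lit 0x42950000000000000af612a0)
 (.cons 16 (nat_lit 0x40000003f9400004a0800000ac8)
 (.cons 8 (nat_lit 0x40026008c00fc0000009c009d)
 (.cons 4 (nat_lit 0x40900000002080d0e0c00080e0a0a0e)
 (.cons 2 (nat_lit 0x1000002200201200003020023301231)
 (.cons 1 (nat_lit 0x40404055050041005000400044515)
 (.cons 2 (nat_lit 0x2000000000000000000000020)
 (.cons 4 (nat_lit 0x40800000c0e080c020c0008040a0e0a)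
 (.cons 8 (nat_lit 0x400ca008c00dc0000009c0060)
 (.cons 16 (nat_lit 0x40000003f9400004a0800000ac8)
 (.cons 32 (nat_lit 0x40950000000000000af612a0)
 (.cons 64 (nat_lit 0x4714080430548280)
 .nil)))))))))))))
noncomputable def a80 : Net := (.cons 64 (nat_lit 0xf804251a711f7aee)
 (.cons 32 (nat_lit 0xd64c665000000000675884c)
 (.cons 16 (nat_lit 0x2e3800008e000000d0260000bad1)
 (.cons 8 (nat_lit 0x800c5003800ba003a00200096000d)
 (.cons 4 (nat_lit 0x604060c0801090a0a01020c0f09030e)
 (.cons 2 (nat_lit 0x31100301100322000312000223322223)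
 (.cons 1 (nat_lit 0x51000104401111144404000401140410)
 (.cons 2 (nat_lit 0x2002220202002000202220220)
 (.cons 4 (nat_lit 0x800060a0c0000000e0400040c040008)
 (.cons 8 (nat_lit 0x3c0084003800b8007800200004009e)
 (.cons 16 (nat_lit 0xe18000096000000d04000000b90)
 (.cons 32 (nat_lit 0xdd60e26c00000000063e1868)
 (.cons 64 (nat_lit 0xf804251d315668ac)
 .nil)))))))))))))
noncomputable def a81 : Net := (.cons 64 (nat_lit 0x47a2f4d26289cff2)
 (.cons 32 (nat_lit 0xaf7d850500000000103d08aa)
 (.cons 16 (nat_lit 0xcbdf00008ef80000a3a30000979b)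
 (.cons 8 (nat_lit 0xc8009e00260050000b000800790017)
 (.cons 4 (nat_lit 0x30b0b0f000200030f080c04010b01)
 (.cons 2 (nat_lit 0x21313213031200030021000003013021)
 (.cons 1 (nat_lit 0x44414541140400141051004005144104)
 (.cons 2 (nat_lit 0x20000022200000020002002000000000)
 (.cons 4 (nat_lit 0x400000a040c00040204000c00020808)
 (.cons 8 (nat_lit 0xa80084003e0076001800280028000e)
 (.cons 16 (nat_lit 0xeb40000098f80000aba200003dc4)
 (.cons 32 (nat_lit 0xefff950000000000882001ae)
 (.cons 64 (nat_lit 0x47a2f4d26289f130)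
 .nil)))))))))))))
noncomputable def a82 : Net := (.cons 64 (nat_lit 0x30482424815fb2ea)
 (.cons 32 (nat_lit 0xaf7faa0000000000511633da)
 (.cons 16 (nat_lit 0xa08000050440000850f0000a038)
 (.cons 8 (nat_lit 0xd800aa00c0006800e9007300140086)
 (.cons 4 (nat_lit 0xd0e0c04000408050a020507050e0d06)
 (.cons 2 (nat_lit 0x31122002100030012210113013010312)
 (.cons 1 (nat_lit 0x10514041400040101050055101410145)
 (.cons 2 (nat_lit 0x20022200000002000000002000000)
 (.cons 4 (nat_lit 0xa060c0e00000804080e0806000e0002)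
 (.cons 8 (nat_lit 0xd800a40080003800e00072001c0028)
 (.cons 16 (nat_lit 0x80200000200400000d1c00002910)
 (.cons 32 (nat_lit 0xbf77ae200000000010942816)
 (.cons 64 (nat_lit 0x3048242eb5677894)
 .nil)))))))))))))
noncomputable def a83 : Net := (.cons 64 (nat_lit 0xa4f40c986306d220)
 (.cons 32 (nat_lit 0x1d71fff300000000f5020f60)
 (.cons 16 (nat_lit 0xd7580000081e0000484100001a24)
 (.cons 8 (nat_lit 0x3900dc0094000800ac009200ec0008)
 (.cons 4 (nat_lit 0xb060a000c0001030804010e04050e)
 (.cons 2 (nat_lit 0x11120023202200020220222222012120)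
 (.cons 1 (nat_lit 0x5040115140404041144450441001044)
 (.cons 2 (nat_lit 0x20020000000020202200202000020)
 (.cons 4 (nat_lit 0x802020000000000020c020004040c00)
 (.cons 8 (nat_lit 0x60005c0054000800a400b000ac0008)
 (.cons 16 (nat_lit 0xfbb800000c860000e84000005880)
 (.cons 32 (nat_lit 0x9df1fff800000000f40a3e20)
 (.cons 64 (nat_lit 0xa4f40c98fb871d00)
 .nil)))))))))))))
noncomputable def a84 : Net := (.cons 64 (nat_lit 0x64408100274cc2c4)
 (.cons 32 (nat_lit 0xb9b04300000000fdae9d7c)
 (.cons 16 (nat_lit 0x51540000fd440000c6a6000000c9)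
 (.cons 8 (nat_lit 0x8000a000cc00cd009d008d00cb0004)
 (.cons 4 (nat_lit 0x102000b00000704060b090d00070e06)
 (.cons 2 (nat_lit 0x20020000230233201122312323013)
 (.cons 1 (nat_lit 0x10050051004440144001104140411015)
 (.cons 2 (nat_lit 0x20000002000020002002000000222000)
 (.cons 4 (nat_lit 0x2000000040202040a080200060c00)
 (.cons 8 (nat_lit 0x8000e000cc00a8009a00880048003c)
 (.cons 16 (nat_lit 0x5114000039440000628000001884)
 (.cons 32 (nat_lit 0x4f930400000000075bf8d64)
 (.cons 64 (nat_lit 0x64408103fe0a4ee6)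
 .nil)))))))))))))
noncomputable def a85 : Net := (.cons 64 (nat_lit 0x48042231c18cbaae)
 (.cons 32 (nat_lit 0xed0e9f75000000002a304cd5)
 (.cons 16 (nat_lit 0x2a280000282c0000b9350000b3d5)
 (.cons 8 (nat_lit 0x40007c00e40084009100a800460029)
 (.cons 4 (nat_lit 0x20809060c00030d090b0102000902)
 (.cons 2 (nat_lit 0x221122202102003020031231220012)
 (.cons 1 (nat_lit 0x1444004100044001014401151000145)
 (.cons 2 (nat_lit 0x2220002200000002022000200000220)
 (.cons 4 (nat_lit 0x8000008000c000004040e0004000208)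
 (.cons 8 (nat_lit 0x60007400840084000c0050000400b6)
 (.cons 16 (nat_lit 0x6280000282c0000a8bc000023d8)
 (.cons 32 (nat_lit 0xe50a9d74000000009eb140dc)
 (.cons 64 (nat_lit 0x48042233c1a23aec)
 .nil)))))))))))))
noncomputable def a86 : Net := (.cons 64 (nat_lit 0x92653546d400d004)
 (.cons 32 (nat_lit 0x91f1cd04000000000f198620)
 (.cons 16 (nat_lit 0xcc92000095740000c89c00008018)
 (.cons 8 (nat_lit 0xc4002400490040002d005c00500020)
 (.cons 4 (nat_lit 0xc04000e0d050e080c000a020906070b)
 (.cons 2 (nat_lit 0x20202120300302230202002320322031)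
 (.cons 1 (nat_lit 0x11011015400110050410104004500414)
 (.cons 2 (nat_lit 0x20002020000000000200202000000022)
 (.cons 4 (nat_lit 0x800000e0a020a0804000a0208060c0c)
 (.cons 8 (nat_lit 0x800024003600400028005c001000ca)
 (.cons 16 (nat_lit 0xcc92000095740000c81c00008018)
 (.cons 32 (nat_lit 0x91f1cd04000000000f018420)
 (.cons 64 (nat_lit 0x92653546d400d004)
 .nil)))))))))))))
noncomputable def a87 : Net := (.cons 64 (nat_lit 0xb81530f3bb8f3526)
 (.cons 32 (nat_lit 0x21780593000000002ee275ac)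
 (.cons 16 (nat_lit 0x24d500005e15000068ea00000003)
 (.cons 8 (nat_lit 0xb000260058001000a8004700e80000)
 (.cons 4 (nat_lit 0x80d000602040c0e08000b0e04090803)
 (.cons 2 (nat_lit 0x3220301200220122300230320020100)
 (.cons 1 (nat_lit 0x11510401000044044500404504010514)
 (.cons 2 (nat_lit 0x2020200000020020000000000000000)
 (.cons 4 (nat_lit 0x2060000040402000c0e00080802)
 (.cons 8 (nat_lit 0xa00006004800700082000200a80008)
 (.cons 16 (nat_lit 0x4d00000de0400000d6200008004)
 (.cons 32 (nat_lit 0xa17815b0000000002ee277ac)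
 (.cons 64 (nat_lit 0xb81530f333cfb744)
 .nil)))))))))))))
noncomputable def a88 : Net := (.cons 64 (nat_lit 0x2000198d0a2c0142)
 (.cons 32 (nat_lit 0x48800d80000000000213b850)
 (.cons 16 (nat_lit 0x118000000470000072110000ac4a)
 (.cons 8 (nat_lit 0x80000800800098000800c400c00080)
 (.cons 4 (nat_lit 0x900000801090e030200040006030000)
 (.cons 2 (nat_lit 0x32000003002020002220122220002230)
 (.cons 1 (nat_lit 0x51000405004041441104000401044001)
 (.cons 2 (nat_lit 0x2000000002020002200000200002000)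
 (.cons 4 (nat_lit 0x8000006000000040002000000)
 (.cons 8 (nat_lit 0x800008008000980008008400c00080)
 (.cons 16 (nat_lit 0x118000000470000072000000ac4a)
 (.cons 32 (nat_lit 0x48800d80000000000213b850)
 (.cons 64 (nat_lit 0x2000198d0a0c0140)
 .nil)))))))))))))
noncomputable def a89 : Net := (.cons 64 (nat_lit 0x50010a23ca24a640)
 (.cons 32 (nat_lit 0x1441a80100000000256b5510)
 (.cons 16 (nat_lit 0x404000090200000897c0000591a)
 (.cons 8 (nat_lit 0x40002400a800140060005400d80088)
 (.cons 4 (nat_lit 0x80004020c04040202060e0c000c)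
 (.cons 2 (nat_lit 0x10202200202020100032320022320)
 (.cons 1 (nat_lit 0x4140140444005454001404505)
 (.cons 2 (nat_lit 0x2200200020000002000002000)
 (.cons 4 (nat_lit 0x80004000c04040202060a0c000c)
 (.cons 8 (nat_lit 0x400a800040060004400c80088)
 (.cons 16 (nat_lit 0x404000090000000896c0000590a)
 (.cons 32 (nat_lit 0x1441a80000000000257b4500)
 (.cons 64 (nat_lit 0x50010a23ca24a640)
 .nil)))))))))))))
noncomputable def a90 : Net := (.cons 64 (nat_lit 0x181116ad6929e9d8)
 (.cons 32 (nat_lit 0x1314920000000000f4400bc2)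
 (.cons 16 (nat_lit 0x28500009c4200008ba20000cd46)
 (.cons 8 (nat_lit 0x840018008000ce003a004600c100bd)
 (.cons 4 (nat_lit 0x803020b0b0d0c0c080a00080000)
 (.cons 2 (nat_lit 0x23000202100032210320030201223303)
 (.cons 1 (nat_lit 0x15000404444041144514010000114144)
 (.cons 2 (nat_lit 0x20000002022000020000000000022220)
 (.cons 4 (nat_lit 0xa0806040c0e0c0804000002)
 (.cons 8 (nat_lit 0x840018009000a400b8004600e800b0)
 (.cons 16 (nat_lit 0x2840000f05200000ae00000c566)
 (.cons 32 (nat_lit 0x131580000000000010820282)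
 (.cons 64 (nat_lit 0x181116ae6909e81a)
 .nil)))))))))))))
noncomputable def a91 : Net := (.cons 64 (nat_lit 0xd6f5b00000000000)
 (.cons 32 (nat_lit 0x3df241000000000a9880000)
 (.cons 16 (nat_lit 0x9010000012810000a98000005070)
 (.cons 8 (nat_lit 0xe6008400d00088000000ac00780028)
 (.cons 4 (nat_lit 0x6090408080404020000000000090408)
 (.cons 2 (nat_lit 0x30021003220023000000000322202000)
 (.cons 1 (nat_lit 0x51040005440010400000045541004104)
 (.cons 2 (nat_lit 0x20000220020000000000022002000)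
 (.cons 4 (nat_lit 0x6000408000004000000000004080008)
 (.cons 8 (nat_lit 0xa0008400c00088000000ac00380060)
 (.cons 16 (nat_lit 0x9010000012800000a80000001400)
 (.cons 32 (nat_lit 0x3df041000000000a9880000)
 (.cons 64 (nat_lit 0xd6f5b00000000000)
 .nil)))))))))))))
noncomputable def a92 : Net := (.cons 64 (nat_lit 0xfc4105a9bb7f2272)
 (.cons 32 (nat_lit 0xb561a5ed000000001f5bbc72)
 (.cons 16 (nat_lit 0xec890000e0dd0000846f0000e020)
 (.cons 8 (nat_lit 0x6400ec00d400fb00890036001e0043)
 (.cons 4 (nat_lit 0xe0a00080c05080d0f05040f01080a07)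
 (.cons 2 (nat_lit 0x3020002101213232023122002021001)
 (.cons 1 (nat_lit 0x4050045000001045005004154000100)
 (.cons 2 (nat_lit 0x20000000020000000000000200)
 (.cons 4 (nat_lit 0xe02000a040002060e06040e06080200)
 (.cons 8 (nat_lit 0x64008800c800780094002c001e0078)
 (.cons 16 (nat_lit 0x6cc80000a8ce0000862a0000013c)
 (.cons 32 (nat_lit 0x3d60a162000000001f559670)
 (.cons 64 (nat_lit 0xfc4105ac377ec434)
 .nil)))))))))))))
noncomputable def a93 : Net := (.cons 64 (nat_lit 0x100029930a2c1440)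
 (.cons 32 (nat_lit 0x109038900000000084c27600)
 (.cons 16 (nat_lit 0x10800004824000090400000b20a)
 (.cons 8 (nat_lit 0x8000a00038005200b0002e000c0020)
 (.cons 4 (nat_lit 0x808000608030c0c080000000d060a00)
 (.cons 2 (nat_lit 0x2202010000032012201020002022200)
 (.cons 1 (nat_lit 0x1101001000404001010400140010101)
 (.cons 2 (nat_lit 0x2202000000002002000000000020200)
 (.cons 4 (nat_lit 0x808000600000c04080000000c000a00)
 (.cons 8 (nat_lit 0x8000a00038005200b0000a000c0000)
 (.cons 16 (nat_lit 0x10800004804000090000000b20a)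
 (.cons 32 (nat_lit 0x109038900000000084c27600)
 (.cons 64 (nat_lit 0x100029930a2c1440)
 .nil)))))))))))))
noncomputable def a94 : Net := (.cons 64 (nat_lit 0xf4c0966e4d4e2846)
 (.cons 32 (nat_lit 0x62af8c5a00000000cee2dfc2)
 (.cons 16 (nat_lit 0x90d7000050400000234f00000a17)
 (.cons 8 (nat_lit 0x1a00ee00b00007000a008800240080)
 (.cons 4 (nat_lit 0xa0706080800090408010004010b080b)
 (.cons 2 (nat_lit 0x12201002023021210320110201202200)
 (.cons 1 (nat_lit 0x54414001415044400144404010010010)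
 (.cons 2 (nat_lit 0x202002020020000022000000000020)
 (.cons 4 (nat_lit 0xe06080800000e000e0000040008000a)
 (.cons 8 (nat_lit 0x3e00e000b000e200080094002c00a8)
 (.cons 16 (nat_lit 0x94f4000060c00000a69a00000a00)
 (.cons 32 (nat_lit 0xf6ef0e7000000000c7ebf646)
 (.cons 64 (nat_lit 0xf4c0966b74c8d08c)
 .nil)))))))))))))
noncomputable def a95 : Net := (.cons 64 (nat_lit 0x50000b6b50000000)
 (.cons 32 (nat_lit 0x7004aa81000000003e800000)
 (.cons 16 (nat_lit 0x1020000057600000b00000006d70)
 (.cons 8 (nat_lit 0xd80080005800a000a400e80080)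
 (.cons 4 (nat_lit 0x40e08000400020a0d00020806000a)
 (.cons 2 (nat_lit 0x20202020202312102220200003232200)
 (.cons 1 (nat_lit 0x40400514100001041044100140404100)
 (.cons 2 (nat_lit 0x20200020200002002020200000202200)
 (.cons 4 (nat_lit 0x40e08000400000a0c000208060000)
 (.cons 8 (nat_lit 0xd80080000800a000a000e80080)
 (.cons 16 (nat_lit 0x1020000051600000b00000006d60)
 (.cons 32 (nat_lit 0x7004aa80000000003a800000)
 (.cons 64 (nat_lit 0x50000b6950000000)
 .nil)))))))))))))
noncomputable def a96 : Net := (.cons 64 (nat_lit 0xdc0c8f581fffb20d)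
 (.cons 32 (nat_lit 0xec6f801b00000000ebe39fe0)
 (.cons 16 (nat_lit 0xa550000091180000cad5000005bd)
 (.cons 8 (nat_lit 0x6900aa009c009700ae004700000004)
 (.cons 4 (nat_lit 0xc0600060c040b0d08060c07020a0202)
 (.cons 2 (nat_lit 0x11130203031003030103032200321102)
 (.cons 1 (nat_lit 0x14110440414040150504011410440101)
 (.cons 2 (nat_lit 0x20020000020000000000000200020000)
 (.cons 4 (nat_lit 0x802000204040604080606000208020a)
 (.cons 8 (nat_lit 0x3800a40008009c00ae00e400000020)
 (.cons 16 (nat_lit 0x2518000050040000603600002514)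
 (.cons 32 (nat_lit 0x3063845800000000cae1afe4)
 (.cons 64 (nat_lit 0xdc0c8f59d23f00ea)
 .nil)))))))))))))
noncomputable def a97 : Net := (.cons 64 (nat_lit 0x12a007e4a8ae0d6c)
 (.cons 32 (nat_lit 0x37e9350b00000000b0a1ee7e)
 (.cons 16 (nat_lit 0x274300004300000080bd00003c1e)
 (.cons 8 (nat_lit 0x4a00b0003400d2005000d800040085)
 (.cons 4 (nat_lit 0xe020a090e02000e080a02040600080f)
 (.cons 2 (nat_lit 0x1000310220012021132000121122312)
 (.cons 1 (nat_lit 0x10010510411004041454444411000151)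
 (.cons 2 (nat_lit 0x20000020202000002002020022000202)
 (.cons 4 (nat_lit 0xc0208080e02000c0808000802000806)
 (.cons 8 (nat_lit 0x6800b400b600d00018000800140000)
 (.cons 16 (nat_lit 0x74a0000c1200000ac9400001c1a)
 (.cons 32 (nat_lit 0x2769370800000000d4a74e72)
 (.cons 64 (nat_lit 0x12a007e4b8aa2f26)
 .nil)))))))))))))
noncomputable def a98 : Net := (.cons 64 (nat_lit 0x701004c348000500)
 (.cons 32 (nat_lit 0x7d0a12900000000067415400)
 (.cons 16 (nat_lit 0x400000060c80000f0000000bc48)
 (.cons 8 (nat_lit 0x2800160034000000ec00a400f80060)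
 (.cons 4 (nat_lit 0x90a04010009000a0006060308010e00)
 (.cons 2 (nat_lit 0x201000220001023103012022200002)
 (.cons 1 (nat_lit 0x40100040040040010040001140000000)
 (.cons 2 (nat_lit 0x200000020000020000000220000000)
 (.cons 4 (nat_lit 0x8080400000000080006040808000000)
 (.cons 8 (nat_lit 0x2800140034000000ec00a000f00060)
 (.cons 16 (nat_lit 0x40880000f0000000bc48)
 (.cons 32 (nat_lit 0x7d0a12900000000067415400)
 (.cons 64 (nat_lit 0x701004c348000500)
 .nil)))))))))))))
noncomputable def a99 : Net := (.cons 64 (nat_lit 0x50010a23ca24a640)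
 (.cons 32 (nat_lit 0x1441a80100000000256b5510)
 (.cons 16 (nat_lit 0x404000090200000897c0000591a)
 (.cons 8 (nat_lit 0x40002400a800140060005400d80088)
 (.cons 4 (nat_lit 0x80004020c04040202060e0c000c)
 (.cons 2 (nat_lit 0x10202200202020100032320022320)
 (.cons 1 (nat_lit 0x4140140444005454001404505)
 (.cons 2 (nat_lit 0x2200200020000002000002000)
 (.cons 4 (nat_lit 0x80004000c04040202060a0c000c)
 (.cons 8 (nat_lit 0x400a800040060004400c80088)
 (.cons 16 (nat_lit 0x404000090000000896c0000590a)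
 (.cons 32 (nat_lit 0x1441a80000000000257b4500)
 (.cons 64 (nat_lit 0x50010a23ca24a640)
 .nil)))))))))))))
noncomputable def a100 : Net := (.cons 64 (nat_lit 0x10010ca508168810)
 (.cons 32 (nat_lit 0xf808e400000000001d01220)
 (.cons 16 (nat_lit 0x14a00000a0380000f10000001a10)
 (.cons 8 (nat_lit 0xa8004600100098004a00ca00560020)
 (.cons 4 (nat_lit 0xa000808000e080d0a020a06080c000c)
 (.cons 2 (nat_lit 0x2021002203120021000202022222022)
 (.cons 1 (nat_lit 0x1010001405000400504011014041004)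
 (.cons 2 (nat_lit 0x2020002200000000000002022022002)
 (.cons 4 (nat_lit 0x8000008000e080c0a000a000408080c)
 (.cons 8 (nat_lit 0xa8004000100098004a00ca00000030)
 (.cons 16 (nat_lit 0x14a00000a0080000d00000008200)
 (.cons 32 (nat_lit 0xf808a400000000001501220)
 (.cons 64 (nat_lit 0x10010ca508168810)
 .nil)))))))))))))
noncomputable def a101 : Net := (.cons 64 (nat_lit 0xc0000023425a2240)
 (.cons 32 (nat_lit 0x64e02000000000006700861a)
 (.cons 16 (nat_lit 0xa000004c100000f2000000e100)
 (.cons 8 (nat_lit 0x600024008600d40004003400e40099)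
 (.cons 4 (nat_lit 0xc00040a0000040902040e0306040000)
 (.cons 2 (nat_lit 0x20202002022212222322310032030222)
 (.cons 1 (nat_lit 0x44404001001100400500501104400400)
 (.cons 2 (nat_lit 0x20202002002200200000000002000200)
 (.cons 4 (nat_lit 0xc0004080000040802000e0006040000)
 (.cons 8 (nat_lit 0x600024008200d40004003400e40088)
 (.cons 16 (nat_lit 0xa000004c100000f2000000c100)
 (.cons 32 (nat_lit 0x64e020000000000067008612)
 (.cons 64 (nat_lit 0xc0000023425a2200)
 .nil)))))))))))))
noncomputable def a102 : Net := (.cons 64 (nat_lit 0x701004c348000500)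
 (.cons 32 (nat_lit 0x7d0a12900000000067415400)
 (.cons 16 (nat_lit 0x400000060c80000f0000000bc48)
 (.cons 8 (nat_lit 0x2800160034000000ec00a400f80060)
 (.cons 4 (nat_lit 0x90a04010009000a0006060308010e00)
 (.cons 2 (nat_lit 0x201000220001023103012022200002)
 (.cons 1 (nat_lit 0x40100040040040010040001140000000)
 (.cons 2 (nat_lit 0x200000020000020000000220000000)
 (.cons 4 (nat_lit 0x8080400000000080006040808000000)
 (.cons 8 (nat_lit 0x2800140034000000ec00a000f00060)
 (.cons 16 (nat_lit 0x40880000f0000000bc48)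
 (.cons 32 (nat_lit 0x7d0a12900000000067415400)
 (.cons 64 (nat_lit 0x701004c348000500)
 .nil)))))))))))))
noncomputable def a103 : Net := (.cons 64 (nat_lit 0x50010a23ca24a640)
 (.cons 32 (nat_lit 0x1441a80100000000256b5510)
 (.cons 16 (nat_lit 0x404000090200000897c0000591a)
 (.cons 8 (nat_lit 0x40002400a800140060005400d80088)
 (.cons 4 (nat_lit 0x80004020c04040202060e0c000c)
 (.cons 2 (nat_lit 0x10202200202020100032320022320)
 (.cons 1 (nat_lit 0x4140140444005454001404505)
 (.cons 2 (nat_lit 0x2200200020000002000002000)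
 (.cons 4 (nat_lit 0x80004000c04040202060a0c000c)
 (.cons 8 (nat_lit 0x400a800040060004400c80088)
 (.cons 16 (nat_lit 0x404000090000000896c0000590a)
 (.cons 32 (nat_lit 0x1441a80000000000257b4500)
 (.cons 64 (nat_lit 0x50010a23ca24a640)
 .nil)))))))))))))
noncomputable def a104 : Net := (.cons 64 (nat_lit 0x261981202381d900)
 (.cons 32 (nat_lit 0x627f2020000000001090a26a)
 (.cons 16 (nat_lit 0xe0540000cd9800009e0c00003a00)
 (.cons 8 (nat_lit 0xa400010001008c00c0004e007200c2)
 (.cons 4 (nat_lit 0x40200080a000d060606020a04070f05)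
 (.cons 2 (nat_lit 0x20202032022002331200102022321202)
 (.cons 1 (nat_lit 0x40054054441040551154101140414500)
 (.cons 2 (nat_lit 0x20002002202000000202202020000000)
 (.cons 4 (nat_lit 0x402000804000c00060a040a000c0000)
 (.cons 8 (nat_lit 0xa400000080000c0000004e009600c2)
 (.cons 16 (nat_lit 0xe05400004f0800001e4c00000e00)
 (.cons 32 (nat_lit 0x627f202000000000c0749468)
 (.cons 64 (nat_lit 0x261981202381d900)
 .nil)))))))))))))
noncomputable def a105 : Net := (.cons 64 (nat_lit 0xdef4b00000000000)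
 (.cons 32 (nat_lit 0x3b16a09000000000a1810100)
 (.cons 16 (nat_lit 0x40080000aa440000a18100000140)
 (.cons 8 (nat_lit 0xda000000900018000100a100200008)
 (.cons 4 (nat_lit 0xf08000c000904040000020004020e08)
 (.cons 2 (nat_lit 0x33020012300003120000003002000220)
 (.cons 1 (nat_lit 0x55145001000000010000005001011044)
 (.cons 2 (nat_lit 0x20002000000020000000002000020)
 (.cons 4 (nat_lit 0xc000004040000000000020a08)
 (.cons 8 (nat_lit 0xda000000900018000000a000200000)
 (.cons 16 (nat_lit 0x40080000aa040000a00000000140)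
 (.cons 32 (nat_lit 0x3b16a09000000000a1810100)
 (.cons 64 (nat_lit 0xdef4b00000000000)
 .nil)))))))))))))
noncomputable def a106 : Net := (.cons 64 (nat_lit 0x18a91163c0606d08)
 (.cons 32 (nat_lit 0x194a10a800000000e5aa3e88)
 (.cons 16 (nat_lit 0x106e0000191400009f080000aa10)
 (.cons 8 (nat_lit 0xcc006000f20026003e00a100a400a4)
 (.cons 4 (nat_lit 0x902040a0d00040802060c0404030a05)
 (.cons 2 (nat_lit 0x13020122323030311212000213002322)
 (.cons 1 (nat_lit 0x41011001515504504414045005514000)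
 (.cons 2 (nat_lit 0x2020002020000002200020000000000)
 (.cons 4 (nat_lit 0x400040a040004080a080c0404000000)
 (.cons 8 (nat_lit 0xcc006000f2002400c000a000a400a4)
 (.cons 16 (nat_lit 0x106e0000191400009f080000aa10)
 (.cons 32 (nat_lit 0x194a10a800000000e3aa7e08)
 (.cons 64 (nat_lit 0x18a91163c0606d08)
 .nil)))))))))))))
noncomputable def a107 : Net := (.cons 64 (nat_lit 0xb83b711ff453c35c)
 (.cons 32 (nat_lit 0x85d4d239000000002890003e)
 (.cons 16 (nat_lit 0x1022000051a600008e240000f503)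
 (.cons 8 (nat_lit 0xa8000800d00040004c000e00e000df)
 (.cons 4 (nat_lit 0xd040f03090e0001040400010506080a)
 (.cons 2 (nat_lit 0x20012103200030022030021000030233)
 (.cons 1 (nat_lit 0x40540004011440010154000441410514)
 (.cons 2 (nat_lit 0x20000002002020020000000220000020)
 (.cons 4 (nat_lit 0x4000402080a04000004000002000c06)
 (.cons 8 (nat_lit 0xa004000300068000000260058)
 (.cons 16 (nat_lit 0xa008000061be00008aa00000e506)
 (.cons 32 (nat_lit 0x15e5e324000000002cd08410)
 (.cons 64 (nat_lit 0xb83b71193d7af5dc)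
 .nil)))))))))))))
noncomputable def a108 : Net := (.cons 64 (nat_lit 0x781bc48166cb437f)
 (.cons 32 (nat_lit 0x9108860c0000000059d0f821)
 (.cons 16 (nat_lit 0xba9d000047ad0000e9be0000b341)
 (.cons 8 (nat_lit 0x87002c005f0062007000c500cb0068)
 (.cons 4 (nat_lit 0x808000b0e0800060c08070f0006080a)
 (.cons 2 (nat_lit 0x1001021311032302110130100200100)
 (.cons 1 (nat_lit 0x4014011501440415140410414414110)
 (.cons 2 (nat_lit 0x20020000020220200220220202220)
 (.cons 4 (nat_lit 0xc08080a0a0404040408020e06060e0a)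
 (.cons 8 (nat_lit 0x4002c003a0048001e001400c8004c)
 (.cons 16 (nat_lit 0x7a9600005f2c0000e98e0000b588)
 (.cons 32 (nat_lit 0xf103460800000000dbb0cb22)
 (.cons 64 (nat_lit 0x781bc484d6650db0)
 .nil)))))))))))))
noncomputable def a109 : Net := (.cons 64 (nat_lit 0xa2a04e6b7ad28ed3)
 (.cons 32 (nat_lit 0xcc5953af000000006d4f1997)
 (.cons 16 (nat_lit 0x69a700004c360000fc8300004cc5)
 (.cons 8 (nat_lit 0xf00f0004200aa007c0049003400c9)
 (.cons 4 (nat_lit 0x8030e0109040a060c0204060f0d0c08)
 (.cons 2 (nat_lit 0x1010200021220201020120123211103)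
 (.cons 1 (nat_lit 0x4044010041400010400111445111404)
 (.cons 2 (nat_lit 0x20200000000020020222000)
 (.cons 4 (nat_lit 0xc0c00000408020008040608000e0c)
 (.cons 8 (nat_lit 0x98006600a8006c005000e00022)
 (.cons 16 (nat_lit 0x67ce0000ec340000cc8800001fe8)
 (.cons 32 (nat_lit 0x4cd95b84000000007c199904)
 (.cons 64 (nat_lit 0xa2a04e607ee82522)
 .nil)))))))))))))
noncomputable def a110 : Net := (.cons 64 (nat_lit 0x7400060c188e4034)
 (.cons 32 (nat_lit 0x49160e8f00000000561ae634)
 (.cons 16 (nat_lit 0x711c0000e312000074890000c136)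
 (.cons 8 (nat_lit 0x4700970046008e008d000e005d)
 (.cons 4 (nat_lit 0xb01050600020b0607080a030d02)
 (.cons 2 (nat_lit 0x22311020130232033302002320102)
 (.cons 1 (nat_lit 0x4001441140440441010041541414410)
 (.cons 2 (nat_lit 0x2200220000200020002002002000)
 (.cons 4 (nat_lit 0x8000600000000080a04040a0002)
 (.cons 8 (nat_lit 0x5000740062000000c800e4004c)
 (.cons 16 (nat_lit 0x711c0000e15a00006a400000485a)
 (.cons 32 (nat_lit 0x49160c8600000000549cdfa4)
 (.cons 64 (nat_lit 0x740006036a4f49c4)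
 .nil)))))))))))))
noncomputable def a111 : Net := (.cons 64 (nat_lit 0x3c400e1f816d3b20)
 (.cons 32 (nat_lit 0x29830c8500000000f331de9a)
 (.cons 16 (nat_lit 0x35dc0000032e000076c900008174)
 (.cons 8 (nat_lit 0x8200d0008e00e0004c00f0008b005e)
 (.cons 4 (nat_lit 0x8050a0107020a090a06090a0c080301)
 (.cons 2 (nat_lit 0x2122300232030003111220201020120)
 (.cons 1 (nat_lit 0x4014000450410040410104041011440)
 (.cons 2 (nat_lit 0x20000200000000200200000020220)
 (.cons 4 (nat_lit 0x8040c0000080e000400080408000800)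
 (.cons 8 (nat_lit 0x8a00d200d600c4003a00e000c2004e)
 (.cons 16 (nat_lit 0x3d5c00008902000096f40000803e)
 (.cons 32 (nat_lit 0x5830488000000007233ef30)
 (.cons 64 (nat_lit 0x3c400e15f119b40a)
 .nil)))))))))))))
noncomputable def a112 : Net := (.cons 64 (nat_lit 0x488037d22ae9a756)
 (.cons 32 (nat_lit 0x8a60168a0000000097f9b0ea)
 (.cons 16 (nat_lit 0xca8000002cfc000098e30000cb2d)
 (.cons 8 (nat_lit 0x2000eb00e9008400ef004c00920055)
 (.cons 4 (nat_lit 0x200080a050f03070b0a0c0601040902)
 (.cons 2 (nat_lit 0x1333302303022122302123130102)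
 (.cons 1 (nat_lit 0x400410500404414410500140410404)
 (.cons 2 (nat_lit 0x202222000000020220000)
 (.cons 4 (nat_lit 0xc020c0e02060802040602020804)
 (.cons 8 (nat_lit 0x20003800b00086004400cc00860058)
 (.cons 16 (nat_lit 0xcac000000ce40000282800008a12)
 (.cons 32 (nat_lit 0xc26027820000000023de70c0)
 (.cons 64 (nat_lit 0x488037d60ac29904)
 .nil)))))))))))))
noncomputable def a113 : Net := (.cons 64 (nat_lit 0x74410bc4a9e973ca)
 (.cons 32 (nat_lit 0x880002d9000000004b1d3dbb)
 (.cons 16 (nat_lit 0xf00000006476000043ae0000b39c)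
 (.cons 8 (nat_lit 0xc0064005500200089007b00ae0030)
 (.cons 4 (nat_lit 0xc0d0400070408000e08060a06050a)
 (.cons 2 (nat_lit 0x10203031222330200021200002033)
 (.cons 1 (nat_lit 0x404415041501144141054110404050)
 (.cons 2 (nat_lit 0x200020002020222000220002000)
 (.cons 4 (nat_lit 0x800040604000c000402000a080408)
 (.cons 8 (nat_lit 0xc007c00340032008000cc008c0080)
 (.cons 16 (nat_lit 0xf0000000735c0000833c000083f4)
 (.cons 32 (nat_lit 0xc800081000000000cb1b9da8)
 (.cons 64 (nat_lit 0x74410bce9cdf4988)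
 .nil)))))))))))))
noncomputable def a114 : Net := (.cons 64 (nat_lit 0x500811bcc50f2a2e)
 (.cons 32 (nat_lit 0x807d0a2900000000772df6d0)
 (.cons 16 (nat_lit 0x120500004e880000275900000679)
 (.cons 8 (nat_lit 0x4a00110098002f00fe00bb00ea0074)
 (.cons 4 (nat_lit 0x3000f020202050c0e090a06020106)
 (.cons 2 (nat_lit 0x20010210010032303200300322203301)
 (.cons 1 (nat_lit 0x10100110011041445001104441045101)
 (.cons 2 (nat_lit 0x20000220020000020002202022020200)
 (.cons 4 (nat_lit 0x800000c0a0208020400000000000806)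
 (.cons 8 (nat_lit 0xa00100098001e00c0002a00e40010)
 (.cons 16 (nat_lit 0x21000004b00000085c40000a37c)
 (.cons 32 (nat_lit 0x80751ab000000000de7f58d8)
 (.cons 64 (nat_lit 0x500811b5a5172bae)
 .nil)))))))))))))
noncomputable def a115 : Net := (.cons 64 (nat_lit 0x40000497880d3410)
 (.cons 32 (nat_lit 0x461148800000000264b0324)
 (.cons 16 (nat_lit 0x4a40000819800007441000081e6)
 (.cons 8 (nat_lit 0xc00014004400e000b0004800ca0030)
 (.cons 4 (nat_lit 0x800000608000c00090c0f020208050e)
 (.cons 2 (nat_lit 0x10020033002223220110023100231)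
 (.cons 1 (nat_lit 0x4000041001000115014140015404150)
 (.cons 2 (nat_lit 0x20002000220020220020000200)
 (.cons 4 (nat_lit 0x800000608000800080c0000000c080c)
 (.cons 8 (nat_lit 0x80000400c4004000a8004800c60034)
 (.cons 16 (nat_lit 0x4a400000308000074400000ecd0)
 (.cons 32 (nat_lit 0x46114800000000027530324)
 (.cons 64 (nat_lit 0x40000497480d3400)
 .nil)))))))))))))
noncomputable def a116 : Net := (.cons 64 (nat_lit 0x50010a23ca24a640)
 (.cons 32 (nat_lit 0x1441a80100000000256b5510)
 (.cons 16 (nat_lit 0x404000090200000897c0000591a)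
 (.cons 8 (nat_lit 0x40002400a800140060005400d80088)
 (.cons 4 (nat_lit 0x80004020c04040202060e0c000c)
 (.cons 2 (nat_lit 0x10202200202020100032320022320)
 (.cons 1 (nat_lit 0x4140140444005454001404505)
 (.cons 2 (nat_lit 0x2200200020000002000002000)
 (.cons 4 (nat_lit 0x80004000c04040202060a0c000c)
 (.cons 8 (nat_lit 0x400a800040060004400c80088)
 (.cons 16 (nat_lit 0x404000090000000896c0000590a)
 (.cons 32 (nat_lit 0x1441a80000000000257b4500)
 (.cons 64 (nat_lit 0x50010a23ca24a640)
 .nil)))))))))))))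
noncomputable def a117 : Net := (.cons 64 (nat_lit 0x108028b19a293440)
 (.cons 32 (nat_lit 0x48a204000000000005428042)
 (.cons 16 (nat_lit 0x58a80000b2a8000060000000a2aa)
 (.cons 8 (nat_lit 0x880050003800a000480068006800e8)
 (.cons 4 (nat_lit 0x8000c0d0800090f000006040e0a070c)
 (.cons 2 (nat_lit 0x23002222102220021222002001120)
 (.cons 1 (nat_lit 0x101000444440014101050005)
 (.cons 2 (nat_lit 0x202000220020022002000000)
 (.cons 4 (nat_lit 0xc080800080000000204080a000c)
 (.cons 8 (nat_lit 0x880050001800a000480068006000e8)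
 (.cons 16 (nat_lit 0x58880000b2a8000060000000a08a)
 (.cons 32 (nat_lit 0x48a204000000000005428042)
 (.cons 64 (nat_lit 0x108028b19a293440)
 .nil)))))))))))))
noncomputable def a118 : Net := (.cons 64 (nat_lit 0x2009a89a20ae08)
 (.cons 32 (nat_lit 0x729021090000000004421308)
 (.cons 16 (nat_lit 0x5880000018240000c0400000d082)
 (.cons 8 (nat_lit 0x2800600050009600b00050008c00c0)
 (.cons 4 (nat_lit 0x20201040c010906090808020f0e0600)
 (.cons 2 (nat_lit 0x220003000200223100022120202220)
 (.cons 1 (nat_lit 0x100045000404411410014044014401)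
 (.cons 2 (nat_lit 0x200000000202022000022002002200)
 (.cons 4 (nat_lit 0x200040000080604000802000a0000)
 (.cons 8 (nat_lit 0x2800400050001000b00040008c00c0)
 (.cons 16 (nat_lit 0x5880000018040000c0000000d082)
 (.cons 32 (nat_lit 0x729021000000000004421300)
 (.cons 64 (nat_lit 0x2009a89a20ae08)
 .nil)))))))))))))
noncomputable def a119 : Net := (.cons 64 (nat_lit 0xfb800100000)
 (.cons 32 (nat_lit 0x8018fb8000000000f180800)
 (.cons 16 (nat_lit 0xc00000000000000f0080000a240)
 (.cons 8 (nat_lit 0x4009e002200fb0000007800aa0040)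
 (.cons 4 (nat_lit 0x20e060c000f0a0007000c0500)
 (.cons 2 (nat_lit 0x12222020020002023003102203122)
 (.cons 1 (nat_lit 0x1401044010144410404101150040)
 (.cons 2 (nat_lit 0x2202002020000220002002200020)
 (.cons 4 (nat_lit 0x80208000000000a0000000c0000)
 (.cons 8 (nat_lit 0x4009e00c400f800000070008a0040)
 (.cons 16 (nat_lit 0xc00000000000000f0080000a240)
 (.cons 32 (nat_lit 0x8018f00000000000f180800)
 (.cons 64 (nat_lit 0xfb800100000)
 .nil)))))))))))))
noncomputable def a120 : Net := (.cons 64 (nat_lit 0x60010e8698a93000)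
 (.cons 32 (nat_lit 0x2e52020c000000008f04b0c0)
 (.cons 16 (nat_lit 0x6682000070000000019000009154)
 (.cons 8 (nat_lit 0x80022008000a2002c00f000600044)
 (.cons 4 (nat_lit 0x4040400040500030801070908060a)
 (.cons 2 (nat_lit 0x2230220000200010000001332020300)
 (.cons 1 (nat_lit 0x4150041004100500404404111414440)
 (.cons 2 (nat_lit 0x2200020000200000000000222022000)
 (.cons 4 (nat_lit 0x40004000400000800000800080808)
 (.cons 8 (nat_lit 0x80022008000a000a0003000400044)
 (.cons 16 (nat_lit 0x6682000070000000019000001004)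
 (.cons 32 (nat_lit 0x2e520204000000008f04b0c0)
 (.cons 64 (nat_lit 0x60010e8698a93000)
 .nil)))))))))))))
noncomputable def a121 : Net := (.cons 64 (nat_lit 0x742d491e28376fba)
 (.cons 32 (nat_lit 0x12caca6700000000fc5162de)
 (.cons 16 (nat_lit 0x78250000909100005d0500001bee)
 (.cons 8 (nat_lit 0x22006b00cc00c90092002b00b00084)
 (.cons 4 (nat_lit 0x601050400000804010a03090c0400)
 (.cons 2 (nat_lit 0x22212221300102033021022002102200)
 (.cons 1 (nat_lit 0x40405040101401444010411010044104)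
 (.cons 2 (nat_lit 0x20000020200002020020000000000202)
 (.cons 4 (nat_lit 0x602040404000002000e080a0c0e00)
 (.cons 8 (nat_lit 0x64001800c800c800c6000800b0008a)
 (.cons 16 (nat_lit 0x7a260000908800006d9400001a20)
 (.cons 32 (nat_lit 0x46c7ca6800000000f4436058)
 (.cons 64 (nat_lit 0x742d4912287a3fba)
 .nil)))))))))))))
noncomputable def a122 : Net := (.cons 64 (nat_lit 0x9c55a57bea22300c)
 (.cons 32 (nat_lit 0x1c538bdf000000000b000004)
 (.cons 16 (nat_lit 0x2d12000094550000212800001130)
 (.cons 8 (nat_lit 0x46007a00be00e5004800c7002000be)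
 (.cons 4 (nat_lit 0xe0504040403000f000c0f04000a0002)
 (.cons 2 (nat_lit 0x31103002201030200200320111200030)
 (.cons 1 (nat_lit 0x50004441401040140004100550415114)
 (.cons 2 (nat_lit 0x2002020020002200000000202)
 (.cons 4 (nat_lit 0x4040c04040200020004040602080804)
 (.cons 8 (nat_lit 0x42007000f600c4004000e4001000e0)
 (.cons 16 (nat_lit 0xa9000000c010000069a200001644)
 (.cons 32 (nat_lit 0xc522be40000000049000088)
 (.cons 64 (nat_lit 0x9c55a5796b8502c8)
 .nil)))))))))))))
noncomputable def a123 : Net := (.cons 64 (nat_lit 0xe4309cbefb802150)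
 (.cons 32 (nat_lit 0x34b090270000000065c02310)
 (.cons 16 (nat_lit 0xd09a00004e8000007a0100004b04)
 (.cons 8 (nat_lit 0xb8008000580020005600d400c0)
 (.cons 4 (nat_lit 0x80a0001060a020b00060609040f0f00)
 (.cons 2 (nat_lit 0x203023011221100120100010212102)
 (.cons 1 (nat_lit 0x4004011411441110040004004005504)
 (.cons 2 (nat_lit 0x22002222200020000000000000)
 (.cons 4 (nat_lit 0x80800000e0c040c04040008000c0808)
 (.cons 8 (nat_lit 0x800028000000580020005c000400cc)
 (.cons 16 (nat_lit 0xd48a0000ce8000007a0000005000)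
 (.cons 32 (nat_lit 0x74b004820000000065402310)
 (.cons 64 (nat_lit 0xe4309cbefb802150)
 .nil)))))))))))))
noncomputable def a124 : Net := (.cons 64 (nat_lit 0x8fffe00000000000)
 (.cons 32 (nat_lit 0x4456fc3a000000000e000000)
 (.cons 16 (nat_lit 0xe75f00002b3200006d9000004884)
 (.cons 8 (nat_lit 0xb4002f0081003800900020000800d2)
 (.cons 4 (nat_lit 0xe02090b040a090009000208000e000c)
 (.cons 2 (nat_lit 0x12011331100120012000322300230112)
 (.cons 1 (nat_lit 0x40041410404001441400444440100014)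
 (.cons 2 (nat_lit 0x202002002200200200200000)
 (.cons 4 (nat_lit 0x2080a0a060a0000080000080008040c)
 (.cons 8 (nat_lit 0x380038000200720090004800000052)
 (.cons 16 (nat_lit 0x2f440000a93000006d9000008884)
 (.cons 32 (nat_lit 0x41a4dc34000000000e000000)
 (.cons 64 (nat_lit 0x8fffe00000000000)
 .nil)))))))))))))
noncomputable def a125 : Net := (.cons 64 (nat_lit 0xfc6600000000000)
 (.cons 32 (nat_lit 0x28ae6800000000000f000000)
 (.cons 16 (nat_lit 0x68800000030000009f000000d280)
 (.cons 8 (nat_lit 0x60008004200740000003900640040)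
 (.cons 4 (nat_lit 0x80008040400010f00080600000c0604)
 (.cons 2 (nat_lit 0x222002202231312320100202030020)
 (.cons 1 (nat_lit 0x41400041151441414000004454050140)
 (.cons 2 (nat_lit 0x200002202220202000000202000020)
 (.cons 4 (nat_lit 0x80008040400060000080400000c0204)
 (.cons 8 (nat_lit 0x20008004200740000003000640040)
 (.cons 16 (nat_lit 0x68800000030000000f000000d280)
 (.cons 32 (nat_lit 0x28ae6800000000000f000000)
 (.cons 64 (nat_lit 0xfc6600000000000)
 .nil)))))))))))))
noncomputable def a126 : Net := (.cons 64 (nat_lit 0xd447effb7e080000)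
 (.cons 32 (nat_lit 0x3b729f8000000001e4ad026)
 (.cons 16 (nat_lit 0xf93e0000d60000005fbe0000eee0)
 (.cons 8 (nat_lit 0x6f00d700dc000f0014002c005200e6)
 (.cons 4 (nat_lit 0xa00090700050804000001030a080504)
 (.cons 2 (nat_lit 0x22020023021121212002202123013002)
 (.cons 1 (nat_lit 0x44410104040101104010010414054004)
 (.cons 2 (nat_lit 0x20000202020202002000020022002000)
 (.cons 4 (nat_lit 0x80e080000080008040208020e080404)
 (.cons 8 (nat_lit 0xa0004000dc00a2007400ae00520044)
 (.cons 16 (nat_lit 0xbf1c0000de0200005f9c0000cfe8)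
 (.cons 32 (nat_lit 0x83b42180000000003e62d028)
 (.cons 64 (nat_lit 0xd447effb7e080000)
 .nil)))))))))))))
noncomputable def a127 : Net := (.cons 64 (nat_lit 0x532ad5155dbef66f)
 (.cons 32 (nat_lit 0x6bd6cd0600000000317fcb12)
 (.cons 16 (nat_lit 0xf2640000a58a000064e50000ea90)
 (.cons 8 (nat_lit 0xa001b00b5003500200009002e0048)
 (.cons 4 (nat_lit 0x900070d000f0b050102020d000c020b)
 (.cons 2 (nat_lit 0x32202001203010011030200000212200)
 (.cons 1 (nat_lit 0x11104410014115044004014100401444)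
 (.cons 2 (nat_lit 0x20202020000000000002020000000200)
 (.cons 4 (nat_lit 0x808000a02040c0400020002000a0000)
 (.cons 8 (nat_lit 0x9200460016003000c80084002e0082)
 (.cons 16 (nat_lit 0xa370000070a800004da00000c094)
 (.cons 32 (nat_lit 0x78fc081e00000000b1bee1d2)
 (.cons 64 (nat_lit 0x532ad51ccaade946)
 .nil)))))))))))))
noncomputable def a128 : Net := (.cons 64 (nat_lit 0x27d3e08cc8460361)
 (.cons 32 (nat_lit 0xfda2c835000000008dfac16e)
 (.cons 16 (nat_lit 0x98a10000579b00000de400006c8d)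
 (.cons 8 (nat_lit 0x4700a8005e0097000c00b500180051)
 (.cons 4 (nat_lit 0x203080d0a0d0908010e0a050a080b03)
 (.cons 2 (nat_lit 0x20021010210203003222300302013012)
 (.cons 1 (nat_lit 0x1140041400415451114404104141101)
 (.cons 2 (nat_lit 0x2020000000000002202200000202002)
 (.cons 4 (nat_lit 0x806000e0a080800000a000808000a04)
 (.cons 8 (nat_lit 0x260000005c00900004003a00380052)
 (.cons 16 (nat_lit 0xb8000000755a0000d1e00000648c)
 (.cons 32 (nat_lit 0xdaf328b0000000000df6d460)
 (.cons 64 (nat_lit 0x27d3e08cfee2763a)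
 .nil)))))))))))))
noncomputable def a129 : Net := (.cons 64 (nat_lit 0xd41a264cd5301c52)
 (.cons 32 (nat_lit 0x77080aca000000004eaeaf63)
 (.cons 16 (nat_lit 0xe28000002e670000298d00001084)
 (.cons 8 (nat_lit 0x9a008c00de007b000d00170060003a)
 (.cons 4 (nat_lit 0xc0002000c040400000c000a03020009)
 (.cons 2 (nat_lit 0x10000202321310022203011102202221)
 (.cons 1 (nat_lit 0x1000444441411014100041141111010)
 (.cons 2 (nat_lit 0x2000200000220022200002002202020)
 (.cons 4 (nat_lit 0x6000404000208000404080808020208)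
 (.cons 8 (nat_lit 0x9a00c000080066004000120060002a)
 (.cons 16 (nat_lit 0xc08000003e70000025ec00000884)
 (.cons 32 (nat_lit 0xb3002c8c00000000472a3f7a)
 (.cons 64 (nat_lit 0xd41a26420950b728)
 .nil)))))))))))))
noncomputable def a130 : Net := (.cons 64 (nat_lit 0x1180225d42d12f29)
 (.cons 32 (nat_lit 0x5a4887300000000e2b94746)
 (.cons 16 (nat_lit 0x155600008dc0000004f00000594a)
 (.cons 8 (nat_lit 0x4000800de00a800de008d00a1)
 (.cons 4 (nat_lit 0x202020c02020e0e020d0700050c)
 (.cons 2 (nat_lit 0x322100020012022021321110232000)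
 (.cons 1 (nat_lit 0x441105050400114040410001141404)
 (.cons 2 (nat_lit 0x220200000200222000020002220002)
 (.cons 4 (nat_lit 0x802020c0402040e020004020c08)
 (.cons 8 (nat_lit 0x2c004800dc002000dc00a20078)
 (.cons 16 (nat_lit 0x155600008dd000008c300000c958)
 (.cons 32 (nat_lit 0x4248870000000006ee1cbc4)
 (.cons 64 (nat_lit 0x1180225bd3f5ad08)
 .nil)))))))))))))
noncomputable def a131 : Net := (.cons 64 (nat_lit 0xf73e485d68c)
 (.cons 32 (nat_lit 0xaec92c1a00000000a0740019)
 (.cons 16 (nat_lit 0x28cb00004bda0000e0e50000dede)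
 (.cons 8 (nat_lit 0x48004200ca00c400ff001000540032)
 (.cons 4 (nat_lit 0x8000c090d00000a0809000e0a0b0609)
 (.cons 2 (nat_lit 0x20000121032000312103303001011201)
 (.cons 1 (nat_lit 0x44014011054400451545105140141514)
 (.cons 2 (nat_lit 0x20000002002000202000000220020000)
 (.cons 4 (nat_lit 0x8000c04000e000600060c080c0c)
 (.cons 8 (nat_lit 0x420042008000d4007400d00050001a)
 (.cons 16 (nat_lit 0x2ca00000ada000070680000471e)
 (.cons 32 (nat_lit 0xaec920420000000053c40090)
 (.cons 64 (nat_lit 0xf760a3bf6b6)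
 .nil)))))))))))))
noncomputable def a132 : Net := (.cons 64 (nat_lit 0x400022c31117a060)
 (.cons 32 (nat_lit 0xc5008081000000009d040218)
 (.cons 16 (nat_lit 0x240400006ad8000091040000c532)
 (.cons 8 (nat_lit 0x8000c0008c00e8009000aa00880069)
 (.cons 4 (nat_lit 0x20800080e00060c0801050808000004)
 (.cons 2 (nat_lit 0x202100232322002222221303002)
 (.cons 1 (nat_lit 0x1044400001050041040401010055004)
 (.cons 2 (nat_lit 0x200000000022000202020000002)
 (.cons 4 (nat_lit 0x20800080400060c0800040808000004)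
 (.cons 8 (nat_lit 0x8000c0008c00c0009000aa00880060)
 (.cons 16 (nat_lit 0x240400006a98000091000000c532)
 (.cons 32 (nat_lit 0xc50080800000000099040218)
 (.cons 64 (nat_lit 0x400022c31117a060)
 .nil)))))))))))))
noncomputable def a133 : Net := (.cons 64 (nat_lit 0x3918902df55f2f63)
 (.cons 32 (nat_lit 0xf9f28dbc0000000037753e60)
 (.cons 16 (nat_lit 0xc90c0000120d00006c3500002877)
 (.cons 8 (nat_lit 0x5e008c003200f200b4003c0064002b)
 (.cons 4 (nat_lit 0x60801030c02060706050b00000f0400)
 (.cons 2 (nat_lit 0x3201022100302322330212200312101)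
 (.cons 1 (nat_lit 0x11004014401504100541104440504104)
 (.cons 2 (nat_lit 0x20000000000002200000202200002000)
 (.cons 4 (nat_lit 0xc02040c020408000808000c)
 (.cons 8 (nat_lit 0xe60004003a00d200b0002c00240022)
 (.cons 16 (nat_lit 0x49ac0000000400005c1400002c74)
 (.cons 32 (nat_lit 0xd0fa1d9c00000000b7567ab0)
 (.cons 64 (nat_lit 0x39189025ed411a28)
 .nil)))))))))))))
noncomputable def a134 : Net := (.cons 64 (nat_lit 0x710507c12423fca2)
 (.cons 32 (nat_lit 0x439f4196000000009b12081f)
 (.cons 16 (nat_lit 0x571c000060400000f5000000dcb3)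
 (.cons 8 (nat_lit 0x5b0040000500ce003a001500c2000d)
 (.cons 4 (nat_lit 0xd0c030a00000000020008050c050401)
 (.cons 2 (nat_lit 0x33001210012031010201212120300)
 (.cons 1 (nat_lit 0x41054040100015451040100114014404)
 (.cons 2 (nat_lit 0x20002020200000002020200200022202)
 (.cons 4 (nat_lit 0xe0c020208000602000a000404040a04)
 (.cons 8 (nat_lit 0x5c0012000000a400d0000400ce002c)
 (.cons 16 (nat_lit 0x1692000078600000f5100000fcc4)
 (.cons 32 (nat_lit 0x139f4618000000001b400804)
 (.cons 64 (nat_lit 0x710507cd141ee482)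
 .nil)))))))))))))
noncomputable def a135 : Net := (.cons 64 (nat_lit 0x4000eda4210d10)
 (.cons 32 (nat_lit 0x6040f8000000000f81d6114)
 (.cons 16 (nat_lit 0x22800004060000028090000294b)
 (.cons 8 (nat_lit 0x6000ca0060008800ee00e600ed0011)
 (.cons 4 (nat_lit 0x6000c00010a08040408080d00010700)
 (.cons 2 (nat_lit 0x200202020321033203101220013)
 (.cons 1 (nat_lit 0x40104400140040151105414144101)
 (.cons 2 (nat_lit 0x200200020020002200000000200)
 (.cons 4 (nat_lit 0x800000a0004040c080000080e00)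
 (.cons 8 (nat_lit 0x6000c80060008800ee00e400a80018)
 (.cons 16 (nat_lit 0x228000040600000cc0800008454)
 (.cons 32 (nat_lit 0x6040f8000000000f81d6114)
 (.cons 64 (nat_lit 0x4000eda4210d10)
 .nil)))))))))))))
noncomputable def a136 : Net := (.cons 64 (nat_lit 0x2c4185219dfca08a)
 (.cons 32 (nat_lit 0xe60b3c7d00000000bc08dd7e)
 (.cons 16 (nat_lit 0x981c0000a43000000b540000ba1d)
 (.cons 8 (nat_lit 0x4600c500710020000a004a00c30004)
 (.cons 4 (nat_lit 0x60300020404020e0f0a09050c0d0401)
 (.cons 2 (nat_lit 0x12322022021000302032023320211212)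
 (.cons 1 (nat_lit 0x44414004410000110450144114410441)
 (.cons 2 (nat_lit 0x20222002220000200000002202000202)
 (.cons 4 (nat_lit 0xc0600000004000e080a0a00040c0400)
 (.cons 8 (nat_lit 0x1a00e4007000200058005a00900094)
 (.cons 16 (nat_lit 0xb8140000a41000008e560000aa44)
 (.cons 32 (nat_lit 0xea0b3852000000002d00e76c)
 (.cons 64 (nat_lit 0x2c4185297da60c9a)
 .nil)))))))))))))
noncomputable def a137 : Net := (.cons 64 (nat_lit 0xfb800100000)
 (.cons 32 (nat_lit 0x8018fb8000000000f180800)
 (.cons 16 (nat_lit 0xc00000000000000f0080000a240)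
 (.cons 8 (nat_lit 0x4009e002200fb0000007800aa0040)
 (.cons 4 (nat_lit 0x20e060c000f0a0007000c0500)
 (.cons 2 (nat_lit 0x12222020020002023003102203122)
 (.cons 1 (nat_lit 0x1401044010144410404101150040)
 (.cons 2 (nat_lit 0x2202002020000220002002200020)
 (.cons 4 (nat_lit 0x80208000000000a0000000c0000)
 (.cons 8 (nat_lit 0x4009e00c400f800000070008a0040)
 (.cons 16 (nat_lit 0xc00000000000000f0080000a240)
 (.cons 32 (nat_lit 0x8018f00000000000f180800)
 (.cons 64 (nat_lit 0xfb800100000)
 .nil)))))))))))))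
noncomputable def a138 : Net := (.cons 64 (nat_lit 0x600441b7caa5b400)
 (.cons 32 (nat_lit 0x2e7010900000000025e32f20)
 (.cons 16 (nat_lit 0x4468000020200000a84a0000601e)
 (.cons 8 (nat_lit 0x18008100e000f80030000400a60050)
 (.cons 4 (nat_lit 0xc00040400080c0209090b02040e0400)
 (.cons 2 (nat_lit 0x22002012000212202020220020000210)
 (.cons 1 (nat_lit 0x14041004004104010011110104014405)
 (.cons 2 (nat_lit 0x22002002000202000002220000000200)
 (.cons 4 (nat_lit 0xc000004000804020802000204020400)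
 (.cons 8 (nat_lit 0x18008000c000f80030000000a40050)
 (.cons 16 (nat_lit 0x4448000020200000a80a0000600e)
 (.cons 32 (nat_lit 0x2e7010900000000025e32f20)
 (.cons 64 (nat_lit 0x600441b7caa5b400)
 .nil)))))))))))))
noncomputable def a139 : Net := (.cons 64 (nat_lit 0xc1972bf29f1c6018)
 (.cons 32 (nat_lit 0x6122bbd900000000e8d533a2)
 (.cons 16 (nat_lit 0x43ef00009b8700003af00000026a)
 (.cons 8 (nat_lit 0xa5003700550058004e006d00400096)
 (.cons 4 (nat_lit 0xc0005010700090d0c0a080e0c000005)
 (.cons 2 (nat_lit 0x20303320110003133003002000020020)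
 (.cons 1 (nat_lit 0x41011410100404411000415140000451)
 (.cons 2 (nat_lit 0x22020220000202202000200000000200)
 (.cons 4 (nat_lit 0xc08080002080402040c0c0808000000)
 (.cons 8 (nat_lit 0x400a6001800b0004a005800400098)
 (.cons 16 (nat_lit 0x427800009dce0000cc7000000660)
 (.cons 32 (nat_lit 0xa1b0904000000000c09d73a4)
 (.cons 64 (nat_lit 0xc1972bfd91ad114a)
 .nil)))))))))))))
noncomputable def a140 : Net := (.cons 64 (nat_lit 0xa2a04e6b7ad28ed3)
 (.cons 32 (nat_lit 0xcc5953af000000006d4f1997)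
 (.cons 16 (nat_lit 0x69a700004c360000fc8300004cc5)
 (.cons 8 (nat_lit 0xf00f0004200aa007c0049003400c9)
 (.cons 4 (nat_lit 0x8030e0109040a060c0204060f0d0c08)
 (.cons 2 (nat_lit 0x1010200021220201020120123211103)
 (.cons 1 (nat_lit 0x4044010041400010400111445111404)
 (.cons 2 (nat_lit 0x20200000000020020222000)
 (.cons 4 (nat_lit 0xc0c00000408020008040608000e0c)
 (.cons 8 (nat_lit 0x98006600a8006c005000e00022)
 (.cons 16 (nat_lit 0x67ce0000ec340000cc8800001fe8)
 (.cons 32 (nat_lit 0x4cd95b84000000007c199904)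
 (.cons 64 (nat_lit 0xa2a04e607ee82522)
 .nil)))))))))))))
noncomputable def a141 : Net := (.cons 64 (nat_lit 0xacb1b83b3f8d3953)
 (.cons 32 (nat_lit 0x5514919a0000000051055c93)
 (.cons 16 (nat_lit 0x2c1100006a0f00005b530000c4f8)
 (.cons 8 (nat_lit 0x31003f00b400b0004000cc003c00d2)
 (.cons 4 (nat_lit 0x80b030a0a040c08040609040a020308)
 (.cons 2 (nat_lit 0x2000323122330120313120120302201)
 (.cons 1 (nat_lit 0x51050114444010010011410105101401)
 (.cons 2 (nat_lit 0x2000020020000000002020000002202)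
 (.cons 4 (nat_lit 0xa000206040c020402000402020004)
 (.cons 8 (nat_lit 0x3e005200a80050008a001400d0)
 (.cons 16 (nat_lit 0x8d0000006a4e000008160000c632)
 (.cons 32 (nat_lit 0xd10401a600000000010b5b5c)
 (.cons 64 (nat_lit 0xacb1b83d126c550c)
 .nil)))))))))))))
noncomputable def a142 : Net := (.cons 64 (nat_lit 0xc2a046418ab6b191)
 (.cons 32 (nat_lit 0xecedf211000000006c86d1b1)
 (.cons 16 (nat_lit 0x828d0000c810000025e30000ab78)
 (.cons 8 (nat_lit 0x2000f0004200af00c8005a00750038)
 (.cons 4 (nat_lit 0xc00080c030e020b00000c090300080b)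
 (.cons 2 (nat_lit 0x2211230020223212230111133000300)
 (.cons 1 (nat_lit 0x44440011110441440140454014010140)
 (.cons 2 (nat_lit 0x20200020020022200220000020020000)
 (.cons 4 (nat_lit 0x4000c0e020c080e0806020006000808)
 (.cons 8 (nat_lit 0x800f00042006c00c8009200420022)
 (.cons 16 (nat_lit 0xa2c00000c81000001cf00000be4a)
 (.cons 32 (nat_lit 0xacedf6160000000065c55900)
 (.cons 64 (nat_lit 0xc2a046436ebfb410)
 .nil)))))))))))))
noncomputable def a143 : Net := (.cons 64 (nat_lit 0x3918902df55f2f63)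
 (.cons 32 (nat_lit 0xf9f28dbc0000000037753e60)
 (.cons 16 (nat_lit 0xc90c0000120d00006c3500002877)
 (.cons 8 (nat_lit 0x5e008c003200f200b4003c0064002b)
 (.cons 4 (nat_lit 0x60801030c02060706050b00000f0400)
 (.cons 2 (nat_lit 0x3201022100302322330212200312101)
 (.cons 1 (nat_lit 0x11004014401504100541104440504104)
 (.cons 2 (nat_lit 0x20000000000002200000202200002000)
 (.cons 4 (nat_lit 0xc02040c020408000808000c)
 (.cons 8 (nat_lit 0xe60004003a00d200b0002c00240022)
 (.cons 16 (nat_lit 0x49ac0000000400005c1400002c74)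
 (.cons 32 (nat_lit 0xd0fa1d9c00000000b7567ab0)
 (.cons 64 (nat_lit 0x39189025ed411a28)
 .nil)))))))))))))
noncomputable def a144 : Net := (.cons 64 (nat_lit 0xf0000de29475698a)
 (.cons 32 (nat_lit 0xe242628c00000000fd7f3ea0)
 (.cons 16 (nat_lit 0xd2020000e0a10000530f00001223)
 (.cons 8 (nat_lit 0x66009800fc00840011004400aa)
 (.cons 4 (nat_lit 0x604010400050f050007060b0908020e)
 (.cons 2 (nat_lit 0x2020221013232020021020302210201)
 (.cons 1 (nat_lit 0x4044145040114114411051444100101)
 (.cons 2 (nat_lit 0x2020020000222200220002202200202)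
 (.cons 4 (nat_lit 0x4040e0400040e0800080a000c08000c)
 (.cons 8 (nat_lit 0x4000440080006400b800b000520088)
 (.cons 16 (nat_lit 0xb0000000fc8800007b1a00001260)
 (.cons 32 (nat_lit 0x242630800000000f17f3eb0)
 (.cons 64 (nat_lit 0xf0000de41168758a)
 .nil)))))))))))))
noncomputable def a145 : Net := (.cons 64 (nat_lit 0x7000478a8203c3c0)
 (.cons 32 (nat_lit 0x79ac72be000000006a55a076)
 (.cons 16 (nat_lit 0x20080000de410000f51b000033c6)
 (.cons 8 (nat_lit 0x8800db00ac00140022003b00c900db)
 (.cons 4 (nat_lit 0x10c0d0104080c080a0800060b0f0a08)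
 (.cons 2 (nat_lit 0x201230022103322232210101301123)
 (.cons 1 (nat_lit 0x40405140040405141040540105401001)
 (.cons 2 (nat_lit 0x220020200222020020000002002)
 (.cons 4 (nat_lit 0x80c040604060c040a0a08060c040a00)
 (.cons 8 (nat_lit 0xa000fe00ec009000900012006200da)
 (.cons 16 (nat_lit 0x60a0000018000000754800003efc)
 (.cons 32 (nat_lit 0x59ac733400000000ea0f3044)
 (.cons 64 (nat_lit 0x7000478ee22ac270)
 .nil)))))))))))))
noncomputable def a146 : Net := (.cons 64 (nat_lit 0x600441b7caa5b400)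
 (.cons 32 (nat_lit 0x2e7010900000000025e32f20)
 (.cons 16 (nat_lit 0x4468000020200000a84a0000601e)
 (.cons 8 (nat_lit 0x18008100e000f80030000400a60050)
 (.cons 4 (nat_lit 0xc00040400080c0209090b02040e0400)
 (.cons 2 (nat_lit 0x22002012000212202020220020000210)
 (.cons 1 (nat_lit 0x14041004004104010011110104014405)
 (.cons 2 (nat_lit 0x22002002000202000002220000000200)
 (.cons 4 (nat_lit 0xc000004000804020802000204020400)
 (.cons 8 (nat_lit 0x18008000c000f80030000000a40050)
 (.cons 16 (nat_lit 0x4448000020200000a80a0000600e)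
 (.cons 32 (nat_lit 0x2e7010900000000025e32f20)
 (.cons 64 (nat_lit 0x600441b7caa5b400)
 .nil)))))))))))))
noncomputable def a147 : Net := (.cons 64 (nat_lit 0x2c4185219dfca08a)
 (.cons 32 (nat_lit 0xe60b3c7d00000000bc08dd7e)
 (.cons 16 (nat_lit 0x981c0000a43000000b540000ba1d)
 (.cons 8 (nat_lit 0x4600c500710020000a004a00c30004)
 (.cons 4 (nat_lit 0x60300020404020e0f0a09050c0d0401)
 (.cons 2 (nat_lit 0x12322022021000302032023320211212)
 (.cons 1 (nat_lit 0x44414004410000110450144114410441)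
 (.cons 2 (nat_lit 0x20222002220000200000002202000202)
 (.cons 4 (nat_lit 0xc0600000004000e080a0a00040c0400)
 (.cons 8 (nat_lit 0x1a00e4007000200058005a00900094)
 (.cons 16 (nat_lit 0xb8140000a41000008e560000aa44)
 (.cons 32 (nat_lit 0xea0b3852000000002d00e76c)
 (.cons 64 (nat_lit 0x2c4185297da60c9a)
 .nil)))))))))))))
noncomputable def a148 : Net := (.cons 64 (nat_lit 0x600441b7caa5b400)
 (.cons 32 (nat_lit 0x2e7010900000000025e32f20)
 (.cons 16 (nat_lit 0x4468000020200000a84a0000601e)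
 (.cons 8 (nat_lit 0x18008100e000f80030000400a60050)
 (.cons 4 (nat_lit 0xc00040400080c0209090b02040e0400)
 (.cons 2 (nat_lit 0x22002012000212202020220020000210)
 (.cons 1 (nat_lit 0x14041004004104010011110104014405)
 (.cons 2 (nat_lit 0x22002002000202000002220000000200)
 (.cons 4 (nat_lit 0xc000004000804020802000204020400)
 (.cons 8 (nat_lit 0x18008000c000f80030000000a40050)
 (.cons 16 (nat_lit 0x4448000020200000a80a0000600e)
 (.cons 32 (nat_lit 0x2e7010900000000025e32f20)
 (.cons 64 (nat_lit 0x600441b7caa5b400)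
 .nil)))))))))))))
noncomputable def a149 : Net := (.cons 64 (nat_lit 0x50010a23ca24a640)
 (.cons 32 (nat_lit 0x1441a80100000000256b5510)
 (.cons 16 (nat_lit 0x404000090200000897c0000591a)
 (.cons 8 (nat_lit 0x40002400a800140060005400d80088)
 (.cons 4 (nat_lit 0x80004020c04040202060e0c000c)
 (.cons 2 (nat_lit 0x10202200202020100032320022320)
 (.cons 1 (nat_lit 0x4140140444005454001404505)
 (.cons 2 (nat_lit 0x2200200020000002000002000)
 (.cons 4 (nat_lit 0x80004000c04040202060a0c000c)
 (.cons 8 (nat_lit 0x400a800040060004400c80088)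
 (.cons 16 (nat_lit 0x404000090000000896c0000590a)
 (.cons 32 (nat_lit 0x1441a80000000000257b4500)
 (.cons 64 (nat_lit 0x50010a23ca24a640)
 .nil)))))))))))))
noncomputable def a150 : Net := (.cons 64 (nat_lit 0xfb800100000)
 (.cons 32 (nat_lit 0x8018fb8000000000f180800)
 (.cons 16 (nat_lit 0xc00000000000000f0080000a240)
 (.cons 8 (nat_lit 0x4009e002200fb0000007800aa0040)
 (.cons 4 (nat_lit 0x20e060c000f0a0007000c0500)
 (.cons 2 (nat_lit 0x12222020020002023003102203122)
 (.cons 1 (nat_lit 0x1401044010144410404101150040)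
 (.cons 2 (nat_lit 0x2202002020000220002002200020)
 (.cons 4 (nat_lit 0x80208000000000a0000000c0000)
 (.cons 8 (nat_lit 0x4009e00c400f800000070008a0040)
 (.cons 16 (nat_lit 0xc00000000000000f0080000a240)
 (.cons 32 (nat_lit 0x8018f00000000000f180800)
 (.cons 64 (nat_lit 0xfb800100000)
 .nil)))))))))))))
noncomputable def a151 : Net := (.cons 64 (nat_lit 0xf804251a711f7aee)
 (.cons 32 (nat_lit 0xd64c665000000000675884c)
 (.cons 16 (nat_lit 0x2e3800008e000000d0260000bad1)
 (.cons 8 (nat_lit 0x800c5003800ba003a00200096000d)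
 (.cons 4 (nat_lit 0x604060c0801090a0a01020c0f09030e)
 (.cons 2 (nat_lit 0x31100301100322000312000223322223)
 (.cons 1 (nat_lit 0x51000104401111144404000401140410)
 (.cons 2 (nat_lit 0x2002220202002000202220220)
 (.cons 4 (nat_lit 0x800060a0c0000000e0400040c040008)
 (.cons 8 (nat_lit 0x3c0084003800b8007800200004009e)
 (.cons 16 (nat_lit 0xe18000096000000d04000000b90)
 (.cons 32 (nat_lit 0xdd60e26c00000000063e1868)
 (.cons 64 (nat_lit 0xf804251d315668ac)
 .nil)))))))))))))
noncomputable def a152 : Net := (.cons 64 (nat_lit 0x701004c348000500)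
 (.cons 32 (nat_lit 0x7d0a12900000000067415400)
 (.cons 16 (nat_lit 0x400000060c80000f0000000bc48)
 (.cons 8 (nat_lit 0x2800160034000000ec00a400f80060)
 (.cons 4 (nat_lit 0x90a04010009000a0006060308010e00)
 (.cons 2 (nat_lit 0x201000220001023103012022200002)
 (.cons 1 (nat_lit 0x40100040040040010040001140000000)
 (.cons 2 (nat_lit 0x200000020000020000000220000000)
 (.cons 4 (nat_lit 0x8080400000000080006040808000000)
 (.cons 8 (nat_lit 0x2800140034000000ec00a000f00060)
 (.cons 16 (nat_lit 0x40880000f0000000bc48)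
 (.cons 32 (nat_lit 0x7d0a12900000000067415400)
 (.cons 64 (nat_lit 0x701004c348000500)
 .nil)))))))))))))
noncomputable def a153 : Net := (.cons 64 (nat_lit 0x7400c2272620aaae)
 (.cons 32 (nat_lit 0x5a89102a00000000fe057ce8)
 (.cons 16 (nat_lit 0xca80000028300000c1a400008b4f)
 (.cons 8 (nat_lit 0xe600e200bc00e7002b00dd000200a3)
 (.cons 4 (nat_lit 0x6080c06080e090601050f000f0e01)
 (.cons 2 (nat_lit 0x212003123003211021303202233000)
 (.cons 1 (nat_lit 0x51044045405151055400101441040)
 (.cons 2 (nat_lit 0x2020200200000200202020020)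
 (.cons 4 (nat_lit 0xc06080804040c000600080e04)
 (.cons 8 (nat_lit 0xe600e2008c002000360088000000b2)
 (.cons 16 (nat_lit 0x88880000ac30000099f200008244)
 (.cons 32 (nat_lit 0x7a89922800000000f70f60bc)
 (.cons 64 (nat_lit 0x7400c220c2292aae)
 .nil)))))))))))))
noncomputable def a154 : Net := (.cons 64 (nat_lit 0x9000086f40700a68)
 (.cons 32 (nat_lit 0x128c97eb00000000a8b81280)
 (.cons 16 (nat_lit 0x9080000d83b0000e2390000b5b9)
 (.cons 8 (nat_lit 0xc00840020007a009b00e500e50007)
 (.cons 4 (nat_lit 0xe00020204090e0509080c0009060e01)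
 (.cons 2 (nat_lit 0x2002020200002032303123230112321)
 (.cons 1 (nat_lit 0x41001045401014011440015450400404)
 (.cons 2 (nat_lit 0x22000000202000020000000200200200)
 (.cons 4 (nat_lit 0xe000202040a0e00080c0e08000c0e00)
 (.cons 8 (nat_lit 0x8400800008007a009000d2002c000e)
 (.cons 16 (nat_lit 0x9800000f06a0000c0a000009cba)
 (.cons 32 (nat_lit 0x928c9fe600000000ccb09592)
 (.cons 64 (nat_lit 0x90000869e0103bb8)
 .nil)))))))))))))
noncomputable def a155 : Net := (.cons 64 (nat_lit 0x2d082d63f62befe2)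
 (.cons 32 (nat_lit 0x828ad21000000007f5f1182)
 (.cons 16 (nat_lit 0x21240000b84500008b920000dc00)
 (.cons 8 (nat_lit 0x2c0062009500c90042000a00de0020)
 (.cons 4 (nat_lit 0x20c060000010c06030d000e02030003)
 (.cons 2 (nat_lit 0x1200300210013013210222000212020)
 (.cons 1 (nat_lit 0x5404400000415144444105010011040)
 (.cons 2 (nat_lit 0x2000000200200200200020020020)
 (.cons 4 (nat_lit 0x20c040004000c040008080e02040204)
 (.cons 8 (nat_lit 0x240042009800ae0090000000180042)
 (.cons 16 (nat_lit 0x5040000c88400000a8200001c14)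
 (.cons 32 (nat_lit 0x528806000000000bf080188)
 (.cons 64 (nat_lit 0x2d082d602305c020)
 .nil)))))))))))))
noncomputable def a156 : Net := (.cons 64 (nat_lit 0x400022c31117a060)
 (.cons 32 (nat_lit 0xc5008081000000009d040218)
 (.cons 16 (nat_lit 0x240400006ad8000091040000c532)
 (.cons 8 (nat_lit 0x8000c0008c00e8009000aa00880069)
 (.cons 4 (nat_lit 0x20800080e00060c0801050808000004)
 (.cons 2 (nat_lit 0x202100232322002222221303002)
 (.cons 1 (nat_lit 0x1044400001050041040401010055004)
 (.cons 2 (nat_lit 0x200000000022000202020000002)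
 (.cons 4 (nat_lit 0x20800080400060c0800040808000004)
 (.cons 8 (nat_lit 0x8000c0008c00c0009000aa00880060)
 (.cons 16 (nat_lit 0x240400006a98000091000000c532)
 (.cons 32 (nat_lit 0xc50080800000000099040218)
 (.cons 64 (nat_lit 0x400022c31117a060)
 .nil)))))))))))))
noncomputable def a157 : Net := (.cons 64 (nat_lit 0x2c4185219dfca08a)
 (.cons 32 (nat_lit 0xe60b3c7d00000000bc08dd7e)
 (.cons 16 (nat_lit 0x981c0000a43000000b540000ba1d)
 (.cons 8 (nat_lit 0x4600c500710020000a004a00c30004)
 (.cons 4 (nat_lit 0x60300020404020e0f0a09050c0d0401)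
 (.cons 2 (nat_lit 0x12322022021000302032023320211212)
 (.cons 1 (nat_lit 0x44414004410000110450144114410441)
 (.cons 2 (nat_lit 0x20222002220000200000002202000202)
 (.cons 4 (nat_lit 0xc0600000004000e080a0a00040c0400)
 (.cons 8 (nat_lit 0x1a00e4007000200058005a00900094)
 (.cons 16 (nat_lit 0xb8140000a41000008e560000aa44)
 (.cons 32 (nat_lit 0xea0b3852000000002d00e76c)
 (.cons 64 (nat_lit 0x2c4185297da60c9a)
 .nil)))))))))))))
noncomputable def a158 : Net := (.cons 64 (nat_lit 0xf804251a711f7aee)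
 (.cons 32 (nat_lit 0xd64c665000000000675884c)
 (.cons 16 (nat_lit 0x2e3800008e000000d0260000bad1)
 (.cons 8 (nat_lit 0x800c5003800ba003a00200096000d)
 (.cons 4 (nat_lit 0x604060c0801090a0a01020c0f09030e)
 (.cons 2 (nat_lit 0x31100301100322000312000223322223)
 (.cons 1 (nat_lit 0x51000104401111144404000401140410)
 (.cons 2 (nat_lit 0x2002220202002000202220220)
 (.cons 4 (nat_lit 0x800060a0c0000000e0400040c040008)
 (.cons 8 (nat_lit 0x3c0084003800b8007800200004009e)
 (.cons 16 (nat_lit 0xe18000096000000d04000000b90)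
 (.cons 32 (nat_lit 0xdd60e26c00000000063e1868)
 (.cons 64 (nat_lit 0xf804251d315668ac)
 .nil)))))))))))))
noncomputable def a159 : Net := (.cons 64 (nat_lit 0xe0000a11e0e64700)
 (.cons 32 (nat_lit 0x60180384000000004c09b200)
 (.cons 16 (nat_lit 0xc9100000ec040000514000000872)
 (.cons 8 (nat_lit 0x1800c2006800e0001500ed00ad0081)
 (.cons 4 (nat_lit 0x100000c0500080c04000e0c000c080a)
 (.cons 2 (nat_lit 0x20202332031012012320020202)
 (.cons 1 (nat_lit 0x11004054050004404004501111)
 (.cons 2 (nat_lit 0x20002002000002002000000202)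
 (.cons 4 (nat_lit 0x80000080c04000c0c000c080a)
 (.cons 8 (nat_lit 0x100042006800e0001400ac00a00000)
 (.cons 16 (nat_lit 0xc9100000ec040000514000000832)
 (.cons 32 (nat_lit 0x40180384000000004409b200)
 (.cons 64 (nat_lit 0xe0000a11e0e64700)
 .nil)))))))))))))
noncomputable def a160 : Net := (.cons 64 (nat_lit 0x9205245288e0d54e)
 (.cons 32 (nat_lit 0x14f435a500000000a3909a80)
 (.cons 16 (nat_lit 0x148000068030000b0a200004707)
 (.cons 8 (nat_lit 0x62003200e0004200aa0087001a000f)
 (.cons 4 (nat_lit 0xc0806020a0e0a0d010c08000c040d08)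
 (.cons 2 (nat_lit 0x23231020002122232222010010133030)
 (.cons 1 (nat_lit 0x41100011104504144014410150054410)
 (.cons 2 (nat_lit 0x22200020200002222020220200002220)
 (.cons 4 (nat_lit 0xc0804020a0c0c0c000c0e080c060004)
 (.cons 8 (nat_lit 0x62002200ea000a00fa0004002000a2)
 (.cons 16 (nat_lit 0x1280000420c0000fba000007742)
 (.cons 32 (nat_lit 0x14f135a400000000cec80082)
 (.cons 64 (nat_lit 0x92052457c8e25f4c)
 .nil)))))))))))))
noncomputable def a161 : Net := (.cons 64 (nat_lit 0x4000eda4210d10)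
 (.cons 32 (nat_lit 0x6040f8000000000f81d6114)
 (.cons 16 (nat_lit 0x22800004060000028090000294b)
 (.cons 8 (nat_lit 0x6000ca0060008800ee00e600ed0011)
 (.cons 4 (nat_lit 0x6000c00010a08040408080d00010700)
 (.cons 2 (nat_lit 0x200202020321033203101220013)
 (.cons 1 (nat_lit 0x40104400140040151105414144101)
 (.cons 2 (nat_lit 0x200200020020002200000000200)
 (.cons 4 (nat_lit 0x800000a0004040c080000080e00)
 (.cons 8 (nat_lit 0x6000c80060008800ee00e400a80018)
 (.cons 16 (nat_lit 0x228000040600000cc0800008454)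
 (.cons 32 (nat_lit 0x6040f8000000000f81d6114)
 (.cons 64 (nat_lit 0x4000eda4210d10)
 .nil)))))))))))))
noncomputable def a162 : Net := (.cons 64 (nat_lit 0xc0000023425a2240)
 (.cons 32 (nat_lit 0x64e02000000000006700861a)
 (.cons 16 (nat_lit 0xa000004c100000f2000000e100)
 (.cons 8 (nat_lit 0x600024008600d40004003400e40099)
 (.cons 4 (nat_lit 0xc00040a0000040902040e0306040000)
 (.cons 2 (nat_lit 0x20202002022212222322310032030222)
 (.cons 1 (nat_lit 0x44404001001100400500501104400400)
 (.cons 2 (nat_lit 0x20202002002200200000000002000200)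
 (.cons 4 (nat_lit 0xc0004080000040802000e0006040000)
 (.cons 8 (nat_lit 0x600024008200d40004003400e40088)
 (.cons 16 (nat_lit 0xa000004c100000f2000000c100)
 (.cons 32 (nat_lit 0x64e020000000000067008612)
 (.cons 64 (nat_lit 0xc0000023425a2200)
 .nil)))))))))))))
noncomputable def a163 : Net := (.cons 64 (nat_lit 0xfb800100000)
 (.cons 32 (nat_lit 0x8018fb8000000000f180800)
 (.cons 16 (nat_lit 0xc00000000000000f0080000a240)
 (.cons 8 (nat_lit 0x4009e002200fb0000007800aa0040)
 (.cons 4 (nat_lit 0x20e060c000f0a0007000c0500)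
 (.cons 2 (nat_lit 0x12222020020002023003102203122)
 (.cons 1 (nat_lit 0x1401044010144410404101150040)
 (.cons 2 (nat_lit 0x2202002020000220002002200020)
 (.cons 4 (nat_lit 0x80208000000000a0000000c0000)
 (.cons 8 (nat_lit 0x4009e00c400f800000070008a0040)
 (.cons 16 (nat_lit 0xc00000000000000f0080000a240)
 (.cons 32 (nat_lit 0x8018f00000000000f180800)
 (.cons 64 (nat_lit 0xfb800100000)
 .nil)))))))))))))
noncomputable def a164 : Net := (.cons 64 (nat_lit 0xf0004f2522288008)
 (.cons 32 (nat_lit 0xbbd52a0200000000c9888000)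
 (.cons 16 (nat_lit 0xd7140000e4080000b00200004620)
 (.cons 8 (nat_lit 0xc200e2008000ea00d30080000c0028)
 (.cons 4 (nat_lit 0xc02030f0400060c0c06000904060300)
 (.cons 2 (nat_lit 0x22210021102000010230001303000022)
 (.cons 1 (nat_lit 0x1400055000010501004004105010040)
 (.cons 2 (nat_lit 0x2200000000000000000000200000020)
 (.cons 4 (nat_lit 0x80200000400000e0806000404020000)
 (.cons 8 (nat_lit 0xc200e20080005800500080000c0028)
 (.cons 16 (nat_lit 0x95140000e4000000b00200004620)
 (.cons 32 (nat_lit 0xbbd52a0200000000c1888000)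
 (.cons 64 (nat_lit 0xf0004f2522288008)
 .nil)))))))))))))
noncomputable def a165 : Net := (.cons 64 (nat_lit 0x600441b7caa5b400)
 (.cons 32 (nat_lit 0x2e7010900000000025e32f20)
 (.cons 16 (nat_lit 0x4468000020200000a84a0000601e)
 (.cons 8 (nat_lit 0x18008100e000f80030000400a60050)
 (.cons 4 (nat_lit 0xc00040400080c0209090b02040e0400)
 (.cons 2 (nat_lit 0x22002012000212202020220020000210)
 (.cons 1 (nat_lit 0x14041004004104010011110104014405)
 (.cons 2 (nat_lit 0x22002002000202000002220000000200)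
 (.cons 4 (nat_lit 0xc000004000804020802000204020400)
 (.cons 8 (nat_lit 0x18008000c000f80030000000a40050)
 (.cons 16 (nat_lit 0x4448000020200000a80a0000600e)
 (.cons 32 (nat_lit 0x2e7010900000000025e32f20)
 (.cons 64 (nat_lit 0x600441b7caa5b400)
 .nil)))))))))))))
noncomputable def a166 : Net := (.cons 64 (nat_lit 0x2d082d63f62befe2)
 (.cons 32 (nat_lit 0x828ad21000000007f5f1182)
 (.cons 16 (nat_lit 0x21240000b84500008b920000dc00)
 (.cons 8 (nat_lit 0x2c0062009500c90042000a00de0020)
 (.cons 4 (nat_lit 0x20c060000010c06030d000e02030003)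
 (.cons 2 (nat_lit 0x1200300210013013210222000212020)
 (.cons 1 (nat_lit 0x5404400000415144444105010011040)
 (.cons 2 (nat_lit 0x2000000200200200200020020020)
 (.cons 4 (nat_lit 0x20c040004000c040008080e02040204)
 (.cons 8 (nat_lit 0x240042009800ae0090000000180042)
 (.cons 16 (nat_lit 0x5040000c88400000a8200001c14)
 (.cons 32 (nat_lit 0x528806000000000bf080188)
 (.cons 64 (nat_lit 0x2d082d602305c020)
 .nil)))))))))))))
noncomputable def a167 : Net := (.cons 64 (nat_lit 0x9000086f40700a68)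
 (.cons 32 (nat_lit 0x128c97eb00000000a8b81280)
 (.cons 16 (nat_lit 0x9080000d83b0000e2390000b5b9)
 (.cons 8 (nat_lit 0xc00840020007a009b00e500e50007)
 (.cons 4 (nat_lit 0xe00020204090e0509080c0009060e01)
 (.cons 2 (nat_lit 0x2002020200002032303123230112321)
 (.cons 1 (nat_lit 0x41001045401014011440015450400404)
 (.cons 2 (nat_lit 0x22000000202000020000000200200200)
 (.cons 4 (nat_lit 0xe000202040a0e00080c0e08000c0e00)
 (.cons 8 (nat_lit 0x8400800008007a009000d2002c000e)
 (.cons 16 (nat_lit 0x9800000f06a0000c0a000009cba)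
 (.cons 32 (nat_lit 0x928c9fe600000000ccb09592)
 (.cons 64 (nat_lit 0x90000869e0103bb8)
 .nil)))))))))))))
noncomputable def a168 : Net := (.cons 64 (nat_lit 0x701004c348000500)
 (.cons 32 (nat_lit 0x7d0a12900000000067415400)
 (.cons 16 (nat_lit 0x400000060c80000f0000000bc48)
 (.cons 8 (nat_lit 0x2800160034000000ec00a400f80060)
 (.cons 4 (nat_lit 0x90a04010009000a0006060308010e00)
 (.cons 2 (nat_lit 0x201000220001023103012022200002)
 (.cons 1 (nat_lit 0x40100040040040010040001140000000)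
 (.cons 2 (nat_lit 0x200000020000020000000220000000)
 (.cons 4 (nat_lit 0x8080400000000080006040808000000)
 (.cons 8 (nat_lit 0x2800140034000000ec00a000f00060)
 (.cons 16 (nat_lit 0x40880000f0000000bc48)
 (.cons 32 (nat_lit 0x7d0a12900000000067415400)
 (.cons 64 (nat_lit 0x701004c348000500)
 .nil)))))))))))))
noncomputable def a169 : Net := (.cons 64 (nat_lit 0x50010a23ca24a640)
 (.cons 32 (nat_lit 0x1441a80100000000256b5510)
 (.cons 16 (nat_lit 0x404000090200000897c0000591a)
 (.cons 8 (nat_lit 0x40002400a800140060005400d80088)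
 (.cons 4 (nat_lit 0x80004020c04040202060e0c000c)
 (.cons 2 (nat_lit 0x10202200202020100032320022320)
 (.cons 1 (nat_lit 0x4140140444005454001404505)
 (.cons 2 (nat_lit 0x2200200020000002000002000)
 (.cons 4 (nat_lit 0x80004000c04040202060a0c000c)
 (.cons 8 (nat_lit 0x400a800040060004400c80088)
 (.cons 16 (nat_lit 0x404000090000000896c0000590a)
 (.cons 32 (nat_lit 0x1441a80000000000257b4500)
 (.cons 64 (nat_lit 0x50010a23ca24a640)
 .nil)))))))))))))
noncomputable def a170 : Net := (.cons 64 (nat_lit 0x611f7fdca20ad511)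
 (.cons 32 (nat_lit 0xd3efa90900000000842ad22c)
 (.cons 16 (nat_lit 0x344600004c1300001c4a00009adf)
 (.cons 8 (nat_lit 0xd5002a0017007e00b000cc00fb00e8)
 (.cons 4 (nat_lit 0x90f0d0b04000300020806020d040e0d)
 (.cons 2 (nat_lit 0x12010020320113122020002123221310)
 (.cons 1 (nat_lit 0x4400441440414110010140515411440)
 (.cons 2 (nat_lit 0x200200220000020020000000020020)
 (.cons 4 (nat_lit 0xc0c04020200000e00000204000c0c04)
 (.cons 8 (nat_lit 0x1400a0001a001a00b0008800be00fc)
 (.cons 16 (nat_lit 0x47420000091400000e4a00001b2e)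
 (.cons 32 (nat_lit 0xb3ef8f18000000008aca5206)
 (.cons 64 (nat_lit 0x611f7fd02a3bf352)
 .nil)))))))))))))
noncomputable def a171 : Net := (.cons 64 (nat_lit 0x50010a23ca24a640)
 (.cons 32 (nat_lit 0x1441a80100000000256b5510)
 (.cons 16 (nat_lit 0x404000090200000897c0000591a)
 (.cons 8 (nat_lit 0x40002400a800140060005400d80088)
 (.cons 4 (nat_lit 0x80004020c04040202060e0c000c)
 (.cons 2 (nat_lit 0x10202200202020100032320022320)
 (.cons 1 (nat_lit 0x4140140444005454001404505)
 (.cons 2 (nat_lit 0x2200200020000002000002000)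
 (.cons 4 (nat_lit 0x80004000c04040202060a0c000c)
 (.cons 8 (nat_lit 0x400a800040060004400c80088)
 (.cons 16 (nat_lit 0x404000090000000896c0000590a)
 (.cons 32 (nat_lit 0x1441a80000000000257b4500)
 (.cons 64 (nat_lit 0x50010a23ca24a640)
 .nil)))))))))))))
noncomputable def a172 : Net := (.cons 64 (nat_lit 0x30804ea280c11970)
 (.cons 32 (nat_lit 0xf33b00040000000014cf1b82)
 (.cons 16 (nat_lit 0xe8a00002b200000ba630000055c)
 (.cons 8 (nat_lit 0x5d008e006a00420021008e0050008c)
 (.cons 4 (nat_lit 0xb010000070e04000c00070e01080908)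
 (.cons 2 (nat_lit 0x22210200032032013213302010000102)
 (.cons 1 (nat_lit 0x10154401044014001141401400404004)
 (.cons 2 (nat_lit 0x200000020000002022002000202000)
 (.cons 4 (nat_lit 0x40002060c000008080e040008080c)
 (.cons 8 (nat_lit 0x64008e004e0046002e0086007000cc)
 (.cons 16 (nat_lit 0xe8a000017640000a2b600004574)
 (.cons 32 (nat_lit 0xf3bb000c0000000012c79b80)
 (.cons 64 (nat_lit 0x30804ea060e01970)
 .nil)))))))))))))
noncomputable def a173 : Net := (.cons 64 (nat_lit 0x25204a56d4804a02)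
 (.cons 32 (nat_lit 0x6b9e14ac000000000ecc162c)
 (.cons 16 (nat_lit 0x2b7c00004f4a000077800000fd06)
 (.cons 8 (nat_lit 0xe40051008800a00086007c00fe0030)
 (.cons 4 (nat_lit 0xa05000b04000b0d0508090a0b000c)
 (.cons 2 (nat_lit 0x20303223302001101010201003202012)
 (.cons 1 (nat_lit 0x44104054500500041001000440100044)
 (.cons 2 (nat_lit 0x2000000000022002000200000000)
 (.cons 4 (nat_lit 0x40a04020806000a0404000800000000)
 (.cons 8 (nat_lit 0xac006400e000a0009a007c00700050)
 (.cons 16 (nat_lit 0x29c000004f4a000077880000ed0e)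
 (.cons 32 (nat_lit 0x6f9e14ac000000000cc193a4)
 (.cons 64 (nat_lit 0x25204a5ec4a14040)
 .nil)))))))))))))
noncomputable def a174 : Net := (.cons 64 (nat_lit 0x1f2c3aeac270b160)
 (.cons 32 (nat_lit 0x39c07f1700000000e9d37fad)
 (.cons 16 (nat_lit 0x5d7c000064f80000ec920000a464)
 (.cons 8 (nat_lit 0x4800a80060007800f5008a0056005d)
 (.cons 4 (nat_lit 0x90c0f060a0400020904050000020500)
 (.cons 2 (nat_lit 0x12300222020000031222012002301003)
 (.cons 1 (nat_lit 0x54504141414110110144111404105404)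
 (.cons 2 (nat_lit 0x2000020222020020202200002000002)
 (.cons 4 (nat_lit 0xc00040600060a0600000402000a0002)
 (.cons 8 (nat_lit 0x7c008000c2006e003400a80044007c)
 (.cons 16 (nat_lit 0x5f940000f6d80000a5100000203e)
 (.cons 32 (nat_lit 0x37e877f200000000c980fbb0)
 (.cons 64 (nat_lit 0x1f2c3ae7860d3134)
 .nil)))))))))))))
noncomputable def a175 : Net := (.cons 64 (nat_lit 0xf6d027370744db5d)
 (.cons 32 (nat_lit 0x25f5a32800000000bbc68620)
 (.cons 16 (nat_lit 0xf2a000005ea0000064c80000655f)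
 (.cons 8 (nat_lit 0x54002d00dc00ea00a4009800000012)
 (.cons 4 (nat_lit 0x3020203060c0d0f070c020a080f0105)
 (.cons 2 (nat_lit 0x10013020002020110102221120131110)
 (.cons 1 (nat_lit 0x10015401145015400401001540440500)
 (.cons 2 (nat_lit 0x20000200020020200202002000020000)
 (.cons 4 (nat_lit 0x60200000400000c0600000c08080004)
 (.cons 8 (nat_lit 0x5000a8000c00e000a000b200400006)
 (.cons 16 (nat_lit 0x50b400002ae00000eeae00006544)
 (.cons 32 (nat_lit 0xa575a03000000000bbe9ce24)
 (.cons 64 (nat_lit 0xf6d0273f5b045332)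
 .nil)))))))))))))
noncomputable def a176 : Net := (.cons 64 (nat_lit 0x23fc102adf73c8dd)
 (.cons 32 (nat_lit 0xbae3a256000000005f6d7e9e)
 (.cons 16 (nat_lit 0x11ff000003fc0000fe340000309e)
 (.cons 8 (nat_lit 0x9800610008000c0034004c00900041)
 (.cons 4 (nat_lit 0xa0d070604040d0e03030d0604080600)
 (.cons 2 (nat_lit 0x30130002000122033022210031200)
 (.cons 1 (nat_lit 0x10151001044040101444444514014451)
 (.cons 2 (nat_lit 0x20000000002000000020020000020200)
 (.cons 4 (nat_lit 0xa06040c000408000a00000008000a00)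
 (.cons 8 (nat_lit 0x8200700008001200740004009c0022)
 (.cons 16 (nat_lit 0x8382000047f000002d3e00005c1c)
 (.cons 32 (nat_lit 0x99ebb27800000000d76db790)
 (.cons 64 (nat_lit 0x23fc1029052dd2e8)
 .nil)))))))))))))
noncomputable def a177 : Net := (.cons 64 (nat_lit 0x333fc5cc13f20b15)
 (.cons 32 (nat_lit 0x560b954100000000b28cda54)
 (.cons 16 (nat_lit 0xc0960000c3ad00000ac8000044e2)
 (.cons 8 (nat_lit 0xdd001c0091003400c800e00030006e)
 (.cons 4 (nat_lit 0xa090c0309040000020c08070a000c05)
 (.cons 2 (nat_lit 0x21110130220101033200302322002201)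
 (.cons 1 (nat_lit 0x1054040011410414004405414000404)
 (.cons 2 (nat_lit 0x20022220002000200020000202)
 (.cons 4 (nat_lit 0xa0c060a0c00080608020802000c0c)
 (.cons 8 (nat_lit 0xde0008007800320084003800300012)
 (.cons 16 (nat_lit 0x859a00004a20000078c8000040c0)
 (.cons 32 (nat_lit 0x562ed40800000000ba4cc058)
 (.cons 64 (nat_lit 0x333fc5c7e9781724)
 .nil)))))))))))))
noncomputable def a178 : Net := (.cons 64 (nat_lit 0x4361719bd204de65)
 (.cons 32 (nat_lit 0x2838304700000000445eba5d)
 (.cons 16 (nat_lit 0x52190000620400009cc600005c9e)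
 (.cons 8 (nat_lit 0x4000dd00800066001c007e00e50061)
 (.cons 4 (nat_lit 0xb050300080e0a0d08000c0200060d01)
 (.cons 2 (nat_lit 0x30031300030202210012002101032021)
 (.cons 1 (nat_lit 0x11014100040510104004500401445011)
 (.cons 2 (nat_lit 0x20022200000000202000000202200020)
 (.cons 4 (nat_lit 0xa0402000e0a0a0408000a00020e0800)
 (.cons 8 (nat_lit 0x10009c00c4007a0058004800c20066)
 (.cons 16 (nat_lit 0x33080000b2a4000008960000519e)
 (.cons 32 (nat_lit 0x687810da00000000c050ba18)
 (.cons 64 (nat_lit 0x4361719983790c02)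
 .nil)))))))))))))
noncomputable def a179 : Net := (.cons 64 (nat_lit 0x231a5115e620ee00)
 (.cons 32 (nat_lit 0x9b082b1e00000000484ca123)
 (.cons 16 (nat_lit 0xd2080000661a0000792c00002d19)
 (.cons 8 (nat_lit 0x1000a000fe0062006500d000e400b8)
 (.cons 4 (nat_lit 0xe0a08080f040401040000060e05010b)
 (.cons 2 (nat_lit 0x1202002130130032020020312230130)
 (.cons 1 (nat_lit 0x10101015110040414404041054141005)
 (.cons 2 (nat_lit 0x20002020200020002000020000220000)
 (.cons 4 (nat_lit 0xe0a0802020406040c08000e0c0e000c)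
 (.cons 8 (nat_lit 0x1000a800ba001600e000d0002c00cc)
 (.cons 16 (nat_lit 0xea02000023820000f90000000d18)
 (.cons 32 (nat_lit 0xbb122b0c000000004c2c0922)
 (.cons 64 (nat_lit 0x231a511842198a34)
 .nil)))))))))))))
noncomputable def a180 : Net := (.cons 64 (nat_lit 0xd0adbc70cbe8b780)
 (.cons 32 (nat_lit 0xa0845c4b0000000047cf7e88)
 (.cons 16 (nat_lit 0x4da0000d1a700003b850000ec5e)
 (.cons 8 (nat_lit 0xdc005800e900c2000900cb001a0060)
 (.cons 4 (nat_lit 0x80a000409060d04090c020e0f000e00)
 (.cons 2 (nat_lit 0x20232000010213211033212121102200)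
 (.cons 1 (nat_lit 0x10410014405114444014014010000401)
 (.cons 2 (nat_lit 0x200000200200020022020000000000)
 (.cons 4 (nat_lit 0x80c0808080606060804080e06040002)
 (.cons 8 (nat_lit 0x8800d000fc0018000c00c0000a0062)
 (.cons 16 (nat_lit 0x64d60000548200001e0400006c4c)
 (.cons 32 (nat_lit 0x30a1fc140000000064cd3c8c)
 (.cons 64 (nat_lit 0xd0adbc79ab1b3584)
 .nil)))))))))))))
noncomputable def a181 : Net := (.cons 64 (nat_lit 0x4f1cd00000000000)
 (.cons 32 (nat_lit 0x6e86f0e00000000099a83000)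
 (.cons 16 (nat_lit 0x811c0000098400006e08)
 (.cons 8 (nat_lit 0x80000000f0001600b8004600e20000)
 (.cons 4 (nat_lit 0xe04000e000d0e04080e080806000404)
 (.cons 2 (nat_lit 0x3120002203101122010000220302000)
 (.cons 1 (nat_lit 0x45005044441450010000511444054000)
 (.cons 2 (nat_lit 0x20202000020000000202002000)
 (.cons 4 (nat_lit 0xe04000000000e040804080008000400)
 (.cons 8 (nat_lit 0x80000000f0001600b8004600420000)
 (.cons 16 (nat_lit 0x811c0000098400006e08)
 (.cons 32 (nat_lit 0x6086f0e00000000099a83000)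
 (.cons 64 (nat_lit 0x4f1cd00000000000)
 .nil)))))))))))))
noncomputable def a182 : Net := (.cons 64 (nat_lit 0x51c09212e0581000)
 (.cons 32 (nat_lit 0x9d9a52200000000027683e00)
 (.cons 16 (nat_lit 0xd418000074800000256a0000ec18)
 (.cons 8 (nat_lit 0x58004c008400f00032000600cc00e0)
 (.cons 4 (nat_lit 0x808000102020804040400000003040f)
 (.cons 2 (nat_lit 0x20022200000211201002322132211)
 (.cons 1 (nat_lit 0x40400444110100400100114514414141)
 (.cons 2 (nat_lit 0x22200000200000022022022222)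
 (.cons 4 (nat_lit 0x80800000202000404040000000c0400)
 (.cons 8 (nat_lit 0x4c008000e00012000600cc00e0)
 (.cons 16 (nat_lit 0x54180000748000002c680000ec18)
 (.cons 32 (nat_lit 0x9d9a50200000000027683e00)
 (.cons 64 (nat_lit 0x51c09212e0581000)
 .nil)))))))))))))
noncomputable def a183 : Net := (.cons 64 (nat_lit 0x24000709a40ac410)
 (.cons 32 (nat_lit 0x460cb20000000000a0b91108)
 (.cons 16 (nat_lit 0x204000044c2000098010000300c)
 (.cons 8 (nat_lit 0x1800880008004a004000580092)
 (.cons 4 (nat_lit 0xa01080a000d0c08040204040207)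
 (.cons 2 (nat_lit 0x20002002202000332032210020230013)
 (.cons 1 (nat_lit 0x40040504444100410550100440051441)
 (.cons 2 (nat_lit 0x20000002202000000000200020000002)
 (.cons 4 (nat_lit 0xa00080200020c08040004040208)
 (.cons 8 (nat_lit 0x1800880008004a004000480092)
 (.cons 16 (nat_lit 0x204000044c2000098000000300c)
 (.cons 32 (nat_lit 0x420cb00000000000a0b91108)
 (.cons 64 (nat_lit 0x24000709a40ac410)
 .nil)))))))))))))
noncomputable def a184 : Net := (.cons 64 (nat_lit 0x636a812e6e250640)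
 (.cons 32 (nat_lit 0x430b2800000000001bc85809)
 (.cons 16 (nat_lit 0xe84c0000d0620000718800009400)
 (.cons 8 (nat_lit 0xa0000800b4004400b8001c00140000)
 (.cons 4 (nat_lit 0x80e0c06080c00080408010008020c00)
 (.cons 2 (nat_lit 0x20022101133202000230002230202000)
 (.cons 1 (nat_lit 0x410000055004050054041050014014)
 (.cons 2 (nat_lit 0x20000000002000000002000002000)
 (.cons 4 (nat_lit 0x80c0c04080c00080008000008020400)
 (.cons 8 (nat_lit 0xa0000800b4000400a8001c00000000)
 (.cons 16 (nat_lit 0xe84c0000d0420000718800009400)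
 (.cons 32 (nat_lit 0x430b28000000000013d84808)
 (.cons 64 (nat_lit 0x636a812e6e250600)
 .nil)))))))))))))
noncomputable def a185 : Net := (.cons 64 (nat_lit 0x1020140548212154)
 (.cons 32 (nat_lit 0xc2225400000000003d52c00c)
 (.cons 16 (nat_lit 0x9202000028100000b350000086ac)
 (.cons 8 (nat_lit 0x44008800a0000c008200d20028)
 (.cons 4 (nat_lit 0x80c090006020c0802070a080b)
 (.cons 2 (nat_lit 0x10002200202023302303000131232000)
 (.cons 1 (nat_lit 0x1441400015010540505041400415)
 (.cons 2 (nat_lit 0x2200200020000000000020200000)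
 (.cons 4 (nat_lit 0x804080006020c0a00000a0808)
 (.cons 8 (nat_lit 0x44008800a0000c00b000900028)
 (.cons 16 (nat_lit 0x9202000028100000b350000086ac)
 (.cons 32 (nat_lit 0xc2225400000000003d52c004)
 (.cons 64 (nat_lit 0x1020140548212114)
 .nil)))))))))))))
noncomputable def a186 : Net := (.cons 64 (nat_lit 0x636a812e6e250640)
 (.cons 32 (nat_lit 0x430b2800000000001bc85809)
 (.cons 16 (nat_lit 0xe84c0000d0620000718800009400)
 (.cons 8 (nat_lit 0xa0000800b4004400b8001c00140000)
 (.cons 4 (nat_lit 0x80e0c06080c00080408010008020c00)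
 (.cons 2 (nat_lit 0x20022101133202000230002230202000)
 (.cons 1 (nat_lit 0x410000055004050054041050014014)
 (.cons 2 (nat_lit 0x20000000002000000002000002000)
 (.cons 4 (nat_lit 0x80c0c04080c00080008000008020400)
 (.cons 8 (nat_lit 0xa0000800b4000400a8001c00000000)
 (.cons 16 (nat_lit 0xe84c0000d0420000718800009400)
 (.cons 32 (nat_lit 0x430b28000000000013d84808)
 (.cons 64 (nat_lit 0x636a812e6e250600)
 .nil)))))))))))))
noncomputable def a187 : Net := (.cons 64 (nat_lit 0x4418000d4231c840)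
 (.cons 32 (nat_lit 0x481460000000000048646f10)
 (.cons 16 (nat_lit 0x400c000070ac000049280000a650)
 (.cons 8 (nat_lit 0x4000600090002000ed000800820069)
 (.cons 4 (nat_lit 0x600030a0408020d050200020c)
 (.cons 2 (nat_lit 0x100023201302230200132022030230)
 (.cons 1 (nat_lit 0x4040040101444054440004414454400)
 (.cons 2 (nat_lit 0x20200220000200002022002000)
 (.cons 4 (nat_lit 0x6000404040008080400020c0c)
 (.cons 8 (nat_lit 0x400060009000200024000800a40068)
 (.cons 16 (nat_lit 0x400c000070ac000049280000a650)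
 (.cons 32 (nat_lit 0x481460000000000048646f10)
 (.cons 64 (nat_lit 0x4418000d4231c840)
 .nil)))))))))))))
noncomputable def a188 : Net := (.cons 64 (nat_lit 0x610299010426c000)
 (.cons 32 (nat_lit 0x6499b60000000000ade92622)
 (.cons 16 (nat_lit 0x8140000682200000f000000d144)
 (.cons 8 (nat_lit 0x800005006800a80012005000a50058)
 (.cons 4 (nat_lit 0x20008080004000a040c05020e0e000e)
 (.cons 2 (nat_lit 0x30222200230003020200022303201)
 (.cons 1 (nat_lit 0x45001014400450450001440110040440)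
 (.cons 2 (nat_lit 0x22200000200000200020000200)
 (.cons 4 (nat_lit 0x20008080004000a040804020a0e000c)
 (.cons 8 (nat_lit 0x800004002800e80012005000a40058)
 (.cons 16 (nat_lit 0x8140000204000000f000000d144)
 (.cons 32 (nat_lit 0x6499b60000000000ade92622)
 (.cons 64 (nat_lit 0x610299010426c000)
 .nil)))))))))))))
noncomputable def a189 : Net := (.cons 64 (nat_lit 0x573e551f6ead5253)
 (.cons 32 (nat_lit 0x18116ba100000000208ca362)
 (.cons 16 (nat_lit 0x3390000b142000083a500004d67)
 (.cons 8 (nat_lit 0x1500bd00f2007300ed002800600008)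
 (.cons 4 (nat_lit 0x1040a0005080902080a000e020b080d)
 (.cons 2 (nat_lit 0x10123102011002122000002302011121)
 (.cons 1 (nat_lit 0x5101114100404014501004514055010)
 (.cons 2 (nat_lit 0x2002200000002002000000000020)
 (.cons 4 (nat_lit 0x6000206040c020e0a0000060e0204)
 (.cons 8 (nat_lit 0x800aa00b200260064002800120042)
 (.cons 16 (nat_lit 0x4d280000b5100000032800009126)
 (.cons 32 (nat_lit 0xd177ea400000000a84c034a)
 (.cons 64 (nat_lit 0x573e551bb3045020)
 .nil)))))))))))))
noncomputable def a190 : Net := (.cons 64 (nat_lit 0xc79db5ce57a99b39)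
 (.cons 32 (nat_lit 0x977cbc550000000015aa7a82)
 (.cons 16 (nat_lit 0x657700004f6000007d0e00006550)
 (.cons 8 (nat_lit 0x360021009200a6005800290021009c)
 (.cons 4 (nat_lit 0x9010f000a000504080e010200050408)
 (.cons 2 (nat_lit 0x111011120011220032030200101020)
 (.cons 1 (nat_lit 0x1140404044504414044041014001401)
 (.cons 2 (nat_lit 0x2200200002002022020022020000002)
 (.cons 4 (nat_lit 0x80c02080e0a080e080a000006040400)
 (.cons 8 (nat_lit 0x2600e8003400a400100000002000fc)
 (.cons 16 (nat_lit 0x646a00008f64000065040000a774)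
 (.cons 32 (nat_lit 0x9268ad52000000002dca7aac)
 (.cons 64 (nat_lit 0xc79db5c6876bcbe0)
 .nil)))))))))))))
noncomputable def a191 : Net := (.cons 64 (nat_lit 0xf0000457134f7692)
 (.cons 32 (nat_lit 0xb9d056930000000086b747c9)
 (.cons 16 (nat_lit 0xed16000034210000c2850000d109)
 (.cons 8 (nat_lit 0x5400a2006600a3004000ff00480042)
 (.cons 4 (nat_lit 0x4020907060c070300080a080b040106)
 (.cons 2 (nat_lit 0x102001000130010103230021310002)
 (.cons 1 (nat_lit 0x501014404040410514411444441014)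
 (.cons 2 (nat_lit 0x2000202020000000220200000002)
 (.cons 4 (nat_lit 0x608040408060e0c000c0804040206)
 (.cons 8 (nat_lit 0x100032004600a2000800f000080060)
 (.cons 16 (nat_lit 0xad060000102a0000c16400009008)
 (.cons 32 (nat_lit 0xc9d056c40000000080f704c8)
 (.cons 64 (nat_lit 0xf00004522a5982e0)
 .nil)))))))))))))
noncomputable def a192 : Net := (.cons 64 (nat_lit 0x2c0b9011c9e36dc)
 (.cons 32 (nat_lit 0x3486d828000000006c39acde)
 (.cons 16 (nat_lit 0x21ca000043800000e5a30000c369)
 (.cons 8 (nat_lit 0x20068008200e100e80021009400d3)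
 (.cons 4 (nat_lit 0x700000c080100090804080605020509)
 (.cons 2 (nat_lit 0x10023022021220320031232201110001)
 (.cons 1 (nat_lit 0x44041011110450400444410140140)
 (.cons 2 (nat_lit 0x2022020020000000022020020020)
 (.cons 4 (nat_lit 0x400000008000802080800000c060000)
 (.cons 8 (nat_lit 0x20008000200e000ec006200ea00c6)
 (.cons 16 (nat_lit 0x21c8000043c00000a1aa00008724)
 (.cons 32 (nat_lit 0x3406d028000000008c0daada)
 (.cons 64 (nat_lit 0x2c0b9011ca6349c)
 .nil)))))))))))))
noncomputable def a193 : Net := (.cons 64 (nat_lit 0x8bf224678e36b4b5)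
 (.cons 32 (nat_lit 0xcaa2f43400000000a5492197)
 (.cons 16 (nat_lit 0xd1d20000ac4b00004c470000ad10)
 (.cons 8 (nat_lit 0xd000b100e200a600ad00a6009a004e)
 (.cons 4 (nat_lit 0x802020a0b000a08000a0c0c05030405)
 (.cons 2 (nat_lit 0x30302102220202010122102320212231)
 (.cons 1 (nat_lit 0x10001144401401040400044114054041)
 (.cons 2 (nat_lit 0x20002000200202000000002222002020)
 (.cons 4 (nat_lit 0x8000200000008000000080e04080400)
 (.cons 8 (nat_lit 0x80005400e2008400a4006600040030)
 (.cons 16 (nat_lit 0x91e20000a80800004d460000e73a)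
 (.cons 32 (nat_lit 0x4290d01600000000c148a092)
 (.cons 64 (nat_lit 0x8bf22466aa2f94b0)
 .nil)))))))))))))
noncomputable def a194 : Net := (.cons 64 (nat_lit 0x6c5a9f10aead8d74)
 (.cons 32 (nat_lit 0xf866bea900000000af69287e)
 (.cons 16 (nat_lit 0x157e0000000500009f2000006150)
 (.cons 8 (nat_lit 0xe2005c00f4000100280090008000bb)
 (.cons 4 (nat_lit 0x5080805000e080908060202030e0b00)
 (.cons 2 (nat_lit 0x12303030300330202000020100032201)
 (.cons 1 (nat_lit 0x1105451104414100045011410000101)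
 (.cons 2 (nat_lit 0x200002202222200000002020000200)
 (.cons 4 (nat_lit 0x60400040c0a0c0808020002020c0800)
 (.cons 8 (nat_lit 0xf200f000bc00080008008c00a000b8)
 (.cons 16 (nat_lit 0xa9600000481400009f00000032d0)
 (.cons 32 (nat_lit 0xb02429b800000000ac692872)
 (.cons 64 (nat_lit 0x6c5a9f10ce848d34)
 .nil)))))))))))))
noncomputable def a195 : Net := (.cons 64 (nat_lit 0xf000000000000000)
 (.cons 32 (nat_lit 0xa834445400000000f0000000)
 (.cons 16 (nat_lit 0xc520000f72e0000f0000000bda8)
 (.cons 8 (nat_lit 0x94001800a80048002d0023000c0090)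
 (.cons 4 (nat_lit 0x800080a090c040004080d070a08)
 (.cons 2 (nat_lit 0x321003202202031202213230203220)
 (.cons 1 (nat_lit 0x544001104114044151400400414140)
 (.cons 2 (nat_lit 0x20002002022020000000200202200)
 (.cons 4 (nat_lit 0x800000e080404040c0804020208)
 (.cons 8 (nat_lit 0xc00018000800c800800018000c0090)
 (.cons 16 (nat_lit 0xc520000c5260000f0000000bda8)
 (.cons 32 (nat_lit 0x8834445400000000f0000000)
 (.cons 64 (nat_lit 0xf000000000000000)
 .nil)))))))))))))
noncomputable def a196 : Net := (.cons 64 (nat_lit 0x14c16a1887dd320a)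
 (.cons 32 (nat_lit 0x18ec6e4b000000007dd01b00)
 (.cons 16 (nat_lit 0x40c50000dc6b0000868a0000e029)
 (.cons 8 (nat_lit 0x40004a0082004400de004400c900ed)
 (.cons 4 (nat_lit 0x404080903060608080b0400040204)
 (.cons 2 (nat_lit 0x10220221320210011212302000031310)
 (.cons 1 (nat_lit 0x4410415410140104114104101400540)
 (.cons 2 (nat_lit 0x220220000000002200002200200000)
 (.cons 4 (nat_lit 0x4040008020402080c0e0c00060600)
 (.cons 8 (nat_lit 0x440082001400b2004400ca00b8)
 (.cons 16 (nat_lit 0x488400000c780000168a00000108)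
 (.cons 32 (nat_lit 0x86d2448000000001ff49a00)
 (.cons 64 (nat_lit 0x14c16a106f966078)
 .nil)))))))))))))
noncomputable def a197 : Net := (.cons 64 (nat_lit 0x99af5840a4bba84d)
 (.cons 32 (nat_lit 0xbbe9ca2400000000ada4bc54)
 (.cons 16 (nat_lit 0xeaae000000b900000ac000002074)
 (.cons 8 (nat_lit 0xa000b200850026001000f500280034)
 (.cons 4 (nat_lit 0x904080d0d0308010b000d0a06010302)
 (.cons 2 (nat_lit 0x10022212010132332120020202013001)
 (.cons 1 (nat_lit 0x10010045441014114440511014104001)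
 (.cons 2 (nat_lit 0x20020020000022022020002000002002)
 (.cons 4 (nat_lit 0x808000808020a080600080802000204)
 (.cons 8 (nat_lit 0xa000980000003a0054004000080076)
 (.cons 16 (nat_lit 0x60c800005cb000002ca400004264)
 (.cons 32 (nat_lit 0xbbc6822000000000a9f4ba40)
 (.cons 64 (nat_lit 0x99af5848f8bf2022)
 .nil)))))))))))))
noncomputable def a198 : Net := (.cons 64 (nat_lit 0xf57e932c856fa786)
 (.cons 32 (nat_lit 0x36c03703000000006233c0cb)
 (.cons 16 (nat_lit 0xd52e0000120000004c43000069dc)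
 (.cons 8 (nat_lit 0x9400a600a6009f001400c800f60085)
 (.cons 4 (nat_lit 0x70c040a010c04000808080e000b0102)
 (.cons 2 (nat_lit 0x30200123211313203021002110200022)
 (.cons 1 (nat_lit 0x41140104444105404045004440540441)
 (.cons 2 (nat_lit 0x20000200000000020002000020222)
 (.cons 4 (nat_lit 0x4060600000200080808000a00020800)
 (.cons 8 (nat_lit 0x9000a0008c0086001400c800220086)
 (.cons 16 (nat_lit 0x752c00001b7c00004c40000069d4)
 (.cons 32 (nat_lit 0x76a224000000000062b3e0c2)
 (.cons 64 (nat_lit 0xf57e932600a995fa)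
 .nil)))))))))))))
noncomputable def a199 : Net := (.cons 64 (nat_lit 0xb38e00d52d1840c)
 (.cons 32 (nat_lit 0x5bcb200000000000a508b334)
 (.cons 16 (nat_lit 0xf090000092a00000094000001840)
 (.cons 8 (nat_lit 0x820048001000680041008200840031)
 (.cons 4 (nat_lit 0x608080602080008000c00090e02000c)
 (.cons 2 (nat_lit 0x1222001202002222000002230300020)
 (.cons 1 (nat_lit 0x411050051400040444114454011010)
 (.cons 2 (nat_lit 0x222000002000020000002200000020)
 (.cons 4 (nat_lit 0x408080602080008000000000e020008)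
 (.cons 8 (nat_lit 0x820048001000280040008200840030)
 (.cons 16 (nat_lit 0xf090000092800000094000001840)
 (.cons 32 (nat_lit 0x5bcb200000000000a508b334)
 (.cons 64 (nat_lit 0xb38e00d52d1800c)
 .nil)))))))))))))
noncomputable def a200 : Net := (.cons 64 (nat_lit 0x51c09212e0581000)
 (.cons 32 (nat_lit 0x9d9a52200000000027683e00)
 (.cons 16 (nat_lit 0xd418000074800000256a0000ec18)
 (.cons 8 (nat_lit 0x58004c008400f00032000600cc00e0)
 (.cons 4 (nat_lit 0x808000102020804040400000003040f)
 (.cons 2 (nat_lit 0x20022200000211201002322132211)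
 (.cons 1 (nat_lit 0x40400444110100400100114514414141)
 (.cons 2 (nat_lit 0x22200000200000022022022222)
 (.cons 4 (nat_lit 0x80800000202000404040000000c0400)
 (.cons 8 (nat_lit 0x4c008000e00012000600cc00e0)
 (.cons 16 (nat_lit 0x54180000748000002c680000ec18)
 (.cons 32 (nat_lit 0x9d9a50200000000027683e00)
 (.cons 64 (nat_lit 0x51c09212e0581000)
 .nil)))))))))))))
noncomputable def a201 : Net := (.cons 64 (nat_lit 0x1020140548212154)
 (.cons 32 (nat_lit 0xc2225400000000003d52c00c)
 (.cons 16 (nat_lit 0x9202000028100000b350000086ac)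
 (.cons 8 (nat_lit 0x44008800a0000c008200d20028)
 (.cons 4 (nat_lit 0x80c090006020c0802070a080b)
 (.cons 2 (nat_lit 0x10002200202023302303000131232000)
 (.cons 1 (nat_lit 0x1441400015010540505041400415)
 (.cons 2 (nat_lit 0x2200200020000000000020200000)
 (.cons 4 (nat_lit 0x804080006020c0a00000a0808)
 (.cons 8 (nat_lit 0x44008800a0000c00b000900028)
 (.cons 16 (nat_lit 0x9202000028100000b350000086ac)
 (.cons 32 (nat_lit 0xc2225400000000003d52c004)
 (.cons 64 (nat_lit 0x1020140548212114)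
 .nil)))))))))))))
noncomputable def a202 : Net := (.cons 64 (nat_lit 0xc0000023425a2240)
 (.cons 32 (nat_lit 0x64e02000000000006700861a)
 (.cons 16 (nat_lit 0xa000004c100000f2000000e100)
 (.cons 8 (nat_lit 0x600024008600d40004003400e40099)
 (.cons 4 (nat_lit 0xc00040a0000040902040e0306040000)
 (.cons 2 (nat_lit 0x20202002022212222322310032030222)
 (.cons 1 (nat_lit 0x44404001001100400500501104400400)
 (.cons 2 (nat_lit 0x20202002002200200000000002000200)
 (.cons 4 (nat_lit 0xc0004080000040802000e0006040000)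
 (.cons 8 (nat_lit 0x600024008200d40004003400e40088)
 (.cons 16 (nat_lit 0xa000004c100000f2000000c100)
 (.cons 32 (nat_lit 0x64e020000000000067008612)
 (.cons 64 (nat_lit 0xc0000023425a2200)
 .nil)))))))))))))
noncomputable def a203 : Net := (.cons 64 (nat_lit 0x618a010b40a48400)
 (.cons 32 (nat_lit 0x668d3000000000001468802c)
 (.cons 16 (nat_lit 0x158c0000ca2800009e6c0000d280)
 (.cons 8 (nat_lit 0x1800a500680054003000ec00260030)
 (.cons 4 (nat_lit 0xa020808080a00060800060a0303000e)
 (.cons 2 (nat_lit 0x20010022221020032200022300132002)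
 (.cons 1 (nat_lit 0x1100404400014450404101040141051)
 (.cons 2 (nat_lit 0x2200020000200002000022002)
 (.cons 4 (nat_lit 0xa020808080000060800020a0004000e)
 (.cons 8 (nat_lit 0x1800a400680054002000ec00260010)
 (.cons 16 (nat_lit 0x158c0000ca2800009e6c0000d280)
 (.cons 32 (nat_lit 0x668d30000000000014688020)
 (.cons 64 (nat_lit 0x618a010b00a48400)
 .nil)))))))))))))
noncomputable def a204 : Net := (.cons 64 (nat_lit 0x3980ad0c40cc9278)
 (.cons 32 (nat_lit 0xabc604080000000039e00328)
 (.cons 16 (nat_lit 0x2b00000049000000016800000c00)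
 (.cons 8 (nat_lit 0x42008600c0001900da001000880092)
 (.cons 4 (nat_lit 0x800080800060e0c03010008070601)
 (.cons 2 (nat_lit 0x30000203001002322312002200310000)
 (.cons 1 (nat_lit 0x51040405000054544055004140141044)
 (.cons 2 (nat_lit 0x200000002022000002200200000)
 (.cons 4 (nat_lit 0x80008000006080c0c000008080200)
 (.cons 8 (nat_lit 0x42008000c0001800da001000880092)
 (.cons 16 (nat_lit 0x2300000049000000016800000c00)
 (.cons 32 (nat_lit 0x8bc604000000000039e00128)
 (.cons 64 (nat_lit 0x3980ad0c40cc9278)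
 .nil)))))))))))))
noncomputable def a205 : Net := (.cons 64 (nat_lit 0x4418000d4231c840)
 (.cons 32 (nat_lit 0x481460000000000048646f10)
 (.cons 16 (nat_lit 0x400c000070ac000049280000a650)
 (.cons 8 (nat_lit 0x4000600090002000ed000800820069)
 (.cons 4 (nat_lit 0x600030a0408020d050200020c)
 (.cons 2 (nat_lit 0x100023201302230200132022030230)
 (.cons 1 (nat_lit 0x4040040101444054440004414454400)
 (.cons 2 (nat_lit 0x20200220000200002022002000)
 (.cons 4 (nat_lit 0x6000404040008080400020c0c)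
 (.cons 8 (nat_lit 0x400060009000200024000800a40068)
 (.cons 16 (nat_lit 0x400c000070ac000049280000a650)
 (.cons 32 (nat_lit 0x481460000000000048646f10)
 (.cons 64 (nat_lit 0x4418000d4231c840)
 .nil)))))))))))))
noncomputable def a206 : Net := (.cons 64 (nat_lit 0x636a812e6e250640)
 (.cons 32 (nat_lit 0x430b2800000000001bc85809)
 (.cons 16 (nat_lit 0xe84c0000d0620000718800009400)
 (.cons 8 (nat_lit 0xa0000800b4004400b8001c00140000)
 (.cons 4 (nat_lit 0x80e0c06080c00080408010008020c00)
 (.cons 2 (nat_lit 0x20022101133202000230002230202000)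
 (.cons 1 (nat_lit 0x410000055004050054041050014014)
 (.cons 2 (nat_lit 0x20000000002000000002000002000)
 (.cons 4 (nat_lit 0x80c0c04080c00080008000008020400)
 (.cons 8 (nat_lit 0xa0000800b4000400a8001c00000000)
 (.cons 16 (nat_lit 0xe84c0000d0420000718800009400)
 (.cons 32 (nat_lit 0x430b28000000000013d84808)
 (.cons 64 (nat_lit 0x636a812e6e250600)
 .nil)))))))))))))
noncomputable def a207 : Net := (.cons 64 (nat_lit 0x610299010426c000)
 (.cons 32 (nat_lit 0x6499b60000000000ade92622)
 (.cons 16 (nat_lit 0x8140000682200000f000000d144)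
 (.cons 8 (nat_lit 0x800005006800a80012005000a50058)
 (.cons 4 (nat_lit 0x20008080004000a040c05020e0e000e)
 (.cons 2 (nat_lit 0x30222200230003020200022303201)
 (.cons 1 (nat_lit 0x45001014400450450001440110040440)
 (.cons 2 (nat_lit 0x22200000200000200020000200)
 (.cons 4 (nat_lit 0x20008080004000a040804020a0e000c)
 (.cons 8 (nat_lit 0x800004002800e80012005000a40058)
 (.cons 16 (nat_lit 0x8140000204000000f000000d144)
 (.cons 32 (nat_lit 0x6499b60000000000ade92622)
 (.cons 64 (nat_lit 0x610299010426c000)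
 .nil)))))))))))))
noncomputable def a208 : Net := (.cons 64 (nat_lit 0x324e07c86441cb86)
 (.cons 32 (nat_lit 0x202695e700000000da9d9849)
 (.cons 16 (nat_lit 0xa16e0000ca860000c5a80000f2a1)
 (.cons 8 (nat_lit 0x2002600c700280018005500e20030)
 (.cons 4 (nat_lit 0x90202040d04060d02080c0d0a080c0a)
 (.cons 2 (nat_lit 0x2000203321321313021301132203020)
 (.cons 1 (nat_lit 0x1041404110440114010541441414001)
 (.cons 2 (nat_lit 0x2020202200000020020002000220000)
 (.cons 4 (nat_lit 0x80400040c040e0a0a0800020c080c08)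
 (.cons 8 (nat_lit 0xc400a4000000c800320014)
 (.cons 16 (nat_lit 0xa30e0000e85c0000459000003600)
 (.cons 32 (nat_lit 0x6c97a0000000005e2d0870)
 (.cons 64 (nat_lit 0x324e07c65ad5c9b0)
 .nil)))))))))))))
noncomputable def a209 : Net := (.cons 64 (nat_lit 0x2513b00c2c399ada)
 (.cons 32 (nat_lit 0x350750090000000015c09bdf)
 (.cons 16 (nat_lit 0xc401000093be0000444c00004108)
 (.cons 8 (nat_lit 0xe0000e0084009900720084005100ca)
 (.cons 4 (nat_lit 0x10100000c01080208060d070f010804)
 (.cons 2 (nat_lit 0x100001322123200220122321002010)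
 (.cons 1 (nat_lit 0x401400544411004150014111144010)
 (.cons 2 (nat_lit 0x200200020220002200020220200000)
 (.cons 4 (nat_lit 0x2000008000000080e0400060a0406)
 (.cons 8 (nat_lit 0xe0000e00b60010007200da001000c8)
 (.cons 16 (nat_lit 0xc4040000b7e40000488800004904)
 (.cons 32 (nat_lit 0x151450080000000015649f60)
 (.cons 64 (nat_lit 0x2513b00ccc097ae8)
 .nil)))))))))))))
noncomputable def a210 : Net := (.cons 64 (nat_lit 0x2513b00ccc097ae8)
 (.cons 32 (nat_lit 0xe8e7a06b00000000eacb209f)
 (.cons 16 (nat_lit 0x54070000311600000904000048c8)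
 (.cons 8 (nat_lit 0xb300ae000400e100af0022005c00da)
 (.cons 4 (nat_lit 0xa01020000010f0d050e06040f08090f)
 (.cons 2 (nat_lit 0x22202201020310010202201012302110)
 (.cons 1 (nat_lit 0x10104440140410014105404051401044)
 (.cons 2 (nat_lit 0x20202020020020020000202002002002)
 (.cons 4 (nat_lit 0x800000000000e0e0e06040806000008)
 (.cons 8 (nat_lit 0x22008e000000f800ae000400040084)
 (.cons 16 (nat_lit 0x744000003706000001080000044c)
 (.cons 32 (nat_lit 0xc8f4a06c00000000e22f2420)
 (.cons 64 (nat_lit 0x2513b00c2c399ada)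
 .nil)))))))))))))
noncomputable def a211 : Net := (.cons 64 (nat_lit 0xc3b0a747c487e597)
 (.cons 32 (nat_lit 0x6409164300000000114b446d)
 (.cons 16 (nat_lit 0x91700000c312000004310000ca3b)
 (.cons 8 (nat_lit 0xac00a000b6008c003300d800e40064)
 (.cons 4 (nat_lit 0x30c02060a000004020d0403000f0804)
 (.cons 2 (nat_lit 0x22210230230003020200003222212001)
 (.cons 1 (nat_lit 0x41440400140005400140404144111405)
 (.cons 2 (nat_lit 0x2200200020000000020002200022000)
 (.cons 4 (nat_lit 0x208000c0400000800080806000e080e)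
 (.cons 8 (nat_lit 0xec00a0007400ca0006009400520064)
 (.cons 16 (nat_lit 0x9270000001640000107000005a82)
 (.cons 32 (nat_lit 0xe6893000000000002d0414c2)
 (.cons 64 (nat_lit 0xc3b0a7472c36e5e2)
 .nil)))))))))))))
noncomputable def a212 : Net := (.cons 64 (nat_lit 0x1509062888088801)
 (.cons 32 (nat_lit 0x19a48c200000000032c0290a)
 (.cons 16 (nat_lit 0x4050000a7100000a80200008150)
 (.cons 8 (nat_lit 0xac008e005000e200a00050006c004e)
 (.cons 4 (nat_lit 0xc0000020004070802060e0000080f00)
 (.cons 2 (nat_lit 0x20030221020322102220230003330202)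
 (.cons 1 (nat_lit 0x40010404040544041000100145504010)
 (.cons 2 (nat_lit 0x20020200020022002000200000000000)
 (.cons 4 (nat_lit 0x40000020004000802000e0000080c00)
 (.cons 8 (nat_lit 0xac008e004000e200a00050006c000e)
 (.cons 16 (nat_lit 0x804000087100000080200008150)
 (.cons 32 (nat_lit 0x19a48c2000000000b2c00908)
 (.cons 64 (nat_lit 0x1509062888088800)
 .nil)))))))))))))
noncomputable def a213 : Net := (.cons 64 (nat_lit 0x4f1cd00000000000)
 (.cons 32 (nat_lit 0x6e86f0e00000000099a83000)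
 (.cons 16 (nat_lit 0x811c0000098400006e08)
 (.cons 8 (nat_lit 0x80000000f0001600b8004600e20000)
 (.cons 4 (nat_lit 0xe04000e000d0e04080e080806000404)
 (.cons 2 (nat_lit 0x3120002203101122010000220302000)
 (.cons 1 (nat_lit 0x45005044441450010000511444054000)
 (.cons 2 (nat_lit 0x20202000020000000202002000)
 (.cons 4 (nat_lit 0xe04000000000e040804080008000400)
 (.cons 8 (nat_lit 0x80000000f0001600b8004600420000)
 (.cons 16 (nat_lit 0x811c0000098400006e08)
 (.cons 32 (nat_lit 0x6086f0e00000000099a83000)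
 (.cons 64 (nat_lit 0x4f1cd00000000000)
 .nil)))))))))))))
noncomputable def a214 : Net := (.cons 64 (nat_lit 0x24000709a40ac410)
 (.cons 32 (nat_lit 0x460cb20000000000a0b91108)
 (.cons 16 (nat_lit 0x204000044c2000098010000300c)
 (.cons 8 (nat_lit 0x1800880008004a004000580092)
 (.cons 4 (nat_lit 0xa01080a000d0c08040204040207)
 (.cons 2 (nat_lit 0x20002002202000332032210020230013)
 (.cons 1 (nat_lit 0x40040504444100410550100440051441)
 (.cons 2 (nat_lit 0x20000002202000000000200020000002)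
 (.cons 4 (nat_lit 0xa00080200020c08040004040208)
 (.cons 8 (nat_lit 0x1800880008004a004000480092)
 (.cons 16 (nat_lit 0x204000044c2000098000000300c)
 (.cons 32 (nat_lit 0x420cb00000000000a0b91108)
 (.cons 64 (nat_lit 0x24000709a40ac410)
 .nil)))))))))))))
noncomputable def a215 : Net := (.cons 64 (nat_lit 0x24000709a40ac410)
 (.cons 32 (nat_lit 0x460cb20000000000a0b91108)
 (.cons 16 (nat_lit 0x204000044c2000098010000300c)
 (.cons 8 (nat_lit 0x1800880008004a004000580092)
 (.cons 4 (nat_lit 0xa01080a000d0c08040204040207)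
 (.cons 2 (nat_lit 0x20002002202000332032210020230013)
 (.cons 1 (nat_lit 0x40040504444100410550100440051441)
 (.cons 2 (nat_lit 0x20000002202000000000200020000002)
 (.cons 4 (nat_lit 0xa00080200020c08040004040208)
 (.cons 8 (nat_lit 0x1800880008004a004000480092)
 (.cons 16 (nat_lit 0x204000044c2000098000000300c)
 (.cons 32 (nat_lit 0x420cb00000000000a0b91108)
 (.cons 64 (nat_lit 0x24000709a40ac410)
 .nil)))))))))))))
noncomputable def a216 : Net := (.cons 64 (nat_lit 0x10182300864b4060)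
 (.cons 32 (nat_lit 0x38500300000000004510b800)
 (.cons 16 (nat_lit 0x85000001c80000070f20000bc48)
 (.cons 8 (nat_lit 0x20005800d800d500a800fc00420084)
 (.cons 4 (nat_lit 0x80800000a0008050f000a0c000605)
 (.cons 2 (nat_lit 0x203002203220222031302010220233)
 (.cons 1 (nat_lit 0x5001100100404014044501400141)
 (.cons 2 (nat_lit 0x2200200202020002000200200)
 (.cons 4 (nat_lit 0x80800000a00080400000a0400000a)
 (.cons 8 (nat_lit 0x20005800d800c000a800fc00420084)
 (.cons 16 (nat_lit 0x85000001c80000070f20000bc48)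
 (.cons 32 (nat_lit 0x38500100000000004510b800)
 (.cons 64 (nat_lit 0x10182300864b4020)
 .nil)))))))))))))
noncomputable def a217 : Net := (.cons 64 (nat_lit 0x61508503a2034030)
 (.cons 32 (nat_lit 0x2974b4000000000075941a08)
 (.cons 16 (nat_lit 0x430000060e00000d14c00009732)
 (.cons 8 (nat_lit 0x440024000800c600b400520000000c)
 (.cons 4 (nat_lit 0x800050a000204060c07010406060400)
 (.cons 2 (nat_lit 0x20002020022020313211221032022200)
 (.cons 1 (nat_lit 0x4011411100501004000501111005)
 (.cons 2 (nat_lit 0x2020022000002000000002022000)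
 (.cons 4 (nat_lit 0x800040a000200060c00000406020000)
 (.cons 8 (nat_lit 0x24000800c600a800520000000c)
 (.cons 16 (nat_lit 0x430000060e00000d14c00009712)
 (.cons 32 (nat_lit 0x2974b4000000000075941a08)
 (.cons 64 (nat_lit 0x61508503a2034030)
 .nil)))))))))))))
noncomputable def a218 : Net := (.cons 64 (nat_lit 0x636a812e6e250640)
 (.cons 32 (nat_lit 0x430b2800000000001bc85809)
 (.cons 16 (nat_lit 0xe84c0000d0620000718800009400)
 (.cons 8 (nat_lit 0xa0000800b4004400b8001c00140000)
 (.cons 4 (nat_lit 0x80e0c06080c00080408010008020c00)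
 (.cons 2 (nat_lit 0x20022101133202000230002230202000)
 (.cons 1 (nat_lit 0x410000055004050054041050014014)
 (.cons 2 (nat_lit 0x20000000002000000002000002000)
 (.cons 4 (nat_lit 0x80c0c04080c00080008000008020400)
 (.cons 8 (nat_lit 0xa0000800b4000400a8001c00000000)
 (.cons 16 (nat_lit 0xe84c0000d0420000718800009400)
 (.cons 32 (nat_lit 0x430b28000000000013d84808)
 (.cons 64 (nat_lit 0x636a812e6e250600)
 .nil)))))))))))))
noncomputable def a219 : Net := (.cons 64 (nat_lit 0x4418000d4231c840)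
 (.cons 32 (nat_lit 0x481460000000000048646f10)
 (.cons 16 (nat_lit 0x400c000070ac000049280000a650)
 (.cons 8 (nat_lit 0x4000600090002000ed000800820069)
 (.cons 4 (nat_lit 0x600030a0408020d050200020c)
 (.cons 2 (nat_lit 0x100023201302230200132022030230)
 (.cons 1 (nat_lit 0x4040040101444054440004414454400)
 (.cons 2 (nat_lit 0x20200220000200002022002000)
 (.cons 4 (nat_lit 0x6000404040008080400020c0c)
 (.cons 8 (nat_lit 0x400060009000200024000800a40068)
 (.cons 16 (nat_lit 0x400c000070ac000049280000a650)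
 (.cons 32 (nat_lit 0x481460000000000048646f10)
 (.cons 64 (nat_lit 0x4418000d4231c840)
 .nil)))))))))))))
noncomputable def a220 : Net := (.cons 64 (nat_lit 0x610299010426c000)
 (.cons 32 (nat_lit 0x6499b60000000000ade92622)
 (.cons 16 (nat_lit 0x8140000682200000f000000d144)
 (.cons 8 (nat_lit 0x800005006800a80012005000a50058)
 (.cons 4 (nat_lit 0x20008080004000a040c05020e0e000e)
 (.cons 2 (nat_lit 0x30222200230003020200022303201)
 (.cons 1 (nat_lit 0x45001014400450450001440110040440)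
 (.cons 2 (nat_lit 0x22200000200000200020000200)
 (.cons 4 (nat_lit 0x20008080004000a040804020a0e000c)
 (.cons 8 (nat_lit 0x800004002800e80012005000a40058)
 (.cons 16 (nat_lit 0x8140000204000000f000000d144)
 (.cons 32 (nat_lit 0x6499b60000000000ade92622)
 (.cons 64 (nat_lit 0x610299010426c000)
 .nil)))))))))))))
noncomputable def a221 : Net := (.cons 64 (nat_lit 0x401280294031c800)
 (.cons 32 (nat_lit 0x6e9124000000000098a53208)
 (.cons 16 (nat_lit 0xa2200000d0e60000854000005d18)
 (.cons 8 (nat_lit 0x60002c009400c80060009e00610054)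
 (.cons 4 (nat_lit 0xc030006040c00000a0802000c080507)
 (.cons 2 (nat_lit 0x20000220202200200020000330021313)
 (.cons 1 (nat_lit 0x40400041101400155004044500504114)
 (.cons 2 (nat_lit 0x20000020202200200000000000000202)
 (.cons 4 (nat_lit 0x4000006000c00000a0800000c080800)
 (.cons 8 (nat_lit 0x60002c009400880060008e00600054)
 (.cons 16 (nat_lit 0xa2200000d0c60000844000005d18)
 (.cons 32 (nat_lit 0x6e9124000000000098a53208)
 (.cons 64 (nat_lit 0x401280294031c800)
 .nil)))))))))))))
noncomputable def a222 : Net := (.cons 64 (nat_lit 0x618a010b40a48400)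
 (.cons 32 (nat_lit 0x668d3000000000001468802c)
 (.cons 16 (nat_lit 0x158c0000ca2800009e6c0000d280)
 (.cons 8 (nat_lit 0x1800a500680054003000ec00260030)
 (.cons 4 (nat_lit 0xa020808080a00060800060a0303000e)
 (.cons 2 (nat_lit 0x20010022221020032200022300132002)
 (.cons 1 (nat_lit 0x1100404400014450404101040141051)
 (.cons 2 (nat_lit 0x2200020000200002000022002)
 (.cons 4 (nat_lit 0xa020808080000060800020a0004000e)
 (.cons 8 (nat_lit 0x1800a400680054002000ec00260010)
 (.cons 16 (nat_lit 0x158c0000ca2800009e6c0000d280)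
 (.cons 32 (nat_lit 0x668d30000000000014688020)
 (.cons 64 (nat_lit 0x618a010b00a48400)
 .nil)))))))))))))
noncomputable def a223 : Net := (.cons 64 (nat_lit 0x240a11473804ca60)
 (.cons 32 (nat_lit 0x4e9a100000000000d21c2108)
 (.cons 16 (nat_lit 0x6f1000008c010000c90400003410)
 (.cons 8 (nat_lit 0x800046001000b400c100b0004e0070)
 (.cons 4 (nat_lit 0x800080e0006040208000c0809060c07)
 (.cons 2 (nat_lit 0x2000231001022300020210320321000)
 (.cons 1 (nat_lit 0x1005450040114514014100544010411)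
 (.cons 2 (nat_lit 0x2000200000022000020200020020000)
 (.cons 4 (nat_lit 0x800080e0006040208000c0808060c00)
 (.cons 8 (nat_lit 0x8000400030000000c00090004e0070)
 (.cons 16 (nat_lit 0x6f100000ac200000c90400003000)
 (.cons 32 (nat_lit 0x4e90100000000000d21c2100)
 (.cons 64 (nat_lit 0x240a11473804ca60)
 .nil)))))))))))))
noncomputable def a224 : Net := (.cons 64 (nat_lit 0x610299010426c000)
 (.cons 32 (nat_lit 0x6499b60000000000ade92622)
 (.cons 16 (nat_lit 0x8140000682200000f000000d144)
 (.cons 8 (nat_lit 0x800005006800a80012005000a50058)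
 (.cons 4 (nat_lit 0x20008080004000a040c05020e0e000e)
 (.cons 2 (nat_lit 0x30222200230003020200022303201)
 (.cons 1 (nat_lit 0x45001014400450450001440110040440)
 (.cons 2 (nat_lit 0x22200000200000200020000200)
 (.cons 4 (nat_lit 0x20008080004000a040804020a0e000c)
 (.cons 8 (nat_lit 0x800004002800e80012005000a40058)
 (.cons 16 (nat_lit 0x8140000204000000f000000d144)
 (.cons 32 (nat_lit 0x6499b60000000000ade92622)
 (.cons 64 (nat_lit 0x610299010426c000)
 .nil)))))))))))))
noncomputable def a225 : Net := (.cons 64 (nat_lit 0x4418000d4231c840)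
 (.cons 32 (nat_lit 0x481460000000000048646f10)
 (.cons 16 (nat_lit 0x400c000070ac000049280000a650)
 (.cons 8 (nat_lit 0x4000600090002000ed000800820069)
 (.cons 4 (nat_lit 0x600030a0408020d050200020c)
 (.cons 2 (nat_lit 0x100023201302230200132022030230)
 (.cons 1 (nat_lit 0x4040040101444054440004414454400)
 (.cons 2 (nat_lit 0x20200220000200002022002000)
 (.cons 4 (nat_lit 0x6000404040008080400020c0c)
 (.cons 8 (nat_lit 0x400060009000200024000800a40068)
 (.cons 16 (nat_lit 0x400c000070ac000049280000a650)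
 (.cons 32 (nat_lit 0x481460000000000048646f10)
 (.cons 64 (nat_lit 0x4418000d4231c840)
 .nil)))))))))))))
noncomputable def a226 : Net := (.cons 64 (nat_lit 0x240a11473804ca60)
 (.cons 32 (nat_lit 0x4e9a100000000000d21c2108)
 (.cons 16 (nat_lit 0x6f1000008c010000c90400003410)
 (.cons 8 (nat_lit 0x800046001000b400c100b0004e0070)
 (.cons 4 (nat_lit 0x800080e0006040208000c0809060c07)
 (.cons 2 (nat_lit 0x2000231001022300020210320321000)
 (.cons 1 (nat_lit 0x1005450040114514014100544010411)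
 (.cons 2 (nat_lit 0x2000200000022000020200020020000)
 (.cons 4 (nat_lit 0x800080e0006040208000c0808060c00)
 (.cons 8 (nat_lit 0x8000400030000000c00090004e0070)
 (.cons 16 (nat_lit 0x6f100000ac200000c90400003000)
 (.cons 32 (nat_lit 0x4e90100000000000d21c2100)
 (.cons 64 (nat_lit 0x240a11473804ca60)
 .nil)))))))))))))
noncomputable def a227 : Net := (.cons 64 (nat_lit 0x618a010b40a48400)
 (.cons 32 (nat_lit 0x668d3000000000001468802c)
 (.cons 16 (nat_lit 0x158c0000ca2800009e6c0000d280)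
 (.cons 8 (nat_lit 0x1800a500680054003000ec00260030)
 (.cons 4 (nat_lit 0xa020808080a00060800060a0303000e)
 (.cons 2 (nat_lit 0x20010022221020032200022300132002)
 (.cons 1 (nat_lit 0x1100404400014450404101040141051)
 (.cons 2 (nat_lit 0x2200020000200002000022002)
 (.cons 4 (nat_lit 0xa020808080000060800020a0004000e)
 (.cons 8 (nat_lit 0x1800a400680054002000ec00260010)
 (.cons 16 (nat_lit 0x158c0000ca2800009e6c0000d280)
 (.cons 32 (nat_lit 0x668d30000000000014688020)
 (.cons 64 (nat_lit 0x618a010b00a48400)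
 .nil)))))))))))))
noncomputable def a228 : Net := (.cons 64 (nat_lit 0x10182300864b4060)
 (.cons 32 (nat_lit 0x38500300000000004510b800)
 (.cons 16 (nat_lit 0x85000001c80000070f20000bc48)
 (.cons 8 (nat_lit 0x20005800d800d500a800fc00420084)
 (.cons 4 (nat_lit 0x80800000a0008050f000a0c000605)
 (.cons 2 (nat_lit 0x203002203220222031302010220233)
 (.cons 1 (nat_lit 0x5001100100404014044501400141)
 (.cons 2 (nat_lit 0x2200200202020002000200200)
 (.cons 4 (nat_lit 0x80800000a00080400000a0400000a)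
 (.cons 8 (nat_lit 0x20005800d800c000a800fc00420084)
 (.cons 16 (nat_lit 0x85000001c80000070f20000bc48)
 (.cons 32 (nat_lit 0x38500100000000004510b800)
 (.cons 64 (nat_lit 0x10182300864b4020)
 .nil)))))))))))))
noncomputable def a229 : Net := (.cons 64 (nat_lit 0x240a11473804ca60)
 (.cons 32 (nat_lit 0x4e9a100000000000d21c2108)
 (.cons 16 (nat_lit 0x6f1000008c010000c90400003410)
 (.cons 8 (nat_lit 0x800046001000b400c100b0004e0070)
 (.cons 4 (nat_lit 0x800080e0006040208000c0809060c07)
 (.cons 2 (nat_lit 0x2000231001022300020210320321000)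
 (.cons 1 (nat_lit 0x1005450040114514014100544010411)
 (.cons 2 (nat_lit 0x2000200000022000020200020020000)
 (.cons 4 (nat_lit 0x800080e0006040208000c0808060c00)
 (.cons 8 (nat_lit 0x8000400030000000c00090004e0070)
 (.cons 16 (nat_lit 0x6f100000ac200000c90400003000)
 (.cons 32 (nat_lit 0x4e90100000000000d21c2100)
 (.cons 64 (nat_lit 0x240a11473804ca60)
 .nil)))))))))))))
noncomputable def a230 : Net := (.cons 64 (nat_lit 0x636a812e6e250640)
 (.cons 32 (nat_lit 0x430b2800000000001bc85809)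
 (.cons 16 (nat_lit 0xe84c0000d0620000718800009400)
 (.cons 8 (nat_lit 0xa0000800b4004400b8001c00140000)
 (.cons 4 (nat_lit 0x80e0c06080c00080408010008020c00)
 (.cons 2 (nat_lit 0x20022101133202000230002230202000)
 (.cons 1 (nat_lit 0x410000055004050054041050014014)
 (.cons 2 (nat_lit 0x20000000002000000002000002000)
 (.cons 4 (nat_lit 0x80c0c04080c00080008000008020400)
 (.cons 8 (nat_lit 0xa0000800b4000400a8001c00000000)
 (.cons 16 (nat_lit 0xe84c0000d0420000718800009400)
 (.cons 32 (nat_lit 0x430b28000000000013d84808)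
 (.cons 64 (nat_lit 0x636a812e6e250600)
 .nil)))))))))))))
noncomputable def a231 : Net := (.cons 64 (nat_lit 0x636a812e6e250640)
 (.cons 32 (nat_lit 0x430b2800000000001bc85809)
 (.cons 16 (nat_lit 0xe84c0000d0620000718800009400)
 (.cons 8 (nat_lit 0xa0000800b4004400b8001c00140000)
 (.cons 4 (nat_lit 0x80e0c06080c00080408010008020c00)
 (.cons 2 (nat_lit 0x20022101133202000230002230202000)
 (.cons 1 (nat_lit 0x410000055004050054041050014014)
 (.cons 2 (nat_lit 0x20000000002000000002000002000)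
 (.cons 4 (nat_lit 0x80c0c04080c00080008000008020400)
 (.cons 8 (nat_lit 0xa0000800b4000400a8001c00000000)
 (.cons 16 (nat_lit 0xe84c0000d0420000718800009400)
 (.cons 32 (nat_lit 0x430b28000000000013d84808)
 (.cons 64 (nat_lit 0x636a812e6e250600)
 .nil)))))))))))))
noncomputable def a232 : Net := (.cons 64 (nat_lit 0x4418000d4231c840)
 (.cons 32 (nat_lit 0x481460000000000048646f10)
 (.cons 16 (nat_lit 0x400c000070ac000049280000a650)
 (.cons 8 (nat_lit 0x4000600090002000ed000800820069)
 (.cons 4 (nat_lit 0x600030a0408020d050200020c)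
 (.cons 2 (nat_lit 0x100023201302230200132022030230)
 (.cons 1 (nat_lit 0x4040040101444054440004414454400)
 (.cons 2 (nat_lit 0x20200220000200002022002000)
 (.cons 4 (nat_lit 0x6000404040008080400020c0c)
 (.cons 8 (nat_lit 0x400060009000200024000800a40068)
 (.cons 16 (nat_lit 0x400c000070ac000049280000a650)
 (.cons 32 (nat_lit 0x481460000000000048646f10)
 (.cons 64 (nat_lit 0x4418000d4231c840)
 .nil)))))))))))))
noncomputable def a233 : Net := (.cons 64 (nat_lit 0x610299010426c000)
 (.cons 32 (nat_lit 0x6499b60000000000ade92622)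
 (.cons 16 (nat_lit 0x8140000682200000f000000d144)
 (.cons 8 (nat_lit 0x800005006800a80012005000a50058)
 (.cons 4 (nat_lit 0x20008080004000a040c05020e0e000e)
 (.cons 2 (nat_lit 0x30222200230003020200022303201)
 (.cons 1 (nat_lit 0x45001014400450450001440110040440)
 (.cons 2 (nat_lit 0x22200000200000200020000200)
 (.cons 4 (nat_lit 0x20008080004000a040804020a0e000c)
 (.cons 8 (nat_lit 0x800004002800e80012005000a40058)
 (.cons 16 (nat_lit 0x8140000204000000f000000d144)
 (.cons 32 (nat_lit 0x6499b60000000000ade92622)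
 (.cons 64 (nat_lit 0x610299010426c000)
 .nil)))))))))))))
noncomputable def a234 : Net := (.cons 64 (nat_lit 0x240a11473804ca60)
 (.cons 32 (nat_lit 0x4e9a100000000000d21c2108)
 (.cons 16 (nat_lit 0x6f1000008c010000c90400003410)
 (.cons 8 (nat_lit 0x800046001000b400c100b0004e0070)
 (.cons 4 (nat_lit 0x800080e0006040208000c0809060c07)
 (.cons 2 (nat_lit 0x2000231001022300020210320321000)
 (.cons 1 (nat_lit 0x1005450040114514014100544010411)
 (.cons 2 (nat_lit 0x2000200000022000020200020020000)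
 (.cons 4 (nat_lit 0x800080e0006040208000c0808060c00)
 (.cons 8 (nat_lit 0x8000400030000000c00090004e0070)
 (.cons 16 (nat_lit 0x6f100000ac200000c90400003000)
 (.cons 32 (nat_lit 0x4e90100000000000d21c2100)
 (.cons 64 (nat_lit 0x240a11473804ca60)
 .nil)))))))))))))
noncomputable def a235 : Net := (.cons 64 (nat_lit 0xf57e932600a995fa)
 (.cons 32 (nat_lit 0xd84dc97f00000000d1423a3e)
 (.cons 16 (nat_lit 0xcb51000091ce000085c00000ccce)
 (.cons 8 (nat_lit 0x3f008a00cc009500d200b800a8000c)
 (.cons 4 (nat_lit 0x2080c0103080a020405010508080c08)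
 (.cons 2 (nat_lit 0x10212333022203130201223220322002)
 (.cons 1 (nat_lit 0x4401451104001154401411440154001)
 (.cons 2 (nat_lit 0x2002202002000200200022220000002)
 (.cons 4 (nat_lit 0xc0a0c0000080a040004020000080c00)
 (.cons 8 (nat_lit 0x52008a00da0092009000e800c80000)
 (.cons 16 (nat_lit 0x8b52000006c20000c5400000ccca)
 (.cons 32 (nat_lit 0xd81dc87000000000d1421a30)
 (.cons 64 (nat_lit 0xf57e932c856fa786)
 .nil)))))))))))))
noncomputable def a236 : Net := (.cons 64 (nat_lit 0x10182300864b4060)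
 (.cons 32 (nat_lit 0x38500300000000004510b800)
 (.cons 16 (nat_lit 0x85000001c80000070f20000bc48)
 (.cons 8 (nat_lit 0x20005800d800d500a800fc00420084)
 (.cons 4 (nat_lit 0x80800000a0008050f000a0c000605)
 (.cons 2 (nat_lit 0x203002203220222031302010220233)
 (.cons 1 (nat_lit 0x5001100100404014044501400141)
 (.cons 2 (nat_lit 0x2200200202020002000200200)
 (.cons 4 (nat_lit 0x80800000a00080400000a0400000a)
 (.cons 8 (nat_lit 0x20005800d800c000a800fc00420084)
 (.cons 16 (nat_lit 0x85000001c80000070f20000bc48)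
 (.cons 32 (nat_lit 0x38500100000000004510b800)
 (.cons 64 (nat_lit 0x10182300864b4020)
 .nil)))))))))))))
noncomputable def a237 : Net := (.cons 64 (nat_lit 0xc2192b431ca86280)
 (.cons 32 (nat_lit 0xfa12e140000000001a258024)
 (.cons 16 (nat_lit 0xda0200000c8800001a000000e0e4)
 (.cons 8 (nat_lit 0xa00070004a00250085008800640029)
 (.cons 4 (nat_lit 0x80b080c0008000c02020204050e0509)
 (.cons 2 (nat_lit 0x20030023000022103000221223213)
 (.cons 1 (nat_lit 0x40114001015100141104144140005005)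
 (.cons 2 (nat_lit 0x200000020000022002002200000000)
 (.cons 4 (nat_lit 0x800080c000800040202020404000408)
 (.cons 8 (nat_lit 0xa00070004a002000a00088006400b8)
 (.cons 16 (nat_lit 0xd80200000c8800001a000000f1a4)
 (.cons 32 (nat_lit 0x7a12e140000000001a250000)
 (.cons 64 (nat_lit 0xc2192b431ca86280)
 .nil)))))))))))))
noncomputable def a238 : Net := (.cons 64 (nat_lit 0x7d9b7c526856d63b)
 (.cons 32 (nat_lit 0xf5d2331600000000e8050a52)
 (.cons 16 (nat_lit 0x7f51000005e000000b950000f38e)
 (.cons 8 (nat_lit 0x49003000ce00da00ae0082001800b6)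
 (.cons 4 (nat_lit 0xc090503020d000d040f000e0e020c01)
 (.cons 2 (nat_lit 0x3121131023000112100022021322222)
 (.cons 1 (nat_lit 0x40410041441005444014000404144015)
 (.cons 2 (nat_lit 0x20022000200020000200222020)
 (.cons 4 (nat_lit 0xc0000040c0c0008000c000008020c00)
 (.cons 8 (nat_lit 0x1a003000f8005a006e0088009800b0)
 (.cons 16 (nat_lit 0x6a50000035f4000001f00000e08e)
 (.cons 32 (nat_lit 0xbd504b4600000000e8218b54)
 (.cons 64 (nat_lit 0x7d9b7c53f33144c0)
 .nil)))))))))))))
noncomputable def a239 : Net := (.cons 64 (nat_lit 0x7ad5212a35c28a64)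
 (.cons 32 (nat_lit 0x9b82a97900000000415bf4ad)
 (.cons 16 (nat_lit 0xe0cd00000e9a00000bce0000050a)
 (.cons 8 (nat_lit 0x8200270034001d0090008500a40017)
 (.cons 4 (nat_lit 0xb030a08000b06050c0c06020d000501)
 (.cons 2 (nat_lit 0x20300302201302322022030122001013)
 (.cons 1 (nat_lit 0x11544011401114111401044441000105)
 (.cons 2 (nat_lit 0x2002202002022200022002000000)
 (.cons 4 (nat_lit 0x80a0008040a060c0c0206000e000004)
 (.cons 8 (nat_lit 0x8a006600540008001000a400a0005c)
 (.cons 16 (nat_lit 0xc1c800000a9e00004bc400000d08)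
 (.cons 32 (nat_lit 0xa382a870000000004153f064)
 (.cons 64 (nat_lit 0x7ad5212a7623afa8)
 .nil)))))))))))))
noncomputable def a240 : Net := (.cons 64 (nat_lit 0xa7ba9cf44b002c80)
 (.cons 32 (nat_lit 0x5b5f4599000000002d842204)
 (.cons 16 (nat_lit 0x6020000917a00003501000040ce)
 (.cons 8 (nat_lit 0xe000cc00c000a400c0002000ca00e0)
 (.cons 4 (nat_lit 0x9040704020a0e090200050202040c0c)
 (.cons 2 (nat_lit 0x21210122300220220200100010112030)
 (.cons 1 (nat_lit 0x14441450500041044100000550404114)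
 (.cons 2 (nat_lit 0x200000000000020000000000200000)
 (.cons 4 (nat_lit 0x4080e0800080c00020004020a0c0e00)
 (.cons 8 (nat_lit 0x8004000d0000200800020001200a8)
 (.cons 16 (nat_lit 0x9366000015580000350000008a92)
 (.cons 32 (nat_lit 0x5b5d4d18000000002d842208)
 (.cons 64 (nat_lit 0xa7ba9cf059002980)
 .nil)))))))))))))
noncomputable def a241 : Net := (.cons 64 (nat_lit 0xde70b57249a35568)
 (.cons 32 (nat_lit 0xb753700b00000000edf629a4)
 (.cons 16 (nat_lit 0x466f00000c38000083630000adc0)
 (.cons 8 (nat_lit 0xf500810010004d00f000c000c80008)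
 (.cons 4 (nat_lit 0xf03010e0e0005000f08000c00000200)
 (.cons 2 (nat_lit 0x30232103203020033022022030013002)
 (.cons 1 (nat_lit 0x11014104540414140144414414044104)
 (.cons 2 (nat_lit 0x20002000000022220202222222002202)
 (.cons 4 (nat_lit 0xa04000c060004000408080804080000)
 (.cons 8 (nat_lit 0x98008000cc00e200dc00c800ca0008)
 (.cons 16 (nat_lit 0x26e000080d8000082400000afce)
 (.cons 32 (nat_lit 0xe763747c00000000ec7b212a)
 (.cons 64 (nat_lit 0xde70b5741e319686)
 .nil)))))))))))))
noncomputable def a242 : Net := (.cons 64 (nat_lit 0xa4f40c98fb871d00)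
 (.cons 32 (nat_lit 0x600e000700000000f40a3e20)
 (.cons 16 (nat_lit 0xc860000fbb80000366700008020)
 (.cons 8 (nat_lit 0x1c00080087005c00b400a400ad0042)
 (.cons 4 (nat_lit 0x200010d0806070203090e03040608)
 (.cons 2 (nat_lit 0x200002211200322120202213010120)
 (.cons 1 (nat_lit 0x14040404400501514544114005040104)
 (.cons 2 (nat_lit 0x20020002200000022002202000000000)
 (.cons 4 (nat_lit 0x4000000040002040404080c080c0408)
 (.cons 8 (nat_lit 0xd00008000600dc009800a400240022)
 (.cons 16 (nat_lit 0x81e0000d75800003f6600008268)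
 (.cons 32 (nat_lit 0xe08e000c00000000f5020f60)
 (.cons 64 (nat_lit 0xa4f40c986306d220)
 .nil)))))))))))))
noncomputable def a243 : Net := (.cons 64 (nat_lit 0x30768cd3d27fd594)
 (.cons 32 (nat_lit 0xb2e75f320000000076058f8c)
 (.cons 16 (nat_lit 0xd0f20000ace00000018d000073b4)
 (.cons 8 (nat_lit 0xf400180082002c00df001800250082)
 (.cons 4 (nat_lit 0x401070f070800040c0308000a040c02)
 (.cons 2 (nat_lit 0x12303203021000132020202213220112)
 (.cons 1 (nat_lit 0x44100115144004144050011415410410)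
 (.cons 2 (nat_lit 0x22000220000000000000000200200000)
 (.cons 4 (nat_lit 0x2020e060c0c00020c0e02080c040c00)
 (.cons 8 (nat_lit 0x56000a0042000c00d200b6007a00c2)
 (.cons 16 (nat_lit 0x42160000a8e000002a00000030ae)
 (.cons 32 (nat_lit 0xa2f35776000000003b0cada2)
 (.cons 64 (nat_lit 0x30768cd8531d5efa)
 .nil)))))))))))))
noncomputable def a244 : Net := (.cons 64 (nat_lit 0x50000b6b50000000)
 (.cons 32 (nat_lit 0x7004aa81000000003e800000)
 (.cons 16 (nat_lit 0x1020000057600000b00000006d70)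
 (.cons 8 (nat_lit 0xd80080005800a000a400e80080)
 (.cons 4 (nat_lit 0x40e08000400020a0d00020806000a)
 (.cons 2 (nat_lit 0x20202020202312102220200003232200)
 (.cons 1 (nat_lit 0x40400514100001041044100140404100)
 (.cons 2 (nat_lit 0x20200020200002002020200000202200)
 (.cons 4 (nat_lit 0x40e08000400000a0c000208060000)
 (.cons 8 (nat_lit 0xd80080000800a000a000e80080)
 (.cons 16 (nat_lit 0x1020000051600000b00000006d60)
 (.cons 32 (nat_lit 0x7004aa80000000003a800000)
 (.cons 64 (nat_lit 0x50000b6950000000)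
 .nil)))))))))))))
noncomputable def a245 : Net := (.cons 64 (nat_lit 0xe4130f9706f967e0)
 (.cons 32 (nat_lit 0x136d75ab000000000d1cc046)
 (.cons 16 (nat_lit 0xfa0600008648000074300000b9cc)
 (.cons 8 (nat_lit 0x10013008e008400e8003a0007003a)
 (.cons 4 (nat_lit 0xc0b0c0500040c06080c020109080004)
 (.cons 2 (nat_lit 0x21221032223102302020000000022332)
 (.cons 1 (nat_lit 0x11140441401141405140140014011544)
 (.cons 2 (nat_lit 0x220022202002000200020020000002)
 (.cons 4 (nat_lit 0xc080c0408080c06000808000000000a)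
 (.cons 8 (nat_lit 0x4000040084008400a0003a00860038)
 (.cons 16 (nat_lit 0xeb1a000082d8000074100000a1ea)
 (.cons 32 (nat_lit 0xb77c7fb800000000059c500c)
 (.cons 64 (nat_lit 0xe4130f99de475ef0)
 .nil)))))))))))))
noncomputable def a246 : Net := (.cons 64 (nat_lit 0xf20038d0c5014370)
 (.cons 32 (nat_lit 0xbb5d5bbb0000000022c50762)
 (.cons 16 (nat_lit 0xc0800000a04a0000810600001208)
 (.cons 8 (nat_lit 0xa00b9009a003400ba0021005400bc)
 (.cons 4 (nat_lit 0x90b090b0402000b060a060408030e00)
 (.cons 2 (nat_lit 0x33000221000031202200123122122)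
 (.cons 1 (nat_lit 0x10514104441000011105400414441104)
 (.cons 2 (nat_lit 0x20020000200000000000200022022002)
 (.cons 4 (nat_lit 0x8020808080200080c0604000c000e00)
 (.cons 8 (nat_lit 0x42009a0098003400b40026001a00b4)
 (.cons 16 (nat_lit 0x8288000034480000860800005a00)
 (.cons 32 (nat_lit 0x195d73e20000000026500462)
 (.cons 64 (nat_lit 0xf20038d3cc425302)
 .nil)))))))))))))
noncomputable def a247 : Net := (.cons 64 (nat_lit 0x50000b6b50000000)
 (.cons 32 (nat_lit 0x7004aa81000000003e800000)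
 (.cons 16 (nat_lit 0x1020000057600000b00000006d70)
 (.cons 8 (nat_lit 0xd80080005800a000a400e80080)
 (.cons 4 (nat_lit 0x40e08000400020a0d00020806000a)
 (.cons 2 (nat_lit 0x20202020202312102220200003232200)
 (.cons 1 (nat_lit 0x40400514100001041044100140404100)
 (.cons 2 (nat_lit 0x20200020200002002020200000202200)
 (.cons 4 (nat_lit 0x40e08000400000a0c000208060000)
 (.cons 8 (nat_lit 0xd80080000800a000a000e80080)
 (.cons 16 (nat_lit 0x1020000051600000b00000006d60)
 (.cons 32 (nat_lit 0x7004aa80000000003a800000)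
 (.cons 64 (nat_lit 0x50000b6950000000)
 .nil)))))))))))))
noncomputable def a248 : Net := (.cons 64 (nat_lit 0x40000fb500008004)
 (.cons 32 (nat_lit 0x69840f0000000000ce929020)
 (.cons 16 (nat_lit 0x9a800007710000060000000df90)
 (.cons 8 (nat_lit 0x8001700620040006400e000400094)
 (.cons 4 (nat_lit 0x4080000080002040a0002020d0e04)
 (.cons 2 (nat_lit 0x22202000203000122003000231313212)
 (.cons 1 (nat_lit 0x41401000010000014410104450000104)
 (.cons 2 (nat_lit 0x22202000000000022000002000000202)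
 (.cons 4 (nat_lit 0x4080000080000040a000c02080e04)
 (.cons 8 (nat_lit 0x8001000620040006400e000400080)
 (.cons 16 (nat_lit 0x92800002100000060000000df90)
 (.cons 32 (nat_lit 0x69840700000000004e929020)
 (.cons 64 (nat_lit 0x40000fb500008004)
 .nil)))))))))))))
noncomputable def a249 : Net := (.cons 64 (nat_lit 0xe0000b2330000000)
 (.cons 32 (nat_lit 0x58947b1000000000ad000000)
 (.cons 16 (nat_lit 0x1028000062220000b090000055e0)
 (.cons 8 (nat_lit 0x400022008800c5006000a0002100d8)
 (.cons 4 (nat_lit 0x80c0c06000800000700000404080e0a)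
 (.cons 2 (nat_lit 0x302110020220022201002300002010)
 (.cons 1 (nat_lit 0x10541001010004404410001010404400)
 (.cons 2 (nat_lit 0x2000020000002220000000000200)
 (.cons 4 (nat_lit 0xc0c06000800000000000400080000)
 (.cons 8 (nat_lit 0x400020008800c400e00020002000d8)
 (.cons 16 (nat_lit 0x10280000600200001000000055e0)
 (.cons 32 (nat_lit 0x58947b1000000000a5000000)
 (.cons 64 (nat_lit 0xe0000b2330000000)
 .nil)))))))))))))
noncomputable def a250 : Net := (.cons 64 (nat_lit 0x721004d265001200)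
 (.cons 32 (nat_lit 0x3412849000000000c4e63260)
 (.cons 16 (nat_lit 0x201000003a0c0000c46000003118)
 (.cons 8 (nat_lit 0x100080009a00340088006c0089000a)
 (.cons 4 (nat_lit 0x2000d05060e0a0000010408000e02)
 (.cons 2 (nat_lit 0x12002031200131100023220100202000)
 (.cons 1 (nat_lit 0x4100014041050010045400014440100)
 (.cons 2 (nat_lit 0x2000020000000000020200000200000)
 (.cons 4 (nat_lit 0x2000004060e020000000408000a00)
 (.cons 8 (nat_lit 0x100080009a0034000800680088000a)
 (.cons 16 (nat_lit 0x201000003a0c0000c40000003108)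
 (.cons 32 (nat_lit 0x341280900000000044e63260)
 (.cons 64 (nat_lit 0x721004d065001200)
 .nil)))))))))))))
noncomputable def a251 : Net := (.cons 64 (nat_lit 0xf000000000000000)
 (.cons 32 (nat_lit 0x3810028000000000e0000000)
 (.cons 16 (nat_lit 0x4010000014480000f00000000690)
 (.cons 8 (nat_lit 0x4200a20032002000a5000600a8)
 (.cons 4 (nat_lit 0x800000d000406020c0e000000020400)
 (.cons 2 (nat_lit 0x22302121103210003203210120)
 (.cons 1 (nat_lit 0x10000011010010015005405005405000)
 (.cons 2 (nat_lit 0x22000020000000000000200000)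
 (.cons 4 (nat_lit 0x404020c0e000000020400)
 (.cons 8 (nat_lit 0x4000020032002000a0000600a0)
 (.cons 16 (nat_lit 0x4010000010400000f00000000680)
 (.cons 32 (nat_lit 0x3810028000000000e0000000)
 (.cons 64 (nat_lit 0xf000000000000000)
 .nil)))))))))))))
noncomputable def a252 : Net := (.cons 64 (nat_lit 0x7000000000000000)
 (.cons 32 (nat_lit 0x101c2900000000070000000)
 (.cons 16 (nat_lit 0x100000a1680000f04000005504)
 (.cons 8 (nat_lit 0x100046007400a8005c00da00c50028)
 (.cons 4 (nat_lit 0x201080801080802060c0e0e08060a0c)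
 (.cons 2 (nat_lit 0x10000002020220200202232110000130)
 (.cons 1 (nat_lit 0x1000441045010055451051000100000)
 (.cons 2 (nat_lit 0x2020020000202002000000000)
 (.cons 4 (nat_lit 0x200080800080802060c0e0c0002000c)
 (.cons 8 (nat_lit 0x100044007400a8005c00da00c40028)
 (.cons 16 (nat_lit 0x100000a1080000d00000005504)
 (.cons 32 (nat_lit 0x101c2900000000070000000)
 (.cons 64 (nat_lit 0x7000000000000000)
 .nil)))))))))))))
noncomputable def a253 : Net := (.cons 64 (nat_lit 0xc43ed10167908042)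
 (.cons 32 (nat_lit 0x840304910000000060ac18a4)
 (.cons 16 (nat_lit 0xd1ba0000ec2600001d2400000c34)
 (.cons 8 (nat_lit 0x5100a4006c0013009a008100fb00b0)
 (.cons 4 (nat_lit 0x80a0c0b000002040300060a)
 (.cons 2 (nat_lit 0x20032023213003300012223230031022)
 (.cons 1 (nat_lit 0x10414010444041104015004051101400)
 (.cons 2 (nat_lit 0x20022020002002002000002000002000)
 (.cons 4 (nat_lit 0x4080c02000a0c06000402020200)
 (.cons 8 (nat_lit 0x4000a4000c001400d200a0006800b0)
 (.cons 16 (nat_lit 0xd5a40000744c000017a000008634)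
 (.cons 32 (nat_lit 0x8029959c0000000060ad1094)
 (.cons 64 (nat_lit 0xc43ed101e7824042)
 .nil)))))))))))))
noncomputable def a254 : Net := (.cons 64 (nat_lit 0x571fe7244d8c88e0)
 (.cons 32 (nat_lit 0x843d911e0000000033761214)
 (.cons 16 (nat_lit 0x22f00005b160000930000000c04)
 (.cons 8 (nat_lit 0x1600400027000c00f6009900400028)
 (.cons 4 (nat_lit 0x804030c0e050f0402000c0c08040a)
 (.cons 2 (nat_lit 0x1202012002120202000021220203332)
 (.cons 1 (nat_lit 0x41114104400111445010000144440140)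
 (.cons 2 (nat_lit 0x202000000002220000000220200220)
 (.cons 4 (nat_lit 0xa0606080a08080002000404080000)
 (.cons 8 (nat_lit 0x400400020005800e4008800400030)
 (.cons 16 (nat_lit 0x120c000053540000839400002084)
 (.cons 32 (nat_lit 0x863ab1380000000033761214)
 (.cons 64 (nat_lit 0x571fe720410cc0a2)
 .nil)))))))))))))
noncomputable def a255 : Net := (.cons 64 (nat_lit 0xdffff00000000000)
 (.cons 32 (nat_lit 0xa2b3fb00000000000f000000)
 (.cons 16 (nat_lit 0x9a080000890800000f040000da42)
 (.cons 8 (nat_lit 0x110082004e0059000c00b3008e0000)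
 (.cons 4 (nat_lit 0xe06010a0206000700000c000c000200)
 (.cons 2 (nat_lit 0x12213223300311300300320210023112)
 (.cons 1 (nat_lit 0x1444101104440540404110040111144)
 (.cons 2 (nat_lit 0x22202000220020200020000022002)
 (.cons 4 (nat_lit 0x60a000a0a04040800000c000c0a0202)
 (.cons 8 (nat_lit 0x92008a0008006c000c00b0008e0000)
 (.cons 16 (nat_lit 0xe0000000c900000003040000da42)
 (.cons 32 (nat_lit 0xf2a8bb08000000000f000000)
 (.cons 64 (nat_lit 0xdffff00000000000)
 .nil)))))))))))))
noncomputable def a256 : Net := (.cons 64 (nat_lit 0xfff7f00000000000)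
 (.cons 32 (nat_lit 0x8e0680d8000000005a800000)
 (.cons 16 (nat_lit 0x50800000243e00004f000000ad5a)
 (.cons 8 (nat_lit 0x4500d80065001a008000e2008800aa)
 (.cons 4 (nat_lit 0xc070e04020c06010900000502040902)
 (.cons 2 (nat_lit 0x20212201200202002100200302322310)
 (.cons 1 (nat_lit 0x45111400414041041100000001411040)
 (.cons 2 (nat_lit 0x2000200000002200000000222020)
 (.cons 4 (nat_lit 0x4040600020c020000000804020c0206)
 (.cons 8 (nat_lit 0x84005800880008008000e00088003c)
 (.cons 16 (nat_lit 0x605200002c1800004f000000ad5a)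
 (.cons 32 (nat_lit 0x1f2580da000000005a800000)
 (.cons 64 (nat_lit 0xfff7f00000000000)
 .nil)))))))))))))
noncomputable def a257 : Net := (.cons 64 (nat_lit 0x3c52c0fa1a23632)
 (.cons 32 (nat_lit 0x455cb14c000000007fc18d25)
 (.cons 16 (nat_lit 0x5d1700001c470000e35700009428)
 (.cons 8 (nat_lit 0x840079000f007000f6009000f00082)
 (.cons 4 (nat_lit 0x3000100040c020d04010400080c0f05)
 (.cons 2 (nat_lit 0x20032221200232220031210020221330)
 (.cons 1 (nat_lit 0x10011140414140144414145010540415)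
 (.cons 2 (nat_lit 0x2220200020202022220000000020)
 (.cons 4 (nat_lit 0x2040004060c0200080c040808020806)
 (.cons 8 (nat_lit 0x8c0038000c001200f000a000e000a0)
 (.cons 16 (nat_lit 0x591e000036c6000074b60000140c)
 (.cons 32 (nat_lit 0x455895400000000067d91f8c)
 (.cons 64 (nat_lit 0x3c52c0cfca61826)
 .nil)))))))))))))
noncomputable def a258 : Net := (.cons 64 (nat_lit 0xd705a101ac9c7723)
 (.cons 32 (nat_lit 0xd4eeb97900000000744992fa)
 (.cons 16 (nat_lit 0xdc7700007c990000a4e000001250)
 (.cons 8 (nat_lit 0x1100dc00460024000200dc00e80023)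
 (.cons 4 (nat_lit 0x109080d0a0e05070206000901080805)
 (.cons 2 (nat_lit 0x22210100032323102003222020202231)
 (.cons 1 (nat_lit 0x10144001044111111001541041144451)
 (.cons 2 (nat_lit 0x20002002002220000000000000220202)
 (.cons 4 (nat_lit 0x800080a0a060c040a06000808000808)
 (.cons 8 (nat_lit 0xb80042002400d200f800520020)
 (.cons 16 (nat_lit 0xdd16000038980000b80000001140)
 (.cons 32 (nat_lit 0x16eb9970000000005c799422)
 (.cons 64 (nat_lit 0xd705a102afd357b0)
 .nil)))))))))))))
noncomputable def a259 : Net := (.cons 64 (nat_lit 0x1ad68f502228c3b8)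
 (.cons 32 (nat_lit 0xd5702ad400000000975b2672)
 (.cons 16 (nat_lit 0x774e000078490000f4c10000b42a)
 (.cons 8 (nat_lit 0xc0009f0014001300b8007c00800064)
 (.cons 4 (nat_lit 0xc02010608000a0606000a030e0a0404)
 (.cons 2 (nat_lit 0x23200111102220113130201123210220)
 (.cons 1 (nat_lit 0x41004054401115145440541014054144)
 (.cons 2 (nat_lit 0x22000000002020020220020020000220)
 (.cons 4 (nat_lit 0xa0804020c0002020a020c020608040c)
 (.cons 8 (nat_lit 0xcc005c004e001a00c8002e000800e4)
 (.cons 16 (nat_lit 0x7f98000070040000d2c00000bc02)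
 (.cons 32 (nat_lit 0xdfb222cc00000000967a465c)
 (.cons 64 (nat_lit 0x1ad68f5cea873c64)
 .nil)))))))))))))
noncomputable def a260 : Net := (.cons 64 (nat_lit 0x11100d6012f7f974)
 (.cons 32 (nat_lit 0x9035851900000000837bc840)
 (.cons 16 (nat_lit 0x895100005e700000419a0000d31a)
 (.cons 8 (nat_lit 0x7100810018009600f600e4004b0034)
 (.cons 4 (nat_lit 0x804000e0604010d0c0e01050a030004)
 (.cons 2 (nat_lit 0x20100030032021303023000313230020)
 (.cons 1 (nat_lit 0x50000001011401104445451054410050)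
 (.cons 2 (nat_lit 0x2000200202000000002200000)
 (.cons 4 (nat_lit 0x4000c06040c080002000406080004)
 (.cons 8 (nat_lit 0x60008000500088009c0064001000b0)
 (.cons 16 (nat_lit 0x8844000075b0000043100000053c)
 (.cons 32 (nat_lit 0x913589520000000043182ace)
 (.cons 64 (nat_lit 0x11100d6f76bf6bec)
 .nil)))))))))))))
noncomputable def a261 : Net := (.cons 64 (nat_lit 0x23afb9e851361300)
 (.cons 32 (nat_lit 0x5bc4bbef0000000069071552)
 (.cons 16 (nat_lit 0xcaef0000a3500000ef4a0000b250)
 (.cons 8 (nat_lit 0x2b00e900f800260041003f00b80016)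
 (.cons 4 (nat_lit 0xa0003020d0a010b050f09090c00060a)
 (.cons 2 (nat_lit 0x20011222210233030110121130202012)
 (.cons 1 (nat_lit 0x11414041040544010150014010005054)
 (.cons 2 (nat_lit 0x2200020000022000000002020000002)
 (.cons 4 (nat_lit 0xa0400040c080008040e080c00000e04)
 (.cons 8 (nat_lit 0xa00a200dc00300042006a00b00090)
 (.cons 16 (nat_lit 0xd800000083540000ff0a0000b250)
 (.cons 32 (nat_lit 0x7ac1034e00000000ad171542)
 (.cons 64 (nat_lit 0x23afb9ef46ad0340)
 .nil)))))))))))))
noncomputable def a262 : Net := (.cons 64 (nat_lit 0xa805335ab76f91b4)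
 (.cons 32 (nat_lit 0xc949725d00000000cc43da1c)
 (.cons 16 (nat_lit 0x314800000c0c0000407100004a1c)
 (.cons 8 (nat_lit 0x5000400a600e80052005e00e8003a)
 (.cons 4 (nat_lit 0x904040a000c000b090e00030f000300)
 (.cons 2 (nat_lit 0x21032220020220002003002210020122)
 (.cons 1 (nat_lit 0x14410044141041114401405001404)
 (.cons 2 (nat_lit 0x22200002020022020002200000002)
 (.cons 4 (nat_lit 0x404000a00060400000400000a000400)
 (.cons 8 (nat_lit 0x440044002c00580058000400cc003a)
 (.cons 16 (nat_lit 0x10000000080a000044c000004e1c)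
 (.cons 32 (nat_lit 0xc149701200000000c9e35e3c)
 (.cons 64 (nat_lit 0xa805335eb366f616)
 .nil)))))))))))))
noncomputable def a263 : Net := (.cons 64 (nat_lit 0xf000000000000000)
 (.cons 32 (nat_lit 0x3810028000000000e0000000)
 (.cons 16 (nat_lit 0x4010000014480000f00000000690)
 (.cons 8 (nat_lit 0x4200a20032002000a5000600a8)
 (.cons 4 (nat_lit 0x800000d000406020c0e000000020400)
 (.cons 2 (nat_lit 0x22302121103210003203210120)
 (.cons 1 (nat_lit 0x10000011010010015005405005405000)
 (.cons 2 (nat_lit 0x22000020000000000000200000)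
 (.cons 4 (nat_lit 0x404020c0e000000020400)
 (.cons 8 (nat_lit 0x4000020032002000a0000600a0)
 (.cons 16 (nat_lit 0x4010000010400000f00000000680)
 (.cons 32 (nat_lit 0x3810028000000000e0000000)
 (.cons 64 (nat_lit 0xf000000000000000)
 .nil)))))))))))))
noncomputable def a264 : Net := (.cons 64 (nat_lit 0xf20038d3cc425302)
 (.cons 32 (nat_lit 0x66820c190000000026500462)
 (.cons 16 (nat_lit 0xd08a000082880000860800005218)
 (.cons 8 (nat_lit 0x2200940042006100b40049001200bc)
 (.cons 4 (nat_lit 0x602080103050302050600020c0f0e00)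
 (.cons 2 (nat_lit 0x30202012021000123001030221232322)
 (.cons 1 (nat_lit 0x40004444014500114105010411411404)
 (.cons 2 (nat_lit 0x20002002000000000000020220222202)
 (.cons 4 (nat_lit 0x6080c04020000000c0a0400080c0e00)
 (.cons 8 (nat_lit 0x200010000a004200ba004e005c00b4)
 (.cons 16 (nat_lit 0xd408000040800000810600001a10)
 (.cons 32 (nat_lit 0xc48224400000000022c50762)
 (.cons 64 (nat_lit 0xf20038d0c5014370)
 .nil)))))))))))))
noncomputable def a265 : Net := (.cons 64 (nat_lit 0xe4130f99de475ef0)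
 (.cons 32 (nat_lit 0x4a808187000000008aa28772)
 (.cons 16 (nat_lit 0x8102000015a5000099ea00006be2)
 (.cons 8 (nat_lit 0x8e008e0029000f000c00dd006800d0)
 (.cons 4 (nat_lit 0x80900000a0c010a01000101000b0000)
 (.cons 2 (nat_lit 0x22010020311303300100030000322200)
 (.cons 1 (nat_lit 0x41000414150415400100451414514110)
 (.cons 2 (nat_lit 0x20000022200000000200202200002020)
 (.cons 4 (nat_lit 0x8000000060c02080800080800040808)
 (.cons 8 (nat_lit 0xc008000280064000c0040005c00d0)
 (.cons 16 (nat_lit 0x300000005f8000099c800006bea)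
 (.cons 32 (nat_lit 0xee808894000000008aa21738)
 (.cons 64 (nat_lit 0xe4130f9706f967e0)
 .nil)))))))))))))
noncomputable def a266 : Net := (.cons 64 (nat_lit 0x300005d740000000)
 (.cons 32 (nat_lit 0x3c88068800000000be810000)
 (.cons 16 (nat_lit 0xd000000f1e80000b0000000805c)
 (.cons 8 (nat_lit 0x880016003800c900300020008c0054)
 (.cons 4 (nat_lit 0x8000006000c0c08080a080b0c00)
 (.cons 2 (nat_lit 0x22002002122110021010202000133202)
 (.cons 1 (nat_lit 0x11001041011000400004100101140410)
 (.cons 2 (nat_lit 0x22002002022000000000200000020200)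
 (.cons 4 (nat_lit 0x8000004000c0408080a00040c00)
 (.cons 8 (nat_lit 0x880010003800c80010002000040054)
 (.cons 16 (nat_lit 0xd000000f1c80000b0000000805c)
 (.cons 32 (nat_lit 0x1c880288000000003e810000)
 (.cons 64 (nat_lit 0x300005d700000000)
 .nil)))))))))))))
noncomputable def a267 : Net := (.cons 64 (nat_lit 0x721004d265001200)
 (.cons 32 (nat_lit 0x3412849000000000c4e63260)
 (.cons 16 (nat_lit 0x201000003a0c0000c46000003118)
 (.cons 8 (nat_lit 0x100080009a00340088006c0089000a)
 (.cons 4 (nat_lit 0x2000d05060e0a0000010408000e02)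
 (.cons 2 (nat_lit 0x12002031200131100023220100202000)
 (.cons 1 (nat_lit 0x4100014041050010045400014440100)
 (.cons 2 (nat_lit 0x2000020000000000020200000200000)
 (.cons 4 (nat_lit 0x2000004060e020000000408000a00)
 (.cons 8 (nat_lit 0x100080009a0034000800680088000a)
 (.cons 16 (nat_lit 0x201000003a0c0000c40000003108)
 (.cons 32 (nat_lit 0x341280900000000044e63260)
 (.cons 64 (nat_lit 0x721004d065001200)
 .nil)))))))))))))
noncomputable def a268 : Net := (.cons 64 (nat_lit 0xf000000000000000)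
 (.cons 32 (nat_lit 0x480a015000000000d0000000)
 (.cons 16 (nat_lit 0x1000000074280000f01000004054)
 (.cons 8 (nat_lit 0x600048009400180034003c00c00060)
 (.cons 4 (nat_lit 0x80a0004080e0003060506090c060b0c)
 (.cons 2 (nat_lit 0x1210132300003231212202011330)
 (.cons 1 (nat_lit 0x400100051040045000101141101400)
 (.cons 2 (nat_lit 0x200002000000000202202000200)
 (.cons 4 (nat_lit 0x80004080e0000060004000c06040c)
 (.cons 8 (nat_lit 0x600048009400180034003800c00060)
 (.cons 16 (nat_lit 0x1000000050280000700000004054)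
 (.cons 32 (nat_lit 0x480a015000000000d0000000)
 (.cons 64 (nat_lit 0xf000000000000000)
 .nil)))))))))))))
noncomputable def a269 : Net := (.cons 64 (nat_lit 0x10010ca508168810)
 (.cons 32 (nat_lit 0xf808e400000000001d01220)
 (.cons 16 (nat_lit 0x14a00000a0380000f10000001a10)
 (.cons 8 (nat_lit 0xa8004600100098004a00ca00560020)
 (.cons 4 (nat_lit 0xa000808000e080d0a020a06080c000c)
 (.cons 2 (nat_lit 0x2021002203120021000202022222022)
 (.cons 1 (nat_lit 0x1010001405000400504011014041004)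
 (.cons 2 (nat_lit 0x2020002200000000000002022022002)
 (.cons 4 (nat_lit 0x8000008000e080c0a000a000408080c)
 (.cons 8 (nat_lit 0xa8004000100098004a00ca00000030)
 (.cons 16 (nat_lit 0x14a00000a0080000d00000008200)
 (.cons 32 (nat_lit 0xf808a400000000001501220)
 (.cons 64 (nat_lit 0x10010ca508168810)
 .nil)))))))))))))
noncomputable def a270 : Net := (.cons 64 (nat_lit 0xf000000000000000)
 (.cons 32 (nat_lit 0x3810028000000000e0000000)
 (.cons 16 (nat_lit 0x4010000014480000f00000000690)
 (.cons 8 (nat_lit 0x4200a20032002000a5000600a8)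
 (.cons 4 (nat_lit 0x800000d000406020c0e000000020400)
 (.cons 2 (nat_lit 0x22302121103210003203210120)
 (.cons 1 (nat_lit 0x10000011010010015005405005405000)
 (.cons 2 (nat_lit 0x22000020000000000000200000)
 (.cons 4 (nat_lit 0x404020c0e000000020400)
 (.cons 8 (nat_lit 0x4000020032002000a0000600a0)
 (.cons 16 (nat_lit 0x4010000010400000f00000000680)
 (.cons 32 (nat_lit 0x3810028000000000e0000000)
 (.cons 64 (nat_lit 0xf000000000000000)
 .nil)))))))))))))
noncomputable def a271 : Net := (.cons 64 (nat_lit 0xf000000000000000)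
 (.cons 32 (nat_lit 0x480a015000000000d0000000)
 (.cons 16 (nat_lit 0x1000000074280000f01000004054)
 (.cons 8 (nat_lit 0x600048009400180034003c00c00060)
 (.cons 4 (nat_lit 0x80a0004080e0003060506090c060b0c)
 (.cons 2 (nat_lit 0x1210132300003231212202011330)
 (.cons 1 (nat_lit 0x400100051040045000101141101400)
 (.cons 2 (nat_lit 0x200002000000000202202000200)
 (.cons 4 (nat_lit 0x80004080e0000060004000c06040c)
 (.cons 8 (nat_lit 0x600048009400180034003800c00060)
 (.cons 16 (nat_lit 0x1000000050280000700000004054)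
 (.cons 32 (nat_lit 0x480a015000000000d0000000)
 (.cons 64 (nat_lit 0xf000000000000000)
 .nil)))))))))))))
noncomputable def a272 : Net := (.cons 64 (nat_lit 0xe44321079c0a7041)
 (.cons 32 (nat_lit 0x299d40af00000000ec017cbc)
 (.cons 16 (nat_lit 0xa0e90000ec24000035480000859e)
 (.cons 8 (nat_lit 0x49002100bc006800b80093006e00ca)
 (.cons 4 (nat_lit 0xc0c00000b0b000a020b0a02080901)
 (.cons 2 (nat_lit 0x3030100023300103210022310002213)
 (.cons 1 (nat_lit 0x1150444045140001445411405041015)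
 (.cons 2 (nat_lit 0x2000022020020000000222200002000)
 (.cons 4 (nat_lit 0x20c0000000800040a0a0008000804)
 (.cons 8 (nat_lit 0x6400a000b8006a00d40000006800d0)
 (.cons 16 (nat_lit 0xc0ec0000ce640000d16400009e9a)
 (.cons 32 (nat_lit 0x4ddf40ac00000000ed092652)
 (.cons 64 (nat_lit 0xe443210ef2dcfc60)
 .nil)))))))))))))
noncomputable def a273 : Net := (.cons 64 (nat_lit 0x445c09a99591bade)
 (.cons 32 (nat_lit 0x4d4d0c20000000008692517a)
 (.cons 16 (nat_lit 0x9a50000f2f00000ce300000312d)
 (.cons 8 (nat_lit 0x400005002c00c600d100050022002c)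
 (.cons 4 (nat_lit 0xc00000004060b0701020e0a0e0a0105)
 (.cons 2 (nat_lit 0x1210000000020030010201220022320)
 (.cons 1 (nat_lit 0x40140400401015140051411414454405)
 (.cons 2 (nat_lit 0x200000220000222200202000)
 (.cons 4 (nat_lit 0x808000008000c0c00000e080e000a00)
 (.cons 8 (nat_lit 0x400080048008c00e00028002000a2)
 (.cons 16 (nat_lit 0x5a000007298000049020000192a)
 (.cons 32 (nat_lit 0xd4104a400000000bd10c77e)
 (.cons 64 (nat_lit 0x445c09a217ed1e60)
 .nil)))))))))))))
noncomputable def a274 : Net := (.cons 64 (nat_lit 0x7fedfdb6c5800004)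
 (.cons 32 (nat_lit 0xbcd7599d000000001e800004)
 (.cons 16 (nat_lit 0x689000037650000164400006cee)
 (.cons 8 (nat_lit 0xaa00c900a500af0080000800ac0000)
 (.cons 4 (nat_lit 0xd0b050a020d0300000e00000b0806)
 (.cons 2 (nat_lit 0x32002020330223300212200001102230)
 (.cons 1 (nat_lit 0x5100104410514450004500040414144)
 (.cons 2 (nat_lit 0x200000200022000002000020202220)
 (.cons 4 (nat_lit 0x200000804020e0008000e000c0c0804)
 (.cons 8 (nat_lit 0x2600ec00cc00060000000800a00000)
 (.cons 16 (nat_lit 0xaa8c00001b240000164400006ca6)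
 (.cons 32 (nat_lit 0x9f7bc028000000001e800000)
 (.cons 64 (nat_lit 0x7fedfdb1c4804000)
 .nil)))))))))))))
noncomputable def a275 : Net := (.cons 64 (nat_lit 0x5654a3d6ad635212)
 (.cons 32 (nat_lit 0x589c1c0d000000005d9fc150)
 (.cons 16 (nat_lit 0x4ade0000442d00009c580000f8a4)
 (.cons 8 (nat_lit 0x900025006100410077004e001b0088)
 (.cons 4 (nat_lit 0xa00000c0607020a09000905060f0002)
 (.cons 2 (nat_lit 0x121011210123311000223102312220)
 (.cons 1 (nat_lit 0x14040114100144440154154405150400)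
 (.cons 2 (nat_lit 0x20020020000222200200202000200000)
 (.cons 4 (nat_lit 0xa0004080606020c0e00000406020000)
 (.cons 8 (nat_lit 0x9800b800700000007e005200580080)
 (.cons 16 (nat_lit 0x429e0000852e00001c780000f0a4)
 (.cons 32 (nat_lit 0xc881e10000000007d1ec570)
 (.cons 64 (nat_lit 0x5654a3d7ac26650a)
 .nil)))))))))))))
noncomputable def a276 : Net := (.cons 64 (nat_lit 0x4402a719434bfcac)
 (.cons 32 (nat_lit 0x2d9e015c000000007f03e0da)
 (.cons 16 (nat_lit 0xa4d40000dc220000b217000084c2)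
 (.cons 8 (nat_lit 0x400026003600db009e0004008a003c)
 (.cons 4 (nat_lit 0xe04000b0e050c09010c080208050808)
 (.cons 2 (nat_lit 0x1020303021000122301121203132020)
 (.cons 1 (nat_lit 0x45040411040040045540544015140510)
 (.cons 2 (nat_lit 0x220020020000020020020020020)
 (.cons 4 (nat_lit 0xa04000804000c08000c0c0000040208)
 (.cons 8 (nat_lit 0x80020003400dc008e002400880034)
 (.cons 16 (nat_lit 0x80dc0000de000000328200009682)
 (.cons 32 (nat_lit 0x299e21440000000044cee054)
 (.cons 64 (nat_lit 0x4402a71fe343fecc)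
 .nil)))))))))))))
noncomputable def a277 : Net := (.cons 64 (nat_lit 0xcff895fc85a40cd0)
 (.cons 32 (nat_lit 0xb40930630000000014d01550)
 (.cons 16 (nat_lit 0xf71e00004aac000011040000bb22)
 (.cons 8 (nat_lit 0xcf003d0072009c0062001a004600da)
 (.cons 4 (nat_lit 0x908070907080005060a000600060a08)
 (.cons 2 (nat_lit 0x1202300210202101102020122010032)
 (.cons 1 (nat_lit 0x41101014440444041001001004010114)
 (.cons 2 (nat_lit 0x20000000020200000000000002020200)
 (.cons 4 (nat_lit 0xc0004080200000c020a000200040202)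
 (.cons 8 (nat_lit 0x52008c007e001e00620008004400d2)
 (.cons 16 (nat_lit 0x568e00004cfc000025120000f920)
 (.cons 32 (nat_lit 0x34c124e80000000014d01550)
 (.cons 64 (nat_lit 0xcff895f4efb81844)
 .nil)))))))))))))
noncomputable def a278 : Net := (.cons 64 (nat_lit 0x10010fb401003a00)
 (.cons 32 (nat_lit 0x1b9c2c800000000088900042)
 (.cons 16 (nat_lit 0x211000065e00000b00000000cd0)
 (.cons 8 (nat_lit 0x9d003d0030004800d00020003c000c)
 (.cons 4 (nat_lit 0x9080a080409020e0a0400020c080c08)
 (.cons 2 (nat_lit 0x23202022210202012030002021310130)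
 (.cons 1 (nat_lit 0x15101001000010404400004100501054)
 (.cons 2 (nat_lit 0x20202002000000000200002000000000)
 (.cons 4 (nat_lit 0x808080408020c040400020c080408)
 (.cons 8 (nat_lit 0x8400380030004800d00020003c000c)
 (.cons 16 (nat_lit 0x390000061a00000b00000000cd0)
 (.cons 32 (nat_lit 0x1b9c2c800000000008900042)
 (.cons 64 (nat_lit 0x10010fb401003a00)
 .nil)))))))))))))
noncomputable def a279 : Net := (.cons 64 (nat_lit 0x2429a2d1a3ca30)
 (.cons 32 (nat_lit 0x80c021d600000000913cd62a)
 (.cons 16 (nat_lit 0xa98400003bb50000ad750000d042)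
 (.cons 8 (nat_lit 0x800ac008f00340012006900ba0056)
 (.cons 4 (nat_lit 0x200000607060907000a080a01020e06)
 (.cons 2 (nat_lit 0x2021332013203033123022102110)
 (.cons 1 (nat_lit 0x1440410144114411041045115411414)
 (.cons 2 (nat_lit 0x202202222002000020002200)
 (.cons 4 (nat_lit 0x2000806080604060406020e080a0402)
 (.cons 8 (nat_lit 0x2800ac00a600380054002200a80004)
 (.cons 16 (nat_lit 0xa9a4000026900000291c0000d010)
 (.cons 32 (nat_lit 0x80c408d600000000c3eec062)
 (.cons 64 (nat_lit 0x2429a604b1342a)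
 .nil)))))))))))))
noncomputable def a280 : Net := (.cons 64 (nat_lit 0x701004c348000500)
 (.cons 32 (nat_lit 0x7d0a12900000000067415400)
 (.cons 16 (nat_lit 0x400000060c80000f0000000bc48)
 (.cons 8 (nat_lit 0x2800160034000000ec00a400f80060)
 (.cons 4 (nat_lit 0x90a04010009000a0006060308010e00)
 (.cons 2 (nat_lit 0x201000220001023103012022200002)
 (.cons 1 (nat_lit 0x40100040040040010040001140000000)
 (.cons 2 (nat_lit 0x200000020000020000000220000000)
 (.cons 4 (nat_lit 0x8080400000000080006040808000000)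
 (.cons 8 (nat_lit 0x2800140034000000ec00a000f00060)
 (.cons 16 (nat_lit 0x40880000f0000000bc48)
 (.cons 32 (nat_lit 0x7d0a12900000000067415400)
 (.cons 64 (nat_lit 0x701004c348000500)
 .nil)))))))))))))
noncomputable def a281 : Net := (.cons 64 (nat_lit 0xf0200ae271125200)
 (.cons 32 (nat_lit 0xa305098000000000b9001200)
 (.cons 16 (nat_lit 0x6200000032480000b000000018b8)
 (.cons 8 (nat_lit 0x3400e800000030008c001800680048)
 (.cons 4 (nat_lit 0x60102060e0a000c0b0903010604040a)
 (.cons 2 (nat_lit 0x20000200020020320013200012122010)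
 (.cons 1 (nat_lit 0x41004101141010010441110004040400)
 (.cons 2 (nat_lit 0x20000200020020020002020002020000)
 (.cons 4 (nat_lit 0x60000020602000c0804080006040400)
 (.cons 8 (nat_lit 0x3400e800000030008c001800600048)
 (.cons 16 (nat_lit 0x6200000032080000b000000018b8)
 (.cons 32 (nat_lit 0xa305018000000000b9001200)
 (.cons 64 (nat_lit 0xf0200ae071125200)
 .nil)))))))))))))
noncomputable def a282 : Net := (.cons 64 (nat_lit 0x50002f21d4000080)
 (.cons 32 (nat_lit 0x47c64c100000000025bc0080)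
 (.cons 16 (nat_lit 0x23220000614c0000b4000000a130)
 (.cons 8 (nat_lit 0x400040003000000040005400a50088)
 (.cons 4 (nat_lit 0x20c0004090d00000e0c0008080a0404)
 (.cons 2 (nat_lit 0x12200010003100020132300210022002)
 (.cons 1 (nat_lit 0x4440005000050011001500100100014)
 (.cons 2 (nat_lit 0x2200000000000020002000200000002)
 (.cons 4 (nat_lit 0x20c000400080000060c0008000a0004)
 (.cons 8 (nat_lit 0x400040003000000040005000a00080)
 (.cons 16 (nat_lit 0x20220000614c0000b4000000a130)
 (.cons 32 (nat_lit 0x47c640100000000025bc0080)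
 (.cons 64 (nat_lit 0x50002f21d4000080)
 .nil)))))))))))))
noncomputable def a283 : Net := (.cons 64 (nat_lit 0x300005d740000000)
 (.cons 32 (nat_lit 0x3c88068800000000be810000)
 (.cons 16 (nat_lit 0xd000000f1e80000b0000000805c)
 (.cons 8 (nat_lit 0x880016003800c900300020008c0054)
 (.cons 4 (nat_lit 0x8000006000c0c08080a080b0c00)
 (.cons 2 (nat_lit 0x22002002122110021010202000133202)
 (.cons 1 (nat_lit 0x11001041011000400004100101140410)
 (.cons 2 (nat_lit 0x22002002022000000000200000020200)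
 (.cons 4 (nat_lit 0x8000004000c0408080a00040c00)
 (.cons 8 (nat_lit 0x880010003800c80010002000040054)
 (.cons 16 (nat_lit 0xd000000f1c80000b0000000805c)
 (.cons 32 (nat_lit 0x1c880288000000003e810000)
 (.cons 64 (nat_lit 0x300005d700000000)
 .nil)))))))))))))
noncomputable def a284 : Net := (.cons 64 (nat_lit 0x7000000000000000)
 (.cons 32 (nat_lit 0x101c2900000000070000000)
 (.cons 16 (nat_lit 0x100000a1680000f04000005504)
 (.cons 8 (nat_lit 0x100046007400a8005c00da00c50028)
 (.cons 4 (nat_lit 0x201080801080802060c0e0e08060a0c)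
 (.cons 2 (nat_lit 0x10000002020220200202232110000130)
 (.cons 1 (nat_lit 0x1000441045010055451051000100000)
 (.cons 2 (nat_lit 0x2020020000202002000000000)
 (.cons 4 (nat_lit 0x200080800080802060c0e0c0002000c)
 (.cons 8 (nat_lit 0x100044007400a8005c00da00c40028)
 (.cons 16 (nat_lit 0x100000a1080000d00000005504)
 (.cons 32 (nat_lit 0x101c2900000000070000000)
 (.cons 64 (nat_lit 0x7000000000000000)
 .nil)))))))))))))
noncomputable def a285 : Net := (.cons 64 (nat_lit 0xf000000000000000)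
 (.cons 32 (nat_lit 0x480a015000000000d0000000)
 (.cons 16 (nat_lit 0x1000000074280000f01000004054)
 (.cons 8 (nat_lit 0x600048009400180034003c00c00060)
 (.cons 4 (nat_lit 0x80a0004080e0003060506090c060b0c)
 (.cons 2 (nat_lit 0x1210132300003231212202011330)
 (.cons 1 (nat_lit 0x400100051040045000101141101400)
 (.cons 2 (nat_lit 0x200002000000000202202000200)
 (.cons 4 (nat_lit 0x80004080e0000060004000c06040c)
 (.cons 8 (nat_lit 0x600048009400180034003800c00060)
 (.cons 16 (nat_lit 0x1000000050280000700000004054)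
 (.cons 32 (nat_lit 0x480a015000000000d0000000)
 (.cons 64 (nat_lit 0xf000000000000000)
 .nil)))))))))))))
noncomputable def a286 : Net := (.cons 64 (nat_lit 0xf000000000000000)
 (.cons 32 (nat_lit 0x3810028000000000e0000000)
 (.cons 16 (nat_lit 0x4010000014480000f00000000690)
 (.cons 8 (nat_lit 0x4200a20032002000a5000600a8)
 (.cons 4 (nat_lit 0x800000d000406020c0e000000020400)
 (.cons 2 (nat_lit 0x22302121103210003203210120)
 (.cons 1 (nat_lit 0x10000011010010015005405005405000)
 (.cons 2 (nat_lit 0x22000020000000000000200000)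
 (.cons 4 (nat_lit 0x404020c0e000000020400)
 (.cons 8 (nat_lit 0x4000020032002000a0000600a0)
 (.cons 16 (nat_lit 0x4010000010400000f00000000680)
 (.cons 32 (nat_lit 0x3810028000000000e0000000)
 (.cons 64 (nat_lit 0xf000000000000000)
 .nil)))))))))))))
noncomputable def a287 : Net := (.cons 64 (nat_lit 0xbf65a6a3ff615d2e)
 (.cons 32 (nat_lit 0x1f531ef000000000a6791d24)
 (.cons 16 (nat_lit 0xb0c0000022430000826100000194)
 (.cons 8 (nat_lit 0xc2000000210000003c002400000088)
 (.cons 4 (nat_lit 0xf050e080e0a000a08020104010a0404)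
 (.cons 2 (nat_lit 0x1301032110321012021210302002003)
 (.cons 1 (nat_lit 0x14001004410441011041410001101405)
 (.cons 2 (nat_lit 0x22000002200220020020000002202200)
 (.cons 4 (nat_lit 0x40406080c00040e08040004000a0400)
 (.cons 8 (nat_lit 0xe4002000000020003c002600000088)
 (.cons 16 (nat_lit 0x38d20000444e0000862000000114)
 (.cons 32 (nat_lit 0x1d1618f000000000a6791520)
 (.cons 64 (nat_lit 0xbf65a6a4fd614c2e)
 .nil)))))))))))))
noncomputable def a288 : Net := (.cons 64 (nat_lit 0xf65d3b608598f131)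
 (.cons 32 (nat_lit 0xcf23219b00000000e3ff9192)
 (.cons 16 (nat_lit 0xf12600001cf900006cca0000df80)
 (.cons 8 (nat_lit 0x61007d001000c100c50051008e000d)
 (.cons 4 (nat_lit 0xd02070d040e0f000007010f000a0904)
 (.cons 2 (nat_lit 0x3032101022333220310301000222121)
 (.cons 1 (nat_lit 0x14004405401441140450105040041011)
 (.cons 2 (nat_lit 0x22000000002220220200000000020020)
 (.cons 4 (nat_lit 0x800040c080a0e000002080e00080804)
 (.cons 8 (nat_lit 0x50008e0054008000c00000000c0008)
 (.cons 16 (nat_lit 0xd05a0000a8f800006c480000df80)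
 (.cons 32 (nat_lit 0x3d6f1ad200000000ea7d9114)
 (.cons 64 (nat_lit 0xf65d3b6377eb5228)
 .nil)))))))))))))
noncomputable def a289 : Net := (.cons 64 (nat_lit 0x3906b91312fe35b8)
 (.cons 32 (nat_lit 0x3fc2d665000000000b8426b2)
 (.cons 16 (nat_lit 0x74a0000b136000084280000251a)
 (.cons 8 (nat_lit 0xc4003f00fb001f00bc00540009001e)
 (.cons 4 (nat_lit 0xb000f0f0004020b0d00000e0a040004)
 (.cons 2 (nat_lit 0x22002300003021220302022030013010)
 (.cons 1 (nat_lit 0x41044441010401104101144140004414)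
 (.cons 2 (nat_lit 0x20022020020000202202020000002002)
 (.cons 4 (nat_lit 0x4000a0e00080a020c00040402040a00)
 (.cons 8 (nat_lit 0xc2004800f200b600bc00d200ca0000)
 (.cons 16 (nat_lit 0x2080000902800008674000067b0)
 (.cons 32 (nat_lit 0xfc45764000000000de52018)
 (.cons 64 (nat_lit 0x3906b91b12bb66f8)
 .nil)))))))))))))
noncomputable def a290 : Net := (.cons 64 (nat_lit 0x65adc45a5cea1284)
 (.cons 32 (nat_lit 0x293000e300000000a7b7943c)
 (.cons 16 (nat_lit 0xe4410000944c0000811d0000e9cc)
 (.cons 8 (nat_lit 0x500b000f7003400c400950018002a)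
 (.cons 4 (nat_lit 0xc0d060a02060902040e0d070b040a00)
 (.cons 2 (nat_lit 0x1101223203302312202121030323200)
 (.cons 1 (nat_lit 0x44104404415440414551411011145000)
 (.cons 2 (nat_lit 0x200202200200202000202000220000)
 (.cons 4 (nat_lit 0x8060a060a0406020c040408080800)
 (.cons 8 (nat_lit 0xc400b00096007200ca00b200480060)
 (.cons 16 (nat_lit 0xa0e80000e3080000198c0000eb84)
 (.cons 32 (nat_lit 0x2c9184b000000000bfb58636)
 (.cons 64 (nat_lit 0x65adc45b8f1c5c08)
 .nil)))))))))))))
noncomputable def a291 : Net := (.cons 64 (nat_lit 0x77e830fc44507ebe)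
 (.cons 32 (nat_lit 0x4898c8df00000000c9c05700)
 (.cons 16 (nat_lit 0x4328000046010000c6d70000a0d0)
 (.cons 8 (nat_lit 0x480062007b008000c90048001e0038)
 (.cons 4 (nat_lit 0x8070e0a090d0d000c090108080902)
 (.cons 2 (nat_lit 0x10300120220030130003301320230002)
 (.cons 1 (nat_lit 0x10501151410144140045104010410100)
 (.cons 2 (nat_lit 0x2200220220000200020200200)
 (.cons 4 (nat_lit 0x4080402060a0c0a0000080008000200)
 (.cons 8 (nat_lit 0x5000f8005800f400ce0098009e001a)
 (.cons 16 (nat_lit 0x5bb000004200000087d600000ed0)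
 (.cons 32 (nat_lit 0x2db8e8aa00000000c9d15008)
 (.cons 64 (nat_lit 0x77e830f844d9bb2e)
 .nil)))))))))))))
noncomputable def a292 : Net := (.cons 64 (nat_lit 0xe4130f99de475ef0)
 (.cons 32 (nat_lit 0x4a808187000000008aa28772)
 (.cons 16 (nat_lit 0x8102000015a5000099ea00006be2)
 (.cons 8 (nat_lit 0x8e008e0029000f000c00dd006800d0)
 (.cons 4 (nat_lit 0x80900000a0c010a01000101000b0000)
 (.cons 2 (nat_lit 0x22010020311303300100030000322200)
 (.cons 1 (nat_lit 0x41000414150415400100451414514110)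
 (.cons 2 (nat_lit 0x20000022200000000200202200002020)
 (.cons 4 (nat_lit 0x8000000060c02080800080800040808)
 (.cons 8 (nat_lit 0xc008000280064000c0040005c00d0)
 (.cons 16 (nat_lit 0x300000005f8000099c800006bea)
 (.cons 32 (nat_lit 0xee808894000000008aa21738)
 (.cons 64 (nat_lit 0xe4130f9706f967e0)
 .nil)))))))))))))
noncomputable def a293 : Net := (.cons 64 (nat_lit 0x8002f291000000)
 (.cons 32 (nat_lit 0x159040000000000198a0000)
 (.cons 16 (nat_lit 0x1e10000f2000000c10000004202)
 (.cons 8 (nat_lit 0x9c0070001000e4000d004e0022)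
 (.cons 4 (nat_lit 0xc0e06080e000e0d04000000000500)
 (.cons 2 (nat_lit 0x13221020230102012000203002010)
 (.cons 1 (nat_lit 0x100140041051040000540415114000)
 (.cons 2 (nat_lit 0x220020000000000000200002000)
 (.cons 4 (nat_lit 0x40e06000a000c0804000000000400)
 (.cons 8 (nat_lit 0x9c007000100064000c000e0020)
 (.cons 16 (nat_lit 0x1a00000f2000000c10000004202)
 (.cons 32 (nat_lit 0x159040000000000198a0000)
 (.cons 64 (nat_lit 0x8002f291000000)
 .nil)))))))))))))
noncomputable def a294 : Net := (.cons 64 (nat_lit 0x50002f21d4000080)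
 (.cons 32 (nat_lit 0x47c64c100000000025bc0080)
 (.cons 16 (nat_lit 0x23220000614c0000b4000000a130)
 (.cons 8 (nat_lit 0x400040003000000040005400a50088)
 (.cons 4 (nat_lit 0x20c0004090d00000e0c0008080a0404)
 (.cons 2 (nat_lit 0x12200010003100020132300210022002)
 (.cons 1 (nat_lit 0x4440005000050011001500100100014)
 (.cons 2 (nat_lit 0x2200000000000020002000200000002)
 (.cons 4 (nat_lit 0x20c000400080000060c0008000a0004)
 (.cons 8 (nat_lit 0x400040003000000040005000a00080)
 (.cons 16 (nat_lit 0x20220000614c0000b4000000a130)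
 (.cons 32 (nat_lit 0x47c640100000000025bc0080)
 (.cons 64 (nat_lit 0x50002f21d4000080)
 .nil)))))))))))))
noncomputable def a295 : Net := (.cons 64 (nat_lit 0x40000fb500008004)
 (.cons 32 (nat_lit 0x69840f0000000000ce929020)
 (.cons 16 (nat_lit 0x9a800007710000060000000df90)
 (.cons 8 (nat_lit 0x8001700620040006400e000400094)
 (.cons 4 (nat_lit 0x4080000080002040a0002020d0e04)
 (.cons 2 (nat_lit 0x22202000203000122003000231313212)
 (.cons 1 (nat_lit 0x41401000010000014410104450000104)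
 (.cons 2 (nat_lit 0x22202000000000022000002000000202)
 (.cons 4 (nat_lit 0x4080000080000040a000c02080e04)
 (.cons 8 (nat_lit 0x8001000620040006400e000400080)
 (.cons 16 (nat_lit 0x92800002100000060000000df90)
 (.cons 32 (nat_lit 0x69840700000000004e929020)
 (.cons 64 (nat_lit 0x40000fb500008004)
 .nil)))))))))))))
noncomputable def a296 : Net := (.cons 64 (nat_lit 0x2210050768800200)
 (.cons 32 (nat_lit 0x181845000000000099440290)
 (.cons 16 (nat_lit 0x41080000c59a000071100000accc)
 (.cons 8 (nat_lit 0x700004008800d80088001c002c008e)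
 (.cons 4 (nat_lit 0x108000000020200040e0e0c080b0404)
 (.cons 2 (nat_lit 0x2000002222020303010222120112320)
 (.cons 1 (nat_lit 0x500001011011055001011040140014)
 (.cons 2 (nat_lit 0x2022020000000022000020020)
 (.cons 4 (nat_lit 0x800000000020004060a0c00040404)
 (.cons 8 (nat_lit 0x700000008800d80088001c00c4008a)
 (.cons 16 (nat_lit 0x41080000c19a000071100000accc)
 (.cons 32 (nat_lit 0x181845000000000099440290)
 (.cons 64 (nat_lit 0x2210050568800200)
 .nil)))))))))))))
noncomputable def a297 : Net := (.cons 64 (nat_lit 0xf000000000000000)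
 (.cons 32 (nat_lit 0x480a015000000000d0000000)
 (.cons 16 (nat_lit 0x1000000074280000f01000004054)
 (.cons 8 (nat_lit 0x600048009400180034003c00c00060)
 (.cons 4 (nat_lit 0x80a0004080e0003060506090c060b0c)
 (.cons 2 (nat_lit 0x1210132300003231212202011330)
 (.cons 1 (nat_lit 0x400100051040045000101141101400)
 (.cons 2 (nat_lit 0x200002000000000202202000200)
 (.cons 4 (nat_lit 0x80004080e0000060004000c06040c)
 (.cons 8 (nat_lit 0x600048009400180034003800c00060)
 (.cons 16 (nat_lit 0x1000000050280000700000004054)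
 (.cons 32 (nat_lit 0x480a015000000000d0000000)
 (.cons 64 (nat_lit 0xf000000000000000)
 .nil)))))))))))))
noncomputable def a298 : Net := (.cons 64 (nat_lit 0xf000000000000000)
 (.cons 32 (nat_lit 0x480a015000000000d0000000)
 (.cons 16 (nat_lit 0x1000000074280000f01000004054)
 (.cons 8 (nat_lit 0x600048009400180034003c00c00060)
 (.cons 4 (nat_lit 0x80a0004080e0003060506090c060b0c)
 (.cons 2 (nat_lit 0x1210132300003231212202011330)
 (.cons 1 (nat_lit 0x400100051040045000101141101400)
 (.cons 2 (nat_lit 0x200002000000000202202000200)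
 (.cons 4 (nat_lit 0x80004080e0000060004000c06040c)
 (.cons 8 (nat_lit 0x600048009400180034003800c00060)
 (.cons 16 (nat_lit 0x1000000050280000700000004054)
 (.cons 32 (nat_lit 0x480a015000000000d0000000)
 (.cons 64 (nat_lit 0xf000000000000000)
 .nil)))))))))))))
noncomputable def a299 : Net := (.cons 64 (nat_lit 0x7000000000000000)
 (.cons 32 (nat_lit 0x101c2900000000070000000)
 (.cons 16 (nat_lit 0x100000a1680000f04000005504)
 (.cons 8 (nat_lit 0x100046007400a8005c00da00c50028)
 (.cons 4 (nat_lit 0x201080801080802060c0e0e08060a0c)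
 (.cons 2 (nat_lit 0x10000002020220200202232110000130)
 (.cons 1 (nat_lit 0x1000441045010055451051000100000)
 (.cons 2 (nat_lit 0x2020020000202002000000000)
 (.cons 4 (nat_lit 0x200080800080802060c0e0c0002000c)
 (.cons 8 (nat_lit 0x100044007400a8005c00da00c40028)
 (.cons 16 (nat_lit 0x100000a1080000d00000005504)
 (.cons 32 (nat_lit 0x101c2900000000070000000)
 (.cons 64 (nat_lit 0x7000000000000000)
 .nil)))))))))))))
noncomputable def a300 : Net := (.cons 64 (nat_lit 0xf000000000000000)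
 (.cons 32 (nat_lit 0x3810028000000000e0000000)
 (.cons 16 (nat_lit 0x4010000014480000f00000000690)
 (.cons 8 (nat_lit 0x4200a20032002000a5000600a8)
 (.cons 4 (nat_lit 0x800000d000406020c0e000000020400)
 (.cons 2 (nat_lit 0x22302121103210003203210120)
 (.cons 1 (nat_lit 0x10000011010010015005405005405000)
 (.cons 2 (nat_lit 0x22000020000000000000200000)
 (.cons 4 (nat_lit 0x404020c0e000000020400)
 (.cons 8 (nat_lit 0x4000020032002000a0000600a0)
 (.cons 16 (nat_lit 0x4010000010400000f00000000680)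
 (.cons 32 (nat_lit 0x3810028000000000e0000000)
 (.cons 64 (nat_lit 0xf000000000000000)
 .nil)))))))))))))
noncomputable def a301 : Net := (.cons 64 (nat_lit 0x4342e4a5b1d579fd)
 (.cons 32 (nat_lit 0x4e6305ac00000000973d0a4b)
 (.cons 16 (nat_lit 0x640c000098980000885000006f4a)
 (.cons 8 (nat_lit 0x2000a000da00900037001800250044)
 (.cons 4 (nat_lit 0x60602000c00040f00040800080e0801)
 (.cons 2 (nat_lit 0x1230100010202230033000013032032)
 (.cons 1 (nat_lit 0x1400100140414100041000414451411)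
 (.cons 2 (nat_lit 0x200000220022200020000200000020)
 (.cons 4 (nat_lit 0x6000200040c0002000000000c0e0800)
 (.cons 8 (nat_lit 0x28002000120080001a000800140084)
 (.cons 16 (nat_lit 0x640c0000b8c0000089480000af0a)
 (.cons 32 (nat_lit 0x4c21a5a0000000008710030a)
 (.cons 64 (nat_lit 0x4342e4a533ddf524)
 .nil)))))))))))))
noncomputable def a302 : Net := (.cons 64 (nat_lit 0x8ef5a00000000000)
 (.cons 32 (nat_lit 0xee642008000000000d080000)
 (.cons 16 (nat_lit 0x2cc0000090500000218000000128)
 (.cons 8 (nat_lit 0x64006c00f200e00080000900400008)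
 (.cons 4 (nat_lit 0x20c000a0e000a01000000040e0708)
 (.cons 2 (nat_lit 0x22100023113212201300001221203320)
 (.cons 1 (nat_lit 0x4010005000104114100140400454144)
 (.cons 2 (nat_lit 0x2000000000202200200000200200020)
 (.cons 4 (nat_lit 0x20000000e000a0c000000040e0808)
 (.cons 8 (nat_lit 0x64006c00f200600080000800400008)
 (.cons 16 (nat_lit 0x2cc0000090500000218000000128)
 (.cons 32 (nat_lit 0xee642008000000000d080000)
 (.cons 64 (nat_lit 0x8ef5a00000000000)
 .nil)))))))))))))
noncomputable def a303 : Net := (.cons 64 (nat_lit 0x50002f21d4000080)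
 (.cons 32 (nat_lit 0x47c64c100000000025bc0080)
 (.cons 16 (nat_lit 0x23220000614c0000b4000000a130)
 (.cons 8 (nat_lit 0x400040003000000040005400a50088)
 (.cons 4 (nat_lit 0x20c0004090d00000e0c0008080a0404)
 (.cons 2 (nat_lit 0x12200010003100020132300210022002)
 (.cons 1 (nat_lit 0x4440005000050011001500100100014)
 (.cons 2 (nat_lit 0x2200000000000020002000200000002)
 (.cons 4 (nat_lit 0x20c000400080000060c0008000a0004)
 (.cons 8 (nat_lit 0x400040003000000040005000a00080)
 (.cons 16 (nat_lit 0x20220000614c0000b4000000a130)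
 (.cons 32 (nat_lit 0x47c640100000000025bc0080)
 (.cons 64 (nat_lit 0x50002f21d4000080)
 .nil)))))))))))))
noncomputable def a304 : Net := (.cons 64 (nat_lit 0x721004d265001200)
 (.cons 32 (nat_lit 0x3412849000000000c4e63260)
 (.cons 16 (nat_lit 0x201000003a0c0000c46000003118)
 (.cons 8 (nat_lit 0x100080009a00340088006c0089000a)
 (.cons 4 (nat_lit 0x2000d05060e0a0000010408000e02)
 (.cons 2 (nat_lit 0x12002031200131100023220100202000)
 (.cons 1 (nat_lit 0x4100014041050010045400014440100)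
 (.cons 2 (nat_lit 0x2000020000000000020200000200000)
 (.cons 4 (nat_lit 0x2000004060e020000000408000a00)
 (.cons 8 (nat_lit 0x100080009a0034000800680088000a)
 (.cons 16 (nat_lit 0x201000003a0c0000c40000003108)
 (.cons 32 (nat_lit 0x341280900000000044e63260)
 (.cons 64 (nat_lit 0x721004d065001200)
 .nil)))))))))))))
noncomputable def a305 : Net := (.cons 64 (nat_lit 0xfa73bdd4d7400310)
 (.cons 32 (nat_lit 0xbcfea5000000000a3eb5641)
 (.cons 16 (nat_lit 0xc4ac0000874e0000c60900001994)
 (.cons 8 (nat_lit 0x1600aa00d200c60060007c00180050)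
 (.cons 4 (nat_lit 0xb00030500050000020a060205080b07)
 (.cons 2 (nat_lit 0x10311001013310012021220102002211)
 (.cons 1 (nat_lit 0x40140140100140014001401001041040)
 (.cons 2 (nat_lit 0x20200220000220002000000002002000)
 (.cons 4 (nat_lit 0x808020402000002000c000200080a00)
 (.cons 8 (nat_lit 0x10005800fa00e40040007c0010004a)
 (.cons 16 (nat_lit 0x14e80000276c0000c02c0000509c)
 (.cons 32 (nat_lit 0x29bd468000000000a7ef1460)
 (.cons 64 (nat_lit 0xfa73bdda5eb70700)
 .nil)))))))))))))
noncomputable def a306 : Net := (.cons 64 (nat_lit 0xfa73bdd4d7400310)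
 (.cons 32 (nat_lit 0xbcfea5000000000a3eb5641)
 (.cons 16 (nat_lit 0xc4ac0000874e0000c60900001994)
 (.cons 8 (nat_lit 0x1600aa00d200c60060007c00180050)
 (.cons 4 (nat_lit 0xb00030500050000020a060205080b07)
 (.cons 2 (nat_lit 0x10311001013310012021220102002211)
 (.cons 1 (nat_lit 0x40140140100140014001401001041040)
 (.cons 2 (nat_lit 0x20200220000220002000000002002000)
 (.cons 4 (nat_lit 0x808020402000002000c000200080a00)
 (.cons 8 (nat_lit 0x10005800fa00e40040007c0010004a)
 (.cons 16 (nat_lit 0x14e80000276c0000c02c0000509c)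
 (.cons 32 (nat_lit 0x29bd468000000000a7ef1460)
 (.cons 64 (nat_lit 0xfa73bdda5eb70700)
 .nil)))))))))))))
noncomputable def a307 : Net := (.cons 64 (nat_lit 0xaa496e42126c9c10)
 (.cons 32 (nat_lit 0x92c8ad8100000000d99c99ba)
 (.cons 16 (nat_lit 0xe84c0000e0530000d1b20000c76a)
 (.cons 8 (nat_lit 0xb000a2004400800022001000c50033)
 (.cons 4 (nat_lit 0x6080e080506050f0c000109000706)
 (.cons 2 (nat_lit 0x2210022220110221230300212213102)
 (.cons 1 (nat_lit 0x40110104040410144110101005014144)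
 (.cons 2 (nat_lit 0x220202020000222220200000022022)
 (.cons 4 (nat_lit 0x200040c04060c040c000008000400)
 (.cons 8 (nat_lit 0x700020006400c000a2001800e20060)
 (.cons 16 (nat_lit 0x488c0000e04a0000d1320000d728)
 (.cons 32 (nat_lit 0x92c1e58000000000d99c99b8)
 (.cons 64 (nat_lit 0xaa496e4012ac1d94)
 .nil)))))))))))))
noncomputable def a308 : Net := (.cons 64 (nat_lit 0x68e0b3597d092254)
 (.cons 32 (nat_lit 0x240bb40000000000a941b22a)
 (.cons 16 (nat_lit 0x51900000817a0000a5900000c026)
 (.cons 8 (nat_lit 0x6100820084007000bc0015007a00c0)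
 (.cons 4 (nat_lit 0xc01000a080a0a07080a030100050008)
 (.cons 2 (nat_lit 0x11020021331032000010200302110100)
 (.cons 1 (nat_lit 0x10104004140040410441110410404014)
 (.cons 2 (nat_lit 0x20002000220020000202200200000020)
 (.cons 4 (nat_lit 0x800000e04000a020802020200000404)
 (.cons 8 (nat_lit 0x4800000004007000ba000200780004)
 (.cons 16 (nat_lit 0x75900000e16e0000319400008408)
 (.cons 32 (nat_lit 0x6c0bb610000000002f46b628)
 (.cons 64 (nat_lit 0x68e0b35028d284c0)
 .nil)))))))))))))
noncomputable def a309 : Net := (.cons 64 (nat_lit 0xf9887bc061c0000)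
 (.cons 32 (nat_lit 0xe140e5000000000069181200)
 (.cons 16 (nat_lit 0x80000000a010000895400001120)
 (.cons 8 (nat_lit 0xc000a8003e0001000c000500440080)
 (.cons 4 (nat_lit 0xe0802000a00070900040e080602040a)
 (.cons 2 (nat_lit 0x23102002200330021003022031002000)
 (.cons 1 (nat_lit 0x45004511110410410400501050410014)
 (.cons 2 (nat_lit 0x20002002200000020000002000000000)
 (.cons 4 (nat_lit 0x80002000a080e0800040e080602000a)
 (.cons 8 (nat_lit 0xc00028003e0090000c000400440080)
 (.cons 16 (nat_lit 0x800000004800000895400001120)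
 (.cons 32 (nat_lit 0xe140e5000000000049181200)
 (.cons 64 (nat_lit 0xf9887bc061c0000)
 .nil)))))))))))))
noncomputable def a310 : Net := (.cons 64 (nat_lit 0x42e53a36e0800000)
 (.cons 32 (nat_lit 0x4768d9000000000006800100)
 (.cons 16 (nat_lit 0x56400000a0800000281000000850)
 (.cons 8 (nat_lit 0x9000fc00480050009200a000000000)
 (.cons 4 (nat_lit 0xc040a080207000908000805040e070a)
 (.cons 2 (nat_lit 0x3123022101300220020002021200200)
 (.cons 1 (nat_lit 0x5010141004150110410000040101114)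
 (.cons 2 (nat_lit 0x20022000200220020000020202000)
 (.cons 4 (nat_lit 0xc040a0800080000080000000408080a)
 (.cons 8 (nat_lit 0x9000f800480050009000a000000000)
 (.cons 16 (nat_lit 0x56400000a0800000281000000850)
 (.cons 32 (nat_lit 0x4768d1000000000006800100)
 (.cons 64 (nat_lit 0x42e53a34e0800000)
 .nil)))))))))))))
noncomputable def a311 : Net := (.cons 64 (nat_lit 0x8ef5a00000000000)
 (.cons 32 (nat_lit 0xee642008000000000d080000)
 (.cons 16 (nat_lit 0x2cc0000090500000218000000128)
 (.cons 8 (nat_lit 0x64006c00f200e00080000900400008)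
 (.cons 4 (nat_lit 0x20c000a0e000a01000000040e0708)
 (.cons 2 (nat_lit 0x22100023113212201300001221203320)
 (.cons 1 (nat_lit 0x4010005000104114100140400454144)
 (.cons 2 (nat_lit 0x2000000000202200200000200200020)
 (.cons 4 (nat_lit 0x20000000e000a0c000000040e0808)
 (.cons 8 (nat_lit 0x64006c00f200600080000800400008)
 (.cons 16 (nat_lit 0x2cc0000090500000218000000128)
 (.cons 32 (nat_lit 0xee642008000000000d080000)
 (.cons 64 (nat_lit 0x8ef5a00000000000)
 .nil)))))))))))))
noncomputable def a312 : Net := (.cons 64 (nat_lit 0x721004d265001200)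
 (.cons 32 (nat_lit 0x3412849000000000c4e63260)
 (.cons 16 (nat_lit 0x201000003a0c0000c46000003118)
 (.cons 8 (nat_lit 0x100080009a00340088006c0089000a)
 (.cons 4 (nat_lit 0x2000d05060e0a0000010408000e02)
 (.cons 2 (nat_lit 0x12002031200131100023220100202000)
 (.cons 1 (nat_lit 0x4100014041050010045400014440100)
 (.cons 2 (nat_lit 0x2000020000000000020200000200000)
 (.cons 4 (nat_lit 0x2000004060e020000000408000a00)
 (.cons 8 (nat_lit 0x100080009a0034000800680088000a)
 (.cons 16 (nat_lit 0x201000003a0c0000c40000003108)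
 (.cons 32 (nat_lit 0x341280900000000044e63260)
 (.cons 64 (nat_lit 0x721004d065001200)
 .nil)))))))))))))
noncomputable def a313 : Net := (.cons 64 (nat_lit 0xf9b200000000000)
 (.cons 32 (nat_lit 0xd4e7a0000000000007000000)
 (.cons 16 (nat_lit 0x6a8000049880000cd0000000140)
 (.cons 8 (nat_lit 0x1c0002009800a8000000f100810080)
 (.cons 4 (nat_lit 0x90a00080f0008040000060000060008)
 (.cons 2 (nat_lit 0x13002220130202010220201220003220)
 (.cons 1 (nat_lit 0x41500405140001101040100440000444)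
 (.cons 2 (nat_lit 0x2000200020002000020200220000220)
 (.cons 4 (nat_lit 0x40a0008000008040000000000000008)
 (.cons 8 (nat_lit 0x1c0002009800a0000000f000000080)
 (.cons 16 (nat_lit 0x6a80000498800004d0000000140)
 (.cons 32 (nat_lit 0xd4e6a0000000000007000000)
 (.cons 64 (nat_lit 0xf9b200000000000)
 .nil)))))))))))))
noncomputable def a314 : Net := (.cons 64 (nat_lit 0x8b6fa00000000000)
 (.cons 32 (nat_lit 0x391f208c00000000ee800000)
 (.cons 16 (nat_lit 0x2108000098080000181000000002)
 (.cons 8 (nat_lit 0xa0008000fa002800d00024008000a0)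
 (.cons 4 (nat_lit 0xf02000e0e0e010400020008040706)
 (.cons 2 (nat_lit 0x2310002203221203200020020210022)
 (.cons 1 (nat_lit 0x10410101050140440040014444401144)
 (.cons 2 (nat_lit 0x200002000220200000020020200022)
 (.cons 4 (nat_lit 0x2000e0e06000400000008040000)
 (.cons 8 (nat_lit 0xa0000000f0002800d0002400800020)
 (.cons 16 (nat_lit 0x2108000098080000081000000002)
 (.cons 32 (nat_lit 0x391f208c00000000ee800000)
 (.cons 64 (nat_lit 0x8b6fa00000000000)
 .nil)))))))))))))
noncomputable def a315 : Net := (.cons 64 (nat_lit 0x80020ff802000000)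
 (.cons 32 (nat_lit 0x8e61ed0000000000ae800000)
 (.cons 16 (nat_lit 0xc49000080000000f20000000004)
 (.cons 8 (nat_lit 0x8a0034001400c000ed000800000020)
 (.cons 4 (nat_lit 0x4000e040a010000000000000e0706)
 (.cons 2 (nat_lit 0x213023100002223321020222213100)
 (.cons 1 (nat_lit 0x4005540001044115104500440104110)
 (.cons 2 (nat_lit 0x20000002220200000220202000)
 (.cons 4 (nat_lit 0x4000e0402000000000000000c0002)
 (.cons 8 (nat_lit 0x880034001400c000e0000800000020)
 (.cons 16 (nat_lit 0xc08000080000000f20000000004)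
 (.cons 32 (nat_lit 0x8e61e50000000000ae800000)
 (.cons 64 (nat_lit 0x80020ff802000000)
 .nil)))))))))))))
noncomputable def a316 : Net := (.cons 64 (nat_lit 0xa7ba9cf059002980)
 (.cons 32 (nat_lit 0x5b4d4d19000000002d842208)
 (.cons 16 (nat_lit 0x5e5e0000aaa60000080100008a92)
 (.cons 8 (nat_lit 0x5d0065000200d0006000000092002c)
 (.cons 4 (nat_lit 0x70901090c000602010202000a0d020a)
 (.cons 2 (nat_lit 0x31122032002222200100000020112012)
 (.cons 1 (nat_lit 0x15114110410414000041010450100544)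
 (.cons 2 (nat_lit 0x20020020200222000000020000200002)
 (.cons 4 (nat_lit 0xa000c040e080400000202000200080a)
 (.cons 8 (nat_lit 0x8003c00a400c00020000000c20040)
 (.cons 16 (nat_lit 0x92f600002e8400000800000040ce)
 (.cons 32 (nat_lit 0x5b4f4598000000002d842204)
 (.cons 64 (nat_lit 0xa7ba9cf44b002c80)
 .nil)))))))))))))
noncomputable def a317 : Net := (.cons 64 (nat_lit 0x3846036446549c04)
 (.cons 32 (nat_lit 0xb204352d00000000e77fe366)
 (.cons 16 (nat_lit 0x1328000088ab0000f3e100009000)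
 (.cons 8 (nat_lit 0x280032009a00cc0022008800db0024)
 (.cons 4 (nat_lit 0x90400030708000c0308000d04020800)
 (.cons 2 (nat_lit 0x22000200210003211210210112102002)
 (.cons 1 (nat_lit 0x10040401151045110441455041011414)
 (.cons 2 (nat_lit 0x200200000200222000002022000)
 (.cons 4 (nat_lit 0x20000000c000e080c04000802)
 (.cons 8 (nat_lit 0x2a003000ee008e006200c800420024)
 (.cons 16 (nat_lit 0x216a0000c9000000548a00009010)
 (.cons 32 (nat_lit 0x9240374600000000a7ffdf7c)
 (.cons 64 (nat_lit 0x384603672608cb44)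
 .nil)))))))))))))
noncomputable def a318 : Net := (.cons 64 (nat_lit 0x2210050768800200)
 (.cons 32 (nat_lit 0x181845000000000099440290)
 (.cons 16 (nat_lit 0x41080000c59a000071100000accc)
 (.cons 8 (nat_lit 0x700004008800d80088001c002c008e)
 (.cons 4 (nat_lit 0x108000000020200040e0e0c080b0404)
 (.cons 2 (nat_lit 0x2000002222020303010222120112320)
 (.cons 1 (nat_lit 0x500001011011055001011040140014)
 (.cons 2 (nat_lit 0x2022020000000022000020020)
 (.cons 4 (nat_lit 0x800000000020004060a0c00040404)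
 (.cons 8 (nat_lit 0x700000008800d80088001c00c4008a)
 (.cons 16 (nat_lit 0x41080000c19a000071100000accc)
 (.cons 32 (nat_lit 0x181845000000000099440290)
 (.cons 64 (nat_lit 0x2210050568800200)
 .nil)))))))))))))
noncomputable def a319 : Net := (.cons 64 (nat_lit 0xb440015d59111040)
 (.cons 32 (nat_lit 0xa4428681000000008a910000)
 (.cons 16 (nat_lit 0x31480000fd400000081100007722)
 (.cons 8 (nat_lit 0xa00b60056007a000a0014002c0030)
 (.cons 4 (nat_lit 0x6000503060004020800040500)
 (.cons 2 (nat_lit 0x2230110231100220002220221320)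
 (.cons 1 (nat_lit 0x5001451000414054140140445111440)
 (.cons 2 (nat_lit 0x2200000220000220000220220220)
 (.cons 4 (nat_lit 0x600040c060004020800000200)
 (.cons 8 (nat_lit 0xa00200056003200080014002c0030)
 (.cons 16 (nat_lit 0x31080000fd400000081000006720)
 (.cons 32 (nat_lit 0x84428680000000008a910000)
 (.cons 64 (nat_lit 0xb440015d59111040)
 .nil)))))))))))))
noncomputable def a320 : Net := (.cons 64 (nat_lit 0xf20038d0c5014370)
 (.cons 32 (nat_lit 0xbb5d5bbb0000000022c50762)
 (.cons 16 (nat_lit 0xc0800000a04a0000810600001208)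
 (.cons 8 (nat_lit 0xa00b9009a003400ba0021005400bc)
 (.cons 4 (nat_lit 0x90b090b0402000b060a060408030e00)
 (.cons 2 (nat_lit 0x33000221000031202200123122122)
 (.cons 1 (nat_lit 0x10514104441000011105400414441104)
 (.cons 2 (nat_lit 0x20020000200000000000200022022002)
 (.cons 4 (nat_lit 0x8020808080200080c0604000c000e00)
 (.cons 8 (nat_lit 0x42009a0098003400b40026001a00b4)
 (.cons 16 (nat_lit 0x8288000034480000860800005a00)
 (.cons 32 (nat_lit 0x195d73e20000000026500462)
 (.cons 64 (nat_lit 0xf20038d3cc425302)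
 .nil)))))))))))))
noncomputable def a321 : Net := (.cons 64 (nat_lit 0x50002f21d4000080)
 (.cons 32 (nat_lit 0x47c64c100000000025bc0080)
 (.cons 16 (nat_lit 0x23220000614c0000b4000000a130)
 (.cons 8 (nat_lit 0x400040003000000040005400a50088)
 (.cons 4 (nat_lit 0x20c0004090d00000e0c0008080a0404)
 (.cons 2 (nat_lit 0x12200010003100020132300210022002)
 (.cons 1 (nat_lit 0x4440005000050011001500100100014)
 (.cons 2 (nat_lit 0x2200000000000020002000200000002)
 (.cons 4 (nat_lit 0x20c000400080000060c0008000a0004)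
 (.cons 8 (nat_lit 0x400040003000000040005000a00080)
 (.cons 16 (nat_lit 0x20220000614c0000b4000000a130)
 (.cons 32 (nat_lit 0x47c640100000000025bc0080)
 (.cons 64 (nat_lit 0x50002f21d4000080)
 .nil)))))))))))))
noncomputable def a322 : Net := (.cons 64 (nat_lit 0x10010fb401003a00)
 (.cons 32 (nat_lit 0x1b9c2c800000000088900042)
 (.cons 16 (nat_lit 0x211000065e00000b00000000cd0)
 (.cons 8 (nat_lit 0x9d003d0030004800d00020003c000c)
 (.cons 4 (nat_lit 0x9080a080409020e0a0400020c080c08)
 (.cons 2 (nat_lit 0x23202022210202012030002021310130)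
 (.cons 1 (nat_lit 0x15101001000010404400004100501054)
 (.cons 2 (nat_lit 0x20202002000000000200002000000000)
 (.cons 4 (nat_lit 0x808080408020c040400020c080408)
 (.cons 8 (nat_lit 0x8400380030004800d00020003c000c)
 (.cons 16 (nat_lit 0x390000061a00000b00000000cd0)
 (.cons 32 (nat_lit 0x1b9c2c800000000008900042)
 (.cons 64 (nat_lit 0x10010fb401003a00)
 .nil)))))))))))))
noncomputable def a323 : Net := (.cons 64 (nat_lit 0x300005d740000000)
 (.cons 32 (nat_lit 0x3c88068800000000be810000)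
 (.cons 16 (nat_lit 0xd000000f1e80000b0000000805c)
 (.cons 8 (nat_lit 0x880016003800c900300020008c0054)
 (.cons 4 (nat_lit 0x8000006000c0c08080a080b0c00)
 (.cons 2 (nat_lit 0x22002002122110021010202000133202)
 (.cons 1 (nat_lit 0x11001041011000400004100101140410)
 (.cons 2 (nat_lit 0x22002002022000000000200000020200)
 (.cons 4 (nat_lit 0x8000004000c0408080a00040c00)
 (.cons 8 (nat_lit 0x880010003800c80010002000040054)
 (.cons 16 (nat_lit 0xd000000f1c80000b0000000805c)
 (.cons 32 (nat_lit 0x1c880288000000003e810000)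
 (.cons 64 (nat_lit 0x300005d700000000)
 .nil)))))))))))))
noncomputable def a324 : Net := (.cons 64 (nat_lit 0x50000b6b50000000)
 (.cons 32 (nat_lit 0x7004aa81000000003e800000)
 (.cons 16 (nat_lit 0x1020000057600000b00000006d70)
 (.cons 8 (nat_lit 0xd80080005800a000a400e80080)
 (.cons 4 (nat_lit 0x40e08000400020a0d00020806000a)
 (.cons 2 (nat_lit 0x20202020202312102220200003232200)
 (.cons 1 (nat_lit 0x40400514100001041044100140404100)
 (.cons 2 (nat_lit 0x20200020200002002020200000202200)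
 (.cons 4 (nat_lit 0x40e08000400000a0c000208060000)
 (.cons 8 (nat_lit 0xd80080000800a000a000e80080)
 (.cons 16 (nat_lit 0x1020000051600000b00000006d60)
 (.cons 32 (nat_lit 0x7004aa80000000003a800000)
 (.cons 64 (nat_lit 0x50000b6950000000)
 .nil)))))))))))))
noncomputable def a325 : Net := (.cons 64 (nat_lit 0x7000000000000000)
 (.cons 32 (nat_lit 0x101c2900000000070000000)
 (.cons 16 (nat_lit 0x100000a1680000f04000005504)
 (.cons 8 (nat_lit 0x100046007400a8005c00da00c50028)
 (.cons 4 (nat_lit 0x201080801080802060c0e0e08060a0c)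
 (.cons 2 (nat_lit 0x10000002020220200202232110000130)
 (.cons 1 (nat_lit 0x1000441045010055451051000100000)
 (.cons 2 (nat_lit 0x2020020000202002000000000)
 (.cons 4 (nat_lit 0x200080800080802060c0e0c0002000c)
 (.cons 8 (nat_lit 0x100044007400a8005c00da00c40028)
 (.cons 16 (nat_lit 0x100000a1080000d00000005504)
 (.cons 32 (nat_lit 0x101c2900000000070000000)
 (.cons 64 (nat_lit 0x7000000000000000)
 .nil)))))))))))))
noncomputable def a326 : Net := (.cons 64 (nat_lit 0xf000000000000000)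
 (.cons 32 (nat_lit 0x3810028000000000e0000000)
 (.cons 16 (nat_lit 0x4010000014480000f00000000690)
 (.cons 8 (nat_lit 0x4200a20032002000a5000600a8)
 (.cons 4 (nat_lit 0x800000d000406020c0e000000020400)
 (.cons 2 (nat_lit 0x22302121103210003203210120)
 (.cons 1 (nat_lit 0x10000011010010015005405005405000)
 (.cons 2 (nat_lit 0x22000020000000000000200000)
 (.cons 4 (nat_lit 0x404020c0e000000020400)
 (.cons 8 (nat_lit 0x4000020032002000a0000600a0)
 (.cons 16 (nat_lit 0x4010000010400000f00000000680)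
 (.cons 32 (nat_lit 0x3810028000000000e0000000)
 (.cons 64 (nat_lit 0xf000000000000000)
 .nil)))))))))))))
noncomputable def a327 : Net := (.cons 64 (nat_lit 0x3846036446549c04)
 (.cons 32 (nat_lit 0xb204352d00000000e77fe366)
 (.cons 16 (nat_lit 0x1328000088ab0000f3e100009000)
 (.cons 8 (nat_lit 0x280032009a00cc0022008800db0024)
 (.cons 4 (nat_lit 0x90400030708000c0308000d04020800)
 (.cons 2 (nat_lit 0x22000200210003211210210112102002)
 (.cons 1 (nat_lit 0x10040401151045110441455041011414)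
 (.cons 2 (nat_lit 0x200200000200222000002022000)
 (.cons 4 (nat_lit 0x20000000c000e080c04000802)
 (.cons 8 (nat_lit 0x2a003000ee008e006200c800420024)
 (.cons 16 (nat_lit 0x216a0000c9000000548a00009010)
 (.cons 32 (nat_lit 0x9240374600000000a7ffdf7c)
 (.cons 64 (nat_lit 0x384603672608cb44)
 .nil)))))))))))))
noncomputable def a328 : Net := (.cons 64 (nat_lit 0xaa058c4edfffd376)
 (.cons 32 (nat_lit 0xf128da0b000000006f946104)
 (.cons 16 (nat_lit 0x94280000a5aa00006dd00000198c)
 (.cons 8 (nat_lit 0x66008400d7008400d80036007a0088)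
 (.cons 4 (nat_lit 0x104000a0d02040300020f0c050d0800)
 (.cons 2 (nat_lit 0x1231202330020112212301330012330)
 (.cons 1 (nat_lit 0x410441040540501104405401040510)
 (.cons 2 (nat_lit 0x220200020000002202000200000020)
 (.cons 4 (nat_lit 0x604000002040200060c0a04080000)
 (.cons 8 (nat_lit 0x6a00860056008000c8004000220098)
 (.cons 16 (nat_lit 0x86280000852c00003eec0000185c)
 (.cons 32 (nat_lit 0xd128d64c000000007e9c6180)
 (.cons 64 (nat_lit 0xaa058c4cc67fd5f2)
 .nil)))))))))))))
noncomputable def a329 : Net := (.cons 64 (nat_lit 0xf20038d3cc425302)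
 (.cons 32 (nat_lit 0x66820c190000000026500462)
 (.cons 16 (nat_lit 0xd08a000082880000860800005218)
 (.cons 8 (nat_lit 0x2200940042006100b40049001200bc)
 (.cons 4 (nat_lit 0x602080103050302050600020c0f0e00)
 (.cons 2 (nat_lit 0x30202012021000123001030221232322)
 (.cons 1 (nat_lit 0x40004444014500114105010411411404)
 (.cons 2 (nat_lit 0x20002002000000000000020220222202)
 (.cons 4 (nat_lit 0x6080c04020000000c0a0400080c0e00)
 (.cons 8 (nat_lit 0x200010000a004200ba004e005c00b4)
 (.cons 16 (nat_lit 0xd408000040800000810600001a10)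
 (.cons 32 (nat_lit 0xc48224400000000022c50762)
 (.cons 64 (nat_lit 0xf20038d0c5014370)
 .nil)))))))))))))
noncomputable def a330 : Net := (.cons 64 (nat_lit 0x7cf58ba30880828c)
 (.cons 32 (nat_lit 0x1205fd0000000000ac81b300)
 (.cons 16 (nat_lit 0x85da00001254000098080000c064)
 (.cons 8 (nat_lit 0x76005400c700950085000e000400c8)
 (.cons 4 (nat_lit 0xe0a00080601050e0b0c000704060c04)
 (.cons 2 (nat_lit 0x20133031200110030202222310023012)
 (.cons 1 (nat_lit 0x41414044410140010041054100141004)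
 (.cons 2 (nat_lit 0x22002020020000020002002200000002)
 (.cons 4 (nat_lit 0x608040c0404040c0804000604060806)
 (.cons 8 (nat_lit 0xd80040008e00840004000800440028)
 (.cons 16 (nat_lit 0xe7fe000012c0000039000000c014)
 (.cons 32 (nat_lit 0x6e547400000000002c81b300)
 (.cons 64 (nat_lit 0x7cf58ba10d81208c)
 .nil)))))))))))))
noncomputable def a331 : Net := (.cons 64 (nat_lit 0xa484038898640250)
 (.cons 32 (nat_lit 0xe8b2015a000000008ca89050)
 (.cons 16 (nat_lit 0xc112000084890000faaf0000077c)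
 (.cons 8 (nat_lit 0x8000d80000007200fe00360069000e)
 (.cons 4 (nat_lit 0xa0002040104000e040b0a0503060200)
 (.cons 2 (nat_lit 0x1001001010102311301120231013210)
 (.cons 1 (nat_lit 0x1104041014404451401404041014110)
 (.cons 2 (nat_lit 0x2002000000002200002000020020000)
 (.cons 4 (nat_lit 0x2000a0400080008020a0a0c04060e00)
 (.cons 8 (nat_lit 0x8400980004007200fe003400200024)
 (.cons 16 (nat_lit 0xc102000037040000eea600002f36)
 (.cons 32 (nat_lit 0x48360052000000009fb22400)
 (.cons 64 (nat_lit 0xa4840383d8394010)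
 .nil)))))))))))))
noncomputable def a332 : Net := (.cons 64 (nat_lit 0x721004d265001200)
 (.cons 32 (nat_lit 0x3412849000000000c4e63260)
 (.cons 16 (nat_lit 0x201000003a0c0000c46000003118)
 (.cons 8 (nat_lit 0x100080009a00340088006c0089000a)
 (.cons 4 (nat_lit 0x2000d05060e0a0000010408000e02)
 (.cons 2 (nat_lit 0x12002031200131100023220100202000)
 (.cons 1 (nat_lit 0x4100014041050010045400014440100)
 (.cons 2 (nat_lit 0x2000020000000000020200000200000)
 (.cons 4 (nat_lit 0x2000004060e020000000408000a00)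
 (.cons 8 (nat_lit 0x100080009a0034000800680088000a)
 (.cons 16 (nat_lit 0x201000003a0c0000c40000003108)
 (.cons 32 (nat_lit 0x341280900000000044e63260)
 (.cons 64 (nat_lit 0x721004d065001200)
 .nil)))))))))))))
noncomputable def a333 : Net := (.cons 64 (nat_lit 0x800288fb34c37723)
 (.cons 32 (nat_lit 0x24199a1000000009594a763)
 (.cons 16 (nat_lit 0x91f50000a1ee0000b61200004786)
 (.cons 8 (nat_lit 0xc50080004400d900070008003300ce)
 (.cons 4 (nat_lit 0x401000c0c04080a010e030008010005)
 (.cons 2 (nat_lit 0x10200001100200020301203010020210)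
 (.cons 1 (nat_lit 0x1000004405414401105114010001005)
 (.cons 2 (nat_lit 0x200002200202020000000)
 (.cons 4 (nat_lit 0xc080002040a0e0a0008000800)
 (.cons 8 (nat_lit 0x46008000e000d000640008007000d0)
 (.cons 16 (nat_lit 0x91f40000ad680000321200006f9c)
 (.cons 32 (nat_lit 0x824199a000000000cd709068)
 (.cons 64 (nat_lit 0x800288f8f68c3622)
 .nil)))))))))))))
noncomputable def a334 : Net := (.cons 64 (nat_lit 0x8bd80526c10)
 (.cons 32 (nat_lit 0xd840204000000004da0c904)
 (.cons 16 (nat_lit 0x8900000b23a0000e00000008f2c)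
 (.cons 8 (nat_lit 0x80002200b000700044000c002700b3)
 (.cons 4 (nat_lit 0xc040808000e08010300060001070c04)
 (.cons 2 (nat_lit 0x2102002002003002101230021302301)
 (.cons 1 (nat_lit 0x41000001101550005500050441440441)
 (.cons 2 (nat_lit 0x2000002002000000000000020200200)
 (.cons 4 (nat_lit 0xc040808000e08000c00060000060c04)
 (.cons 8 (nat_lit 0x80002000b000700044000c003000e0)
 (.cons 16 (nat_lit 0x8900000b2080000e00000008f2c)
 (.cons 32 (nat_lit 0xd840200000000004d20c904)
 (.cons 64 (nat_lit 0x8bd80522c10)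
 .nil)))))))))))))
noncomputable def a335 : Net := (.cons 64 (nat_lit 0x80000fecf655f318)
 (.cons 32 (nat_lit 0xccc89d61000000002e2b2621)
 (.cons 16 (nat_lit 0x50880000c8c60000051d0000e88f)
 (.cons 8 (nat_lit 0x80087000800a700fc00a800370008)
 (.cons 4 (nat_lit 0x80e02020600020e04090e0708040c)
 (.cons 2 (nat_lit 0x20002322000101202013023023120331)
 (.cons 1 (nat_lit 0x14404104014401041414144114441111)
 (.cons 2 (nat_lit 0x20002202000000000002222200220220)
 (.cons 4 (nat_lit 0x8000e04020800000a00080c040a0c08)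
 (.cons 8 (nat_lit 0x8000800048008200f800ba004c0088)
 (.cons 16 (nat_lit 0x50000000c9c6000003280000019c)
 (.cons 32 (nat_lit 0xccc89a480000000031758628)
 (.cons 64 (nat_lit 0x80000fea92f3f572)
 .nil)))))))))))))
noncomputable def a336 : Net := (.cons 64 (nat_lit 0x721004d265001200)
 (.cons 32 (nat_lit 0x3412849000000000c4e63260)
 (.cons 16 (nat_lit 0x201000003a0c0000c46000003118)
 (.cons 8 (nat_lit 0x100080009a00340088006c0089000a)
 (.cons 4 (nat_lit 0x2000d05060e0a0000010408000e02)
 (.cons 2 (nat_lit 0x12002031200131100023220100202000)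
 (.cons 1 (nat_lit 0x4100014041050010045400014440100)
 (.cons 2 (nat_lit 0x2000020000000000020200000200000)
 (.cons 4 (nat_lit 0x2000004060e020000000408000a00)
 (.cons 8 (nat_lit 0x100080009a0034000800680088000a)
 (.cons 16 (nat_lit 0x201000003a0c0000c40000003108)
 (.cons 32 (nat_lit 0x341280900000000044e63260)
 (.cons 64 (nat_lit 0x721004d065001200)
 .nil)))))))))))))
noncomputable def a337 : Net := (.cons 64 (nat_lit 0x8002f291000000)
 (.cons 32 (nat_lit 0x159040000000000198a0000)
 (.cons 16 (nat_lit 0x1e10000f2000000c10000004202)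
 (.cons 8 (nat_lit 0x9c0070001000e4000d004e0022)
 (.cons 4 (nat_lit 0xc0e06080e000e0d04000000000500)
 (.cons 2 (nat_lit 0x13221020230102012000203002010)
 (.cons 1 (nat_lit 0x100140041051040000540415114000)
 (.cons 2 (nat_lit 0x220020000000000000200002000)
 (.cons 4 (nat_lit 0x40e06000a000c0804000000000400)
 (.cons 8 (nat_lit 0x9c007000100064000c000e0020)
 (.cons 16 (nat_lit 0x1a00000f2000000c10000004202)
 (.cons 32 (nat_lit 0x159040000000000198a0000)
 (.cons 64 (nat_lit 0x8002f291000000)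
 .nil)))))))))))))
noncomputable def a338 : Net := (.cons 64 (nat_lit 0x34000ae271000000)
 (.cons 32 (nat_lit 0x33004a840000000038841000)
 (.cons 16 (nat_lit 0x3020000077080000b00000000ef4)
 (.cons 8 (nat_lit 0x20009a003400c800b2002400240080)
 (.cons 4 (nat_lit 0x2000405010600060204010a060a0502)
 (.cons 2 (nat_lit 0x1002011220330012230002001013110)
 (.cons 1 (nat_lit 0x400041000001001000100501400)
 (.cons 2 (nat_lit 0x20000002000000000002000)
 (.cons 4 (nat_lit 0x400000e08040200000a040a0804)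
 (.cons 8 (nat_lit 0x200098003400c800a2002000240090)
 (.cons 16 (nat_lit 0x3020000053800000b00000000ef4)
 (.cons 32 (nat_lit 0x330042840000000038500000)
 (.cons 64 (nat_lit 0x34000ae271000000)
 .nil)))))))))))))
noncomputable def a339 : Net := (.cons 64 (nat_lit 0x68e0b3597d092254)
 (.cons 32 (nat_lit 0x240bb40000000000a941b22a)
 (.cons 16 (nat_lit 0x51900000817a0000a5900000c026)
 (.cons 8 (nat_lit 0x6100820084007000bc0015007a00c0)
 (.cons 4 (nat_lit 0xc01000a080a0a07080a030100050008)
 (.cons 2 (nat_lit 0x11020021331032000010200302110100)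
 (.cons 1 (nat_lit 0x10104004140040410441110410404014)
 (.cons 2 (nat_lit 0x20002000220020000202200200000020)
 (.cons 4 (nat_lit 0x800000e04000a020802020200000404)
 (.cons 8 (nat_lit 0x4800000004007000ba000200780004)
 (.cons 16 (nat_lit 0x75900000e16e0000319400008408)
 (.cons 32 (nat_lit 0x6c0bb610000000002f46b628)
 (.cons 64 (nat_lit 0x68e0b35028d284c0)
 .nil)))))))))))))
noncomputable def a340 : Net := (.cons 64 (nat_lit 0x824f23f2c3a5dbdb)
 (.cons 32 (nat_lit 0xf025f2c400000000e1ba405a)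
 (.cons 16 (nat_lit 0x612f00000c5200001dfa0000937c)
 (.cons 8 (nat_lit 0x84006e008000a70098008e00dd00d1)
 (.cons 4 (nat_lit 0x6060c0a000408030c040000000a0405)
 (.cons 2 (nat_lit 0x33213012021301310002100223120132)
 (.cons 1 (nat_lit 0x44041411040401414004011100455444)
 (.cons 2 (nat_lit 0x22000000020000200000020200000022)
 (.cons 4 (nat_lit 0xc0c0800040200080c0808000e0802)
 (.cons 8 (nat_lit 0xe4003e0002008600c0000200500094)
 (.cons 16 (nat_lit 0xc12c00000840000059f20000e858)
 (.cons 32 (nat_lit 0xf263d0b000000000d03a8c5c)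
 (.cons 64 (nat_lit 0x824f23f930854df8)
 .nil)))))))))))))
noncomputable def a341 : Net := (.cons 64 (nat_lit 0x68e0b3597d092254)
 (.cons 32 (nat_lit 0x240bb40000000000a941b22a)
 (.cons 16 (nat_lit 0x51900000817a0000a5900000c026)
 (.cons 8 (nat_lit 0x6100820084007000bc0015007a00c0)
 (.cons 4 (nat_lit 0xc01000a080a0a07080a030100050008)
 (.cons 2 (nat_lit 0x11020021331032000010200302110100)
 (.cons 1 (nat_lit 0x10104004140040410441110410404014)
 (.cons 2 (nat_lit 0x20002000220020000202200200000020)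
 (.cons 4 (nat_lit 0x800000e04000a020802020200000404)
 (.cons 8 (nat_lit 0x4800000004007000ba000200780004)
 (.cons 16 (nat_lit 0x75900000e16e0000319400008408)
 (.cons 32 (nat_lit 0x6c0bb610000000002f46b628)
 (.cons 64 (nat_lit 0x68e0b35028d284c0)
 .nil)))))))))))))
noncomputable def a342 : Net := (.cons 64 (nat_lit 0xe90082332c6abce4)
 (.cons 32 (nat_lit 0x5c597a0000000002b8e2000)
 (.cons 16 (nat_lit 0xffa3000000200000359f000093c2)
 (.cons 8 (nat_lit 0xd30008004000ea003600f800c000d2)
 (.cons 4 (nat_lit 0x405060909020a070e090006000a000c)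
 (.cons 2 (nat_lit 0x2100323221200122032313011333210)
 (.cons 1 (nat_lit 0x4100111111040544141144101411004)
 (.cons 2 (nat_lit 0x2000022020000020000202200200002)
 (.cons 4 (nat_lit 0x40e00000008000e020c040004000e)
 (.cons 8 (nat_lit 0x50000c006000aa003800e800c000d0)
 (.cons 16 (nat_lit 0xfea20000c21800001dde00005710)
 (.cons 32 (nat_lit 0x45c597880000000029591000)
 (.cons 64 (nat_lit 0xe90082328c4bba96)
 .nil)))))))))))))
noncomputable def a343 : Net := (.cons 64 (nat_lit 0x8b6fa00000000000)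
 (.cons 32 (nat_lit 0x391f208c00000000ee800000)
 (.cons 16 (nat_lit 0x2108000098080000181000000002)
 (.cons 8 (nat_lit 0xa0008000fa002800d00024008000a0)
 (.cons 4 (nat_lit 0xf02000e0e0e010400020008040706)
 (.cons 2 (nat_lit 0x2310002203221203200020020210022)
 (.cons 1 (nat_lit 0x10410101050140440040014444401144)
 (.cons 2 (nat_lit 0x200002000220200000020020200022)
 (.cons 4 (nat_lit 0x2000e0e06000400000008040000)
 (.cons 8 (nat_lit 0xa0000000f0002800d0002400800020)
 (.cons 16 (nat_lit 0x2108000098080000081000000002)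
 (.cons 32 (nat_lit 0x391f208c00000000ee800000)
 (.cons 64 (nat_lit 0x8b6fa00000000000)
 .nil)))))))))))))
noncomputable def a344 : Net := (.cons 64 (nat_lit 0x8ef5a00000000000)
 (.cons 32 (nat_lit 0xee642008000000000d080000)
 (.cons 16 (nat_lit 0x2cc0000090500000218000000128)
 (.cons 8 (nat_lit 0x64006c00f200e00080000900400008)
 (.cons 4 (nat_lit 0x20c000a0e000a01000000040e0708)
 (.cons 2 (nat_lit 0x22100023113212201300001221203320)
 (.cons 1 (nat_lit 0x4010005000104114100140400454144)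
 (.cons 2 (nat_lit 0x2000000000202200200000200200020)
 (.cons 4 (nat_lit 0x20000000e000a0c000000040e0808)
 (.cons 8 (nat_lit 0x64006c00f200600080000800400008)
 (.cons 16 (nat_lit 0x2cc0000090500000218000000128)
 (.cons 32 (nat_lit 0xee642008000000000d080000)
 (.cons 64 (nat_lit 0x8ef5a00000000000)
 .nil)))))))))))))
noncomputable def a345 : Net := (.cons 64 (nat_lit 0xf9887bc061c0000)
 (.cons 32 (nat_lit 0xe140e5000000000069181200)
 (.cons 16 (nat_lit 0x80000000a010000895400001120)
 (.cons 8 (nat_lit 0xc000a8003e0001000c000500440080)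
 (.cons 4 (nat_lit 0xe0802000a00070900040e080602040a)
 (.cons 2 (nat_lit 0x23102002200330021003022031002000)
 (.cons 1 (nat_lit 0x45004511110410410400501050410014)
 (.cons 2 (nat_lit 0x20002002200000020000002000000000)
 (.cons 4 (nat_lit 0x80002000a080e0800040e080602000a)
 (.cons 8 (nat_lit 0xc00028003e0090000c000400440080)
 (.cons 16 (nat_lit 0x800000004800000895400001120)
 (.cons 32 (nat_lit 0xe140e5000000000049181200)
 (.cons 64 (nat_lit 0xf9887bc061c0000)
 .nil)))))))))))))
noncomputable def a346 : Net := (.cons 64 (nat_lit 0x426d12a6c6840000)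
 (.cons 32 (nat_lit 0x4c70f2100000000064812102)
 (.cons 16 (nat_lit 0xd4980000d8a00000cd920000a1d0)
 (.cons 8 (nat_lit 0x380038008000e00009005300840004)
 (.cons 4 (nat_lit 0xa05080600040008000a0f0c00080f04)
 (.cons 2 (nat_lit 0x32133020220300022000320103202332)
 (.cons 1 (nat_lit 0x10414041100551411010140405104144)
 (.cons 2 (nat_lit 0x20020200000022020000000202022)
 (.cons 4 (nat_lit 0x8080600040008000a0a0c00080802)
 (.cons 8 (nat_lit 0x38003c008000e00008009600040010)
 (.cons 16 (nat_lit 0x94a00000d8a00000e580000081d0)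
 (.cons 32 (nat_lit 0x4c70f21000000000c5910104)
 (.cons 64 (nat_lit 0x426d12a0c2840000)
 .nil)))))))))))))
noncomputable def a347 : Net := (.cons 64 (nat_lit 0x3d1b1d9b62000000)
 (.cons 32 (nat_lit 0x9e4a364000000000ae020040)
 (.cons 16 (nat_lit 0x2c140000f0160000c64000004318)
 (.cons 8 (nat_lit 0x20004c00b8009c008800060080008a)
 (.cons 4 (nat_lit 0xa0c010908000c01000c000004040504)
 (.cons 2 (nat_lit 0x22312202210230022002220302203302)
 (.cons 1 (nat_lit 0x1504004000104000044440004400044)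
 (.cons 2 (nat_lit 0x2002002000200000002220002200002)
 (.cons 4 (nat_lit 0xa0c000008000c00000c000004040004)
 (.cons 8 (nat_lit 0x20004c0028009c008800060000008a)
 (.cons 16 (nat_lit 0x2c140000f0160000464000004308)
 (.cons 32 (nat_lit 0x9e4a324000000000ae020040)
 (.cons 64 (nat_lit 0x3d1b1d9b62000000)
 .nil)))))))))))))
noncomputable def a348 : Net := (.cons 64 (nat_lit 0x8ef5a00000000000)
 (.cons 32 (nat_lit 0xee642008000000000d080000)
 (.cons 16 (nat_lit 0x2cc0000090500000218000000128)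
 (.cons 8 (nat_lit 0x64006c00f200e00080000900400008)
 (.cons 4 (nat_lit 0x20c000a0e000a01000000040e0708)
 (.cons 2 (nat_lit 0x22100023113212201300001221203320)
 (.cons 1 (nat_lit 0x4010005000104114100140400454144)
 (.cons 2 (nat_lit 0x2000000000202200200000200200020)
 (.cons 4 (nat_lit 0x20000000e000a0c000000040e0808)
 (.cons 8 (nat_lit 0x64006c00f200600080000800400008)
 (.cons 16 (nat_lit 0x2cc0000090500000218000000128)
 (.cons 32 (nat_lit 0xee642008000000000d080000)
 (.cons 64 (nat_lit 0x8ef5a00000000000)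
 .nil)))))))))))))
noncomputable def a349 : Net := (.cons 64 (nat_lit 0x8b6fa00000000000)
 (.cons 32 (nat_lit 0x391f208c00000000ee800000)
 (.cons 16 (nat_lit 0x2108000098080000181000000002)
 (.cons 8 (nat_lit 0xa0008000fa002800d00024008000a0)
 (.cons 4 (nat_lit 0xf02000e0e0e010400020008040706)
 (.cons 2 (nat_lit 0x2310002203221203200020020210022)
 (.cons 1 (nat_lit 0x10410101050140440040014444401144)
 (.cons 2 (nat_lit 0x200002000220200000020020200022)
 (.cons 4 (nat_lit 0x2000e0e06000400000008040000)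
 (.cons 8 (nat_lit 0xa0000000f0002800d0002400800020)
 (.cons 16 (nat_lit 0x2108000098080000081000000002)
 (.cons 32 (nat_lit 0x391f208c00000000ee800000)
 (.cons 64 (nat_lit 0x8b6fa00000000000)
 .nil)))))))))))))
noncomputable def a350 : Net := (.cons 64 (nat_lit 0x721004d265001200)
 (.cons 32 (nat_lit 0x3412849000000000c4e63260)
 (.cons 16 (nat_lit 0x201000003a0c0000c46000003118)
 (.cons 8 (nat_lit 0x100080009a00340088006c0089000a)
 (.cons 4 (nat_lit 0x2000d05060e0a0000010408000e02)
 (.cons 2 (nat_lit 0x12002031200131100023220100202000)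
 (.cons 1 (nat_lit 0x4100014041050010045400014440100)
 (.cons 2 (nat_lit 0x2000020000000000020200000200000)
 (.cons 4 (nat_lit 0x2000004060e020000000408000a00)
 (.cons 8 (nat_lit 0x100080009a0034000800680088000a)
 (.cons 16 (nat_lit 0x201000003a0c0000c40000003108)
 (.cons 32 (nat_lit 0x341280900000000044e63260)
 (.cons 64 (nat_lit 0x721004d065001200)
 .nil)))))))))))))
noncomputable def a351 : Net := (.cons 64 (nat_lit 0x862f44e2591f43dc)
 (.cons 32 (nat_lit 0xa43c40ee0000000008f3119a)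
 (.cons 16 (nat_lit 0x60b30000d8dd00003ba700008240)
 (.cons 8 (nat_lit 0xae0072000100e7001700a2006c0043)
 (.cons 4 (nat_lit 0x60800020a0f0b080004000801000300)
 (.cons 2 (nat_lit 0x2013201011201220101200013300023)
 (.cons 1 (nat_lit 0x44054401405141410101111004540140)
 (.cons 2 (nat_lit 0x2002200200220000200202002000020)
 (.cons 4 (nat_lit 0xc0800020e0608020004020800000200)
 (.cons 8 (nat_lit 0x28007200020084000400a200ac0004)
 (.cons 16 (nat_lit 0x60b0000094b200003a240000b344)
 (.cons 32 (nat_lit 0xa23c04680000000000f3139e)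
 (.cons 64 (nat_lit 0x862f44e3491e53d8)
 .nil)))))))))))))
noncomputable def a352 : Net := (.cons 64 (nat_lit 0x6162144788008480)
 (.cons 32 (nat_lit 0x7d0e140100000000ad000c00)
 (.cons 16 (nat_lit 0x4c080000680800002204000008f2)
 (.cons 8 (nat_lit 0x40005c003800e000b0001400000044)
 (.cons 4 (nat_lit 0x2080c0b0e000401080a0c000e0c02)
 (.cons 2 (nat_lit 0x10000021002312010001030202202100)
 (.cons 1 (nat_lit 0x44010110504100410104140014000)
 (.cons 2 (nat_lit 0x20000002000000000200002000)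
 (.cons 4 (nat_lit 0x80c000e000400000a0c000a0400)
 (.cons 8 (nat_lit 0x4000580038006000b0001400000044)
 (.cons 16 (nat_lit 0x4c08000068080000220400000862)
 (.cons 32 (nat_lit 0x3d0e140000000000ad000c00)
 (.cons 64 (nat_lit 0x6162144588008480)
 .nil)))))))))))))
noncomputable def a353 : Net := (.cons 64 (nat_lit 0x8168a6ee0e000000)
 (.cons 32 (nat_lit 0x94a1a700000000006c800000)
 (.cons 16 (nat_lit 0x4810000885800002f1000000040)
 (.cons 8 (nat_lit 0x40002800800080008c000600e000a0)
 (.cons 4 (nat_lit 0x8080a080a0e0a0800010000080e0002)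
 (.cons 2 (nat_lit 0x12222023202032022102020220321202)
 (.cons 1 (nat_lit 0x1010545011450411000140444500414)
 (.cons 2 (nat_lit 0x2020020002000022000020220000202)
 (.cons 4 (nat_lit 0x8080a080a0c0a0800000000080e0002)
 (.cons 8 (nat_lit 0x40002800800080008c000000e00020)
 (.cons 16 (nat_lit 0x4000000885800002f1000000040)
 (.cons 32 (nat_lit 0x94a1a3000000000024800000)
 (.cons 64 (nat_lit 0x8168a6ee0e000000)
 .nil)))))))))))))
noncomputable def a354 : Net := (.cons 64 (nat_lit 0x21906c306a944008)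
 (.cons 32 (nat_lit 0x11e01c20000000009a288100)
 (.cons 16 (nat_lit 0x40000000c68a000052a800001c48)
 (.cons 8 (nat_lit 0xd00030000a0024001e005000b00000)
 (.cons 4 (nat_lit 0x400000804040400040e000c00060d0e)
 (.cons 2 (nat_lit 0x21200020201201020202003030200002)
 (.cons 1 (nat_lit 0x400000050100414051000054440010)
 (.cons 2 (nat_lit 0x200000000200020002000000020000)
 (.cons 4 (nat_lit 0x400000804040400040e000c0008000a)
 (.cons 8 (nat_lit 0xc00020000a0000001e001000b00000)
 (.cons 16 (nat_lit 0x40000000c48a000052a800001c48)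
 (.cons 32 (nat_lit 0x11e010200000000098288100)
 (.cons 64 (nat_lit 0x21906c306a944008)
 .nil)))))))))))))
noncomputable def a355 : Net := (.cons 64 (nat_lit 0xfffff00000000000)
 (.cons 32 (nat_lit 0xef3d1c4f0000000096800000)
 (.cons 16 (nat_lit 0xff00000f1c8000013c000007014)
 (.cons 8 (nat_lit 0x78008000db00df00c000b0007a00f0)
 (.cons 4 (nat_lit 0x30e010a0705080c0000060a010908)
 (.cons 2 (nat_lit 0x322322000122120300021020311300)
 (.cons 1 (nat_lit 0x44404401144054010000141000444140)
 (.cons 2 (nat_lit 0x202002022000020000200000200020)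
 (.cons 4 (nat_lit 0x40a0a08040008080000060804000c)
 (.cons 8 (nat_lit 0x3400c60070009e004000b0007a003c)
 (.cons 16 (nat_lit 0xcfb80000a1c8000013c000003814)
 (.cons 32 (nat_lit 0x56f40c480000000096800000)
 (.cons 64 (nat_lit 0xfffff00000000000)
 .nil)))))))))))))
noncomputable def a356 : Net := (.cons 64 (nat_lit 0x80020ff802000000)
 (.cons 32 (nat_lit 0x8e61ed0000000000ae800000)
 (.cons 16 (nat_lit 0xc49000080000000f20000000004)
 (.cons 8 (nat_lit 0x8a0034001400c000ed000800000020)
 (.cons 4 (nat_lit 0x4000e040a010000000000000e0706)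
 (.cons 2 (nat_lit 0x213023100002223321020222213100)
 (.cons 1 (nat_lit 0x4005540001044115104500440104110)
 (.cons 2 (nat_lit 0x20000002220200000220202000)
 (.cons 4 (nat_lit 0x4000e0402000000000000000c0002)
 (.cons 8 (nat_lit 0x880034001400c000e0000800000020)
 (.cons 16 (nat_lit 0xc08000080000000f20000000004)
 (.cons 32 (nat_lit 0x8e61e50000000000ae800000)
 (.cons 64 (nat_lit 0x80020ff802000000)
 .nil)))))))))))))
noncomputable def a357 : Net := (.cons 64 (nat_lit 0xc8a6f364083d456c)
 (.cons 32 (nat_lit 0xc26a6cc200000000488b2add)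
 (.cons 16 (nat_lit 0xd94000006a1b00004f0a0000a56d)
 (.cons 8 (nat_lit 0xa0008200a5006500620035003400cc)
 (.cons 4 (nat_lit 0xb08040c0f01060408090b0a0a0c0009)
 (.cons 2 (nat_lit 0x30022023300311013220210003302030)
 (.cons 1 (nat_lit 0x40400444410105101411404105101045)
 (.cons 2 (nat_lit 0x220000002202000200200000)
 (.cons 4 (nat_lit 0xc0c0808080a060c000a02080c0006)
 (.cons 8 (nat_lit 0xa8004400800044006a003000200000)
 (.cons 16 (nat_lit 0x9bac00004a2a0000434000002440)
 (.cons 32 (nat_lit 0x4aca5ea000000000688a2ed0)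
 (.cons 64 (nat_lit 0xc8a6f3647a086484)
 .nil)))))))))))))
noncomputable def a358 : Net := (.cons 64 (nat_lit 0x82d65b84bfa17ee)
 (.cons 32 (nat_lit 0x78249172000000004e144732)
 (.cons 16 (nat_lit 0x4000000af5d000047e200004865)
 (.cons 8 (nat_lit 0x3e00b3002f00a6000800ba0080)
 (.cons 4 (nat_lit 0x60804000b0a0e070a0c0e020501040e)
 (.cons 2 (nat_lit 0x10213120212123332312100112232221)
 (.cons 1 (nat_lit 0x4004410140045411400105001101401)
 (.cons 2 (nat_lit 0x2000200200020022200000000002202)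
 (.cons 4 (nat_lit 0x2080000000808020c0806060c000404)
 (.cons 8 (nat_lit 0x2000ee009000220080000c00ba0000)
 (.cons 16 (nat_lit 0x74280000a954000045a60000c864)
 (.cons 32 (nat_lit 0x78249074000000004a944738)
 (.cons 64 (nat_lit 0x82d65b18b42d168)
 .nil)))))))))))))
noncomputable def a359 : Net := (.cons 64 (nat_lit 0x6b17252cfde1951a)
 (.cons 32 (nat_lit 0x481c054c00000000b0a08a06)
 (.cons 16 (nat_lit 0xf540000b4a5000000b00000f805)
 (.cons 8 (nat_lit 0x6d0025007300c00050000400450062)
 (.cons 4 (nat_lit 0x202080f010b0900080e0a0106080c)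
 (.cons 2 (nat_lit 0x1200020011003023000200031220311)
 (.cons 1 (nat_lit 0x4410510514104140000504101455045)
 (.cons 2 (nat_lit 0x200000020000000000002000200000)
 (.cons 4 (nat_lit 0x404020a0000020e0400020008080c00)
 (.cons 8 (nat_lit 0x2c002600c200dc0050004600d800ec)
 (.cons 16 (nat_lit 0xf5e0000be00000000300000ffd0)
 (.cons 32 (nat_lit 0x4a0f054e0000000034e80044)
 (.cons 64 (nat_lit 0x6b1725250eb87d8a)
 .nil)))))))))))))
noncomputable def a360 : Net := (.cons 64 (nat_lit 0xbf59f3d1ac6a52e0)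
 (.cons 32 (nat_lit 0x568e02890000000089fdb497)
 (.cons 16 (nat_lit 0x3b94000075b8000034900000068e)
 (.cons 8 (nat_lit 0xb7008b005100bb0089002000040064)
 (.cons 4 (nat_lit 0xd02010d01060d0b03030809000c0c0c)
 (.cons 2 (nat_lit 0x3021213012010211003202002002102)
 (.cons 1 (nat_lit 0x5511144101540444440001414400004)
 (.cons 2 (nat_lit 0x20200002020200220002002200000)
 (.cons 4 (nat_lit 0xc080a0402060e020a060000060c0c0c)
 (.cons 8 (nat_lit 0x6000c0000000880088002800040022)
 (.cons 16 (nat_lit 0x882000070b00000bc0a000000a8)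
 (.cons 32 (nat_lit 0xd19f93d60000000089d9b094)
 (.cons 64 (nat_lit 0xbf59f3d682c11caa)
 .nil)))))))))))))
noncomputable def a361 : Net := (.cons 64 (nat_lit 0xa3977c1877209a4c)
 (.cons 32 (nat_lit 0x5a6835d90000000062c0f808)
 (.cons 16 (nat_lit 0x917a0000b137000029880000cd96)
 (.cons 8 (nat_lit 0xd1002400b600460052004e00cc00a6)
 (.cons 4 (nat_lit 0x40d0908020c02050004020808010600)
 (.cons 2 (nat_lit 0x1031101001001022300302010232102)
 (.cons 1 (nat_lit 0x1441404100101014114044104044440)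
 (.cons 2 (nat_lit 0x2022002000202002220020000022200)
 (.cons 4 (nat_lit 0xe0c0402000e00000006020a0400000c)
 (.cons 8 (nat_lit 0x9800a000a4004c003a00e4004c00ee)
 (.cons 16 (nat_lit 0x88a400003120000069080000cdd2)
 (.cons 32 (nat_lit 0x7b6a15d4000000002ea87804)
 (.cons 64 (nat_lit 0xa3977c1f5e063a84)
 .nil)))))))))))))
noncomputable def a362 : Net := (.cons 64 (nat_lit 0x12328a968804c9c4)
 (.cons 32 (nat_lit 0x33b9964400000000716bef2a)
 (.cons 16 (nat_lit 0x84300000cdfc000018ea0000c11e)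
 (.cons 8 (nat_lit 0x10000800b600ae007000a2000b00d0)
 (.cons 4 (nat_lit 0x8090a0f05080604040a0b0c060d0006)
 (.cons 2 (nat_lit 0x1220020012000310122102323010110)
 (.cons 1 (nat_lit 0x14101001401000444054040144440044)
 (.cons 2 (nat_lit 0x202000202000020002000222020002)
 (.cons 4 (nat_lit 0x8000a000e000008040a04000008000a)
 (.cons 8 (nat_lit 0x10001200bc00cc007000e800400050)
 (.cons 16 (nat_lit 0x84a8000047d8000050ca0000c052)
 (.cons 32 (nat_lit 0x31b916460000000078abfa20)
 (.cons 64 (nat_lit 0x12328a98c1c405d4)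
 .nil)))))))))))))
noncomputable def a363 : Net := (.cons 64 (nat_lit 0xc0606c4cf2ae5cfa)
 (.cons 32 (nat_lit 0x8f6691900000000b2ab65ee)
 (.cons 16 (nat_lit 0x48ca0000d7a20000914c0000120c)
 (.cons 8 (nat_lit 0x3c00d7006800a9003800e000860090)
 (.cons 4 (nat_lit 0x800090400040f0a0b06090108000804)
 (.cons 2 (nat_lit 0x30020201022131002201013302032210)
 (.cons 1 (nat_lit 0x40001000140141411441054450051000)
 (.cons 2 (nat_lit 0x20002000000002000)
 (.cons 4 (nat_lit 0xc0002040006080a00000a000a040804)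
 (.cons 8 (nat_lit 0x7400d2002a0080001c00c400800090)
 (.cons 16 (nat_lit 0xd80000d3a20000a5f00000120c)
 (.cons 32 (nat_lit 0x88f66d5000000000b32976e0)
 (.cons 64 (nat_lit 0xc0606c48d4af1b7a)
 .nil)))))))))))))
noncomputable def a364 : Net := (.cons 64 (nat_lit 0xb623fcd694855942)
 (.cons 32 (nat_lit 0x62521820000000000c00a00)
 (.cons 16 (nat_lit 0x943d0000d6d200000b840000645c)
 (.cons 8 (nat_lit 0x9600a70073003e0058008900850040)
 (.cons 4 (nat_lit 0x20d0d040a02020e0500080a0c050f06)
 (.cons 2 (nat_lit 0x100001302220330200002113321002)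
 (.cons 1 (nat_lit 0x11100115050040404000144400440)
 (.cons 2 (nat_lit 0x22000200000020200000002000200)
 (.cons 4 (nat_lit 0x400040e0808040400000a00040a0c)
 (.cons 8 (nat_lit 0x80004200d200940058008000800020)
 (.cons 16 (nat_lit 0x243e0000b8f200000b8400007158)
 (.cons 32 (nat_lit 0x3007d5500000000000c00a00)
 (.cons 64 (nat_lit 0xb623fcd6eaa8c960)
 .nil)))))))))))))
noncomputable def a365 : Net := (.cons 64 (nat_lit 0xc5650f5c0388e172)
 (.cons 32 (nat_lit 0xda20dc98000000003ce03090)
 (.cons 16 (nat_lit 0x51710000e7510000e07e000030a6)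
 (.cons 8 (nat_lit 0xc001a00470082003200e200c80018)
 (.cons 4 (nat_lit 0x90d060702080e01040e02020b0e0802)
 (.cons 2 (nat_lit 0x13202101212220320032300022210020)
 (.cons 1 (nat_lit 0x4104015410140114000100111010454)
 (.cons 2 (nat_lit 0x200000200200220000200020000000)
 (.cons 4 (nat_lit 0x808020004000c0800040002000e0802)
 (.cons 8 (nat_lit 0x1800d6006400c2002000c200400010)
 (.cons 16 (nat_lit 0x4a340000e3000000c05e000040a4)
 (.cons 32 (nat_lit 0x9b01d0da000000001e621090)
 (.cons 64 (nat_lit 0xc5650f5f63a92532)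
 .nil)))))))))))))
noncomputable def a366 : Net := (.cons 64 (nat_lit 0x50001954d4840800)
 (.cons 32 (nat_lit 0xd0e4a0000000009ba70000)
 (.cons 16 (nat_lit 0x55500000f9000000c0840000a440)
 (.cons 8 (nat_lit 0x840098002600b200c80026002c00c2)
 (.cons 4 (nat_lit 0x4040c040000040e040e00080a0a0002)
 (.cons 2 (nat_lit 0x21002003000203012220220000230010)
 (.cons 1 (nat_lit 0x10000455140105001414040100054500)
 (.cons 2 (nat_lit 0x20000000000200002220020000000000)
 (.cons 4 (nat_lit 0x4000c0400000404040c0000000a0000)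
 (.cons 8 (nat_lit 0x840098002400a200c80026002c00c2)
 (.cons 16 (nat_lit 0x55400000f9000000c0840000a440)
 (.cons 32 (nat_lit 0xd0e4a0000000009aa70000)
 (.cons 64 (nat_lit 0x50001954d4840800)
 .nil)))))))))))))
noncomputable def a367 : Net := (.cons 64 (nat_lit 0xdd137d4b7f38580e)
 (.cons 32 (nat_lit 0xc1ab9334000000002e1404a4)
 (.cons 16 (nat_lit 0x7c1f0000204e00008e200000d88c)
 (.cons 8 (nat_lit 0xce002500710019000c001800450018)
 (.cons 4 (nat_lit 0xd0707010c0302080a000c060c020406)
 (.cons 2 (nat_lit 0x22132301012201202210302022000222)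
 (.cons 1 (nat_lit 0x41011005044101150040104154011504)
 (.cons 2 (nat_lit 0x20000000002000200020202202022002)
 (.cons 4 (nat_lit 0xc0204040c06060000040c0400080e04)
 (.cons 8 (nat_lit 0xe2002e0070001c0088001c00040098)
 (.cons 16 (nat_lit 0xf5040000614e00008c1400008be0)
 (.cons 32 (nat_lit 0xcaaaa70000000002e788480)
 (.cons 64 (nat_lit 0xdd137d41afbf1044)
 .nil)))))))))))))
noncomputable def a368 : Net := (.cons 64 (nat_lit 0x8913a30d0634cfa6)
 (.cons 32 (nat_lit 0xe63ab12b00000000ff788426)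
 (.cons 16 (nat_lit 0xd60b0000f4d70000166e00002446)
 (.cons 8 (nat_lit 0x23002d000e008f00ac009c00840082)
 (.cons 4 (nat_lit 0x10208000a000b0b020e04010c0c0404)
 (.cons 2 (nat_lit 0x2022103230121302010102200200330)
 (.cons 1 (nat_lit 0x11010104414410401144441104014044)
 (.cons 2 (nat_lit 0x202220000002020020202002020)
 (.cons 4 (nat_lit 0x8000c020808020a0a0200000c080402)
 (.cons 8 (nat_lit 0x80008008a009c0048004800a000d2)
 (.cons 16 (nat_lit 0xf500000074c400008a0200005488)
 (.cons 32 (nat_lit 0xef3a922c00000000ff90d482)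
 (.cons 64 (nat_lit 0x8913a30f7059b1ea)
 .nil)))))))))))))
noncomputable def a369 : Net := (.cons 64 (nat_lit 0xffffd00000000000)
 (.cons 32 (nat_lit 0xd1e5281600000000ff800000)
 (.cons 16 (nat_lit 0xd00200001b10000039560000347c)
 (.cons 8 (nat_lit 0xb6007a00a000a100d60009002200ca)
 (.cons 4 (nat_lit 0xc090a0b080e01010c000d0a060f040e)
 (.cons 2 (nat_lit 0x11012012332033211002100210230120)
 (.cons 1 (nat_lit 0x14441044404101144144400110140444)
 (.cons 2 (nat_lit 0x2200002200002220202000000220022)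
 (.cons 4 (nat_lit 0x6020a0e0c00080004040c0a040a0400)
 (.cons 8 (nat_lit 0xb80062006400fa009600200036000a)
 (.cons 16 (nat_lit 0x800008d5c000030d60000347c)
 (.cons 32 (nat_lit 0xdd9c281800000000ff800000)
 (.cons 64 (nat_lit 0xffffd00000000000)
 .nil)))))))))))))
noncomputable def a370 : Net := (.cons 64 (nat_lit 0xfffff00000000000)
 (.cons 32 (nat_lit 0x6f93d38700000000f7800000)
 (.cons 16 (nat_lit 0x7260000076c30000d29000006808)
 (.cons 8 (nat_lit 0x37009d004f00700090000a004000b0)
 (.cons 4 (nat_lit 0x300060f0f020907000d0e080e0008)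
 (.cons 2 (nat_lit 0x1230023200120003000200020000230)
 (.cons 1 (nat_lit 0x40150414144144415000140440411410)
 (.cons 2 (nat_lit 0x200002200002200000200000002220)
 (.cons 4 (nat_lit 0x4000804040e0c0c04000c0008080008)
 (.cons 8 (nat_lit 0xa400fc004200b0009000c8004000b4)
 (.cons 16 (nat_lit 0x72620000668c0000d29000006808)
 (.cons 32 (nat_lit 0x1dc0a38400000000f7800000)
 (.cons 64 (nat_lit 0xfffff00000000000)
 .nil)))))))))))))
noncomputable def a371 : Net := (.cons 64 (nat_lit 0xffffe00000000000)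
 (.cons 32 (nat_lit 0xa7b3e07600000000ff800000)
 (.cons 16 (nat_lit 0x69130000ea9200001bc200008c20)
 (.cons 8 (nat_lit 0x9600580093007f0086000d00460088)
 (.cons 4 (nat_lit 0x60f00060e0709000a00010804000004)
 (.cons 2 (nat_lit 0x12233203020002020002012302032230)
 (.cons 1 (nat_lit 0x54104100054100144044011100014140)
 (.cons 2 (nat_lit 0x2000200000200222002002200020020)
 (.cons 4 (nat_lit 0x200000c0c00040004000008000004)
 (.cons 8 (nat_lit 0xd20010001400720044001800460088)
 (.cons 16 (nat_lit 0xa9620000f61000001bc200008c60)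
 (.cons 32 (nat_lit 0x69bd207c00000000ff800000)
 (.cons 64 (nat_lit 0xffffe00000000000)
 .nil)))))))))))))
noncomputable def a372 : Net := (.cons 64 (nat_lit 0xf000000000000000)
 (.cons 32 (nat_lit 0xf800dc8c00000000f0000000)
 (.cons 16 (nat_lit 0x848c000055e80000f400000048a8)
 (.cons 8 (nat_lit 0xe000d800a300bf001c00c000490018)
 (.cons 4 (nat_lit 0xc0c000b00010c070c070f09000c0a00)
 (.cons 2 (nat_lit 0x30200002003110012311300001032100)
 (.cons 1 (nat_lit 0x10400041000514100441041405010510)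
 (.cons 2 (nat_lit 0x20200022000022000202000200000000)
 (.cons 4 (nat_lit 0xc00000a000806020c080c0804000000)
 (.cons 8 (nat_lit 0x6000d8008200ba00b0008000040008)
 (.cons 16 (nat_lit 0x848c0000569e0000e000000048e8)
 (.cons 32 (nat_lit 0x9800dc8800000000f0000000)
 (.cons 64 (nat_lit 0xf000000000000000)
 .nil)))))))))))))
noncomputable def a373 : Net := (.cons 64 (nat_lit 0xfefff00000000000)
 (.cons 32 (nat_lit 0xe7bc902200000000ac800000)
 (.cons 16 (nat_lit 0x1bc300006094000028c20000f6cc)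
 (.cons 8 (nat_lit 0xc40049001a005300c8008900d10000)
 (.cons 4 (nat_lit 0x405060e0a020d060c0008020a02040c)
 (.cons 2 (nat_lit 0x20030201322300000002030101010120)
 (.cons 1 (nat_lit 0x40111541041144140400040504100110)
 (.cons 2 (nat_lit 0x20202000002222200000000000200020)
 (.cons 4 (nat_lit 0x40004040c00000208080a0208060408)
 (.cons 8 (nat_lit 0xe0002a0038005200c800ac00f40000)
 (.cons 16 (nat_lit 0xdbc000007214000028c20000b784)
 (.cons 32 (nat_lit 0x71bcc02200000000ac800000)
 (.cons 64 (nat_lit 0xfefff00000000000)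
 .nil)))))))))))))
noncomputable def a374 : Net := (.cons 64 (nat_lit 0xfffff00000000000)
 (.cons 32 (nat_lit 0x5db97f1d0000000096800000)
 (.cons 16 (nat_lit 0x4e1600001e9300008730000059f8)
 (.cons 8 (nat_lit 0xe500a3002000ce0000004600130020)
 (.cons 4 (nat_lit 0xe0608090102060f0100000807050408)
 (.cons 2 (nat_lit 0x23320223000202000100020202222320)
 (.cons 1 (nat_lit 0x50044404400514400010440414114400)
 (.cons 2 (nat_lit 0x200000002200020020000222200)
 (.cons 4 (nat_lit 0xc080c00000202040000080804000208)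
 (.cons 8 (nat_lit 0x5e00a60020004600000040000a0004)
 (.cons 16 (nat_lit 0x61800005e9000008530000039b0)
 (.cons 32 (nat_lit 0x5385ef140000000096800000)
 (.cons 64 (nat_lit 0xfffff00000000000)
 .nil)))))))))))))
noncomputable def a375 : Net := (.cons 64 (nat_lit 0xf9aa00000000000)
 (.cons 32 (nat_lit 0xd16708000000000066803000)
 (.cons 16 (nat_lit 0x96000000001000007a8400009904)
 (.cons 8 (nat_lit 0x810096008000d700c00070008a0040)
 (.cons 4 (nat_lit 0x80808080a0200080c0c040e000a080c)
 (.cons 2 (nat_lit 0x2332220000020000202020210000320)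
 (.cons 1 (nat_lit 0x41050415051000105001140101050514)
 (.cons 2 (nat_lit 0x2000220000000000002020200000020)
 (.cons 4 (nat_lit 0x80808080a0200000c080408000a080c)
 (.cons 8 (nat_lit 0x960080009000c0007000820040)
 (.cons 16 (nat_lit 0x96000000001000003a8000009904)
 (.cons 32 (nat_lit 0xd16708000000000066803000)
 (.cons 64 (nat_lit 0xf9aa00000000000)
 .nil)))))))))))))
noncomputable def a376 : Net := (.cons 64 (nat_lit 0xf000000000000000)
 (.cons 32 (nat_lit 0xf8805c2400000000f0000000)
 (.cons 16 (nat_lit 0x842c000090fe0000f000000048e8)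
 (.cons 8 (nat_lit 0x4000d8006500c500a4008000cb0008)
 (.cons 4 (nat_lit 0xc080005040e05000d00030700040000)
 (.cons 2 (nat_lit 0x10200022001213223102032003022200)
 (.cons 1 (nat_lit 0x40440014010404100141404104050510)
 (.cons 2 (nat_lit 0x20000202000000000000000000)
 (.cons 4 (nat_lit 0xc00000400020000080200060c000a00)
 (.cons 8 (nat_lit 0x6000d800a000c4000800c000860018)
 (.cons 16 (nat_lit 0x842c000090fc0000f000000048a8)
 (.cons 32 (nat_lit 0x98805c2000000000f0000000)
 (.cons 64 (nat_lit 0xf000000000000000)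
 .nil)))))))))))))
noncomputable def a377 : Net := (.cons 64 (nat_lit 0xf6f91a785854131b)
 (.cons 32 (nat_lit 0xf84b057d00000000a92386ff)
 (.cons 16 (nat_lit 0xf3fe00000d9c000027730000adc2)
 (.cons 8 (nat_lit 0x3800aa00a800050024008d00d40015)
 (.cons 4 (nat_lit 0xd000406080300030e06020801000801)
 (.cons 2 (nat_lit 0x10021000200100332230020220320000)
 (.cons 1 (nat_lit 0x10011414400410454041050004144044)
 (.cons 2 (nat_lit 0x20000020000200202020000000200002)
 (.cons 4 (nat_lit 0xe00060c000602080400020800000808)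
 (.cons 8 (nat_lit 0x240008001000200000008c00500010)
 (.cons 16 (nat_lit 0xedae0000bf18000006540000a9ca)
 (.cons 32 (nat_lit 0x6e6a1d0600000000a92102f0)
 (.cons 64 (nat_lit 0xf6f91a7f4d943520)
 .nil)))))))))))))
noncomputable def a378 : Net := (.cons 64 (nat_lit 0x2c5dacf691692e6b)
 (.cons 32 (nat_lit 0x6942983c00000000ecb84098)
 (.cons 16 (nat_lit 0x60ca0000e8ec00006a860000c801)
 (.cons 8 (nat_lit 0xc4005000880024007200600040000f)
 (.cons 4 (nat_lit 0x2010a010208020c0908080b01040700)
 (.cons 2 (nat_lit 0x3021222020322330232201002223121)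
 (.cons 1 (nat_lit 0x40044044444101111114114140041540)
 (.cons 2 (nat_lit 0x22022202000220202000022020)
 (.cons 4 (nat_lit 0x6000200040408000804080800040800)
 (.cons 8 (nat_lit 0xc4007000cc00a2007600600040002c)
 (.cons 16 (nat_lit 0x64dc0000cec8000028040000c800)
 (.cons 32 (nat_lit 0x450e388c00000000acb85392)
 (.cons 64 (nat_lit 0x2c5dacf591e8493c)
 .nil)))))))))))))
noncomputable def a379 : Net := (.cons 64 (nat_lit 0x320008a4a0bba520)
 (.cons 32 (nat_lit 0xe9f9c5a300000000fdce3ee9)
 (.cons 16 (nat_lit 0x351300002c400000942f00007205)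
 (.cons 8 (nat_lit 0x850038004a009c008100dc0062004a)
 (.cons 4 (nat_lit 0x206090006000e010c030b0d04040003)
 (.cons 2 (nat_lit 0x22000203020032013012110232230221)
 (.cons 1 (nat_lit 0x1054111140440115004411150044040)
 (.cons 2 (nat_lit 0x2002222020220000002202000000020)
 (.cons 4 (nat_lit 0xa0800080600060004040c02060c0006)
 (.cons 8 (nat_lit 0x40000004800ba00e8004600d0004e)
 (.cons 16 (nat_lit 0xf41a00002e4000009cd00000b404)
 (.cons 32 (nat_lit 0xd9f9c58c000000007c6a2ae8)
 (.cons 64 (nat_lit 0x320008a4a830af30)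
 .nil)))))))))))))
noncomputable def a380 : Net := (.cons 64 (nat_lit 0xc5650f5c0388e172)
 (.cons 32 (nat_lit 0xda20dc98000000003ce03090)
 (.cons 16 (nat_lit 0x51710000e7510000e07e000030a6)
 (.cons 8 (nat_lit 0xc001a00470082003200e200c80018)
 (.cons 4 (nat_lit 0x90d060702080e01040e02020b0e0802)
 (.cons 2 (nat_lit 0x13202101212220320032300022210020)
 (.cons 1 (nat_lit 0x4104015410140114000100111010454)
 (.cons 2 (nat_lit 0x200000200200220000200020000000)
 (.cons 4 (nat_lit 0x808020004000c0800040002000e0802)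
 (.cons 8 (nat_lit 0x1800d6006400c2002000c200400010)
 (.cons 16 (nat_lit 0x4a340000e3000000c05e000040a4)
 (.cons 32 (nat_lit 0x9b01d0da000000001e621090)
 (.cons 64 (nat_lit 0xc5650f5f63a92532)
 .nil)))))))))))))
noncomputable def a381 : Net := (.cons 64 (nat_lit 0x703011c50294468f)
 (.cons 32 (nat_lit 0xa936d99500000000fe36b0eb)
 (.cons 16 (nat_lit 0x81b00000507b0000803600004b17)
 (.cons 8 (nat_lit 0x3800c30014000c007b001000c70028)
 (.cons 4 (nat_lit 0xb00020f00060c000808050602)
 (.cons 2 (nat_lit 0x221212002123012013221302220003)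
 (.cons 1 (nat_lit 0x40140040005514104111140141144000)
 (.cons 2 (nat_lit 0x20000000002200000200002202000)
 (.cons 4 (nat_lit 0xa000a00080c000000020004000c00)
 (.cons 8 (nat_lit 0x2800ca001400080040008600040020)
 (.cons 16 (nat_lit 0x9a2000070920000b04800004d1a)
 (.cons 32 (nat_lit 0xa936d91600000000f17a3ef8)
 (.cons 64 (nat_lit 0x703011ca138c0234)
 .nil)))))))))))))
noncomputable def a382 : Net := (.cons 64 (nat_lit 0x1000040a5ebc4320)
 (.cons 32 (nat_lit 0x10000000000000a000c000)
 (.cons 16 (nat_lit 0x1010000082120000309000008714)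
 (.cons 8 (nat_lit 0x4007800e9009e00bc00800001)
 (.cons 4 (nat_lit 0x401080902040203040e08010000)
 (.cons 2 (nat_lit 0x1002003122020100302330022030)
 (.cons 1 (nat_lit 0x4514110000011540054001454)
 (.cons 2 (nat_lit 0x2002020000000000000002000)
 (.cons 4 (nat_lit 0x400080602000000040408000000)
 (.cons 8 (nat_lit 0x4007800e8001600bc00800000)
 (.cons 16 (nat_lit 0x1010000002120000309000008514)
 (.cons 32 (nat_lit 0x10000000000000a000c000)
 (.cons 64 (nat_lit 0x1000040a5ebc4320)
 .nil)))))))))))))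
noncomputable def a383 : Net := (.cons 64 (nat_lit 0x701004c348000500)
 (.cons 32 (nat_lit 0x7d0a12900000000067415400)
 (.cons 16 (nat_lit 0x400000060c80000f0000000bc48)
 (.cons 8 (nat_lit 0x2800160034000000ec00a400f80060)
 (.cons 4 (nat_lit 0x90a04010009000a0006060308010e00)
 (.cons 2 (nat_lit 0x201000220001023103012022200002)
 (.cons 1 (nat_lit 0x40100040040040010040001140000000)
 (.cons 2 (nat_lit 0x200000020000020000000220000000)
 (.cons 4 (nat_lit 0x8080400000000080006040808000000)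
 (.cons 8 (nat_lit 0x2800140034000000ec00a000f00060)
 (.cons 16 (nat_lit 0x40880000f0000000bc48)
 (.cons 32 (nat_lit 0x7d0a12900000000067415400)
 (.cons 64 (nat_lit 0x701004c348000500)
 .nil)))))))))))))
noncomputable def a384 : Net := (.cons 64 (nat_lit 0x800084e1c44d2230)
 (.cons 32 (nat_lit 0x44034940000000083a09800)
 (.cons 16 (nat_lit 0x80c000008de00000200000004d44)
 (.cons 8 (nat_lit 0x9600c8002e00e0001c0030002f)
 (.cons 4 (nat_lit 0x800060d0600000a04010e000a060c0e)
 (.cons 2 (nat_lit 0x1020302023220002200221010222)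
 (.cons 1 (nat_lit 0x4400044540405011040410010101414)
 (.cons 2 (nat_lit 0x20000000020000200020002202)
 (.cons 4 (nat_lit 0x800040c0600000a0000060008060e0c)
 (.cons 8 (nat_lit 0x9600c8002e00e0000c00300050)
 (.cons 16 (nat_lit 0x80c000000dc00000200000004d44)
 (.cons 32 (nat_lit 0x44034940000000083209800)
 (.cons 64 (nat_lit 0x800084e1c44d2230)
 .nil)))))))))))))
noncomputable def a385 : Net := (.cons 64 (nat_lit 0xaf6e5fbd3379909d)
 (.cons 32 (nat_lit 0x88234b2a000000003aa55850)
 (.cons 16 (nat_lit 0xbf570000498c0000aa580000116b)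
 (.cons 8 (nat_lit 0x400c100580000009c007a006d008c)
 (.cons 4 (nat_lit 0x10206080300030d0405000900050e08)
 (.cons 2 (nat_lit 0x1032022013000021021003222323003)
 (.cons 1 (nat_lit 0x4010145410414151000001441141105)
 (.cons 2 (nat_lit 0x200202000000000202220000)
 (.cons 4 (nat_lit 0x208020e0c0404000800040c0c)
 (.cons 8 (nat_lit 0x12004a0066006c00d4007800ac0008)
 (.cons 16 (nat_lit 0xb4760000ac980000c25c000094a0)
 (.cons 32 (nat_lit 0xf2d0228000000003a35f81a)
 (.cons 64 (nat_lit 0xaf6e5fbee951c886)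
 .nil)))))))))))))
noncomputable def a386 : Net := (.cons 64 (nat_lit 0xb42480d0f62c408)
 (.cons 32 (nat_lit 0xa842010a00000000748880b0)
 (.cons 16 (nat_lit 0x620000002722000044900000281a)
 (.cons 8 (nat_lit 0x400008000000d100800034006e00c6)
 (.cons 4 (nat_lit 0x804080000040f040009060008000800)
 (.cons 2 (nat_lit 0x2022000200233010022200212202023)
 (.cons 1 (nat_lit 0x41040104440101440011010450440450)
 (.cons 2 (nat_lit 0x2020000200202000022000200200000)
 (.cons 4 (nat_lit 0x804080000000a080000020000000808)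
 (.cons 8 (nat_lit 0x4000080000001000800024001c00d4)
 (.cons 16 (nat_lit 0x620000002700000044100000fa20)
 (.cons 32 (nat_lit 0xa842010a00000000748880b0)
 (.cons 64 (nat_lit 0xb42480c0f62c408)
 .nil)))))))))))))
noncomputable def a387 : Net := (.cons 64 (nat_lit 0xe00006e480020040)
 (.cons 32 (nat_lit 0xd021d88200000000bc820042)
 (.cons 16 (nat_lit 0x6202000043e00000f0020000001a)
 (.cons 8 (nat_lit 0x20006000380008005600900000003a)
 (.cons 4 (nat_lit 0x2000008020e04000a04080d00010e02)
 (.cons 2 (nat_lit 0x20000020222202002100201312000220)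
 (.cons 1 (nat_lit 0x10015404104401411011004104044110)
 (.cons 2 (nat_lit 0x20000000202202002000000202000220)
 (.cons 4 (nat_lit 0x8020000000800080000000c00)
 (.cons 8 (nat_lit 0x200060003800080056009000000018)
 (.cons 16 (nat_lit 0x2202000041e00000f00000000018)
 (.cons 32 (nat_lit 0xd021d88200000000bc002040)
 (.cons 64 (nat_lit 0xe00006e480020040)
 .nil)))))))))))))
noncomputable def a388 : Net := (.cons 64 (nat_lit 0xa10406ff14675289)
 (.cons 32 (nat_lit 0xd0f8a48200000000e039a63a)
 (.cons 16 (nat_lit 0x1860000eb140000fd1300001b69)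
 (.cons 8 (nat_lit 0x3400a700400009000b007a004f00c1)
 (.cons 4 (nat_lit 0x80000040005020c0901020300010b00)
 (.cons 2 (nat_lit 0x10222121021022232012221112302202)
 (.cons 1 (nat_lit 0x14500001000110444510100105105040)
 (.cons 2 (nat_lit 0x20220000200000200020)
 (.cons 4 (nat_lit 0x802000800000002060a080200000200)
 (.cons 8 (nat_lit 0x44000200400006007a0040000a0060)
 (.cons 16 (nat_lit 0x1960000e1140000d50a00000bea)
 (.cons 32 (nat_lit 0xd1f8a48200000000fad35730)
 (.cons 64 (nat_lit 0xa10406f7156278f0)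
 .nil)))))))))))))
noncomputable def a389 : Net := (.cons 64 (nat_lit 0x703011c50294468f)
 (.cons 32 (nat_lit 0xa936d99500000000fe36b0eb)
 (.cons 16 (nat_lit 0x81b00000507b0000803600004b17)
 (.cons 8 (nat_lit 0x3800c30014000c007b001000c70028)
 (.cons 4 (nat_lit 0xb00020f00060c000808050602)
 (.cons 2 (nat_lit 0x221212002123012013221302220003)
 (.cons 1 (nat_lit 0x40140040005514104111140141144000)
 (.cons 2 (nat_lit 0x20000000002200000200002202000)
 (.cons 4 (nat_lit 0xa000a00080c000000020004000c00)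
 (.cons 8 (nat_lit 0x2800ca001400080040008600040020)
 (.cons 16 (nat_lit 0x9a2000070920000b04800004d1a)
 (.cons 32 (nat_lit 0xa936d91600000000f17a3ef8)
 (.cons 64 (nat_lit 0x703011ca138c0234)
 .nil)))))))))))))
noncomputable def a390 : Net := (.cons 64 (nat_lit 0x701004c348000500)
 (.cons 32 (nat_lit 0x7d0a12900000000067415400)
 (.cons 16 (nat_lit 0x400000060c80000f0000000bc48)
 (.cons 8 (nat_lit 0x2800160034000000ec00a400f80060)
 (.cons 4 (nat_lit 0x90a04010009000a0006060308010e00)
 (.cons 2 (nat_lit 0x201000220001023103012022200002)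
 (.cons 1 (nat_lit 0x40100040040040010040001140000000)
 (.cons 2 (nat_lit 0x200000020000020000000220000000)
 (.cons 4 (nat_lit 0x8080400000000080006040808000000)
 (.cons 8 (nat_lit 0x2800140034000000ec00a000f00060)
 (.cons 16 (nat_lit 0x40880000f0000000bc48)
 (.cons 32 (nat_lit 0x7d0a12900000000067415400)
 (.cons 64 (nat_lit 0x701004c348000500)
 .nil)))))))))))))
noncomputable def a391 : Net := (.cons 64 (nat_lit 0x10010391c8648244)
 (.cons 32 (nat_lit 0x940a4600000000021301408)
 (.cons 16 (nat_lit 0x2140000098000000a0100000ff4a)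
 (.cons 8 (nat_lit 0x4800800046000800c400b4005e003d)
 (.cons 4 (nat_lit 0x2000802020608020a000c030c040606)
 (.cons 2 (nat_lit 0x10020332002022002322302022231002)
 (.cons 1 (nat_lit 0x1010504044510100040501104000414)
 (.cons 2 (nat_lit 0x20002002020000020000202000200)
 (.cons 4 (nat_lit 0x20008020006080200000c080c040606)
 (.cons 8 (nat_lit 0x4800800046000800c400b4004a0054)
 (.cons 16 (nat_lit 0x2140000098000000a01000007f4a)
 (.cons 32 (nat_lit 0x940a4600000000021301408)
 (.cons 64 (nat_lit 0x10010391c8648244)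
 .nil)))))))))))))
noncomputable def a392 : Net := (.cons 64 (nat_lit 0x800084e1c44d2230)
 (.cons 32 (nat_lit 0x44034940000000083a09800)
 (.cons 16 (nat_lit 0x80c000008de00000200000004d44)
 (.cons 8 (nat_lit 0x9600c8002e00e0001c0030002f)
 (.cons 4 (nat_lit 0x800060d0600000a04010e000a060c0e)
 (.cons 2 (nat_lit 0x1020302023220002200221010222)
 (.cons 1 (nat_lit 0x4400044540405011040410010101414)
 (.cons 2 (nat_lit 0x20000000020000200020002202)
 (.cons 4 (nat_lit 0x800040c0600000a0000060008060e0c)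
 (.cons 8 (nat_lit 0x9600c8002e00e0000c00300050)
 (.cons 16 (nat_lit 0x80c000000dc00000200000004d44)
 (.cons 32 (nat_lit 0x44034940000000083209800)
 (.cons 64 (nat_lit 0x800084e1c44d2230)
 .nil)))))))))))))
noncomputable def a393 : Net := (.cons 64 (nat_lit 0x701004c348000500)
 (.cons 32 (nat_lit 0x7d0a12900000000067415400)
 (.cons 16 (nat_lit 0x400000060c80000f0000000bc48)
 (.cons 8 (nat_lit 0x2800160034000000ec00a400f80060)
 (.cons 4 (nat_lit 0x90a04010009000a0006060308010e00)
 (.cons 2 (nat_lit 0x201000220001023103012022200002)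
 (.cons 1 (nat_lit 0x40100040040040010040001140000000)
 (.cons 2 (nat_lit 0x200000020000020000000220000000)
 (.cons 4 (nat_lit 0x8080400000000080006040808000000)
 (.cons 8 (nat_lit 0x2800140034000000ec00a000f00060)
 (.cons 16 (nat_lit 0x40880000f0000000bc48)
 (.cons 32 (nat_lit 0x7d0a12900000000067415400)
 (.cons 64 (nat_lit 0x701004c348000500)
 .nil)))))))))))))
noncomputable def a394 : Net := (.cons 64 (nat_lit 0x886a46a3d3b3d282)
 (.cons 32 (nat_lit 0xcbf4c08400000000a0b825d9)
 (.cons 16 (nat_lit 0x48a0000037800000258e00006118)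
 (.cons 8 (nat_lit 0x38004a004200280048005800ca00e0)
 (.cons 4 (nat_lit 0x904080403000c06020003000809020c)
 (.cons 2 (nat_lit 0x2000021202230210220100010020022)
 (.cons 1 (nat_lit 0x50000041140150441441410410440141)
 (.cons 2 (nat_lit 0x220000222000020020020022)
 (.cons 4 (nat_lit 0x8040008000000020000080208)
 (.cons 8 (nat_lit 0x38004c0060000c005a0048009000e0)
 (.cons 16 (nat_lit 0xca2e000037880000959a00006018)
 (.cons 32 (nat_lit 0xc396c60c00000000a0a905c0)
 (.cons 64 (nat_lit 0x886a46a1c3b2d28a)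
 .nil)))))))))))))
noncomputable def a395 : Net := (.cons 64 (nat_lit 0x8cb0fc3d9e2b98cb)
 (.cons 32 (nat_lit 0xb44a7f8200000000c1e037b5)
 (.cons 16 (nat_lit 0x59000000c3c00000d4e6000060de)
 (.cons 8 (nat_lit 0xb800820044003d00cf00ab0043001f)
 (.cons 4 (nat_lit 0xe0a0006080607080c000d09090e0b04)
 (.cons 2 (nat_lit 0x12002220000121211201213202211201)
 (.cons 1 (nat_lit 0x45101041000150114101014144404101)
 (.cons 2 (nat_lit 0x202002000000202200022202202200)
 (.cons 4 (nat_lit 0xe000204000604000800040e08060c04)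
 (.cons 8 (nat_lit 0x60000c0000003200e800580008005c)
 (.cons 16 (nat_lit 0x4518000047d00000c688000061d0)
 (.cons 32 (nat_lit 0xb84a47b80000000090e837f6)
 (.cons 64 (nat_lit 0x8cb0fc3cdaece604)
 .nil)))))))))))))
noncomputable def a396 : Net := (.cons 64 (nat_lit 0x440c49e067ffb72)
 (.cons 32 (nat_lit 0x20dd039600000000a5376b3a)
 (.cons 16 (nat_lit 0xc7cc0000c82400004e2600005b86)
 (.cons 8 (nat_lit 0x28000400580038001a00580099008d)
 (.cons 4 (nat_lit 0x60300080408060e0a000a06020e0a0c)
 (.cons 2 (nat_lit 0x2030012020212210203020320213122)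
 (.cons 1 (nat_lit 0x41040000441444011014140411150040)
 (.cons 2 (nat_lit 0x22020000022202002002220202200000)
 (.cons 4 (nat_lit 0x202000c000a060c00000e0602060800)
 (.cons 8 (nat_lit 0xa80000005800880000000c00a000c6)
 (.cons 16 (nat_lit 0xc3d00000c04400002e18000071ae)
 (.cons 32 (nat_lit 0x249d831400000000772f4318)
 (.cons 64 (nat_lit 0x440c498e60949b0)
 .nil)))))))))))))
noncomputable def a397 : Net := (.cons 64 (nat_lit 0x83b59e35ecf3fccb)
 (.cons 32 (nat_lit 0x2e4b00d00000000a0a5f5b3)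
 (.cons 16 (nat_lit 0x16b50000f05a00007d0e00002758)
 (.cons 8 (nat_lit 0x70000a006e0026008a000000120095)
 (.cons 4 (nat_lit 0x2000204080108000a0a0008040a030c)
 (.cons 2 (nat_lit 0x12010222110112231201203303000002)
 (.cons 1 (nat_lit 0x44000051540144141104400101100144)
 (.cons 2 (nat_lit 0x2000002020202002202000000200202)
 (.cons 4 (nat_lit 0x80c020c04080a0e0400060a0a08)
 (.cons 8 (nat_lit 0x60000800aa002800ce007c00120094)
 (.cons 16 (nat_lit 0x16b00000f0760000096e00002e10)
 (.cons 32 (nat_lit 0x341be000000000080a7d530)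
 (.cons 64 (nat_lit 0x83b59e3afdebb870)
 .nil)))))))))))))
noncomputable def a398 : Net := (.cons 64 (nat_lit 0x701004c348000500)
 (.cons 32 (nat_lit 0x7d0a12900000000067415400)
 (.cons 16 (nat_lit 0x400000060c80000f0000000bc48)
 (.cons 8 (nat_lit 0x2800160034000000ec00a400f80060)
 (.cons 4 (nat_lit 0x90a04010009000a0006060308010e00)
 (.cons 2 (nat_lit 0x201000220001023103012022200002)
 (.cons 1 (nat_lit 0x40100040040040010040001140000000)
 (.cons 2 (nat_lit 0x200000020000020000000220000000)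
 (.cons 4 (nat_lit 0x8080400000000080006040808000000)
 (.cons 8 (nat_lit 0x2800140034000000ec00a000f00060)
 (.cons 16 (nat_lit 0x40880000f0000000bc48)
 (.cons 32 (nat_lit 0x7d0a12900000000067415400)
 (.cons 64 (nat_lit 0x701004c348000500)
 .nil)))))))))))))
noncomputable def a399 : Net := (.cons 64 (nat_lit 0x703011c50294468f)
 (.cons 32 (nat_lit 0xa936d99500000000fe36b0eb)
 (.cons 16 (nat_lit 0x81b00000507b0000803600004b17)
 (.cons 8 (nat_lit 0x3800c30014000c007b001000c70028)
 (.cons 4 (nat_lit 0xb00020f00060c000808050602)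
 (.cons 2 (nat_lit 0x221212002123012013221302220003)
 (.cons 1 (nat_lit 0x40140040005514104111140141144000)
 (.cons 2 (nat_lit 0x20000000002200000200002202000)
 (.cons 4 (nat_lit 0xa000a00080c000000020004000c00)
 (.cons 8 (nat_lit 0x2800ca001400080040008600040020)
 (.cons 16 (nat_lit 0x9a2000070920000b04800004d1a)
 (.cons 32 (nat_lit 0xa936d91600000000f17a3ef8)
 (.cons 64 (nat_lit 0x703011ca138c0234)
 .nil)))))))))))))
noncomputable def a400 : Net := (.cons 64 (nat_lit 0x800084e1c44d2230)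
 (.cons 32 (nat_lit 0x44034940000000083a09800)
 (.cons 16 (nat_lit 0x80c000008de00000200000004d44)
 (.cons 8 (nat_lit 0x9600c8002e00e0001c0030002f)
 (.cons 4 (nat_lit 0x800060d0600000a04010e000a060c0e)
 (.cons 2 (nat_lit 0x1020302023220002200221010222)
 (.cons 1 (nat_lit 0x4400044540405011040410010101414)
 (.cons 2 (nat_lit 0x20000000020000200020002202)
 (.cons 4 (nat_lit 0x800040c0600000a0000060008060e0c)
 (.cons 8 (nat_lit 0x9600c8002e00e0000c00300050)
 (.cons 16 (nat_lit 0x80c000000dc00000200000004d44)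
 (.cons 32 (nat_lit 0x44034940000000083209800)
 (.cons 64 (nat_lit 0x800084e1c44d2230)
 .nil)))))))))))))
noncomputable def a401 : Net := (.cons 64 (nat_lit 0x10010391c8648244)
 (.cons 32 (nat_lit 0x940a4600000000021301408)
 (.cons 16 (nat_lit 0x2140000098000000a0100000ff4a)
 (.cons 8 (nat_lit 0x4800800046000800c400b4005e003d)
 (.cons 4 (nat_lit 0x2000802020608020a000c030c040606)
 (.cons 2 (nat_lit 0x10020332002022002322302022231002)
 (.cons 1 (nat_lit 0x1010504044510100040501104000414)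
 (.cons 2 (nat_lit 0x20002002020000020000202000200)
 (.cons 4 (nat_lit 0x20008020006080200000c080c040606)
 (.cons 8 (nat_lit 0x4800800046000800c400b4004a0054)
 (.cons 16 (nat_lit 0x2140000098000000a01000007f4a)
 (.cons 32 (nat_lit 0x940a4600000000021301408)
 (.cons 64 (nat_lit 0x10010391c8648244)
 .nil)))))))))))))
noncomputable def a402 : Net := (.cons 64 (nat_lit 0x701004c348000500)
 (.cons 32 (nat_lit 0x7d0a12900000000067415400)
 (.cons 16 (nat_lit 0x400000060c80000f0000000bc48)
 (.cons 8 (nat_lit 0x2800160034000000ec00a400f80060)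
 (.cons 4 (nat_lit 0x90a04010009000a0006060308010e00)
 (.cons 2 (nat_lit 0x201000220001023103012022200002)
 (.cons 1 (nat_lit 0x40100040040040010040001140000000)
 (.cons 2 (nat_lit 0x200000020000020000000220000000)
 (.cons 4 (nat_lit 0x8080400000000080006040808000000)
 (.cons 8 (nat_lit 0x2800140034000000ec00a000f00060)
 (.cons 16 (nat_lit 0x40880000f0000000bc48)
 (.cons 32 (nat_lit 0x7d0a12900000000067415400)
 (.cons 64 (nat_lit 0x701004c348000500)
 .nil)))))))))))))
noncomputable def a403 : Net := (.cons 64 (nat_lit 0x920c2acd31391461)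
 (.cons 32 (nat_lit 0x20be210d000000005bc05495)
 (.cons 16 (nat_lit 0x10be00002ca10000c4d2000038d8)
 (.cons 8 (nat_lit 0x20001a00f9001800b5008f00400066)
 (.cons 4 (nat_lit 0x808030c040904050f03000108000201)
 (.cons 2 (nat_lit 0x2220021001100130023031021022010)
 (.cons 1 (nat_lit 0x40115410044041414041010110140)
 (.cons 2 (nat_lit 0x200220000022222000020020220)
 (.cons 4 (nat_lit 0x8000206080000040c02080004000804)
 (.cons 8 (nat_lit 0xa00008005800500014009e00000044)
 (.cons 16 (nat_lit 0x12bc000070e40000c44200005ce8)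
 (.cons 32 (nat_lit 0xb0b20100000000007a5155ac)
 (.cons 64 (nat_lit 0x920c2ac51b2971ec)
 .nil)))))))))))))
noncomputable def a404 : Net := (.cons 64 (nat_lit 0x541a82a58843409a)
 (.cons 32 (nat_lit 0x5312060c00000000b082ed9e)
 (.cons 16 (nat_lit 0x42880000d27100003ff300001375)
 (.cons 8 (nat_lit 0x8a0022001200c600fd007300af0005)
 (.cons 4 (nat_lit 0xe0002000a0d08000900020e0307020d)
 (.cons 2 (nat_lit 0x12000200021213200300222001220212)
 (.cons 1 (nat_lit 0x51004404541545400105411105500514)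
 (.cons 2 (nat_lit 0x2002200000020000200220200000022)
 (.cons 4 (nat_lit 0x600000002020e000c020802060a0208)
 (.cons 8 (nat_lit 0x8a002000f200f600ec005800f20020)
 (.cons 16 (nat_lit 0x40880000ca140000b6f200001304)
 (.cons 32 (nat_lit 0x5712842c000000003103d1c4)
 (.cons 64 (nat_lit 0x541a82a6704dd8b0)
 .nil)))))))))))))
noncomputable def a405 : Net := (.cons 64 (nat_lit 0x5e8550911e653004)
 (.cons 32 (nat_lit 0x4e12025000000000b12bcd82)
 (.cons 16 (nat_lit 0x1e94000078a6000009a000002f7a)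
 (.cons 8 (nat_lit 0x100098008200cc006000a800ca006c)
 (.cons 4 (nat_lit 0x4080a0e030e090c0a0b000c0c0c0004)
 (.cons 2 (nat_lit 0x2033031112320011022232020203120)
 (.cons 1 (nat_lit 0x4000450140500500100454545440041)
 (.cons 2 (nat_lit 0x2000000220000000000202020200020)
 (.cons 4 (nat_lit 0x4080a0e0c0e080c0200000c0c0c0004)
 (.cons 8 (nat_lit 0x980082004c006000a800020064)
 (.cons 16 (nat_lit 0x1e94000078a2000009a000000162)
 (.cons 32 (nat_lit 0x4e12025000000000b12bcd82)
 (.cons 64 (nat_lit 0x5e8550911e653004)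
 .nil)))))))))))))
noncomputable def a406 : Net := (.cons 64 (nat_lit 0x98a5dfb637d86262)
 (.cons 32 (nat_lit 0xd278ac400000000034ffe584)
 (.cons 16 (nat_lit 0x5b260000ddb00000c0d300007f6e)
 (.cons 8 (nat_lit 0x1007c0000009f000c00e500460028)
 (.cons 4 (nat_lit 0xb0a0e010e0d080e0e08080c08020008)
 (.cons 2 (nat_lit 0x30202032111203321301031200020220)
 (.cons 1 (nat_lit 0x10405001411101105404015414100501)
 (.cons 2 (nat_lit 0x2020002000002020222000000)
 (.cons 4 (nat_lit 0xa0c02040e0c0006020a0c0804000408)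
 (.cons 8 (nat_lit 0x8009c0084009400ea00e000640068)
 (.cons 16 (nat_lit 0x81b60000c5960000e11400005f3e)
 (.cons 32 (nat_lit 0xdadcae520000000037a7c584)
 (.cons 64 (nat_lit 0x98a5dfbb1229b732)
 .nil)))))))))))))
noncomputable def a407 : Net := (.cons 64 (nat_lit 0x98a5dfb637d86262)
 (.cons 32 (nat_lit 0xd278ac400000000034ffe584)
 (.cons 16 (nat_lit 0x5b260000ddb00000c0d300007f6e)
 (.cons 8 (nat_lit 0x1007c0000009f000c00e500460028)
 (.cons 4 (nat_lit 0xb0a0e010e0d080e0e08080c08020008)
 (.cons 2 (nat_lit 0x30202032111203321301031200020220)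
 (.cons 1 (nat_lit 0x10405001411101105404015414100501)
 (.cons 2 (nat_lit 0x2020002000002020222000000)
 (.cons 4 (nat_lit 0xa0c02040e0c0006020a0c0804000408)
 (.cons 8 (nat_lit 0x8009c0084009400ea00e000640068)
 (.cons 16 (nat_lit 0x81b60000c5960000e11400005f3e)
 (.cons 32 (nat_lit 0xdadcae520000000037a7c584)
 (.cons 64 (nat_lit 0x98a5dfbb1229b732)
 .nil)))))))))))))
noncomputable def a408 : Net := (.cons 64 (nat_lit 0xaf2d02cbe9d5785e)
 (.cons 32 (nat_lit 0x7541e8720000000098993431)
 (.cons 16 (nat_lit 0x9d80000062d000048fa000042c0)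
 (.cons 8 (nat_lit 0x6a0009001a000500020029004000f2)
 (.cons 4 (nat_lit 0x40e0e040d00000e04090008060c0d01)
 (.cons 2 (nat_lit 0x10310103200201230020112301021221)
 (.cons 1 (nat_lit 0x10410400400100410410004010040101)
 (.cons 2 (nat_lit 0x20020000200000220200000000000000)
 (.cons 4 (nat_lit 0x4080c00040800080c080004060c0a08)
 (.cons 8 (nat_lit 0x42006800120000000a002c00500012)
 (.cons 16 (nat_lit 0x1d0000002a0000040f000004380)
 (.cons 32 (nat_lit 0x5960e870000000009859103c)
 (.cons 64 (nat_lit 0xaf2d02c161446846)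
 .nil)))))))))))))
noncomputable def a409 : Net := (.cons 64 (nat_lit 0x10010a08b0b56950)
 (.cons 32 (nat_lit 0x108824400000000001ec7600)
 (.cons 16 (nat_lit 0x1c860000029400003014)
 (.cons 8 (nat_lit 0x1000080010006900a8009800e80028)
 (.cons 4 (nat_lit 0x908040902000008000f06020d0002)
 (.cons 2 (nat_lit 0x222202022102122212002122220033)
 (.cons 1 (nat_lit 0x110401111014044000554010041450)
 (.cons 2 (nat_lit 0x220202202002022000002020020000)
 (.cons 4 (nat_lit 0x8000200000008000006020c0002)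
 (.cons 8 (nat_lit 0x1000080010006000a8009800c00028)
 (.cons 16 (nat_lit 0x1c860000029400003014)
 (.cons 32 (nat_lit 0x108824400000000000ec7600)
 (.cons 64 (nat_lit 0x10010a08b0b56950)
 .nil)))))))))))))
noncomputable def a410 : Net := (.cons 64 (nat_lit 0x10010391c8648244)
 (.cons 32 (nat_lit 0x940a4600000000021301408)
 (.cons 16 (nat_lit 0x2140000098000000a0100000ff4a)
 (.cons 8 (nat_lit 0x4800800046000800c400b4005e003d)
 (.cons 4 (nat_lit 0x2000802020608020a000c030c040606)
 (.cons 2 (nat_lit 0x10020332002022002322302022231002)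
 (.cons 1 (nat_lit 0x1010504044510100040501104000414)
 (.cons 2 (nat_lit 0x20002002020000020000202000200)
 (.cons 4 (nat_lit 0x20008020006080200000c080c040606)
 (.cons 8 (nat_lit 0x4800800046000800c400b4004a0054)
 (.cons 16 (nat_lit 0x2140000098000000a01000007f4a)
 (.cons 32 (nat_lit 0x940a4600000000021301408)
 (.cons 64 (nat_lit 0x10010391c8648244)
 .nil)))))))))))))
noncomputable def a411 : Net := (.cons 64 (nat_lit 0x701471aab4b6c50e)
 (.cons 32 (nat_lit 0x7c70b76600000000b7a51c05)
 (.cons 16 (nat_lit 0x82620000790f000024500000a2b2)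
 (.cons 8 (nat_lit 0xe0011002a0008003a0002006b0000)
 (.cons 4 (nat_lit 0x202040709080809010508080a070c02)
 (.cons 2 (nat_lit 0x30300103322230012002200102220123)
 (.cons 1 (nat_lit 0x10440045110510151141144104140450)
 (.cons 2 (nat_lit 0x200000200020000200000000200200)
 (.cons 4 (nat_lit 0x206000e080a080808040a0c080e0806)
 (.cons 8 (nat_lit 0xc001000300008003a000400c800c6)
 (.cons 16 (nat_lit 0x96260000580000003c1000006140)
 (.cons 32 (nat_lit 0x2c70c7e8000000003fce9a18)
 (.cons 64 (nat_lit 0x701471a158f8db42)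
 .nil)))))))))))))
noncomputable def a412 : Net := (.cons 64 (nat_lit 0x28503d7f0cc220c7)
 (.cons 32 (nat_lit 0x4a91262e000000008a65ed76)
 (.cons 16 (nat_lit 0x39ab0000014c00008d9200002237)
 (.cons 8 (nat_lit 0x38006800cc00f90061004d004c00d0)
 (.cons 4 (nat_lit 0x7060004050809050606080e010c0207)
 (.cons 2 (nat_lit 0x3010222010201020132202301030020)
 (.cons 1 (nat_lit 0x15040441141440544101040104051004)
 (.cons 2 (nat_lit 0x222000020000002020202000000)
 (.cons 4 (nat_lit 0x604040c04000c040e06000200080204)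
 (.cons 8 (nat_lit 0x40006800c0006000700020004a00e2)
 (.cons 16 (nat_lit 0x13ba000085180000021800002038)
 (.cons 32 (nat_lit 0x4ac1076400000000c961af7a)
 (.cons 64 (nat_lit 0x28503d7b395a7b88)
 .nil)))))))))))))
noncomputable def a413 : Net := (.cons 64 (nat_lit 0xe856fcf44b8fe804)
 (.cons 32 (nat_lit 0x9ac039aa00000000ea0c8022)
 (.cons 16 (nat_lit 0x9a020000924e00007c8400003994)
 (.cons 8 (nat_lit 0x7c0039009d006c0083005200050052)
 (.cons 4 (nat_lit 0xc0c0f0a0a0f040900080a060303070e)
 (.cons 2 (nat_lit 0x221312301200110000220302030000)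
 (.cons 1 (nat_lit 0x4144154515540100001055111451014)
 (.cons 2 (nat_lit 0x22202000020000002000000000020)
 (.cons 4 (nat_lit 0x804000c0a0c00020000080c0008020e)
 (.cons 8 (nat_lit 0x3c005e00b4002c008200f800080040)
 (.cons 16 (nat_lit 0x1a940000da7000007c8800002a86)
 (.cons 32 (nat_lit 0xd2c2555400000000fd0c8022)
 (.cons 64 (nat_lit 0xe856fcf367a5702a)
 .nil)))))))))))))
noncomputable def a414 : Net := (.cons 64 (nat_lit 0xb398463ee6ea4ffe)
 (.cons 32 (nat_lit 0x800a14d50000000098568014)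
 (.cons 16 (nat_lit 0xb38000005aa40000b124000018ca)
 (.cons 8 (nat_lit 0x8800bd00dc008b005f009e006d0028)
 (.cons 4 (nat_lit 0x202060a0d0a0403050100010b0a0004)
 (.cons 2 (nat_lit 0x32020101223001203231012100)
 (.cons 1 (nat_lit 0x10100541140541114104144110410444)
 (.cons 2 (nat_lit 0x20000022220000002000220200200000)
 (.cons 4 (nat_lit 0xa0208080e0e0400040408000a000600)
 (.cons 8 (nat_lit 0x88004800f00038000a008600200008)
 (.cons 16 (nat_lit 0xa390000010880000a12000005680)
 (.cons 32 (nat_lit 0x101252d4000000009c32811a)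
 (.cons 64 (nat_lit 0xb3984638ad7d3bdc)
 .nil)))))))))))))
noncomputable def a415 : Net := (.cons 64 (nat_lit 0xdf7fb00000000000)
 (.cons 32 (nat_lit 0x19f36e2000000000dd300100)
 (.cons 16 (nat_lit 0x99580000eafd0000570000001ed0)
 (.cons 8 (nat_lit 0x3c00c3009800e80070008600c80040)
 (.cons 4 (nat_lit 0xc00030d0e090a0a01000501080c0004)
 (.cons 2 (nat_lit 0x203323000030330220130232102000)
 (.cons 1 (nat_lit 0x44104504410451141040000114404104)
 (.cons 2 (nat_lit 0x22202002020200200000000220000000)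
 (.cons 4 (nat_lit 0x802040e08080408000800060c0200)
 (.cons 8 (nat_lit 0x3c009600880082007000c200c80040)
 (.cons 16 (nat_lit 0x1780000faac0000570000003c90)
 (.cons 32 (nat_lit 0x15f37e2000000000dd300100)
 (.cons 64 (nat_lit 0xdf7fb00000000000)
 .nil)))))))))))))
noncomputable def a416 : Net := (.cons 64 (nat_lit 0xfffff00000000000)
 (.cons 32 (nat_lit 0x7975a5e000000000ff800000)
 (.cons 16 (nat_lit 0xc052000026a60000dcb60000fcec)
 (.cons 8 (nat_lit 0x6300f900b800b2000e005e00b6007c)
 (.cons 4 (nat_lit 0xf040c090f05080102060c0508090f00)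
 (.cons 2 (nat_lit 0x31011010013212030102011022122000)
 (.cons 1 (nat_lit 0x14050011104104110150040414114000)
 (.cons 2 (nat_lit 0x2000002200202000000000220020000)
 (.cons 4 (nat_lit 0x40a04080e000208000e0c0402040800)
 (.cons 8 (nat_lit 0x2a001800f00030000800160072007c)
 (.cons 16 (nat_lit 0x64fe0000f6ac0000d3360000fc9c)
 (.cons 32 (nat_lit 0xf8265e400000000ff800000)
 (.cons 64 (nat_lit 0xfffff00000000000)
 .nil)))))))))))))
noncomputable def a417 : Net := (.cons 64 (nat_lit 0xf000000000000000)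
 (.cons 32 (nat_lit 0x5486340c00000000f0000000)
 (.cons 16 (nat_lit 0x740a00000afc0000f200000019c0)
 (.cons 8 (nat_lit 0xac003200bd004300c50075000400e2)
 (.cons 4 (nat_lit 0xc06000505030401060b0e030c090c0c)
 (.cons 2 (nat_lit 0x10200210012202100103113030002220)
 (.cons 1 (nat_lit 0x40400410141005014401444110414114)
 (.cons 2 (nat_lit 0x200002000000000020020002202)
 (.cons 4 (nat_lit 0x4040404080a0400000600080c000006)
 (.cons 8 (nat_lit 0x28003200640008008a005c000400e2)
 (.cons 16 (nat_lit 0x440e000089b40000d000000019c0)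
 (.cons 32 (nat_lit 0x5486340c00000000f0000000)
 (.cons 64 (nat_lit 0xf000000000000000)
 .nil)))))))))))))
noncomputable def a418 : Net := (.cons 64 (nat_lit 0xf000000000000000)
 (.cons 32 (nat_lit 0xb3938e4400000000f0000000)
 (.cons 16 (nat_lit 0xa1900000019a0000f0000000603c)
 (.cons 8 (nat_lit 0x12002300e0000400ff00ab002e007c)
 (.cons 4 (nat_lit 0xc03000e010e0402040d020f08010d00)
 (.cons 2 (nat_lit 0x13201030003013312120023100)
 (.cons 1 (nat_lit 0x4100445144440011014410140145404)
 (.cons 2 (nat_lit 0x2000020200020020002220000000000)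
 (.cons 4 (nat_lit 0xc020808040004020402040208000608)
 (.cons 8 (nat_lit 0x1200220088000400c400f0002e006c)
 (.cons 16 (nat_lit 0xa1900000419a0000f0000000603c)
 (.cons 32 (nat_lit 0xb3938e4400000000f0000000)
 (.cons 64 (nat_lit 0xf000000000000000)
 .nil)))))))))))))
noncomputable def a419 : Net := (.cons 64 (nat_lit 0xf000000000000000)
 (.cons 32 (nat_lit 0xb3938e4400000000f0000000)
 (.cons 16 (nat_lit 0xa1900000419a0000f0390000603c)
 (.cons 8 (nat_lit 0x1200dd00880004003b000e002e006c)
 (.cons 4 (nat_lit 0xc010808090604020c040d05080f0e08)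
 (.cons 2 (nat_lit 0x2001300023010021330321100003300)
 (.cons 1 (nat_lit 0x4011504411410011440401440415104)
 (.cons 2 (nat_lit 0x2000022000000200200220200200)
 (.cons 4 (nat_lit 0xc000e000c04040202040002080e0c00)
 (.cons 8 (nat_lit 0x1200dc00e0000400000074002e007c)
 (.cons 16 (nat_lit 0xa1900000019a000000000000603c)
 (.cons 32 (nat_lit 0xb3938e4400000000f0000000)
 (.cons 64 (nat_lit 0xf000000000000000)
 .nil)))))))))))))
noncomputable def a420 : Net := (.cons 64 (nat_lit 0xf000000000000000)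
 (.cons 32 (nat_lit 0xf8805c2400000000f0000000)
 (.cons 16 (nat_lit 0x842c000090fe0000f000000048e8)
 (.cons 8 (nat_lit 0x4000d8006500c500a4008000cb0008)
 (.cons 4 (nat_lit 0xc080005040e05000d00030700040000)
 (.cons 2 (nat_lit 0x10200022001213223102032003022200)
 (.cons 1 (nat_lit 0x40440014010404100141404104050510)
 (.cons 2 (nat_lit 0x20000202000000000000000000)
 (.cons 4 (nat_lit 0xc00000400020000080200060c000a00)
 (.cons 8 (nat_lit 0x6000d800a000c4000800c000860018)
 (.cons 16 (nat_lit 0x842c000090fc0000f000000048a8)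
 (.cons 32 (nat_lit 0x98805c2000000000f0000000)
 (.cons 64 (nat_lit 0xf000000000000000)
 .nil)))))))))))))
noncomputable def a421 : Net := (.cons 64 (nat_lit 0xf000000000000000)
 (.cons 32 (nat_lit 0x1806401000000000f0000000)
 (.cons 16 (nat_lit 0x18180000080e0000f03900009bf8)
 (.cons 8 (nat_lit 0xc00058001000a2003f00d400c10074)
 (.cons 4 (nat_lit 0x400010e0d0a0c020c010d030d000c)
 (.cons 2 (nat_lit 0x100012012301210131233110321200)
 (.cons 1 (nat_lit 0x440005451504014045141510011140)
 (.cons 2 (nat_lit 0x20000200002002020002020020020)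
 (.cons 4 (nat_lit 0x8000408000a040e0a0a08020e000c)
 (.cons 8 (nat_lit 0xc00058002000020008007400500074)
 (.cons 16 (nat_lit 0x181800002d8e0000000000009bf8)
 (.cons 32 (nat_lit 0x3806401000000000f0000000)
 (.cons 64 (nat_lit 0xf000000000000000)
 .nil)))))))))))))
noncomputable def a422 : Net := (.cons 64 (nat_lit 0xd000000000000000)
 (.cons 32 (nat_lit 0xd0008c000000000000000000)
 (.cons 16 (nat_lit 0xd0080000d980000000000000f9c0)
 (.cons 8 (nat_lit 0x800080006c00d100c60057003c0000)
 (.cons 4 (nat_lit 0x804080304080e0c000505020e0000)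
 (.cons 2 (nat_lit 0x1000002122020303311323203210)
 (.cons 1 (nat_lit 0x405154001514515541510155400)
 (.cons 2 (nat_lit 0x2002020000022020200200)
 (.cons 4 (nat_lit 0x4080004080e0c000a0a020e0000)
 (.cons 8 (nat_lit 0x800080006c001000c600a8003c0000)
 (.cons 16 (nat_lit 0xd0080000d980000000000000f9c0)
 (.cons 32 (nat_lit 0xd0008c000000000000000000)
 (.cons 64 (nat_lit 0xd000000000000000)
 .nil)))))))))))))
noncomputable def a423 : Net := (.cons 64 (nat_lit 0xf000000000000000)
 (.cons 32 (nat_lit 0xfb656a000000000000000000)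
 (.cons 16 (nat_lit 0x4b6200000522000000000000f428)
 (.cons 8 (nat_lit 0xdc006200b6000a00b3000c000700fc)
 (.cons 4 (nat_lit 0x609060a070006080e04000d06000b00)
 (.cons 2 (nat_lit 0x20320300222030111200223113310030)
 (.cons 1 (nat_lit 0x40110141140410045005414145405044)
 (.cons 2 (nat_lit 0x20200000220000000000022200200020)
 (.cons 4 (nat_lit 0x400060804080e080400000a00000200)
 (.cons 8 (nat_lit 0xdc002a0026001a00b20002007600fc)
 (.cons 16 (nat_lit 0x4b620000913a000000000000f828)
 (.cons 32 (nat_lit 0xfb656a000000000000000000)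
 (.cons 64 (nat_lit 0xf000000000000000)
 .nil)))))))))))))
noncomputable def a424 : Net := (.cons 64 (nat_lit 0x1000000000000000)
 (.cons 32 (nat_lit 0x181840000000000000000000)
 (.cons 16 (nat_lit 0x1808000015820000000000007eb0)
 (.cons 8 (nat_lit 0x5800b70082009b00dd00610090)
 (.cons 4 (nat_lit 0x8000f06030007040405040d080000)
 (.cons 2 (nat_lit 0x200011020121133321101122120010)
 (.cons 1 (nat_lit 0x100050441001404104140150511140)
 (.cons 2 (nat_lit 0x200000020000000202220000020200)
 (.cons 4 (nat_lit 0x8000a000400000a0008020a020000)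
 (.cons 8 (nat_lit 0x5800700010003600e6008800a0)
 (.cons 16 (nat_lit 0x180000009060000000000000d7a0)
 (.cons 32 (nat_lit 0x181840000000000000000000)
 (.cons 64 (nat_lit 0x1000000000000000)
 .nil)))))))))))))
noncomputable def a425 : Net := (.cons 64 (nat_lit 0xd000000000000000)
 (.cons 32 (nat_lit 0xd4000c000000000000000000)
 (.cons 16 (nat_lit 0x94000000710a000000000000ff40)
 (.cons 8 (nat_lit 0x980009001a0084005c00200000)
 (.cons 4 (nat_lit 0x4000009050a040508000a020e040000)
 (.cons 2 (nat_lit 0x23013323000102233032123020)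
 (.cons 1 (nat_lit 0x415140501000011400401010510)
 (.cons 2 (nat_lit 0x20220002000002200002020020)
 (.cons 4 (nat_lit 0x602040000000a020e040000)
 (.cons 8 (nat_lit 0x98008200180084005c00000000)
 (.cons 16 (nat_lit 0x940000003002000000000000ff00)
 (.cons 32 (nat_lit 0xd4000c000000000000000000)
 (.cons 64 (nat_lit 0xd000000000000000)
 .nil)))))))))))))
noncomputable def a426 : Net := (.cons 64 (nat_lit 0x6000000000000000)
 (.cons 32 (nat_lit 0x6680b0000000000000000000)
 (.cons 16 (nat_lit 0x200000067000000000000000f10)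
 (.cons 8 (nat_lit 0x8000a200be00a4000000f2005c0040)
 (.cons 4 (nat_lit 0xc00020c020a0408000a040005020000)
 (.cons 2 (nat_lit 0x20000020331122000220023233130320)
 (.cons 1 (nat_lit 0x44001041451001500115505100055010)
 (.cons 2 (nat_lit 0x20000020200002000220000200000020)
 (.cons 4 (nat_lit 0xc00020402020008000a040000020000)
 (.cons 8 (nat_lit 0x8000a200ec00a4000000f2005c0040)
 (.cons 16 (nat_lit 0x200000067000000000000000f10)
 (.cons 32 (nat_lit 0x6680b0000000000000000000)
 (.cons 64 (nat_lit 0x6000000000000000)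
 .nil)))))))))))))
noncomputable def a427 : Net := (.cons 64 (nat_lit 0x6000000000000000)
 (.cons 32 (nat_lit 0x740088000000000000000000)
 (.cons 16 (nat_lit 0x50000000f044000000000000fdf0)
 (.cons 8 (nat_lit 0x5800ec00f4004400c400f100f0)
 (.cons 4 (nat_lit 0x40008050f06020c0400010e0c0c0900)
 (.cons 2 (nat_lit 0x20000013220331000203132000201330)
 (.cons 1 (nat_lit 0x40000000001550440415141544401450)
 (.cons 2 (nat_lit 0x20000000000000000200022002202200)
 (.cons 4 (nat_lit 0x4000000000602000400060e00040e00)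
 (.cons 8 (nat_lit 0x5800ec00d4004400c400e000f0)
 (.cons 16 (nat_lit 0x50000000f044000000000000f7b0)
 (.cons 32 (nat_lit 0x740088000000000000000000)
 (.cons 64 (nat_lit 0x6000000000000000)
 .nil)))))))))))))
noncomputable def a428 : Net := (.cons 64 (nat_lit 0x4000000000000000)
 (.cons 32 (nat_lit 0xf00000000000000000000000)
 (.cons 16 (nat_lit 0xa00000009284000000000000f380)
 (.cons 8 (nat_lit 0xa0007b004c00000000001e0000)
 (.cons 4 (nat_lit 0xa080c0a000004000409030000)
 (.cons 2 (nat_lit 0x10000023302001002302000220000010)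
 (.cons 1 (nat_lit 0x41040451544511104555500)
 (.cons 2 (nat_lit 0x2000002002000200000000)
 (.cons 4 (nat_lit 0x80808000004000008000000)
 (.cons 8 (nat_lit 0xa00078004c00000000001e0000)
 (.cons 16 (nat_lit 0xa00000009284000000000000f380)
 (.cons 32 (nat_lit 0xf00000000000000000000000)
 (.cons 64 (nat_lit 0x4000000000000000)
 .nil)))))))))))))
noncomputable def a429 : Net := (.cons 64 (nat_lit 0xd000000000000000)
 (.cons 32 (nat_lit 0xd0008c000000000000000000)
 (.cons 16 (nat_lit 0xd0080000d980000000000000f9c0)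
 (.cons 8 (nat_lit 0x800080006c00d100c60057003c0000)
 (.cons 4 (nat_lit 0x804080304080e0c000505020e0000)
 (.cons 2 (nat_lit 0x1000002122020303311323203210)
 (.cons 1 (nat_lit 0x405154001514515541510155400)
 (.cons 2 (nat_lit 0x2002020000022020200200)
 (.cons 4 (nat_lit 0x4080004080e0c000a0a020e0000)
 (.cons 8 (nat_lit 0x800080006c001000c600a8003c0000)
 (.cons 16 (nat_lit 0xd0080000d980000000000000f9c0)
 (.cons 32 (nat_lit 0xd0008c000000000000000000)
 (.cons 64 (nat_lit 0xd000000000000000)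
 .nil)))))))))))))
noncomputable def a430 : Net := (.cons 64 (nat_lit 0xb000000000000000)
 (.cons 32 (nat_lit 0xbd81c0000000000000000000)
 (.cons 16 (nat_lit 0x41840000b60000000000000008d0)
 (.cons 8 (nat_lit 0x90002008a008600c400040042)
 (.cons 4 (nat_lit 0xc00080802000a09080e0c0b00090902)
 (.cons 2 (nat_lit 0x30010002121002020120002130202000)
 (.cons 1 (nat_lit 0x54000000040010110011115504404410)
 (.cons 2 (nat_lit 0x20000200020000000202000)
 (.cons 4 (nat_lit 0xc00000802000a02000a000400000802)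
 (.cons 8 (nat_lit 0x80000008a008400c400040042)
 (.cons 16 (nat_lit 0x41840000b60000000000000008d0)
 (.cons 32 (nat_lit 0xbd81c0000000000000000000)
 (.cons 64 (nat_lit 0xb000000000000000)
 .nil)))))))))))))
noncomputable def a431 : Net := (.cons 64 (nat_lit 0x6000000000000000)
 (.cons 32 (nat_lit 0x638040000000000000000000)
 (.cons 16 (nat_lit 0x180000067000000000000003098)
 (.cons 8 (nat_lit 0x4200f200c000c400cf00100030)
 (.cons 4 (nat_lit 0x400000c020c0a000409010100050608)
 (.cons 2 (nat_lit 0x2000002100222000322033200313200)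
 (.cons 1 (nat_lit 0x4000101055110144504400450000150)
 (.cons 2 (nat_lit 0x2000002000220000002200000000200)
 (.cons 4 (nat_lit 0x4000008020c0a000408060c00000608)
 (.cons 8 (nat_lit 0x4200f0008000c4003000100030)
 (.cons 16 (nat_lit 0x180000067000000000000003098)
 (.cons 32 (nat_lit 0x638040000000000000000000)
 (.cons 64 (nat_lit 0x6000000000000000)
 .nil)))))))))))))
noncomputable def ns0 : List Net := [a0, a1, a2]
noncomputable def ws : List (List ℕ) :=
  [W (nat_lit 0xc03008040080200c02),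
  W (nat_lit 0x1002008040100400802),
  W (nat_lit 0x80240902008),
  W (nat_lit 0xa0300c0280a0300a),
  W (nat_lit 0x2c0b024090300a0300a),
  W (nat_lit 0x400e03c0e0380e),
  W (nat_lit 0x400d0400e),
  W (nat_lit 0x5014),
  W (nat_lit 0x4c1104012),
  W (nat_lit 0x1005818),
  W (nat_lit 0xf03c18),
  W (nat_lit 0x3c1804010),
  W (nat_lit 0x1603c17),
  W (nat_lit 0x1e0801a074190781b078200741b074200641d08020),
  W (nat_lit 0x6c1a0741a0741c0781f07c1a06c1e),
  W (nat_lit 0x8040100400401),
  W (nat_lit 0x80200c03018020080300c02),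
  W (nat_lit 0x2509c270942509c25),
  W (nat_lit 0x2709c26),
  W (nat_lit 0x290b0290b029),
  W (nat_lit 0xb42c0b02e0b82c),
  W (nat_lit 0xb82e0b02e0ac2b),
  W (nat_lit 0xc031),
  W (nat_lit 0x2f0bc32),
  W (nat_lit 0x330d8340d433),
  W (nat_lit 0x340d833),
  W (nat_lit 0xcc35),
  W (nat_lit 0x3c0dc3a),
  W (nat_lit 0x380ec3b),
  W (nat_lit 0xdc370e83a),
  W (nat_lit 0xe03f0e03e0f83f0dc421083f104400dc3f),
  W (nat_lit 0x1043d1043d0f4380f8410e0420f4371043e),
  W (nat_lit 0x10c46),
  W (nat_lit 0x402c01),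
  W (nat_lit 0x200a02807),
  W (nat_lit 0x901c0a01c0a),
  W (nat_lit 0x4b1384e12c4e1304e1304e),
  W (nat_lit 0x4e12c4d1304d1304e1384e1304e),
  W (nat_lit 0x4c1344d1304e1384c),
  W (nat_lit 0x148541405115050),
  W (nat_lit 0x20a402),
  W (nat_lit 0x9c250a0260a025),
  W (nat_lit 0x250a0250a026),
  W (nat_lit 0x170591705a1685c1685c),
  W (nat_lit 0x16c5b1685c1685a),
  W (nat_lit 0x180601785f1785e1805e),
  W (nat_lit 0x174601785e1805d1805e),
  W (nat_lit 0x18030080301802),
  W (nat_lit 0x140300403),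
  W (nat_lit 0x19c671946519c66),
  W (nat_lit 0x1986819866),
  W (nat_lit 0x1ac6a1b06a),
  W (nat_lit 0x691a46c1a86a1ac6a),
  W (nat_lit 0x6b1ac6b),
  W (nat_lit 0x711c0711c06d1c06d1c86d),
  W (nat_lit 0x711b4701c8721c06e),
  W (nat_lit 0x641002c0800817),
  W (nat_lit 0x641103c0d02c1201c1000803),
  W (nat_lit 0x230841f040130340d02c1201c0b020010040f),
  W (nat_lit 0x1dc7a1ec79),
  W (nat_lit 0x1dc7a1e07a),
  W (nat_lit 0x1f87f),
  W (nat_lit 0x7d1dc77),
  W (nat_lit 0x200781f877),
  W (nat_lit 0x2108220883214852047e2087d),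
  W (nat_lit 0x851f4832187d2047e2048620882),
  W (nat_lit 0x204811f4862047d1f4861f482),
  W (nat_lit 0x208832188421084218832147e2187e2047d),
  W (nat_lit 0x2308722c8822c8d2208b22c88),
  W (nat_lit 0x8d2208c2208c2308d21c8a2288a2208c),
  W (nat_lit 0x2448f21c8b1f8811e07b),
  W (nat_lit 0x21c8b2047b),
  W (nat_lit 0x8f22c78),
  W (nat_lit 0x23c8b),
  W (nat_lit 0x2448722c81),
  W (nat_lit 0x24481),
  W (nat_lit 0x2107c0f0440b0280800809),
  W (nat_lit 0x470dc340bc2b0c4290ac390983000c36),
  W (nat_lit 0x10c370e4340bc2b0a02a00829),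
  W (nat_lit 0x330ac310982700c03),
  W (nat_lit 0x2b0a4290c028),
  W (nat_lit 0x10c340bc2c0a4250b803),
  W (nat_lit 0xe4300ac310a4290b4260d00100403),
  W (nat_lit 0x390cc2f0ac310a4470983001027),
  W (nat_lit 0x470f4390c42b0ac290ac260b0010042e),
  W (nat_lit 0xe4340c42b0a4310982700c29),
  W (nat_lit 0x370e4330c42c0a4300942a00c29),
  W (nat_lit 0x298a7288b02c4b32ccaf2b4a22a8a4298ac2ccad2d0a62b0a729cb02c8ac2c0a3),
  W (nat_lit 0xa128caf28caf2d0b02d0a52acb029cb42a0a9288a62b4a82c8a92b4a62bca2),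
  W (nat_lit 0xa3288a229ca928cb129cb32a8af2b8ac2a4a92a0b42b0ae28cb1288a4),
  W (nat_lit 0xb32bcad290b4294ac2b0af2b8af2acb129ca42c8ad2b4a22a4a2294a42b4a4),
  W (nat_lit 0xb82d8b82d8ba2d4b92d4b7),
  W (nat_lit 0xb92e0ba2d8bc2e4bb2dcbc),
  W (nat_lit 0x2e8b72ecb62d8b82f0b72f0b92d4bc),
  W (nat_lit 0x2fcbf308be),
  W (nat_lit 0x2fcbf2f8be),
  W (nat_lit 0x300c4300c4),
  W (nat_lit 0x318bf),
  W (nat_lit 0x310c4),
  W (nat_lit 0x328c0328ca),
  W (nat_lit 0x370e4330c42c0a4300942a00c29),
  W (nat_lit 0x10c390c4290bc260fc010042e),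
  W (nat_lit 0x11c370f4390cc2b0c42a),
  W (nat_lit 0x11c370d0300a4290b42500803),
  W (nat_lit 0x100340d0241301c0a0040d),
  W (nat_lit 0x230640f0440f0340d0240c0201f00c07),
  W (nat_lit 0x368d8364d7),
  W (nat_lit 0xd8364d8368d7),
  W (nat_lit 0xde378dc),
  W (nat_lit 0x374dc),
  W (nat_lit 0xdb36cde378db),
  W (nat_lit 0xdb374db378db),
  W (nat_lit 0xe2380e337ce3380e1398e2),
  W (nat_lit 0x380e4384e0390e138ce138ce2),
  W (nat_lit 0xe6398e3384e0398e4380e0),
  W (nat_lit 0xe4390df37ce5390e0384e5),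
  W (nat_lit 0x39cea3b0e73a4ee3ace73ace8),
  W (nat_lit 0x3b8e939cee3a0ec39cee3a4e83b0e73a8ea3a8e8),
  W (nat_lit 0x90240701c07),
  W (nat_lit 0x701c0901c0901c09),
  W (nat_lit 0xf33d8f33ccf33d8f4),
  W (nat_lit 0xf53ccf6),
  W (nat_lit 0x3e8f83e4f83e4f93e0fa3dcf93dcfa),
  W (nat_lit 0x3e8f73e8f83e4f93dcfa),
  W (nat_lit 0xef3c4e936cdf364d7),
  W (nat_lit 0xf13a4e1360d8),
  W (nat_lit 0x1004090040500),
  W (nat_lit 0x1014010140101404ff),
  W (nat_lit 0xff3fd024090040100),
  W (nat_lit 0x41104),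
  W (nat_lit 0x10541d0442108),
  W (nat_lit 0x10741908),
  W (nat_lit 0x10b4250b),
  W (nat_lit 0x42d0d4310c),
  W (nat_lit 0x43d12),
  W (nat_lit 0x44910),
  W (nat_lit 0x360da368d7364d9),
  W (nat_lit 0x368d8364d9368d7),
  W (nat_lit 0x368d735cd8364d8),
  W (nat_lit 0x11b46d1846d18),
  W (nat_lit 0x11e46519),
  W (nat_lit 0x11e4651e4791a),
  W (nat_lit 0x4751d),
  W (nat_lit 0x48520),
  W (nat_lit 0x12048124),
  W (nat_lit 0x12649926),
  W (nat_lit 0x4a128),
  W (nat_lit 0x4b129),
  W (nat_lit 0x41d07),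
  W (nat_lit 0x11542d0b41d07),
  W (nat_lit 0x11343cff40d02),
  W (nat_lit 0x4550f41d07),
  W (nat_lit 0x11343d0b42d0741cff40d02),
  W (nat_lit 0x1364bd2f4d5304d9334e1344e1384c9324c934),
  W (nat_lit 0x4dd364e1384c1354bd384cd384d1354e12f),
  W (nat_lit 0x1304d9384cd2f4d5344d1364d1354bd384bd2f),
  W (nat_lit 0x4cd2f4dd354c1364c1364d1324d5374d930),
  W (nat_lit 0x4e53f4fd3e4f1404e53b),
  W (nat_lit 0x13b4ed3d4ed404f13e5013d4e5404f53f4f93e),
  W (nat_lit 0x4ed404e53c4f53c4e93a4f93e),
  W (nat_lit 0x51942),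
  W (nat_lit 0x50944),
  W (nat_lit 0x50946),
  W (nat_lit 0x52533),
  W (nat_lit 0x51d495053d),
  W (nat_lit 0x51d49),
  W (nat_lit 0x51d4b),
  W (nat_lit 0x44d1543d0b42d0741cff40d02),
  W (nat_lit 0x55555),
  W (nat_lit 0x419074150841504),
  W (nat_lit 0x41d04),
  W (nat_lit 0x2307c1103c0d0340b028070380102c02),
  W (nat_lit 0x2307c0f0341d0300700423),
  W (nat_lit 0x15e57d5e),
  W (nat_lit 0x15d57d5e),
  W (nat_lit 0x58d61),
  W (nat_lit 0x1645916259161),
  W (nat_lit 0x16659d66),
  W (nat_lit 0x1665a166),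
  W (nat_lit 0x5ad6a),
  W (nat_lit 0x59d6a),
  W (nat_lit 0x5a5685a16a),
  W (nat_lit 0x59d6a5a96a),
  W (nat_lit 0x1735b5745c1745b5725c173),
  W (nat_lit 0x5c5745bd6d5d16e5c96e5bd6d5b5735b970),
  W (nat_lit 0x5e176),
  W (nat_lit 0x20100400802),
  W (nat_lit 0x300403008040100400404),
  W (nat_lit 0x5f97e),
  W (nat_lit 0x5ed7d5ed7b5ed7e5f17c),
  W (nat_lit 0x6097f5fd8260180),
  W (nat_lit 0x60982601826097f60580609806057f),
  W (nat_lit 0x61186611856158561184),
  W (nat_lit 0x1755b56f59d65),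
  W (nat_lit 0x16d5bd675996658965),
  W (nat_lit 0x18a6318a6318c),
  W (nat_lit 0x1896398a63989),
  W (nat_lit 0x635896258e),
  W (nat_lit 0x6398e),
  W (nat_lit 0x64594),
  W (nat_lit 0x6419364590),
  W (nat_lit 0x19064d90),
  W (nat_lit 0x6599465d96651946559a),
  W (nat_lit 0x6699a655956619966198655956559a),
  W (nat_lit 0x6719e),
  W (nat_lit 0x575605755f57d5e5815e),
  W (nat_lit 0x57d5d57d605815e),
  W (nat_lit 0x1a368da3),
  W (nat_lit 0x1a2691a1),
  W (nat_lit 0x699a769da6),
  W (nat_lit 0x1a66a1a669da66a1a6),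
  W (nat_lit 0x699a6),
  W (nat_lit 0x1ad6b1ac),
  W (nat_lit 0x1ac6a9ac),
  W (nat_lit 0x1ab6b9ac),
  W (nat_lit 0x6cdaf6a9b26c1aa6c9a96c5b0),
  W (nat_lit 0x6c9a96c1b36c1b36bdaa6c9aa6d1b46c9b0),
  W (nat_lit 0x6e1b66e1b8),
  W (nat_lit 0x66d95),
  W (nat_lit 0x19f66d95),
  W (nat_lit 0x67d95),
  W (nat_lit 0x6fdbf6f9c0701936ed936fd936edbb6fd93),
  W (nat_lit 0x64dbd6edbd6ed946f99370193),
  W (nat_lit 0x1c170dbb),
  W (nat_lit 0x705bb),
  W (nat_lit 0x67d9b65195),
  W (nat_lit 0x67d95),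
  W (nat_lit 0x67d9b),
  W (nat_lit 0x1ca731cc7359572dc972d967359673996),
  W (nat_lit 0x1c97319565595725ce729ce659cd659c9),
  W (nat_lit 0x749d0),
  W (nat_lit 0x74d95),
  W (nat_lit 0x18b6298c),
  W (nat_lit 0x18a6318c6318a62d8962d8a6318a),
  W (nat_lit 0x6258c6318a62d8a6318a),
  W (nat_lit 0x8c2103c110340d01c0101c03),
  W (nat_lit 0x23084190340d0240c0640706403),
  W (nat_lit 0x77dde781dd781e0),
  W (nat_lit 0x779df779de),
  W (nat_lit 0x78de278de3785e4785e4),
  W (nat_lit 0x791e278de2791e4791e4),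
  W (nat_lit 0x1e8799e679de6),
  W (nat_lit 0x7a1e8795e7),
  W (nat_lit 0x7a1e57a1e6),
  W (nat_lit 0x1ec7a5ec),
  W (nat_lit 0x7b1ec),
  W (nat_lit 0x7b5ec),
  W (nat_lit 0x7b5ed),
  W (nat_lit 0x7c9f07c1f67c9f67d1f17c1f67c9f6),
  W (nat_lit 0x1f37c1f17d5f17d9f07d9f37bdf2),
  W (nat_lit 0x3d0f53d0f5),
  W (nat_lit 0xf43d8f33d8f63ccf63ccf53d4f3),
  W (nat_lit 0x7f5fb),
  W (nat_lit 0x7ddf97d5eb795e778df1),
  W (nat_lit 0x7ddf97c5e3789dd775e5),
  W (nat_lit 0x7e5e57a1e37c5dd77de2),
  W (nat_lit 0x80e038160381a04),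
  W (nat_lit 0x81a0381605),
  W (nat_lit 0x20981e0a82a07),
  W (nat_lit 0x20a81e0a),
  W (nat_lit 0x82e0d8360c),
  W (nat_lit 0x83a0c8360b83a0c),
  W (nat_lit 0x20d82e0d),
  W (nat_lit 0x2138460f),
  W (nat_lit 0x84611),
  W (nat_lit 0x84e12),
  W (nat_lit 0x84a1384a12),
  W (nat_lit 0x21c8561886a1785a1b86216862168621c87216),
  W (nat_lit 0x21b85e158561a85a168621c86619),
  W (nat_lit 0x781e0775df77dde),
  W (nat_lit 0x77ddf779e0781dd),
  W (nat_lit 0x779e0775df),
  W (nat_lit 0x88a2389a2288e22),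
  W (nat_lit 0x89e268a226),
  W (nat_lit 0x22789e2789a28),
  W (nat_lit 0x22c8a62c8b22c8aa2c),
  W (nat_lit 0x22c8b2298b22c),
  W (nat_lit 0x8ba2e8be2a),
  W (nat_lit 0x8c22a),
  W (nat_lit 0x8aa2a8be2a),
  W (nat_lit 0x22e8aa2a),
  W (nat_lit 0x2338e2368de318de368e2318de36),
  W (nat_lit 0x8e2338c6318de338c6388da378de318da32),
  W (nat_lit 0x8ee3a),
  W (nat_lit 0x21d856118320981213),
  W (nat_lit 0x21f8320a80e09),
  W (nat_lit 0x24290a3f90a40),
  W (nat_lit 0x9064190242),
  W (nat_lit 0x9164590e46),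
  W (nat_lit 0x24891244),
  W (nat_lit 0x91e4491e44),
  W (nat_lit 0x91e4391e43),
  W (nat_lit 0x92649),
  W (nat_lit 0x24d9264b),
  W (nat_lit 0x24c93a4a),
  W (nat_lit 0x25194e5293e4e94e5394a4e93e52),
  W (nat_lit 0x2539425493a5094a4e9465393e4e),
  W (nat_lit 0x95a5895655),
  W (nat_lit 0x84100440d0740b06c0707403),
  W (nat_lit 0x8761586e1182e0b),
  W (nat_lit 0x7ddf1),
  W (nat_lit 0x21d87e15),
  W (nat_lit 0x1f0440f024070240b01004),
  W (nat_lit 0x1f0440f024070240b01004),
  W (nat_lit 0x25e96e5d),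
  W (nat_lit 0x87e1582e0b),
  W (nat_lit 0x8760d),
  W (nat_lit 0x21d87e1b82e0b),
  W (nat_lit 0x8761586e1182e0b),
  W (nat_lit 0x21d87e15),
  W (nat_lit 0x9ae6f9ca729be719c66d9ca6b9ae709ca72),
  W (nat_lit 0x26d9b66d9be729b6729c26b9ba72),
  W (nat_lit 0x21f85611),
  W (nat_lit 0x8761b8460b),
  W (nat_lit 0x85611),
  W (nat_lit 0x27b9ea7c9f279),
  W (nat_lit 0x9e67c9f27a),
  W (nat_lit 0x27a9ee799f27a),
  W (nat_lit 0x9fa7ea0a80),
  W (nat_lit 0x2819fe7e),
  W (nat_lit 0x2819fa80),
  W (nat_lit 0x27ea0a7f),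
  W (nat_lit 0x28aa1689a1286a0e87a1688a1684a2286a2a84),
  W (nat_lit 0x28aa2283a1a87a0e85a2a88a1a86a128a),
  W (nat_lit 0x28da267f),
  W (nat_lit 0x28ba0e799ee79),
  W (nat_lit 0xa0e7f),
  W (nat_lit 0xa26799ee79),
  W (nat_lit 0xa367f),
  W (nat_lit 0xa2e87),
  W (nat_lit 0x20481a038160481605),
  W (nat_lit 0x81a06812058160481605),
  W (nat_lit 0x20681a038160381603),
  W (nat_lit 0xa6ea0a829c),
  W (nat_lit 0xa7aa0a7a9fa7a9b),
  W (nat_lit 0xa82a0a7a9ca7a9c),
  W (nat_lit 0x87e1582e0b),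
  W (nat_lit 0x21d8561b8460c81e0d8160c),
  W (nat_lit 0x2a9aa2a9),
  W (nat_lit 0xaa2aaaaaaa),
  W (nat_lit 0xaa6a8aa2aa),
  W (nat_lit 0x2abab6b0ab2ac),
  W (nat_lit 0xab6ac),
  W (nat_lit 0x2b0ab6ad),
  W (nat_lit 0xabab0ac2ac),
  W (nat_lit 0x2b2acab4ad2b4ae2b4ae2b2adab1ad2b6acab4),
  W (nat_lit 0x2b4ad2b5ae2b4ae2b4ad2b2acab8),
  W (nat_lit 0x2bbae6b7),
  W (nat_lit 0xaeeb9ad6aa),
  W (nat_lit 0xae6b7),
  W (nat_lit 0xae6b3),
  W (nat_lit 0x8220a82a0782608),
  W (nat_lit 0x82609822088260782a0a81e07),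
  W (nat_lit 0xb1ec7b1ec7b16c8),
  W (nat_lit 0x1103c0d0740b06c070480203003),
  W (nat_lit 0x8c2107c0f0340b0340103410),
  W (nat_lit 0x2307c100340d02c0a01c0901008),
  W (nat_lit 0x8c1d03c1103c0d0340b0280702c0900412),
  W (nat_lit 0xb36cbb3ed2b3ad1b2ecbb42ceb46cc),
  W (nat_lit 0x2cbb46ccb36ccb46cbb36cfb3ad0b3aceb2ecb),
  W (nat_lit 0xb52d6),
  W (nat_lit 0xb5ad4),
  W (nat_lit 0xb62da),
  W (nat_lit 0xb6ad8b6ad7),
  W (nat_lit 0x280a01c07),
  W (nat_lit 0x28080280702408),
  W (nat_lit 0x2e1b7ee1),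
  W (nat_lit 0xb7ee2b7ee1b7ee1b82e0),
  W (nat_lit 0x2e4b92e5),
  W (nat_lit 0x2e6b9ae4b92e4b96e3),
  W (nat_lit 0xb8ee6b92e5b92e4),
  W (nat_lit 0x2e7bb2ec),
  W (nat_lit 0x2ebba6e7),
  W (nat_lit 0xbbeeebbaf0),
  W (nat_lit 0xb6ed8b66d3b36da),
  W (nat_lit 0x2dcb5ed7b32cc),
  W (nat_lit 0x2f4bdaf3),
  W (nat_lit 0x2f4bd6f4),
  W (nat_lit 0x2f9be2fa),
  W (nat_lit 0xbe2f8),
  W (nat_lit 0xbeefbbfafc),
  W (nat_lit 0xbfafc),
  W (nat_lit 0xb3acfb32cdb2ed0),
  W (nat_lit 0xb3eceb3ed0b42cd),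
  W (nat_lit 0xc0f06c1b03c1703c0f06),
  W (nat_lit 0x303c1704c1b06c0f03),
  W (nat_lit 0x308c2b08),
  W (nat_lit 0x309c1f0a),
  W (nat_lit 0xc330c),
  W (nat_lit 0x30ec330c),
  W (nat_lit 0xc4311),
  W (nat_lit 0x301beef7bcef8),
  W (nat_lit 0xbff01bd6fa),
  W (nat_lit 0x317c5f16),
  W (nat_lit 0xc5b17c5f16c5f15),
  W (nat_lit 0xc671bc6b1a),
  W (nat_lit 0x319c7319c6f1b),
  W (nat_lit 0x31dc8320),
  W (nat_lit 0xc7f1f),
  W (nat_lit 0xc9322),
  W (nat_lit 0x230840f0440d0340b054070340204803),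
  W (nat_lit 0x2ffc06fbbcefb),
  W (nat_lit 0xb76d7b5ed3b2ed2),
  W (nat_lit 0x8c2107c100440b02807040010340a),
  W (nat_lit 0x8c2107c100440b02807040010340a),
  W (nat_lit 0x32ac9f29),
  W (nat_lit 0xbfefb),
  W (nat_lit 0xbff01),
  W (nat_lit 0x210640f0440e0240b01c0e00814),
  W (nat_lit 0x84110341d0240b01c0e00c02),
  W (nat_lit 0xceb37ceb3aceb37),
  W (nat_lit 0x33ace338ce737),
  W (nat_lit 0x33ccf33dcef3bcf73b),
  W (nat_lit 0x33ccfb3bcf73ccf33c),
  W (nat_lit 0xd0b40d0740d0b42),
  W (nat_lit 0xd0341d0340d0b40),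
  W (nat_lit 0xd1b44d1344),
  W (nat_lit 0xd1346d1b43),
  W (nat_lit 0x343d1744d1b44),
  W (nat_lit 0xd2f49d2f49),
  W (nat_lit 0x34cd2349),
  W (nat_lit 0xd2b48d2349),
  W (nat_lit 0xd4750),
  W (nat_lit 0xd4751d374f),
  W (nat_lit 0xd4b4ed3b4f),
  W (nat_lit 0x34ed4750),
  W (nat_lit 0xd5f59d4f53d4f58d6758d5753d4f58d6756),
  W (nat_lit 0xd5b59d6759d6757d5754d5359d4f56),
  W (nat_lit 0xd6f5dd735c)]
noncomputable def ns : List Net := [a0, a1, a2, a3, a4, a5, a6, a7, a8, a9, a10, a11, a12, a13, a14, a15, a16, a17, a18, a19, a20, a21, a22, a23, a24, a25, a26, a27, a28, a29, a30, a31, a32, a33, a34, a35, a36, a37, a38, a39, a40, a41, a42, a43, a44, a45, a46, a47, a48, a49, a50, a51, a52, a53, a54, a55, a56, a57, a58, a59, a60, a61, a62, a63, a64, a65, a66, a67, a68, a69, a70, a71, a72, a73, a74, a75, a76, a77, a78, a79, a80, a81, a82, a83, a84, a85, a86, a87, a88, a89, a90, a91, a92, a93, a94, a95, a96, a97, a98, a99, a100, a101, a102, a103, a104, a105, a106, a107, a108,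 a109, a110, a111, a112, a113, a114, a115, a116, a117, a118, a119, a120, a121, a122, a123, a124, a125, a126, a127, a128, a129, a130, a131, a132, a133, a134, a135, a136, a137, a138, a139, a140, a141, a142, a143, a144, a145, a146, a147, a148, a149, a150, a151, a152, a153, a154, a155, a156, a157, a158, a159, a160, a161, a162, a163, a164, a165, a166, a167, a168, a169, a170, a171, a172, a173, a174, a175, a176, a177, a178, a179, a180, a181, a182, a183, a184, a185, a186, a187, a188, a189, a190, a191, a192, a193, a194, a195, a196, a197, a198, a199, a200, a201, a202, a203, a204, a205, a206, a207, a208, a209, a210, a211, a212, a213, a214, a215, a216, a217, a218, a219, a220, a221, a222, a223, a224, a225, a226, a227, a228, a229, a230, a231, a232, a233, a234, a235, a236, a237, a238, a239, a240, a241, a242, a243, a244, a245, a246, a247, a248, a249, a250, a251, a252, a253, a254, a255, a256, a257, a258, a259, a260, a261, a262, a263, a264, a265, a266, a267, a268, a269, a270, a271, a272,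 a273, a274, a275, a276, a277, a278, a279, a280, a281, a282, a283, a284, a285, a286, a287, a288, a289, a290, a291, a292, a293, a294, a295, a296, a297, a298, a299, a300, a301, a302, a303, a304, a305, a306, a307, a308, a309, a310, a311, a312, a313, a314, a315, a316, a317, a318, a319, a320, a321, a322, a323, a324, a325, a326, a327, a328, a329, a330, a331, a332, a333, a334, a335, a336, a337, a338, a339, a340, a341, a342, a343, a344, a345, a346, a347, a348, a349, a350, a351, a352, a353, a354, a355, a356, a357, a358, a359, a360, a361, a362, a363, a364, a365, a366, a367, a368, a369, a370, a371, a372, a373, a374, a375, a376, a377, a378, a379, a380, a381, a382, a383, a384, a385, a386, a387, a388, a389, a390, a391, a392, a393, a394, a395, a396, a397, a398, a399, a400, a401, a402, a403, a404, a405, a406, a407, a408, a409, a410, a411, a412, a413, a414, a415, a416, a417, a418, a419, a420, a421, a422, a423, a424, a425, a426, a427, a428, a429, a430, a431]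
noncomputable def D : List (ℕ × List ℕ) := app [] (mkDefs ws 3)
noncomputable def chk : List (List ℕ × List ℕ) → Bool := P.relsB ns
noncomputable def zt0 : List ℕ :=
  []
noncomputable def zcj1 : List (List ℕ) :=
  []
noncomputable def zt4 : List ℕ :=
  []
noncomputable def zcj5 : List (List ℕ) :=
  [[34]]
noncomputable def zus8 : List (List ℕ) :=
  [[24],
  [28],
  [30]]
noncomputable def zF9 : List (List (ℕ × List ℕ)) :=
  [[(1, []),
   (0, []),
   (3, [32]),
   (2, [32])],
  [(1, [34]),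
   (0, [34]),
   (3, W (nat_lit 0x8c21)),
   (2, W (nat_lit 0x8c21))],
  [(2, []),
   (3, [32]),
   (0, []),
   (1, [32])],
  [(3, []),
   (2, [32]),
   (1, [32]),
   (0, [])]]
noncomputable def zE12 : List (ℕ × List ℕ) :=
  [(20, W (nat_lit 0x8c21)),
  (22, W (nat_lit 0x2306410))]
noncomputable def zt13 : List ℕ :=
  []
noncomputable def zcj14 : List (List ℕ) :=
  [W (nat_lit 0x841d),
  [28],
  W (nat_lit 0x230841f),
  [24]]
noncomputable def zus18 : List (List ℕ) :=
  [[16],
  [18],
  W (nat_lit 0x440f)]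
noncomputable def zF19 : List (List (ℕ × List ℕ)) :=
  [[(1, []),
   (0, [32]),
   (3, W (nat_lit 0x2306410)),
   (2, W (nat_lit 0x2107c0f))],
  [(0, [15]),
   (2, W (nat_lit 0x2307410)),
   (3, W (nat_lit 0x210640f)),
   (1, [])],
  [(2, []),
   (3, W (nat_lit 0x6410)),
   (0, W (nat_lit 0x8c21)),
   (1, W (nat_lit 0x2107c0f))]]
noncomputable def zus22 : List (List ℕ) :=
  [[12],
  [13],
  W (nat_lit 0x340d),
  W (nat_lit 0x341d)]
noncomputable def zF23 : List (List (ℕ × List ℕ)) :=
  [[(1, []),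
   (3, []),
   (0, []),
   (4, W (nat_lit 0x8c1d03c13)),
   (2, W (nat_lit 0x230740f0440f))],
  [(0, [14]),
   (1, W (nat_lit 0x230640f0440f)),
   (4, W (nat_lit 0x8c1f04011)),
   (2, W (nat_lit 0x2307c100440f)),
   (3, W (nat_lit 0x8c0f))]]
noncomputable def zus26 : List (List ℕ) :=
  [[10],
  [11],
  [8],
  W (nat_lit 0x240c),
  W (nat_lit 0x2c0a),
  W (nat_lit 0x3009),
  W (nat_lit 0x2c18),
  W (nat_lit 0x240b),
  W (nat_lit 0x2c0e),
  W (nat_lit 0x2c12),
  W (nat_lit 0x301d),
  W (nat_lit 0x240f),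
  W (nat_lit 0x903019),
  W (nat_lit 0x2c0f),
  W (nat_lit 0x2413),
  W (nat_lit 0x240e),
  W (nat_lit 0x2c1b),
  W (nat_lit 0x2c0d),
  W (nat_lit 0x240d),
  W (nat_lit 0x2c15)]
noncomputable def zF27 : List (List (ℕ × List ℕ)) :=
  [[(1, []),
   (2, []),
   (0, []),
   (8, []),
   (3, []),
   (10, W (nat_lit 0x1004c0d)),
   (12, W (nat_lit 0x7c110340d)),
   (7, W (nat_lit 0x23064110340d)),
   (4, []),
   (16, W (nat_lit 0x8c21074110341d)),
   (11, W (nat_lit 0x8c1d0400e)),
   (5, W (nat_lit 0x841903c0d)),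
   (13, W (nat_lit 0x2103c130341d)),
   (6, W (nat_lit 0x8c2103c110340d)),
   (19, W (nat_lit 0x84190440f0341d)),
   (14, W (nat_lit 0x841f03c110340d)),
   (17, W (nat_lit 0x8c210641103c0e)),
   (9, W (nat_lit 0x1d0440f)),
   (18, W (nat_lit 0x8c21040110341d)),
   (15, W (nat_lit 0x8c19040110340d)),
   (20, W (nat_lit 0x840f0440f0340d))],
  [(3, []),
   (4, W (nat_lit 0x7c110340d)),
   (6, []),
   (0, W (nat_lit 0x8419)),
   (9, W (nat_lit 0x8c1f03c110341d)),
   (1, []),
   (14, W (nat_lit 0x2307c0f)),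
   (2, W (nat_lit 0x2308419040110341d)),
   (15, W (nat_lit 0x400d)),
   (5, W (nat_lit 0x230401103c0d)),
   (13, W (nat_lit 0x8c2107c0f04c0d)),
   (18, W (nat_lit 0x23064100341d)),
   (12, W (nat_lit 0x2306413)),
   (11, W (nat_lit 0x8c1903c130341d)),
   (7, W (nat_lit 0x210640f0341d)),
   (8, W (nat_lit 0x8c21040110341d)),
   (20, W (nat_lit 0x7c0f04c0e)),
   (16, W (nat_lit 0x841903c0e)),
   (10, W (nat_lit 0x8c1903c110340d)),
   (17, W (nat_lit 0x740f04c0e)),
   (19, W (nat_lit 0x8c1d03c0d))]]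
noncomputable def zus30 : List (List ℕ) :=
  [[6],
  [7],
  W (nat_lit 0x1c07),
  W (nat_lit 0x1c09),
  W (nat_lit 0x1c0a),
  W (nat_lit 0x1c0b),
  W (nat_lit 0x1c12),
  W (nat_lit 0x200a),
  W (nat_lit 0x2014),
  W (nat_lit 0x201d),
  W (nat_lit 0x1c0e),
  W (nat_lit 0x1c1d),
  W (nat_lit 0x702c08),
  W (nat_lit 0x702c09),
  W (nat_lit 0x1c0c),
  W (nat_lit 0x1c0d),
  W (nat_lit 0x201f),
  W (nat_lit 0x1c19),
  W (nat_lit 0x1c10),
  W (nat_lit 0x703408),
  W (nat_lit 0x70240b)]
noncomputable def zF31 : List (List (ℕ × List ℕ)) :=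
  [[(1, []),
   (3, []),
   (0, []),
   (8, W (nat_lit 0x2304c0d0340903019)),
   (9, W (nat_lit 0x23074100440d03009)),
   (12, W (nat_lit 0x1103c0d0240b)),
   (2, W (nat_lit 0x8419)),
   (15, W (nat_lit 0x64100440f0341d02c15)),
   (11, W (nat_lit 0x230841002c12)),
   (5, W (nat_lit 0x2107c0f0340d0240e)),
   (4, W (nat_lit 0x8c21064100240f)),
   (7, W (nat_lit 0x21064100440d03409)),
   (19, W (nat_lit 0x230841d03c1103c0e0301d)),
   (6, []),
   (17, W (nat_lit 0x230841d040110341d0240d)),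
   (18, W (nat_lit 0x8c1f040110340d0240d)),
   (21, W (nat_lit 0x8c1f03c1103c0d0240c)),
   (10, W (nat_lit 0x8c210640f0440f0340d02c1b)),
   (13, W (nat_lit 0x8c1903c130301d)),
   (20, W (nat_lit 0x2307c0f0340d02c18)),
   (16, []),
   (14, W (nat_lit 0x840e02c1b))],
  [(0, [8]),
   (4, []),
   (7, W (nat_lit 0x8c1d040130340d0240f)),
   (8, [11]),
   (11, W (nat_lit 0x841f04c0d02c0f)),
   (1, []),
   (14, []),
   (3, W (nat_lit 0x2103c110340d02413)),
   (2, []),
   (12, W (nat_lit 0x8c1f03c1103c0d02413)),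
   (18, W (nat_lit 0x341d02c0d)),
   (5, W (nat_lit 0x841f04c0d02c0f)),
   (19, W (nat_lit 0x841f03c1102c0a)),
   (20, W (nat_lit 0x2304409)),
   (6, W (nat_lit 0x8c210401302413)),
   (10, W (nat_lit 0x40130341d0240c)),
   (9, W (nat_lit 0x8c21064130240e)),
   (15, W (nat_lit 0x640f0440f02c0a)),
   (17, W (nat_lit 0x8c2107c0f0440e0240f)),
   (16, W (nat_lit 0x8c210641103c0d0240f)),
   (13, W (nat_lit 0x841f03c1302c12)),
   (21, W (nat_lit 0x2107c0d02c0a))]]
noncomputable def zrs34 : List (ℕ × List ℕ) :=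
  [(75, W (nat_lit 0x1244901c09)),
  (1, [73])]
noncomputable def GM_w0_1_v0 : Lev :=
  ⟨75, 77, sg (W (nat_lit 0x901c0702407024070240702407)), [[74], [76]], 34, 2⟩
noncomputable def GM_w0_1_v1 : Lev :=
  ⟨24, 60, sg (W (nat_lit 0x4b1344d12c4d1344b1344d12c4d1344b)), [[78], [80], [82]], 36, 3⟩
noncomputable def GM_w0_1_v2 : Lev :=
  ⟨28, 32, sg (W (nat_lit 0x14c5113c531444f)), [[84]], 39, 1⟩
noncomputable def GM_w0_1_v3 : Lev :=
  ⟨2, 3, sg (W (nat_lit 0x15455)), [], 40, 0⟩
noncomputable def GM_w0_1_vs4 : List Lev :=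
  []
noncomputable def GM_w0_1_vs3 : List Lev :=
  GM_w0_1_v3 :: GM_w0_1_vs4
noncomputable def GM_w0_1_vs2 : List Lev :=
  GM_w0_1_v2 :: GM_w0_1_vs3
noncomputable def GM_w0_1_vs1 : List Lev :=
  GM_w0_1_v1 :: GM_w0_1_vs2
noncomputable def GM_w0_1_vs : List Lev :=
  GM_w0_1_v0 :: GM_w0_1_vs1
noncomputable def zcj36 : List (List ℕ) :=
  [W (nat_lit 0x210741103409030190201d),
  W (nat_lit 0x8c100440e0301d01c0b)]
noncomputable def GM_v0 : Lev :=
  ⟨0, 100, sg (W (nat_lit 0xc0100c0100c0100c0100c0100c01)), [[6], [8]], 0, 2⟩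
noncomputable def GM_v1 : Lev :=
  ⟨1, 22, sg (W (nat_lit 0x1c070240701c0901c07)), [[10], [8]], 2, 1⟩
noncomputable def GM_v2 : Lev :=
  ⟨2, 21, sg (W (nat_lit 0xb0240b0240b0240b0240b)), [[12], [14]], 3, 2⟩
noncomputable def GM_v3 : Lev :=
  ⟨23, 5, sg (W (nat_lit 0x340d0340d)), [[16], [15], [18]], 5, 2⟩
noncomputable def GM_v4 : Lev :=
  ⟨3, 4, sg (W (nat_lit 0x4c11)), [[20], [22], [15]], 7, 2⟩
noncomputable def GM_v5 : Lev :=
  ⟨5, 3, sg (W (nat_lit 0x5c17)), [[24], [26], [28], [30]], 9, 4⟩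
noncomputable def GM_v6 : Lev :=
  ⟨24, 4, sg (W (nat_lit 0x7419)), [[32], [34]], 13, 2⟩
noncomputable def GM_v7 : Lev :=
  ⟨60, 2, sg [32], [[34]], 15, 0⟩
noncomputable def GM_v8 : Lev :=
  ⟨4, 2, sg [34], [], 15, 0⟩
noncomputable def GM_vs9 : List Lev :=
  []
noncomputable def GM_vs8 : List Lev :=
  GM_v8 :: GM_vs9
noncomputable def GM_vs7 : List Lev :=
  GM_v7 :: GM_vs8
noncomputable def GM_vs6 : List Lev :=
  GM_v6 :: GM_vs7
noncomputable def GM_vs5 : List Lev :=
  GM_v5 :: GM_vs6
noncomputable def GM_vs4 : List Lev :=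
  GM_v4 :: GM_vs5
noncomputable def GM_vs3 : List Lev :=
  GM_v3 :: GM_vs4
noncomputable def GM_vs2 : List Lev :=
  GM_v2 :: GM_vs3
noncomputable def GM_vs1 : List Lev :=
  GM_v1 :: GM_vs2
noncomputable def GM_vs : List Lev :=
  GM_v0 :: GM_vs1
noncomputable def zcj40 : List (List ℕ) :=
  [W (nat_lit 0x841f040130340c01c07),
  W (nat_lit 0x8c1f040110341d0241301c0e)]
noncomputable def zB43 : List BG :=
  [⟨[72], [([10], W (nat_lit 0x841f040130340c01c07)), ([8], W (nat_lit 0x8c1f040110341d0241301c0e))],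
  [([⟨[], W (nat_lit 0x702c09), 2, W (nat_lit 0x23064090380702c09)⟩], []),
   ([⟨[], W (nat_lit 0x2017), 1, W (nat_lit 0x8c190440d074090301901c0a)⟩,
    ⟨[6], W (nat_lit 0x1c0c), 2, W (nat_lit 0x230841d03c0d0300901c0d)⟩], W (nat_lit 0x1004020040200801008010080100801)),
   ([⟨[], [], 0, []⟩,
    ⟨[6], W (nat_lit 0x240d), 1, W (nat_lit 0x84190340d0240c0201f)⟩], W (nat_lit 0x2004010080100801))]⟩]
noncomputable def zE44 : List (ℕ × List ℕ) :=
  [(0, W (nat_lit 0x8c2107c1001c121244901c09)),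
  (2, W (nat_lit 0x190401103c0e02c0d0204912411))]
noncomputable def zt49 : List ℕ :=
  []
noncomputable def zcj50 : List (List ℕ) :=
  []
noncomputable def zE53 : List (ℕ × List ℕ) :=
  [(66, W (nat_lit 0x11c45))]
noncomputable def zt54 : List ℕ :=
  []
noncomputable def zcj55 : List (List ℕ) :=
  [[70]]
noncomputable def zus59 : List (List ℕ) :=
  [[60],
  [54],
  W (nat_lit 0xdc3d)]
noncomputable def zF60 : List (List (ℕ × List ℕ)) :=
  [[(1, []),
   (0, []),
   (3, []),
   (2, [])],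
  [(2, []),
   (3, []),
   (0, []),
   (1, [])],
  [(2, [70]),
   (3, [70]),
   (0, [70]),
   (1, [70])],
  [(2, W (nat_lit 0x11c43)),
   (3, W (nat_lit 0x11c43)),
   (0, W (nat_lit 0x11c43)),
   (1, W (nat_lit 0x11c43))]]
noncomputable def zE63 : List (ℕ × List ℕ) :=
  [(56, W (nat_lit 0x370f43b))]
noncomputable def zt64 : List ℕ :=
  [70]
noncomputable def zcj65 : List (List ℕ) :=
  [W (nat_lit 0x11c430dc3d),
  W (nat_lit 0x11c37),
  [54],
  W (nat_lit 0x4710c37)]
noncomputable def zus69 : List (List ℕ) :=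
  [[50],
  [51]]
noncomputable def zF70 : List (List (ℕ × List ℕ)) :=
  [[(1, []),
   (2, []),
   (0, [])],
  [(1, W (nat_lit 0x10c39)),
   (0, W (nat_lit 0x370f439)),
   (2, W (nat_lit 0x11c430dc39))]]
noncomputable def zus73 : List (List ℕ) :=
  [[46],
  [47],
  [48]]
noncomputable def zF74 : List (List (ℕ × List ℕ)) :=
  [[(1, []),
   (3, W (nat_lit 0x430e433)),
   (0, []),
   (2, W (nat_lit 0x470dc3d0e433))],
  [(3, []),
   (2, W (nat_lit 0x4710c370e434)),
   (0, [50]),
   (1, W (nat_lit 0x4710c39))]]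
noncomputable def zus77 : List (List ℕ) :=
  [[42],
  [43],
  W (nat_lit 0xac2b),
  W (nat_lit 0xac31)]
noncomputable def zF78 : List (List (ℕ × List ℕ)) :=
  [[(0, W (nat_lit 0x470dc3d0d031)),
   (3, W (nat_lit 0x4710c3d0d02f)),
   (1, W (nat_lit 0xcc2f)),
   (4, W (nat_lit 0xdc390d031)),
   (2, W (nat_lit 0x4710c390d031))],
  [(1, []),
   (3, []),
   (0, []),
   (4, W (nat_lit 0x470dc3d0cc30)),
   (2, W (nat_lit 0x11c430dc3d0cc30))]]
noncomputable def zus81 : List (List ℕ) :=
  [[40],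
  [41],
  W (nat_lit 0xa429),
  W (nat_lit 0xa42b),
  W (nat_lit 0xa42c),
  W (nat_lit 0xa439),
  W (nat_lit 0xa436),
  W (nat_lit 0xa430),
  W (nat_lit 0xa431),
  W (nat_lit 0xa433),
  W (nat_lit 0x290a42d),
  W (nat_lit 0xa43a),
  W (nat_lit 0xa42f),
  W (nat_lit 0x290a430),
  W (nat_lit 0xa435),
  W (nat_lit 0x290ac39),
  W (nat_lit 0x290a42e),
  W (nat_lit 0xa432),
  W (nat_lit 0xa832),
  W (nat_lit 0xa447)]
noncomputable def zF82 : List (List (ℕ × List ℕ)) :=
  [[(1, []),
   (3, []),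
   (0, []),
   (9, W (nat_lit 0x11c370d02f0ac2b)),
   (8, W (nat_lit 0xf4340ac2b)),
   (7, W (nat_lit 0x11c3d0cc2b)),
   (2, W (nat_lit 0x11c430f4300ac31)),
   (16, W (nat_lit 0x470e4300ac31)),
   (12, W (nat_lit 0xdc340bc2c)),
   (10, W (nat_lit 0xdc3d0cc300ac31)),
   (14, W (nat_lit 0x11c340c42b)),
   (4, W (nat_lit 0x370cc300ac2b)),
   (5, W (nat_lit 0x10c3d0cc300ac31)),
   (6, W (nat_lit 0x470cc30)),
   (17, W (nat_lit 0x370f4330ac31)),
   (13, W (nat_lit 0x4710c2f)),
   (11, W (nat_lit 0xdc3d0cc2c)),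
   (19, W (nat_lit 0x370f4390c42b)),
   (20, W (nat_lit 0x3d0ac2b)),
   (18, W (nat_lit 0x11c430e42b)),
   (15, W (nat_lit 0xdc2c))],
  [(0, [42]),
   (4, []),
   (7, W (nat_lit 0xf4330c42b)),
   (5, W (nat_lit 0x4710c370f4330bc2b)),
   (10, W (nat_lit 0xe4340c02c)),
   (1, []),
   (14, W (nat_lit 0xdc3d0e434)),
   (17, W (nat_lit 0x4710c3d0c42b)),
   (2, W (nat_lit 0xdc3d0e4310ac31)),
   (11, W (nat_lit 0xdc3d0d0300ac2b)),
   (3, W (nat_lit 0x11c370e4300ac31)),
   (19, W (nat_lit 0x10c3d0e434)),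
   (8, W (nat_lit 0xd02c)),
   (18, W (nat_lit 0x370f4390d0310ac2b)),
   (16, W (nat_lit 0x10c370f4390ac2b)),
   (6, W (nat_lit 0x370f4390d0310ac2b)),
   (20, W (nat_lit 0x11c370cc310ac2b)),
   (12, W (nat_lit 0x10c390cc2b)),
   (9, W (nat_lit 0xdc3d0e4330bc2b)),
   (13, W (nat_lit 0x370e4340c02c)),
   (15, W (nat_lit 0xc42b))]]
noncomputable def zus85 : List (List ℕ) :=
  [[36],
  [37],
  [38],
  [39],
  W (nat_lit 0x9425),
  W (nat_lit 0x9427),
  W (nat_lit 0x942e),
  W (nat_lit 0x9827),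
  W (nat_lit 0x9429),
  W (nat_lit 0x9430),
  W (nat_lit 0x983f),
  W (nat_lit 0x982c),
  W (nat_lit 0x9830),
  W (nat_lit 0xa02a),
  W (nat_lit 0x9831),
  W (nat_lit 0x9834),
  W (nat_lit 0x942d),
  W (nat_lit 0x942a),
  W (nat_lit 0x9833),
  W (nat_lit 0x9829),
  W (nat_lit 0x942c)]
noncomputable def zF86 : List (List (ℕ × List ℕ)) :=
  [[(1, []),
   (5, []),
   (0, []),
   (6, W (nat_lit 0x4710c370f4390cc300ac2b0a832)),
   (10, W (nat_lit 0x3d0e42b0ac290a430)),
   (7, W (nat_lit 0xdc310ac2b0a430)),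
   (15, W (nat_lit 0x470dc3d0e4340ac290a430)),
   (2, W (nat_lit 0x430e42f0ac2b0a42c)),
   (11, W (nat_lit 0xdc330ac310a429)),
   (3, W (nat_lit 0x390c02b0c4290a430)),
   (17, W (nat_lit 0x470dc390bc2b0c4290a42d)),
   (4, W (nat_lit 0x11c2f0a435)),
   (19, W (nat_lit 0x470dc3d0e4300a430)),
   (13, W (nat_lit 0xf4310ac290a42e)),
   (14, W (nat_lit 0x4710c3d0e4310ac310a447)),
   (18, W (nat_lit 0x4710c3d0e4330c02b0a435)),
   (20, W (nat_lit 0x10c340c02b0ac290ac39)),
   (8, W (nat_lit 0x3d0d02f0b029)),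
   (9, W (nat_lit 0x4710c340ac2b0a432)),
   (21, W (nat_lit 0x430dc3d0e4340b0290a42e)),
   (12, W (nat_lit 0x11c430dc3d0d02c0a42b)),
   (16, W (nat_lit 0x470dc3d0e4340bc2b0c4290a42e))],
  [(3, []),
   (6, []),
   (8, []),
   (1, [42]),
   (0, []),
   (13, W (nat_lit 0x430f4330ac2b0a832)),
   (15, W (nat_lit 0x4710c370e42b0a431)),
   (16, W (nat_lit 0x11c430dc390cc300ac310a433)),
   (12, W (nat_lit 0x10c390cc310a432)),
   (2, W (nat_lit 0x10c3d0ac2b)),
   (18, W (nat_lit 0x3d0e4310b02a)),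
   (10, W (nat_lit 0x430f4390b02a)),
   (4, []),
   (11, W (nat_lit 0x430dc3d0a431)),
   (5, W (nat_lit 0x10c370f4340b029)),
   (9, W (nat_lit 0x4710c3d0cc2f0ac2b)),
   (7, W (nat_lit 0x470c42b0a42c)),
   (21, W (nat_lit 0x10c370f4390bc2c0a432)),
   (19, W (nat_lit 0x430dc390d0300b0290ac39)),
   (20, W (nat_lit 0x4710c370f4390cc300a439)),
   (17, W (nat_lit 0x11c430dc330c42b0ac290ac39)),
   (14, W (nat_lit 0xdc3d0bc2c0a431))]]
noncomputable def zrs89 : List (ℕ × List ℕ) :=
  [(75, W (nat_lit 0x570cc57)),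
  (1, [87])]
noncomputable def GA_w0_1_v0 : Lev :=
  ⟨75, 77, sg (W (nat_lit 0x2709c2509c2509c2509c2509c25)), [[88], [90]], 41, 2⟩
noncomputable def GA_w0_1_v1 : Lev :=
  ⟨24, 60, sg (W (nat_lit 0x5916c5916c5916c5916c5916c59)), [[92], [94]], 43, 2⟩
noncomputable def GA_w0_1_v2 : Lev :=
  ⟨28, 32, sg (W (nat_lit 0x5d1745d17c5d17c5d17c5d)), [[96], [98]], 45, 2⟩
noncomputable def GA_w0_1_v3 : Lev :=
  ⟨5, 6, sg (W (nat_lit 0x6118c61)), [], 47, 0⟩
noncomputable def GA_w0_1_vs4 : List Lev :=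
  []
noncomputable def GA_w0_1_vs3 : List Lev :=
  GA_w0_1_v3 :: GA_w0_1_vs4
noncomputable def GA_w0_1_vs2 : List Lev :=
  GA_w0_1_v2 :: GA_w0_1_vs3
noncomputable def GA_w0_1_vs1 : List Lev :=
  GA_w0_1_v1 :: GA_w0_1_vs2
noncomputable def GA_w0_1_vs : List Lev :=
  GA_w0_1_v0 :: GA_w0_1_vs1
noncomputable def zcj91 : List (List ℕ) :=
  [W (nat_lit 0xf4330c42c0a43609425),
  W (nat_lit 0x10c370e4330ac2b0a42b)]
noncomputable def GA_v0 : Lev :=
  ⟨0, 100, sg (W (nat_lit 0x1004030140100c030140100c01)), [[36], [38]], 15, 2⟩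
noncomputable def GA_v1 : Lev :=
  ⟨1, 22, sg (W (nat_lit 0x270942509c2509c25)), [[40], [42]], 17, 2⟩
noncomputable def GA_v2 : Lev :=
  ⟨2, 21, sg (W (nat_lit 0xa42b0a42b0a42b0a429)), [[44], [42]], 19, 1⟩
noncomputable def GA_v3 : Lev :=
  ⟨23, 5, sg (W (nat_lit 0xb42d0b42b)), [[46], [48]], 20, 2⟩
noncomputable def GA_v4 : Lev :=
  ⟨3, 4, sg (W (nat_lit 0x2f0bc2f)), [[50], [52]], 22, 2⟩
noncomputable def GA_v5 : Lev :=
  ⟨5, 3, sg (W (nat_lit 0xcc33)), [[54], [56], [58]], 24, 3⟩
noncomputable def GA_v6 : Lev :=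
  ⟨14, 2, sg [56], [[60], [54], [62], [64]], 27, 3⟩
noncomputable def GA_v7 : Lev :=
  ⟨24, 4, sg (W (nat_lit 0xdc3d)), [[66], [68]], 30, 2⟩
noncomputable def GA_v8 : Lev :=
  ⟨60, 2, sg [66], [[70]], 32, 1⟩
noncomputable def GA_v9 : Lev :=
  ⟨4, 2, sg [70], [], 33, 0⟩
noncomputable def GA_vs10 : List Lev :=
  []
noncomputable def GA_vs9 : List Lev :=
  GA_v9 :: GA_vs10
noncomputable def GA_vs8 : List Lev :=
  GA_v8 :: GA_vs9
noncomputable def GA_vs7 : List Lev :=
  GA_v7 :: GA_vs8
noncomputable def GA_vs6 : List Lev :=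
  GA_v6 :: GA_vs7
noncomputable def GA_vs5 : List Lev :=
  GA_v5 :: GA_vs6
noncomputable def GA_vs4 : List Lev :=
  GA_v4 :: GA_vs5
noncomputable def GA_vs3 : List Lev :=
  GA_v3 :: GA_vs4
noncomputable def GA_vs2 : List Lev :=
  GA_v2 :: GA_vs3
noncomputable def GA_vs1 : List Lev :=
  GA_v1 :: GA_vs2
noncomputable def GA_vs : List Lev :=
  GA_v0 :: GA_vs1
noncomputable def zcj95 : List (List ℕ) :=
  [W (nat_lit 0x11c430f4340bc2b0ac290a43009831),
  W (nat_lit 0x10c370f42c0a435)]
noncomputable def zB98 : List BG :=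
  [⟨[86], [([40], W (nat_lit 0x11c430f4340bc2b0ac290a43009831)), ([42], W (nat_lit 0x10c370f42c0a435))],
  [([⟨[], W (nat_lit 0x9429), 2, W (nat_lit 0x4710c3d0e4340ac2b0a42b09429)⟩], []),
   ([⟨[], W (nat_lit 0x9428), 1, W (nat_lit 0x10c3d0e4330ac310a4350942c)⟩,
    ⟨[38], W (nat_lit 0x983f), 2, W (nat_lit 0x11c430f4390bc2b0a83209827)⟩], W (nat_lit 0x10040200401008010080100801)),
   ([⟨[], [], 0, []⟩,
    ⟨[36], W (nat_lit 0xa02f), 1, W (nat_lit 0x430f4300ac2b0a43609829)⟩], W (nat_lit 0x401008010080100801))]⟩]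
noncomputable def zE99 : List (ℕ × List ℕ) :=
  [(0, W (nat_lit 0x11c430f4340bc290cc570cc57)),
  (2, W (nat_lit 0x10c3d0c02b0ac290c8250b05715c3a)),
  (4, W (nat_lit 0x470dc3d0d02b0c42909829))]
noncomputable def zm104 : ℕ :=
  (nat_lit 0x4010002040080220100040040)
noncomputable def zm105 : ℕ :=
  (nat_lit 0x4000000000000000000000)
noncomputable def cL_F : List (List ℕ × ℕ × ℕ) :=
  [(W (nat_lit 0x10040100401), zm104, zm104),
  ([2], zm105, zm105)]
noncomputable def cLG_v0 : Lev :=
  ⟨6, 100, sg (W (nat_lit 0x40101403004030040500c01)), [[100], [102]], 47, 2⟩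
noncomputable def cLG_v1 : Lev :=
  ⟨1, 77, sg (W (nat_lit 0x651946519c6519c6519c6519c65)), [[104], [106]], 49, 2⟩
noncomputable def cLG_v2 : Lev :=
  ⟨2, 60, sg (W (nat_lit 0x691ac691ac691ac691ac691ac69)), [[108], [110], [112]], 51, 3⟩
noncomputable def cLG_v3 : Lev :=
  ⟨3, 32, sg (W (nat_lit 0x6d1b46d1c46d1bc6d)), [[114], [116]], 54, 2⟩
noncomputable def cLG_v4 : Lev :=
  ⟨4, 6, sg (W (nat_lit 0x731d473)), [], 56, 0⟩
noncomputable def cLG_vs5 : List Lev :=
  []
noncomputable def cLG_vs4 : List Lev :=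
  cLG_v4 :: cLG_vs5
noncomputable def cLG_vs3 : List Lev :=
  cLG_v3 :: cLG_vs4
noncomputable def cLG_vs2 : List Lev :=
  cLG_v2 :: cLG_vs3
noncomputable def cLG_vs1 : List Lev :=
  cLG_v1 :: cLG_vs2
noncomputable def cLG_vs : List Lev :=
  cLG_v0 :: cLG_vs1
noncomputable def cL_x : List (ℕ × List ℕ) :=
  [((nat_lit 0), []),
  ((nat_lit 0), [(nat_lit 0xf860c04a0c1204a22000001)]),
  ((nat_lit 0), [(nat_lit 0x4a22000001),
   (nat_lit 0xf860c04a0c1200000000000)]),
  ((nat_lit 0), []),
  ((nat_lit 0), [])]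
noncomputable def cL_G : Gl :=
  ⟨P, ns, (app D []), (diag [[0], [2]]), [], [], memM (app D []) [], true⟩
noncomputable def cL_s : St :=
  ⟨(mkS P.n cLG_vs cL_x), [[0], [2], [4]], [], mapL Prod.snd cL_F, memM (app D []) [], []⟩
noncomputable def zt109 : ST :=
  (.img (W (nat_lit 0x803)) 0 (.and 1 0 (.img (W (nat_lit 0xc01)) 3 (.dif 1 0 (.br 0 [] [] [(6, [])] (.cons (.img [3] 5 (.orb 0 (.img (W (nat_lit 0x802)) 0 (.and 2 0 (.dif 0 9 (.br 0 [] [] [(1, [])] (.cons (.orb 0 (.img (W (nat_lit 0xc02)) 0 (.orb 1 (.img (W (nat_lit 0x1002)) 0 (.and 2 0 (.br 0 [] [] [(2, [])] (.cons (.img (W (nat_lit 0x1002)) 1 (.br 0 [] [] [(3, [])] (.cons (.img [1] 9 (.br 0 [] [] [(4, [])] (.cons .fnd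
 .nil)))
 .nil)))
 .nil)))))))
 .nil)))))))
 .nil))))))
noncomputable def S_ps : List PcG :=
  [⟨[122], 2, [156], [W (nat_lit 0x22c9d24c79), W (nat_lit 0x22c93), W (nat_lit 0x26495), W (nat_lit 0x9d26497), W (nat_lit 0x9d26c99), W (nat_lit 0x22c9b), [156], [138]]⟩,
  ⟨[120], 2, [146], [[146], [150], [148], W (nat_lit 0x26c99), W (nat_lit 0x22c9b), W (nat_lit 0x22c9d), [138]]⟩,
  ⟨[146], 2, [138], [[148], [150], [152], [154], [156], [138]]⟩,
  ⟨[148], 2, W (nat_lit 0x26c99), [W (nat_lit 0x8b27497), W (nat_lit 0x22c9d26c99), [156], W (nat_lit 0x22c9b), [138]]⟩,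
  ⟨[150], 2, [152], [[152], [156], W (nat_lit 0x22c9b), [138]]⟩,
  ⟨[152], 2, [], [W (nat_lit 0x22c9b), W (nat_lit 0x22c9d), [138]]⟩,
  ⟨[154], 2, [138], [[156], [138]]⟩,
  ⟨[156], 2, [138], [[138]]⟩,
  ⟨[138], 2, [], []⟩]
noncomputable def zE113 : List (ℕ × List ℕ) :=
  [(118, [150])]
noncomputable def S_v0 : Lev :=
  ⟨12, 4, sg (W (nat_lit 0x791dc79)), [[119], [124], [126]], 59, 2⟩
noncomputable def S_v1 : Lev :=
  ⟨33, 2, sg [119], [[128], [125], [130], [132]], 61, 3⟩
noncomputable def S_v2 : Lev :=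
  ⟨1, 4, sg (W (nat_lit 0x1f881)), [[134], [136], [138], [140]], 64, 4⟩
noncomputable def S_v3 : Lev :=
  ⟨0, 4, sg (W (nat_lit 0x22c87)), [[142], [144]], 68, 2⟩
noncomputable def S_v4 : Lev :=
  ⟨2, 2, sg [142], [[144]], 70, 0⟩
noncomputable def S_v5 : Lev :=
  ⟨3, 2, sg [144], [], 70, 0⟩
noncomputable def S_vs6 : List Lev :=
  []
noncomputable def S_vs5 : List Lev :=
  S_v5 :: S_vs6
noncomputable def S_vs4 : List Lev :=
  S_v4 :: S_vs5
noncomputable def S_vs3 : List Lev :=
  S_v3 :: S_vs4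
noncomputable def S_vs2 : List Lev :=
  S_v2 :: S_vs3
noncomputable def S_vs1 : List Lev :=
  S_v1 :: S_vs2
noncomputable def S_vs : List Lev :=
  S_v0 :: S_vs1
noncomputable def zts118 : List (List ℕ) :=
  [W (nat_lit 0x641002c0800817),
  W (nat_lit 0x641103c0d02c1201c1000803),
  W (nat_lit 0x230841f040130340d02c1201c0b020010040f)]
noncomputable def zm121 : ℕ :=
  (nat_lit 0x1004400000000800800801002)
noncomputable def zm122 : ℕ :=
  (nat_lit 0x9040010021028a55300011022)
noncomputable def zm123 : ℕ :=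
  (nat_lit 0x1000010000000054200011000)
noncomputable def cS_F : List (List ℕ × ℕ × ℕ) :=
  [([0], zm121, zm121),
  (W (nat_lit 0xc0300c03), zm122, zm122),
  (W (nat_lit 0x1405), zm123, zm123)]
noncomputable def cSG_v0 : Lev :=
  ⟨6, 100, sg (W (nat_lit 0x40101403004030040500c01)), [[100], [102]], 47, 2⟩
noncomputable def cSG_v1 : Lev :=
  ⟨1, 77, sg (W (nat_lit 0x651946519c6519c6519c6519c65)), [[104], [106]], 49, 2⟩
noncomputable def cSG_v2 : Lev :=
  ⟨2, 60, sg (W (nat_lit 0x691ac691ac691ac691ac691ac69)), [[108], [110], [112]], 51, 3⟩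
noncomputable def cSG_v3 : Lev :=
  ⟨3, 32, sg (W (nat_lit 0x6d1b46d1c46d1bc6d)), [[114], [116]], 54, 2⟩
noncomputable def cSG_v4 : Lev :=
  ⟨4, 6, sg (W (nat_lit 0x731d473)), [], 56, 0⟩
noncomputable def cSG_vs5 : List Lev :=
  []
noncomputable def cSG_vs4 : List Lev :=
  cSG_v4 :: cSG_vs5
noncomputable def cSG_vs3 : List Lev :=
  cSG_v3 :: cSG_vs4
noncomputable def cSG_vs2 : List Lev :=
  cSG_v2 :: cSG_vs3
noncomputable def cSG_vs1 : List Lev :=
  cSG_v1 :: cSG_vs2
noncomputable def cSG_vs : List Lev :=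
  cSG_v0 :: cSG_vs1
noncomputable def cS_x : List (ℕ × List ℕ) :=
  [((nat_lit 0x40000000000002), []),
  ((nat_lit 0), [(nat_lit 0xf860c04a0c1204a22000001)]),
  ((nat_lit 0), [(nat_lit 0xf860c04a0c1200000000000),
   (nat_lit 0xfb5dd800000)]),
  ((nat_lit 0), []),
  ((nat_lit 0), [(nat_lit 0x448a10),
   (nat_lit 0x2400020000000000000000000)])]
noncomputable def cS_G : Gl :=
  ⟨P, ns, (app D []), (diag [[118], [120], [122]]), [], [], memM (app D []) [[158]], true⟩
noncomputable def cS_s : St :=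
  ⟨(mkS P.n cSG_vs cS_x), [[0], [2], [4]], [], mapL Prod.snd cS_F, memM (app D []) [[158]], []⟩
noncomputable def zt127 : ST :=
  (.img [2] 0 (.dif 0 2 (.br 0 [[158]] [0] [(14, W (nat_lit 0x106d)), (6, [])] (.cons (.img [5] 0 (.orb 0 (.img [2] 0 (.and 2 0 (.mis 0)))))
 (.cons (.orb 0 (.img [2] 0 (.and 5 0 (.dif 0 8 (.br 0 [] [] [(1, [])] (.cons (.orb 0 (.img [1] 0 (.orb 1 (.img [3] 0 (.and 2 0 (.img [2] 9 (.and 1 0 (.br 0 [] [] [(2, [])] (.cons (.img [1] 1 (.br 0 [] [] [(3, [])] (.cons (.orb 0 (.orb 1 (.img [2] 0 (.and 2 0 (.br 0 [] [] [(4, [])] (.cons .fnd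
 .nil))))))
 .nil)))
 .nil)))))))))
 .nil))))))
 .nil)))))
noncomputable def zts131 : List (List ℕ) :=
  [W (nat_lit 0x2107c0f0440b0280800809)]
noncomputable def T_v0 : Lev :=
  ⟨25, 4, sg (W (nat_lit 0x28ca1)), [[180], [182], [184], [186]], 87, 4⟩
noncomputable def T_v1 : Lev :=
  ⟨84, 2, sg [184], [[188], [190], [192]], 91, 3⟩
noncomputable def T_v2 : Lev :=
  ⟨2, 4, sg (W (nat_lit 0xbd304bd)), [[191], [194], [196]], 94, 2⟩
noncomputable def T_v3 : Lev :=
  ⟨7, 2, sg [194], [[198], [200], [202], [190]], 96, 3⟩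
noncomputable def T_v4 : Lev :=
  ⟨0, 4, sg (W (nat_lit 0x32cc7)), [[200], [190]], 99, 0⟩
noncomputable def T_v5 : Lev :=
  ⟨4, 2, sg [200], [[204]], 99, 1⟩
noncomputable def T_v6 : Lev :=
  ⟨1, 2, sg [204], [], 100, 0⟩
noncomputable def T_vs7 : List Lev :=
  []
noncomputable def T_vs6 : List Lev :=
  T_v6 :: T_vs7
noncomputable def T_vs5 : List Lev :=
  T_v5 :: T_vs6
noncomputable def T_vs4 : List Lev :=
  T_v4 :: T_vs5
noncomputable def T_vs3 : List Lev :=
  T_v3 :: T_vs4
noncomputable def T_vs2 : List Lev :=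
  T_v2 :: T_vs3
noncomputable def T_vs1 : List Lev :=
  T_v1 :: T_vs2
noncomputable def T_vs : List Lev :=
  T_v0 :: T_vs1
noncomputable def T_ps : List PcG :=
  [⟨[160], 2, [178], [W (nat_lit 0x2ccb12bcad29ca3), W (nat_lit 0x2bcab29ca5), W (nat_lit 0xb32bca7), W (nat_lit 0x2cca9), W (nat_lit 0x2bcab), W (nat_lit 0x2bcad), W (nat_lit 0x2ccaf), W (nat_lit 0x2ccb1), [178]]⟩,
  ⟨[162], 2, W (nat_lit 0xb12bcad), [W (nat_lit 0xb32c4af2b4ab29ca5), W (nat_lit 0xb32bca7), W (nat_lit 0xb12bcad2aca9), [170], W (nat_lit 0x2c4ad), W (nat_lit 0xb32c4af), W (nat_lit 0x2ccb1), [178]]⟩,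
  ⟨[164], 2, W (nat_lit 0x2ccaf2aca7), [W (nat_lit 0x2bca7), W (nat_lit 0xb32c4a9), W (nat_lit 0x2ccb12bcab), W (nat_lit 0x2bcad), W (nat_lit 0xb32c4af), W (nat_lit 0x2ccb1), [178]]⟩,
  ⟨[166], 2, W (nat_lit 0x2ccb1), [W (nat_lit 0x2cca9), W (nat_lit 0x2c4ab), W (nat_lit 0x2c4ad), [174], [176], [178]]⟩,
  ⟨[168], 2, [178], [[170], W (nat_lit 0x2ccad), [174], [176], [178]]⟩,
  ⟨[170], 2, [178], [W (nat_lit 0x2ccad), W (nat_lit 0x2ccaf), [176], [178]]⟩,
  ⟨[172], 2, [], [W (nat_lit 0x2ccaf), [176], [178]]⟩,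
  ⟨[174], 2, [178], [[176], [178]]⟩,
  ⟨[176], 2, [], [[178]]⟩,
  ⟨[178], 2, [], []⟩]
noncomputable def v0_E : List (ℕ × List CE) :=
  [(3, [])]
noncomputable def v0_R : List (List ℕ) :=
  [[],
  [160]]
noncomputable def zts140 : List (List ℕ) :=
  [W (nat_lit 0x470dc340bc2b0c4290ac390983000c36),
  W (nat_lit 0x10c370e4340bc2b0a02a00829),
  W (nat_lit 0x330ac310982700c03),
  W (nat_lit 0x2b0a4290c028),
  W (nat_lit 0x10c340bc2c0a4250b803),
  W (nat_lit 0xe4300ac310a4290b4260d00100403),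
  W (nat_lit 0x390cc2f0ac310a4470983001027),
  W (nat_lit 0x470f4390c42b0ac290ac260b0010042e),
  W (nat_lit 0xe4340c42b0a4310982700c29),
  W (nat_lit 0x370e4330c42c0a4300942a00c29)]
noncomputable def zcj143 : List (List (List ℕ)) :=
  [[W (nat_lit 0x2ccb12bcad29ca3), W (nat_lit 0x2bcab29ca5), W (nat_lit 0xb32bca7), W (nat_lit 0x2cca9), W (nat_lit 0x2bcab), W (nat_lit 0x2bcad), W (nat_lit 0x2ccaf), W (nat_lit 0x2ccb1), [178]],
  [[162], W (nat_lit 0xb32c4af2b4ab29ca5), W (nat_lit 0xb32bca7), W (nat_lit 0xb12bcad2aca9), [170], W (nat_lit 0x2c4ad), W (nat_lit 0xb32c4af), W (nat_lit 0x2ccb1), [178]],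
  [W (nat_lit 0x2ccaf2b4ab29ca3), [164], W (nat_lit 0x2bca7), W (nat_lit 0xb32c4a9), W (nat_lit 0x2ccb12bcab), W (nat_lit 0x2bcad), W (nat_lit 0xb32c4af), W (nat_lit 0x2ccb1), [178]],
  [W (nat_lit 0x2bca3), W (nat_lit 0xb32bca5), [166], W (nat_lit 0x2cca9), W (nat_lit 0x2c4ab), W (nat_lit 0x2c4ad), [174], [176], [178]],
  [W (nat_lit 0x2ccb12bcad2aca3), W (nat_lit 0xb32c4a5), W (nat_lit 0x2cca7), [168], [170], W (nat_lit 0x2ccad), [174], [176], [178]],
  [[162], W (nat_lit 0xb12bca5), W (nat_lit 0x2c4a7), [168], [170], W (nat_lit 0x2ccad), W (nat_lit 0x2ccaf), [176], [178]],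
  [W (nat_lit 0x2c4a3), W (nat_lit 0xb32bca5), W (nat_lit 0x2c4a7), W (nat_lit 0x2cca9), W (nat_lit 0x2ccab), [172], W (nat_lit 0x2ccaf), [176], [178]],
  [W (nat_lit 0xb32c4a3), W (nat_lit 0xb32c4a5), [166], [168], W (nat_lit 0x2ccab), W (nat_lit 0x2ccad), [174], [176], [178]],
  [W (nat_lit 0x2cca3), W (nat_lit 0x2cca5), [166], [168], [170], [172], [174], [176], [178]],
  [[162], [164], [166], [168], [170], [172], [174], [176], [178]]]
noncomputable def v1_E : List (ℕ × List CE) :=
  [(3, []),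
  (3, [])]
noncomputable def v1_R : List (List ℕ) :=
  [[],
  [162],
  [160],
  W (nat_lit 0x28ca1)]
noncomputable def zcj150 : List (List (List ℕ)) :=
  [[W (nat_lit 0x2bcab29ca5), W (nat_lit 0xb32bca7), W (nat_lit 0x2cca9), W (nat_lit 0x2bcab), W (nat_lit 0x2bcad), W (nat_lit 0x2ccaf), W (nat_lit 0x2ccb1), [178]],
  [W (nat_lit 0xb32c4af2b4ab29ca5), W (nat_lit 0xb32bca7), W (nat_lit 0xb12bcad2aca9), [170], W (nat_lit 0x2c4ad), W (nat_lit 0xb32c4af), W (nat_lit 0x2ccb1), [178]],
  [[164], W (nat_lit 0x2bca7), W (nat_lit 0xb32c4a9), W (nat_lit 0x2ccb12bcab), W (nat_lit 0x2bcad), W (nat_lit 0xb32c4af), W (nat_lit 0x2ccb1), [178]],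
  [W (nat_lit 0xb32bca5), [166], W (nat_lit 0x2cca9), W (nat_lit 0x2c4ab), W (nat_lit 0x2c4ad), [174], [176], [178]],
  [W (nat_lit 0xb32c4a5), W (nat_lit 0x2cca7), [168], [170], W (nat_lit 0x2ccad), [174], [176], [178]],
  [W (nat_lit 0xb12bca5), W (nat_lit 0x2c4a7), [168], [170], W (nat_lit 0x2ccad), W (nat_lit 0x2ccaf), [176], [178]],
  [W (nat_lit 0xb32bca5), W (nat_lit 0x2c4a7), W (nat_lit 0x2cca9), W (nat_lit 0x2ccab), [172], W (nat_lit 0x2ccaf), [176], [178]],
  [W (nat_lit 0xb32c4a5), [166], [168], W (nat_lit 0x2ccab), W (nat_lit 0x2ccad), [174], [176], [178]],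
  [W (nat_lit 0x2cca5), [166], [168], [170], [172], [174], [176], [178]],
  [[164], [166], [168], [170], [172], [174], [176], [178]]]
noncomputable def v2_E : List (ℕ × List CE) :=
  [(3, []),
  (3, []),
  (3, []),
  (3, [])]
noncomputable def v2_R : List (List ℕ) :=
  [[],
  [164],
  [162],
  W (nat_lit 0x294a3),
  [160],
  W (nat_lit 0x294a1),
  W (nat_lit 0x28ca1),
  W (nat_lit 0xa528ca1)]
noncomputable def zcj157 : List (List (List ℕ)) :=
  [[W (nat_lit 0xb32bca7), W (nat_lit 0x2cca9), W (nat_lit 0x2bcab), W (nat_lit 0x2bcad), W (nat_lit 0x2ccaf), W (nat_lit 0x2ccb1), [178]],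
  [W (nat_lit 0xb32bca7), W (nat_lit 0xb12bcad2aca9), [170], W (nat_lit 0x2c4ad), W (nat_lit 0xb32c4af), W (nat_lit 0x2ccb1), [178]],
  [W (nat_lit 0x2bca7), W (nat_lit 0xb32c4a9), W (nat_lit 0x2ccb12bcab), W (nat_lit 0x2bcad), W (nat_lit 0xb32c4af), W (nat_lit 0x2ccb1), [178]],
  [[166], W (nat_lit 0x2cca9), W (nat_lit 0x2c4ab), W (nat_lit 0x2c4ad), [174], [176], [178]],
  [W (nat_lit 0x2cca7), [168], [170], W (nat_lit 0x2ccad), [174], [176], [178]],
  [W (nat_lit 0x2c4a7), [168], [170], W (nat_lit 0x2ccad), W (nat_lit 0x2ccaf), [176], [178]],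
  [W (nat_lit 0x2c4a7), W (nat_lit 0x2cca9), W (nat_lit 0x2ccab), [172], W (nat_lit 0x2ccaf), [176], [178]],
  [[166], [168], W (nat_lit 0x2ccab), W (nat_lit 0x2ccad), [174], [176], [178]],
  [[166], [168], [170], [172], [174], [176], [178]],
  [[166], [168], [170], [172], [174], [176], [178]]]
noncomputable def v3_E : List (ℕ × List CE) :=
  [(3, []),
  (0, [⟨true, [], 1, W (nat_lit 0xb32bcab)⟩, ⟨true, [], 1, W (nat_lit 0xb32c4ab)⟩]),
  (1, [ceD, ⟨false, [160], 0, W (nat_lit 0x2c4ad)⟩]),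
  (1, [ceD, ⟨false, [162], 0, W (nat_lit 0x2c4af2b4ab)⟩]),
  (1, [ceD, ⟨false, [162], 0, W (nat_lit 0xb12bcad)⟩]),
  (1, [ceD, ⟨false, [160], 0, W (nat_lit 0x2ccab)⟩]),
  (0, [⟨true, [], 1, W (nat_lit 0x2c4af)⟩, ⟨true, [], 1, W (nat_lit 0xb32c4af)⟩]),
  (3, [])]
noncomputable def v3_R : List (List ℕ) :=
  [[],
  [166],
  [162],
  W (nat_lit 0x294a3),
  [160],
  W (nat_lit 0x294a1),
  W (nat_lit 0xa528ca1),
  W (nat_lit 0x29ca528ca1)]
noncomputable def zcj164 : List (List (List ℕ)) :=
  [[W (nat_lit 0x2cca9), W (nat_lit 0x2bcab), W (nat_lit 0x2bcad), W (nat_lit 0x2ccaf), W (nat_lit 0x2ccb1), [178]],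
  [W (nat_lit 0xb12bcad2aca9), [170], W (nat_lit 0x2c4ad), W (nat_lit 0xb32c4af), W (nat_lit 0x2ccb1), [178]],
  [W (nat_lit 0xb32c4a9), W (nat_lit 0x2ccb12bcab), W (nat_lit 0x2bcad), W (nat_lit 0xb32c4af), W (nat_lit 0x2ccb1), [178]],
  [W (nat_lit 0x2cca9), W (nat_lit 0x2c4ab), W (nat_lit 0x2c4ad), [174], [176], [178]],
  [[168], [170], W (nat_lit 0x2ccad), [174], [176], [178]],
  [[168], [170], W (nat_lit 0x2ccad), W (nat_lit 0x2ccaf), [176], [178]],
  [W (nat_lit 0x2cca9), W (nat_lit 0x2ccab), [172], W (nat_lit 0x2ccaf), [176], [178]],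
  [[168], W (nat_lit 0x2ccab), W (nat_lit 0x2ccad), [174], [176], [178]],
  [[168], [170], [172], [174], [176], [178]],
  [[168], [170], [172], [174], [176], [178]]]
noncomputable def v4_E : List (ℕ × List CE) :=
  [(3, []),
  (3, []),
  (3, []),
  (3, []),
  (3, []),
  (3, []),
  (3, []),
  (3, [])]
noncomputable def v4_R : List (List ℕ) :=
  [[],
  [168],
  [166],
  W (nat_lit 0x2a4a7),
  [162],
  W (nat_lit 0x2a4a3),
  W (nat_lit 0x294a3),
  W (nat_lit 0xa9294a3),
  [160],
  W (nat_lit 0x2a4a1),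
  W (nat_lit 0x294a1),
  W (nat_lit 0xa9294a1),
  W (nat_lit 0xa528ca1),
  W (nat_lit 0x2a4a528ca1),
  W (nat_lit 0x29ca528ca1),
  W (nat_lit 0xa929ca528ca1)]
noncomputable def zcj171 : List (List (List ℕ)) :=
  [[W (nat_lit 0x2bcab), W (nat_lit 0x2bcad), W (nat_lit 0x2ccaf), W (nat_lit 0x2ccb1), [178]],
  [[170], W (nat_lit 0x2c4ad), W (nat_lit 0xb32c4af), W (nat_lit 0x2ccb1), [178]],
  [W (nat_lit 0x2ccb12bcab), W (nat_lit 0x2bcad), W (nat_lit 0xb32c4af), W (nat_lit 0x2ccb1), [178]],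
  [W (nat_lit 0x2c4ab), W (nat_lit 0x2c4ad), [174], [176], [178]],
  [[170], W (nat_lit 0x2ccad), [174], [176], [178]],
  [[170], W (nat_lit 0x2ccad), W (nat_lit 0x2ccaf), [176], [178]],
  [W (nat_lit 0x2ccab), [172], W (nat_lit 0x2ccaf), [176], [178]],
  [W (nat_lit 0x2ccab), W (nat_lit 0x2ccad), [174], [176], [178]],
  [[170], [172], [174], [176], [178]],
  [[170], [172], [174], [176], [178]]]
noncomputable def v5_E : List (ℕ × List CE) :=
  [(3, []),
  (1, [ceD, ⟨false, [162], 0, W (nat_lit 0xb12bcad)⟩]),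
  (3, []),
  (1, [ceD, ⟨false, [162], 0, [172]⟩]),
  (1, [ceD, ⟨false, [168], 0, W (nat_lit 0xb12bcad)⟩]),
  (0, [⟨true, [], 1, []⟩, ⟨true, [], 1, [178]⟩]),
  (1, [ceD, ⟨false, [160], 0, W (nat_lit 0xb32bcad)⟩]),
  (0, [⟨true, [], 1, W (nat_lit 0x2bcad)⟩, ⟨true, [], 1, W (nat_lit 0x2c4ad)⟩]),
  (1, [ceD, ⟨false, W (nat_lit 0x2f4c22e4a4), 0, W (nat_lit 0x2ccb12bcad)⟩]),
  (3, []),
  (1, [ceD, ⟨false, [162], 0, W (nat_lit 0x2ccb1)⟩]),
  (3, []),
  (0, [⟨true, [], 1, [172]⟩, ⟨true, [], 1, W (nat_lit 0x2c4ad)⟩]),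
  (1, [ceD, ⟨false, [160], 0, W (nat_lit 0xb32bcad)⟩]),
  (0, [⟨true, [], 1, W (nat_lit 0x2bcad)⟩, ⟨true, [], 1, W (nat_lit 0x2bcad)⟩]),
  (1, [ceD, ⟨false, [160], 0, [172]⟩])]
noncomputable def v5_R : List (List ℕ) :=
  [[],
  [170],
  [168],
  [166],
  W (nat_lit 0x2aca7),
  W (nat_lit 0x2a4a7),
  [162],
  W (nat_lit 0x294a3),
  [160],
  W (nat_lit 0x2a4a1),
  W (nat_lit 0xab2a4a1),
  W (nat_lit 0x294a1),
  W (nat_lit 0xa9294a1),
  W (nat_lit 0x2aca9294a1),
  W (nat_lit 0x2a4a528ca1),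
  W (nat_lit 0xa929ca528ca1)]
noncomputable def zcj178 : List (List (List ℕ)) :=
  [[W (nat_lit 0x2bcad), W (nat_lit 0x2ccaf), W (nat_lit 0x2ccb1), [178]],
  [W (nat_lit 0x2c4ad), W (nat_lit 0xb32c4af), W (nat_lit 0x2ccb1), [178]],
  [W (nat_lit 0x2bcad), W (nat_lit 0xb32c4af), W (nat_lit 0x2ccb1), [178]],
  [W (nat_lit 0x2c4ad), [174], [176], [178]],
  [W (nat_lit 0x2ccad), [174], [176], [178]],
  [W (nat_lit 0x2ccad), W (nat_lit 0x2ccaf), [176], [178]],
  [[172], W (nat_lit 0x2ccaf), [176], [178]],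
  [W (nat_lit 0x2ccad), [174], [176], [178]],
  [[172], [174], [176], [178]],
  [[172], [174], [176], [178]]]
noncomputable def v6_E : List (ℕ × List CE) :=
  [(3, []),
  (3, []),
  (3, []),
  (3, []),
  (3, []),
  (3, []),
  (0, [⟨true, [], 1, W (nat_lit 0x2c4af)⟩, ⟨true, [], 1, [174]⟩]),
  (3, []),
  (3, []),
  (3, []),
  (3, []),
  (3, []),
  (1, [ceD, ⟨false, [162], 0, W (nat_lit 0x2c4af)⟩]),
  (1, [ceD, ⟨false, [162], 0, W (nat_lit 0x2c4af)⟩]),
  (1, [ceD, ⟨false, [162], 0, [176]⟩]),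
  (1, [ceD, ⟨false, [162], 0, W (nat_lit 0xb32c4af)⟩])]
noncomputable def v6_R : List (List ℕ) :=
  [[],
  [172],
  [170],
  W (nat_lit 0x2b4ab),
  [168],
  W (nat_lit 0x2b4a9),
  [166],
  W (nat_lit 0x2b4a7),
  W (nat_lit 0x2aca7),
  W (nat_lit 0xad2aca7),
  W (nat_lit 0x2a4a7),
  W (nat_lit 0xad2a4a7),
  W (nat_lit 0x294a3),
  W (nat_lit 0xad294a3),
  [160],
  W (nat_lit 0x2b4a1),
  W (nat_lit 0x2a4a1),
  W (nat_lit 0xad2a4a1),
  W (nat_lit 0xab2a4a1),
  W (nat_lit 0x2b4ab2a4a1),
  W (nat_lit 0x294a1),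
  W (nat_lit 0xad294a1),
  W (nat_lit 0xa9294a1),
  W (nat_lit 0x2aca9294a1),
  W (nat_lit 0x2a4a528ca1),
  W (nat_lit 0xa929ca528ca1)]
noncomputable def zcj185 : List (List (List ℕ)) :=
  [[W (nat_lit 0x2ccaf), W (nat_lit 0x2ccb1), [178]],
  [W (nat_lit 0xb32c4af), W (nat_lit 0x2ccb1), [178]],
  [W (nat_lit 0xb32c4af), W (nat_lit 0x2ccb1), [178]],
  [[174], [176], [178]],
  [[174], [176], [178]],
  [W (nat_lit 0x2ccaf), [176], [178]],
  [W (nat_lit 0x2ccaf), [176], [178]],
  [[174], [176], [178]],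
  [[174], [176], [178]],
  [[174], [176], [178]]]
noncomputable def v7_E : List (ℕ × List CE) :=
  [(3, []),
  (1, [ceD, ⟨false, [160], 0, []⟩]),
  (1, [ceD, ⟨false, [160], 0, []⟩]),
  (3, []),
  (3, []),
  (1, [ceD, ⟨false, [160], 0, [178]⟩]),
  (1, [ceD, ⟨false, [160], 0, [178]⟩]),
  (1, [ceD, ⟨false, [162], 0, W (nat_lit 0x2ccb1)⟩]),
  (1, [ceD, ⟨false, [162], 0, []⟩]),
  (1, [ceD, ⟨false, [160], 0, [178]⟩]),
  (1, [ceD, ⟨false, [160], 0, []⟩]),
  (3, []),
  (1, [ceD, ⟨false, [170], 0, [176]⟩]),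
  (0, [⟨true, [], 1, [176]⟩, ⟨true, [], 1, W (nat_lit 0x2ccb1)⟩]),
  (1, [ceD, ⟨false, [166], 0, []⟩]),
  (0, [⟨true, [], 1, []⟩, ⟨true, [], 1, [178]⟩]),
  (1, [ceD, ⟨false, [166], 0, [178]⟩]),
  (0, [⟨true, [], 1, [178]⟩, ⟨true, [], 1, []⟩]),
  (0, [⟨true, [], 1, [178]⟩, ⟨true, [], 1, []⟩]),
  (1, [ceD, ⟨false, [166], 0, [178]⟩]),
  (3, []),
  (3, []),
  (3, []),
  (3, []),
  (0, [⟨true, [], 1, [178]⟩, ⟨true, [], 1, []⟩]),
  (1, [ceD, ⟨false, [166], 0, W (nat_lit 0x2ccb1)⟩])]
noncomputable def v7_R : List (List ℕ) :=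
  [[],
  [174],
  [172],
  [170],
  W (nat_lit 0x2b4ab),
  W (nat_lit 0xaf2b4ab),
  [168],
  W (nat_lit 0x2bca9),
  W (nat_lit 0x2b4a9),
  [166],
  W (nat_lit 0x2b4a7),
  W (nat_lit 0x2aca7),
  W (nat_lit 0xad2aca7),
  W (nat_lit 0x2a4a7),
  W (nat_lit 0xad2a4a7),
  W (nat_lit 0x2bcad2a4a7),
  W (nat_lit 0x294a3),
  [160],
  W (nat_lit 0x2a4a1),
  W (nat_lit 0x2b4ab2a4a1),
  W (nat_lit 0x294a1),
  W (nat_lit 0xaf294a1),
  W (nat_lit 0xad294a1),
  W (nat_lit 0x2bcad294a1),
  W (nat_lit 0xa9294a1),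
  W (nat_lit 0x2bca9294a1),
  W (nat_lit 0x2aca9294a1),
  W (nat_lit 0xaf2aca9294a1),
  W (nat_lit 0xa929ca528ca1)]
noncomputable def zcj192 : List (List (List ℕ)) :=
  [[W (nat_lit 0x2ccb1), [178]],
  [W (nat_lit 0x2ccb1), [178]],
  [W (nat_lit 0x2ccb1), [178]],
  [[176], [178]],
  [[176], [178]],
  [[176], [178]],
  [[176], [178]],
  [[176], [178]],
  [[176], [178]],
  [[176], [178]]]
noncomputable def v8_E : List (ℕ × List CE) :=
  [(3, []),
  (1, [ceD, ⟨false, [162], 0, [178]⟩]),
  (1, [ceD, ⟨false, [162], 0, []⟩]),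
  (1, [ceD, ⟨false, [166], 0, []⟩]),
  (1, [ceD, ⟨false, [162], 0, []⟩]),
  (3, []),
  (1, [ceD, ⟨false, [164], 0, [178]⟩]),
  (3, []),
  (1, [ceD, ⟨false, [166], 0, [178]⟩]),
  (0, [⟨true, [], 1, [178]⟩, ⟨true, [], 1, [178]⟩]),
  (1, [ceD, ⟨false, [166], 0, []⟩]),
  (1, [ceD, ⟨false, [164], 0, [178]⟩]),
  (0, [⟨true, [], 1, [178]⟩, ⟨true, [], 1, [178]⟩]),
  (0, [⟨true, [], 1, [178]⟩, ⟨true, [], 1, [178]⟩]),
  (1, [ceD, ⟨false, [164], 0, [178]⟩]),
  (1, [ceD, ⟨false, [166], 0, [178]⟩]),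
  (1, [ceD, ⟨false, [166], 0, [178]⟩]),
  (3, []),
  (3, []),
  (3, []),
  (1, [ceD, ⟨false, [166], 0, [178]⟩]),
  (0, [⟨true, [], 1, [178]⟩, ⟨true, [], 1, [178]⟩]),
  (0, [⟨true, [], 1, []⟩, ⟨true, [], 1, []⟩]),
  (1, [ceD, ⟨false, [168], 0, [178]⟩]),
  (0, [⟨true, [], 1, [178]⟩, ⟨true, [], 1, [178]⟩]),
  (1, [ceD, ⟨false, [166], 0, []⟩]),
  (0, [⟨true, [], 1, [178]⟩, ⟨true, [], 1, [178]⟩]),
  (1, [ceD, ⟨false, [168], 0, []⟩]),
  (3, [])]
noncomputable def v8_R : List (List ℕ) :=
  [[],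
  [176],
  [174],
  [172],
  [170],
  W (nat_lit 0x2b4ab),
  W (nat_lit 0xaf2b4ab),
  W (nat_lit 0x2c4af2b4ab),
  [168],
  W (nat_lit 0x2bca9),
  W (nat_lit 0xb12bca9),
  W (nat_lit 0x2b4a9),
  W (nat_lit 0x2b4a7),
  W (nat_lit 0x2aca7),
  W (nat_lit 0xad2a4a7),
  W (nat_lit 0x2bcad2a4a7),
  W (nat_lit 0x294a3),
  [160],
  W (nat_lit 0x2c4a1),
  W (nat_lit 0x2a4a1),
  W (nat_lit 0xb12a4a1),
  W (nat_lit 0x2b4ab2a4a1),
  W (nat_lit 0xb12b4ab2a4a1),
  W (nat_lit 0x294a1),
  W (nat_lit 0x2bcad294a1),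
  W (nat_lit 0x2bca9294a1),
  W (nat_lit 0xaf2aca9294a1),
  W (nat_lit 0xa929ca528ca1),
  W (nat_lit 0x2c4a929ca528ca1)]
noncomputable def zcj199 : List (List (List ℕ)) :=
  [[[178]],
  [[178]],
  [[178]],
  [[178]],
  [[178]],
  [[178]],
  [[178]],
  [[178]],
  [[178]],
  [[178]]]
noncomputable def v9_E : List (ℕ × List CE) :=
  [(3, []),
  (1, [ceD, ⟨false, [160], 0, []⟩]),
  (0, [⟨true, [], 1, []⟩, ⟨true, [], 1, []⟩]),
  (1, [ceD, ⟨false, [168], 0, []⟩]),
  (0, [⟨true, [], 1, []⟩, ⟨true, [], 1, []⟩]),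
  (1, [ceD, ⟨false, [168], 0, []⟩]),
  (0, [⟨true, [], 1, []⟩, ⟨true, [], 1, []⟩]),
  (0, [⟨true, [], 1, []⟩, ⟨true, [], 1, []⟩]),
  (0, [⟨true, [], 1, []⟩, ⟨true, [], 1, []⟩]),
  (1, [ceD, ⟨false, [166], 0, []⟩]),
  (1, [ceD, ⟨false, [160], 0, []⟩]),
  (1, [ceD, ⟨false, [168], 0, []⟩]),
  (0, [⟨true, [], 1, []⟩, ⟨true, [], 1, []⟩]),
  (1, [ceD, ⟨false, [160], 0, []⟩]),
  (1, [ceD, ⟨false, [174], 0, []⟩]),
  (1, [ceD, ⟨false, [160], 0, []⟩]),
  (1, [ceD, ⟨false, [174], 0, []⟩]),
  (0, [⟨true, [], 1, []⟩, ⟨true, [], 1, []⟩]),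
  (1, [ceD, ⟨false, [160], 0, []⟩]),
  (0, [⟨true, [], 1, []⟩, ⟨true, [], 1, []⟩]),
  (1, [ceD, ⟨false, [168], 0, []⟩]),
  (1, [ceD, ⟨false, [160], 0, []⟩]),
  (0, [⟨true, [], 1, []⟩, ⟨true, [], 1, []⟩]),
  (1, [ceD, ⟨false, [170], 0, []⟩]),
  (1, [ceD, ⟨false, [166], 0, []⟩]),
  (3, []),
  (0, [⟨true, [], 1, []⟩, ⟨true, [], 1, []⟩]),
  (0, [⟨true, [], 1, []⟩, ⟨true, [], 1, []⟩]),
  (1, [ceD, ⟨false, [170], 0, []⟩])]
noncomputable def v9_R : List (List ℕ) :=
  [[],
  [178],
  [176],
  [172],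
  W (nat_lit 0x2b4ab),
  W (nat_lit 0x2bca9),
  W (nat_lit 0xb12bca9),
  W (nat_lit 0x2b4a9),
  W (nat_lit 0x2aca7),
  W (nat_lit 0xad2a4a7),
  W (nat_lit 0x2bcad2a4a7),
  W (nat_lit 0x294a3),
  W (nat_lit 0x2c4a1),
  W (nat_lit 0xb12a4a1),
  W (nat_lit 0x2b4ab2a4a1),
  W (nat_lit 0x294a1),
  W (nat_lit 0x2bcad294a1),
  W (nat_lit 0x2bca9294a1),
  W (nat_lit 0xb32bca9294a1),
  W (nat_lit 0x2c4a929ca528ca1)]
noncomputable def v10_F : List (List ℕ × ℕ × List ℕ) :=
  [([], 0, []),
  ([], 1, []),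
  (W (nat_lit 0x370f4340c42b0ac290942a00430), 1, []),
  (W (nat_lit 0x11c3d0e4340ac2b0a42b0943000c41), 4, []),
  (W (nat_lit 0x4710c330c42b0c4290c8260b0010042a), 1, []),
  (W (nat_lit 0xd02f0ac290a42d0983f00430), 2, []),
  (W (nat_lit 0x470dc3d0d02f0ac310a42700c41), 3, []),
  (W (nat_lit 0x11c370e4330c02c0a42f0942700803), 2, []),
  (W (nat_lit 0x470e4330c02b0a4330983000c26), 1, []),
  (W (nat_lit 0x470dc3d0e42f0a4470982700c2b), 2, []),
  (W (nat_lit 0x10c3d0d0300ac2b0a4310943000c2b), 3, []),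
  (W (nat_lit 0xf4390d0310a4350942e00c32), 2, []),
  (W (nat_lit 0x430dc390c42c0a4330a02a00802), 1, []),
  (W (nat_lit 0x430cc300a4330942700401), 2, []),
  (W (nat_lit 0x390c42b0ac29098310103c), 3, []),
  (W (nat_lit 0x3d0cc300b0290c8280102a), 4, []),
  (W (nat_lit 0x10c370f4340c02b0ac290ac39094290082d), 1, []),
  (W (nat_lit 0x470f4390b0290ac260c40101432), 2, []),
  (W (nat_lit 0x4710c3d0c42b0c42911c2509c010a82e), 3, []),
  (W (nat_lit 0x4710c3d0d0300b0290e4260d002), 4, [])]
noncomputable def v10_R : List (List ℕ) :=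
  [[], [206], [208], [210], [212]]
noncomputable def zts209 : List (List ℕ) :=
  [W (nat_lit 0x470dc340bc2b0c4290ac390983000c36),
  W (nat_lit 0x10c370e4340bc2b0a02a00829),
  W (nat_lit 0x330ac310982700c03),
  W (nat_lit 0x2b0a4290c028),
  W (nat_lit 0x10c340bc2c0a4250b803),
  W (nat_lit 0xe4300ac310a4290b4260d00100403),
  W (nat_lit 0x390cc2f0ac310a4470983001027),
  W (nat_lit 0x470f4390c42b0ac290ac260b0010042e),
  W (nat_lit 0xe4340c42b0a4310982700c29),
  W (nat_lit 0x370e4330c42c0a4300942a00c29)]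
noncomputable def zm212 : ℕ :=
  (nat_lit 0x81110490802a0408012860084)
noncomputable def cC0_F : List (List ℕ × ℕ × ℕ) :=
  [([0], zm212, zm212)]
noncomputable def cC0G_v0 : Lev :=
  ⟨0, 100, sg (W (nat_lit 0xc0100c0100c0100c0100c0100c01)), [[6], [8]], 0, 2⟩
noncomputable def cC0G_v1 : Lev :=
  ⟨29, 77, sg (W (nat_lit 0x24070240702407024070240702407)), [[242], [244]], 118, 2⟩
noncomputable def cC0G_v2 : Lev :=
  ⟨4, 16, sg (W (nat_lit 0x3d4f33d4f33d4f33d4f3)), [[246], [248]], 120, 2⟩
noncomputable def cC0G_v3 : Lev :=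
  ⟨30, 45, sg (W (nat_lit 0x3dcf73e4f73e4f73e4f73e4f7)), [[250], [252]], 122, 2⟩
noncomputable def cC0G_v4 : Lev :=
  ⟨12, 8, sg (W (nat_lit 0x3f4fb3f4fb)), [], 124, 0⟩
noncomputable def cC0G_vs5 : List Lev :=
  []
noncomputable def cC0G_vs4 : List Lev :=
  cC0G_v4 :: cC0G_vs5
noncomputable def cC0G_vs3 : List Lev :=
  cC0G_v3 :: cC0G_vs4
noncomputable def cC0G_vs2 : List Lev :=
  cC0G_v2 :: cC0G_vs3
noncomputable def cC0G_vs1 : List Lev :=
  cC0G_v1 :: cC0G_vs2
noncomputable def cC0G_vs : List Lev :=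
  cC0G_v0 :: cC0G_vs1
noncomputable def cC0_x : List (ℕ × List ℕ) :=
  [((nat_lit 0), [(nat_lit 0xfffffffffffffffffffffffff)]),
  ((nat_lit 0), [(nat_lit 0x7ffffe),
   (nat_lit 0xfffffffffffffffffff800000)]),
  ((nat_lit 0), [(nat_lit 0x7fdab4)]),
  ((nat_lit 0), [(nat_lit 0xa604800000a28000000000000),
   (nat_lit 0x59fb600ff85d0eff8ce800000)]),
  ((nat_lit 0), [(nat_lit 0x62d024),
   (nat_lit 0x51000020d004000000)])]
noncomputable def cC0_G : Gl :=
  ⟨P, ns, (app D []), (diag [[206]]), [], [], memM (app D []) [[214], [216]], true⟩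
noncomputable def cC0_s : St :=
  ⟨(mkS P.n cC0G_vs cC0_x), [[0], [2]], [], mapL Prod.snd cC0_F, memM (app D []) [[214], [216]], []⟩
noncomputable def zt216 : ST :=
  (.orb 0 (.dif 0 1 (.br 0 [W (nat_lit 0x3c4dc368dd), W (nat_lit 0x3c4e136cdb368dd)] (W (nat_lit 0x4010040100c0100c0100c0100c01)) [(0, [])] (.cons (.orb 0 (.img [0] 0 (.orb 1 (.and 1 0 (.br 0 [W (nat_lit 0xe737cde360d9), W (nat_lit 0x3bcf139cdc368dd)] (W (nat_lit 0x100c0100c01)) [(29, [])] (.cons (.orb 0 (.img [0] 5 (.and 1 0 (.dif 0 11 (.br 0 [W (nat_lit 0x3c4e736cdf360d9)] [0] [(4, [])] (.cons (.orb 0 (.img [0] 0 (.orb 1 (.and 1 0 (.br 0 [W (nat_lit 0xef39cdc368dd)] (W (nat_lit 0x401)) [(30, [])] (.cons (.orb 0 (.orb 1 (.img [0] 0 (.and 2 0 (.br 0 [] [] [(12, [])] (.cons .fnd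
 .nil))))))
 .nil))))))
 .nil))))))
 .nil))))))
 .nil))))
noncomputable def zt220 : List ℕ :=
  []
noncomputable def zcj221 : List (List ℕ) :=
  []
noncomputable def zt224 : List ℕ :=
  []
noncomputable def zcj225 : List (List ℕ) :=
  [[274]]
noncomputable def zE228 : List (ℕ × List ℕ) :=
  [(270, W (nat_lit 0x44d11))]
noncomputable def zt229 : List ℕ :=
  W (nat_lit 0x44d15)
noncomputable def zcj230 : List (List ℕ) :=
  [[276],
  [274]]
noncomputable def zus234 : List (List ℕ) :=
  [[266],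
  [267],
  W (nat_lit 0x42d0b)]
noncomputable def zF235 : List (List (ℕ × List ℕ)) :=
  [[(0, W (nat_lit 0x1134550f)),
   (2, [270]),
   (1, [270]),
   (3, W (nat_lit 0x1134550f))],
  [(1, []),
   (3, []),
   (0, []),
   (2, [])],
  [(1, W (nat_lit 0x44d0f)),
   (3, W (nat_lit 0x44d0f)),
   (0, W (nat_lit 0x44d0f)),
   (2, W (nat_lit 0x44d0f))]]
noncomputable def zus238 : List (List ℕ) :=
  [[258],
  [262],
  [263],
  W (nat_lit 0x40d07),
  W (nat_lit 0x41d07)]
noncomputable def zF239 : List (List (ℕ × List ℕ)) :=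
  [[(1, []),
   (0, W (nat_lit 0x1134550f)),
   (2, W (nat_lit 0x11543d0b)),
   (3, [266]),
   (5, W (nat_lit 0x1134550c)),
   (4, W (nat_lit 0x44d1543d0b))],
  [(1, [270]),
   (0, W (nat_lit 0x44d15)),
   (2, W (nat_lit 0x11543d0c)),
   (3, W (nat_lit 0x1134550c)),
   (5, W (nat_lit 0x44d1543d0b)),
   (4, [266])],
  [(2, []),
   (4, []),
   (5, []),
   (0, []),
   (1, W (nat_lit 0x44d0f)),
   (3, W (nat_lit 0x44d15))]]
noncomputable def zus242 : List (List ℕ) :=
  [[254],
  [255],
  [256],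
  W (nat_lit 0x3fcff),
  W (nat_lit 0x3fd01),
  W (nat_lit 0x3fd02),
  W (nat_lit 0x40100),
  W (nat_lit 0x3fd03),
  W (nat_lit 0x40104),
  W (nat_lit 0x40107),
  W (nat_lit 0x3fd0c),
  W (nat_lit 0xff3fcff),
  W (nat_lit 0xff404ff),
  W (nat_lit 0x40103),
  W (nat_lit 0x3fd07),
  W (nat_lit 0xff40902),
  W (nat_lit 0xff3fd07),
  W (nat_lit 0xff40d02),
  W (nat_lit 0x3fd11)]
noncomputable def zF243 : List (List (ℕ × List ℕ)) :=
  [[(1, []),
   (4, []),
   (0, []),
   (9, W (nat_lit 0x43d0c40d07)),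
   (12, []),
   (13, []),
   (8, W (nat_lit 0x4550f41d07)),
   (2, []),
   (14, W (nat_lit 0x10b40d07)),
   (16, W (nat_lit 0x11343d08)),
   (3, W (nat_lit 0x11542d07)),
   (18, W (nat_lit 0x1134550c)),
   (11, W (nat_lit 0x44d0c41d07)),
   (10, W (nat_lit 0x44d15)),
   (5, W (nat_lit 0x11345508)),
   (6, W (nat_lit 0x11543d0b42d03)),
   (15, W (nat_lit 0x44d07)),
   (7, W (nat_lit 0x43d0c40d07)),
   (19, W (nat_lit 0x44d1542d0b41d07)),
   (17, W (nat_lit 0x44d0b42d03))],
  [(3, []),
   (5, []),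
   (0, W (nat_lit 0x43d0c40d07)),
   (11, W (nat_lit 0x44d0f43108)),
   (7, W (nat_lit 0x11345507)),
   (10, W (nat_lit 0x1134550f40d07)),
   (1, []),
   (14, W (nat_lit 0x4550f42d0b41d07)),
   (2, W (nat_lit 0x11543d0b40d07)),
   (4, W (nat_lit 0x10b42d07)),
   (19, W (nat_lit 0x44d1543108)),
   (18, W (nat_lit 0x11543103)),
   (9, W (nat_lit 0x42d0b41d07)),
   (15, W (nat_lit 0x44d0b41d07)),
   (17, W (nat_lit 0x10f43108)),
   (13, W (nat_lit 0x45503)),
   (6, []),
   (12, W (nat_lit 0x11543103)),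
   (8, []),
   (16, W (nat_lit 0x1134550f))]]
noncomputable def D0_v0 : Lev :=
  ⟨2, 20, sg (W (nat_lit 0x3fd013fd013fd013fcff)), [[258], [260], [262]], 126, 3⟩
noncomputable def D0_v1 : Lev :=
  ⟨23, 6, sg (W (nat_lit 0x41d0341d03)), [[264], [266], [268]], 129, 3⟩
noncomputable def D0_v2 : Lev :=
  ⟨7, 4, sg (W (nat_lit 0x10b4250b)), [[270], [272]], 132, 2⟩
noncomputable def D0_v3 : Lev :=
  ⟨17, 2, sg [270], [[274], [276]], 134, 2⟩
noncomputable def D0_v4 : Lev :=
  ⟨0, 2, sg [276], [[274]], 136, 0⟩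
noncomputable def D0_v5 : Lev :=
  ⟨1, 2, sg [274], [], 136, 0⟩
noncomputable def D0_vs6 : List Lev :=
  []
noncomputable def D0_vs5 : List Lev :=
  D0_v5 :: D0_vs6
noncomputable def D0_vs4 : List Lev :=
  D0_v4 :: D0_vs5
noncomputable def D0_vs3 : List Lev :=
  D0_v3 :: D0_vs4
noncomputable def D0_vs2 : List Lev :=
  D0_v2 :: D0_vs3
noncomputable def D0_vs1 : List Lev :=
  D0_v1 :: D0_vs2
noncomputable def D0_vs : List Lev :=
  D0_v0 :: D0_vs1
noncomputable def zps247 : List (List ℕ × List ℕ) :=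
  [(W (nat_lit 0x364d9), [214]), (W (nat_lit 0x368d7), [216]), ([215], W (nat_lit 0x360d9))]
noncomputable def zts250 : List (List ℕ) :=
  [W (nat_lit 0x12949d234751c),
  W (nat_lit 0x4b51d46d1a)]
noncomputable def zts253 : List (List ℕ) :=
  [[],
  W (nat_lit 0x43d0c40d07),
  W (nat_lit 0x11343d0b42d03),
  []]
noncomputable def zcj256 : List (List (List ℕ)) :=
  [[W (nat_lit 0x44d0f42101), W (nat_lit 0x1133fd03)],
  [W (nat_lit 0x11343d0b42cff3fd07), W (nat_lit 0x4550f431083fd11)]]
noncomputable def zcj259 : List (List (List ℕ)) :=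
  [[W (nat_lit 0x44d0f42101), W (nat_lit 0x1133fd03)],
  [W (nat_lit 0x11343d0b42cff3fd07), W (nat_lit 0x4550f431083fd11)]]
noncomputable def Q0_ps : List PcG :=
  [⟨[332], 2, [338], [W (nat_lit 0x54d4f), [306], [336], [316], [338]]⟩,
  ⟨[334], 2, [338], [W (nat_lit 0x54d33), W (nat_lit 0x54d51), W (nat_lit 0x54d3d), [338]]⟩,
  ⟨[306], 2, [338], [[336], W (nat_lit 0x54d3d), [338]]⟩,
  ⟨[336], 2, [], [W (nat_lit 0x54d3d), [338]]⟩,
  ⟨[316], 2, [338], [[338]]⟩,
  ⟨[338], 2, [], []⟩]
noncomputable def zE262 : List (ℕ × List ℕ) :=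
  [(302, [316]),
  (304, [336]),
  (308, [334]),
  (310, [332])]
noncomputable def Q0_v0 : Lev :=
  ⟨2, 2, sg [306], [[312], [314], [316], [318]], 153, 4⟩
noncomputable def Q0_v1 : Lev :=
  ⟨7, 2, sg [316], [[320], [322], [324]], 157, 3⟩
noncomputable def Q0_v2 : Lev :=
  ⟨17, 2, sg [320], [[326], [328], [330]], 160, 3⟩
noncomputable def Q0_v3 : Lev :=
  ⟨0, 2, sg [330], [[326], [328]], 163, 0⟩
noncomputable def Q0_v4 : Lev :=
  ⟨23, 2, sg [328], [[326]], 163, 0⟩
noncomputable def Q0_v5 : Lev :=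
  ⟨1, 2, sg [326], [], 163, 0⟩
noncomputable def Q0_vs6 : List Lev :=
  []
noncomputable def Q0_vs5 : List Lev :=
  Q0_v5 :: Q0_vs6
noncomputable def Q0_vs4 : List Lev :=
  Q0_v4 :: Q0_vs5
noncomputable def Q0_vs3 : List Lev :=
  Q0_v3 :: Q0_vs4
noncomputable def Q0_vs2 : List Lev :=
  Q0_v2 :: Q0_vs3
noncomputable def Q0_vs1 : List Lev :=
  Q0_v1 :: Q0_vs2
noncomputable def Q0_vs : List Lev :=
  Q0_v0 :: Q0_vs1
noncomputable def zts267 : List (List ℕ) :=
  [W (nat_lit 0x41d07),
  W (nat_lit 0x11542d0b41d07),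
  W (nat_lit 0x11343cff40d02),
  W (nat_lit 0x4550f41d07),
  W (nat_lit 0x11343d0b42d0741cff40d02)]
noncomputable def zcj270 : List (List (List ℕ)) :=
  [[W (nat_lit 0x1475053d), W (nat_lit 0x51d4b5053d), W (nat_lit 0x147525414f533), W (nat_lit 0x4f533), W (nat_lit 0x14752d3d)],
  [W (nat_lit 0x14b50533), [328], W (nat_lit 0x51d33), W (nat_lit 0x4f533), W (nat_lit 0x14752d33)]]
noncomputable def Z0_ps : List PcG :=
  [⟨[340], 2, [342], [[342]]⟩,
  ⟨[342], 2, [], []⟩]
noncomputable def Z0_v0 : Lev :=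
  ⟨2, 2, sg [340], [[342]], 168, 1⟩
noncomputable def Z0_v1 : Lev :=
  ⟨0, 2, sg [342], [], 169, 0⟩
noncomputable def Z0_vs2 : List Lev :=
  []
noncomputable def Z0_vs1 : List Lev :=
  Z0_v1 :: Z0_vs2
noncomputable def Z0_vs : List Lev :=
  Z0_v0 :: Z0_vs1
noncomputable def zm276 : ℕ :=
  (nat_lit 0x80010480000a0000000020004)
noncomputable def zm277 : ℕ :=
  (nat_lit 0x800104904010a480012160095)
noncomputable def zm278 : ℕ :=
  (nat_lit 0x110040000000400012040004)
noncomputable def cQ0_F : List (List ℕ × ℕ × ℕ) :=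
  [([0], zm276, zm276),
  ([2], zm277, zm277),
  ([6], zm278, zm278)]
noncomputable def cQ0G_v0 : Lev :=
  ⟨2, 20, sg (W (nat_lit 0x3fd013fd013fd013fcff)), [[258], [260], [262]], 126, 3⟩
noncomputable def cQ0G_v1 : Lev :=
  ⟨0, 16, sg (W (nat_lit 0x10340d0341d0341503)), [[344], [346]], 169, 2⟩
noncomputable def cQ0G_v2 : Lev :=
  ⟨1, 12, sg (W (nat_lit 0x15956d5956d59)), [], 171, 0⟩
noncomputable def cQ0G_vs3 : List Lev :=
  []
noncomputable def cQ0G_vs2 : List Lev :=
  cQ0G_v2 :: cQ0G_vs3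
noncomputable def cQ0G_vs1 : List Lev :=
  cQ0G_v1 :: cQ0G_vs2
noncomputable def cQ0G_vs : List Lev :=
  cQ0G_v0 :: cQ0G_vs1
noncomputable def cQ0_x : List (ℕ × List ℕ) :=
  [((nat_lit 0), []),
  ((nat_lit 0x600000000000000000000000000000000), [(nat_lit 0xd5fb0000d000001)]),
  ((nat_lit 0), [(nat_lit 0x29ea6a),
   (nat_lit 0x18a24002200000220a0000000),
   (nat_lit 0x1b6007000000700000000)])]
noncomputable def cQ0_G : Gl :=
  ⟨P, ns, (app D []), (diag [[302], [304], [306], [308], [310]]), [], [], memM (app D []) [[340]], true⟩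
noncomputable def cQ0_s : St :=
  ⟨(mkS P.n cQ0G_vs cQ0_x), [[254], [256]], [], mapL Prod.snd cQ0_F, memM (app D []) [[340]], []⟩
noncomputable def zt282 : ST :=
  (.and 0 2 (.br 0 [W (nat_lit 0x55d55)] [0] [(2, [])] (.cons (.orb 0 (.and 0 4 (.br 0 [[342]] [0] [(51, W (nat_lit 0x40d06)), (0, [])] (.cons (.img [5] 0 (.img [8] 1 (.dif 1 0 (.mis 0))))
 (.cons (.orb 0 (.orb 1 (.img [6] 0 (.and 2 0 (.orb 2 (.img [0] 0 (.and 2 0 (.br 0 [] [] [(1, [])] (.cons .fnd
 .nil)))))))))
 .nil)))))
 .nil)))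
noncomputable def zm286 : ℕ :=
  (nat_lit 0x110000080000408002000000)
noncomputable def cC1_F : List (List ℕ × ℕ × ℕ) :=
  [([0], zm286, zm286)]
noncomputable def cC1G_v0 : Lev :=
  ⟨25, 100, sg (W (nat_lit 0x40100c0100c0100c0100c0100c01)), [[378], [380]], 186, 2⟩
noncomputable def cC1G_v1 : Lev :=
  ⟨39, 77, sg (W (nat_lit 0x17b5f57b5f57b5f57b5f57b5f57b)), [[382], [384]], 188, 2⟩
noncomputable def cC1G_v2 : Lev :=
  ⟨46, 60, sg (W (nat_lit 0x5fd815fd815fd815fd7f6057f6057f)), [[386], [388]], 190, 2⟩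
noncomputable def cC1G_v3 : Lev :=
  ⟨0, 32, sg (W (nat_lit 0x18361583615836158361583)), [[390]], 192, 1⟩
noncomputable def cC1G_v4 : Lev :=
  ⟨4, 3, sg (W (nat_lit 0x61d87)), [], 193, 0⟩
noncomputable def cC1G_vs5 : List Lev :=
  []
noncomputable def cC1G_vs4 : List Lev :=
  cC1G_v4 :: cC1G_vs5
noncomputable def cC1G_vs3 : List Lev :=
  cC1G_v3 :: cC1G_vs4
noncomputable def cC1G_vs2 : List Lev :=
  cC1G_v2 :: cC1G_vs3
noncomputable def cC1G_vs1 : List Lev :=
  cC1G_v1 :: cC1G_vs2
noncomputable def cC1G_vs : List Lev :=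
  cC1G_v0 :: cC1G_vs1
noncomputable def cC1_x : List (ℕ × List ℕ) :=
  [((nat_lit 0), []),
  ((nat_lit 0), []),
  ((nat_lit 0), []),
  ((nat_lit 0xa000000000000000000000000000000000000000000000000), [(nat_lit 0x1688a3005254a8901e4114231)]),
  ((nat_lit 0), [(nat_lit 0x110020)])]
noncomputable def cC1_G : Gl :=
  ⟨P, ns, (app D []), (diag [[208]]), [], [], memM (app D []) [[348], [350]], true⟩
noncomputable def cC1_s : St :=
  ⟨(mkS P.n cC1G_vs cC1_x), [[0], [2]], [], mapL Prod.snd cC1_F, memM (app D []) [[348], [350]], []⟩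
noncomputable def zt290 : ST :=
  (.br 0 [W (nat_lit 0x16f59d6658567), W (nat_lit 0x1795b56f59d65595625955d)] (W (nat_lit 0xc0100c01)) [(25, [])] (.cons (.dif 1 0 (.br 0 [W (nat_lit 0x5e5755b56f59565)] (W (nat_lit 0x40100401)) [(39, [])] (.cons (.dif 1 0 (.br 0 [W (nat_lit 0x1755b56f59d655915d)] (W (nat_lit 0x100401)) [(46, [])] (.cons (.orb 0 (.br 0 [[364], W (nat_lit 0x1755b56f), W (nat_lit 0x1795b56f), [376]] (W (nat_lit 0x1c0500c01)) [(4, W (nat_lit 0x60d87)), (0, [])] (.cons (.img [0] 0 (.orb 0 (.and 1 0 (.mis 0))))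
 (.cons (.img [0] 0 (.br 0 [] [] [(4, [])] (.cons .fnd
 .nil)))
 .nil))))
 .nil)))
 .nil)))
 .nil))
noncomputable def zt294 : List ℕ :=
  []
noncomputable def zcj295 : List (List ℕ) :=
  []
noncomputable def zE298 : List (ℕ × List ℕ) :=
  [(410, W (nat_lit 0x67d9d))]
noncomputable def zt299 : List ℕ :=
  []
noncomputable def zcj300 : List (List ℕ) :=
  [[414]]
noncomputable def zus304 : List (List ℕ) :=
  [[404],
  [403],
  W (nat_lit 0x65195)]
noncomputable def zF305 : List (List (ℕ × List ℕ)) :=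
  [[(1, []),
   (0, []),
   (3, []),
   (2, [])],
  [(1, W (nat_lit 0x67d9b)),
   (0, W (nat_lit 0x67d9b)),
   (3, W (nat_lit 0x67d9b)),
   (2, W (nat_lit 0x67d9b))],
  [(2, [414]),
   (3, [414]),
   (0, [414]),
   (1, [414])],
  [(2, []),
   (3, []),
   (0, []),
   (1, [])]]
noncomputable def zE308 : List (ℕ × List ℕ) :=
  [(400, W (nat_lit 0x65195)),
  (402, [403])]
noncomputable def zt309 : List ℕ :=
  []
noncomputable def zcj310 : List (List ℕ) :=
  [W (nat_lit 0x19f66d95),
  [404],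
  [403],
  W (nat_lit 0x67d94)]
noncomputable def zus314 : List (List ℕ) :=
  [[396],
  [393],
  W (nat_lit 0x6358a),
  W (nat_lit 0x6298d)]
noncomputable def zF315 : List (List (ℕ × List ℕ)) :=
  [[(1, []),
   (0, [403]),
   (4, []),
   (3, W (nat_lit 0x6558f)),
   (2, W (nat_lit 0x19b65195))],
  [(2, []),
   (3, []),
   (0, W (nat_lit 0x67d94)),
   (1, W (nat_lit 0x65195)),
   (4, W (nat_lit 0x67d9b6558f))]]
noncomputable def zus318 : List (List ℕ) :=
  [[394],
  [395],
  W (nat_lit 0x62d8b),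
  W (nat_lit 0x62d8d),
  W (nat_lit 0x18b62d8d)]
noncomputable def zF319 : List (List (ℕ × List ℕ)) :=
  [[(0, W (nat_lit 0x19f6518a)),
   (1, [396]),
   (3, W (nat_lit 0x67d956298d)),
   (2, W (nat_lit 0x1946358a)),
   (5, W (nat_lit 0x67d9563d8d)),
   (4, W (nat_lit 0x66d9563d8a))],
  [(1, []),
   (3, []),
   (0, []),
   (4, W (nat_lit 0x67d946298d)),
   (2, W (nat_lit 0x1946358a)),
   (5, W (nat_lit 0x67d9b651956358a))]]
noncomputable def D1_v0 : Lev :=
  ⟨25, 6, sg (W (nat_lit 0x6258b6258b)), [[396], [393]], 195, 1⟩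
noncomputable def D1_v1 : Lev :=
  ⟨39, 5, sg (W (nat_lit 0x18d6298d)), [[398], [400], [402]], 196, 3⟩
noncomputable def D1_v2 : Lev :=
  ⟨46, 2, sg [398], [[404], [406], [408], [403]], 199, 3⟩
noncomputable def D1_v3 : Lev :=
  ⟨1, 4, sg (W (nat_lit 0x66595)), [[410], [412]], 202, 2⟩
noncomputable def D1_v4 : Lev :=
  ⟨3, 2, sg [410], [[414]], 204, 1⟩
noncomputable def D1_v5 : Lev :=
  ⟨0, 2, sg [414], [], 205, 0⟩
noncomputable def D1_vs6 : List Lev :=
  []
noncomputable def D1_vs5 : List Lev :=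
  D1_v5 :: D1_vs6
noncomputable def D1_vs4 : List Lev :=
  D1_v4 :: D1_vs5
noncomputable def D1_vs3 : List Lev :=
  D1_v3 :: D1_vs4
noncomputable def D1_vs2 : List Lev :=
  D1_v2 :: D1_vs3
noncomputable def D1_vs1 : List Lev :=
  D1_v1 :: D1_vs2
noncomputable def D1_vs : List Lev :=
  D1_v0 :: D1_vs1
noncomputable def zps323 : List (List ℕ × List ℕ) :=
  [(W (nat_lit 0x5815e), W (nat_lit 0x57d5e)), (W (nat_lit 0x5815e), [351])]
noncomputable def zts326 : List (List ℕ) :=
  [W (nat_lit 0x1ab695a7),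
  W (nat_lit 0x6e5b56a5ab695a7685ab)]
noncomputable def zts329 : List (List ℕ) :=
  [[],
  W (nat_lit 0x19f66d946558f6298c),
  W (nat_lit 0x67d946558f6298c),
  []]
noncomputable def zcj332 : List (List (List ℕ)) :=
  [[W (nat_lit 0x1946558f62d8b), W (nat_lit 0x67d9463d8a6358b62d8d)],
  [W (nat_lit 0x19f6519563d8a62d8d), [394]]]
noncomputable def zcj335 : List (List (List ℕ)) :=
  [[W (nat_lit 0x1946558f62d8b), W (nat_lit 0x67d9463d8a6358b62d8d)],
  [W (nat_lit 0x19f6519563d8a62d8d), [394]]]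
noncomputable def Q1_ps : List PcG :=
  [⟨[403], 2, [], [[452], [454], [442]]⟩,
  ⟨[452], 2, [], [[454], [442]]⟩,
  ⟨[454], 2, [], [[442]]⟩,
  ⟨[442], 2, [], []⟩]
noncomputable def zE338 : List (ℕ × List ℕ) :=
  [(444, [454]),
  (446, [452])]
noncomputable def Q1_v0 : Lev :=
  ⟨1, 4, sg (W (nat_lit 0x651bb)), [[448], [450]], 221, 2⟩
noncomputable def Q1_v1 : Lev :=
  ⟨3, 2, sg [450], [[448]], 223, 0⟩
noncomputable def Q1_v2 : Lev :=
  ⟨0, 2, sg [448], [], 223, 0⟩
noncomputable def Q1_vs3 : List Lev :=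
  []
noncomputable def Q1_vs2 : List Lev :=
  Q1_v2 :: Q1_vs3
noncomputable def Q1_vs1 : List Lev :=
  Q1_v1 :: Q1_vs2
noncomputable def Q1_vs : List Lev :=
  Q1_v0 :: Q1_vs1
noncomputable def zts343 : List (List ℕ) :=
  [W (nat_lit 0x66d95),
  W (nat_lit 0x19f66d95),
  W (nat_lit 0x67d95),
  [403]]
noncomputable def zcj346 : List (List (List ℕ)) :=
  [[[442], [448], W (nat_lit 0x70d94), W (nat_lit 0x651bb)],
  [W (nat_lit 0x705c3651bb), W (nat_lit 0x1c170d94), [448], W (nat_lit 0x651bb)]]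
noncomputable def Z1_ps : List PcG :=
  [⟨[462], 2, [], [[468], [404], [456]]⟩,
  ⟨[468], 2, [], [[404], [456]]⟩,
  ⟨[404], 2, [], [[456]]⟩,
  ⟨[456], 2, [], []⟩]
noncomputable def zE349 : List (ℕ × List ℕ) :=
  [(458, [468]),
  (460, [462])]
noncomputable def Z1_v0 : Lev :=
  ⟨1, 4, sg (W (nat_lit 0x655c9)), [[462], [464]], 228, 2⟩
noncomputable def Z1_v1 : Lev :=
  ⟨3, 2, sg [462], [[466]], 230, 1⟩
noncomputable def Z1_v2 : Lev :=
  ⟨0, 2, sg [466], [], 231, 0⟩
noncomputable def Z1_vs3 : List Lev :=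
  []
noncomputable def Z1_vs2 : List Lev :=
  Z1_v2 :: Z1_vs3
noncomputable def Z1_vs1 : List Lev :=
  Z1_v1 :: Z1_vs2
noncomputable def Z1_vs : List Lev :=
  Z1_v0 :: Z1_vs1
noncomputable def zm354 : ℕ :=
  (nat_lit 0x4112103088004668002488080)
noncomputable def zm355 : ℕ :=
  (nat_lit 0x21104854a000140c00a0009c0)
noncomputable def zm356 : ℕ :=
  (nat_lit 0x2114405284800409003201880)
noncomputable def cQ1_F : List (List ℕ × ℕ × ℕ) :=
  [([0], zm354, zm354),
  ([2], zm355, zm355),
  ([6], zm356, zm356)]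
noncomputable def cQ1G_v0 : Lev :=
  ⟨11, 60, sg (W (nat_lit 0x18962d8b62d8962d8962d8962d89)), [[470], [472], [474]], 232, 3⟩
noncomputable def cQ1G_v1 : Lev :=
  ⟨15, 16, sg (W (nat_lit 0x1d775ddb765d7)), [], 235, 0⟩
noncomputable def cQ1G_vs2 : List Lev :=
  []
noncomputable def cQ1G_vs1 : List Lev :=
  cQ1G_v1 :: cQ1G_vs2
noncomputable def cQ1G_vs : List Lev :=
  cQ1G_v0 :: cQ1G_vs1
noncomputable def cQ1_x : List (ℕ × List ℕ) :=
  [((nat_lit 0), []),
  ((nat_lit 0), [(nat_lit 0x2000a8000b0160c00028408)])]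
noncomputable def cQ1_G : Gl :=
  ⟨P, ns, (app D []), (diag [[442], [444], [446], [403]]), [], [], memM (app D []) [[456], [404], [458], [460]], true⟩
noncomputable def cQ1_s : St :=
  ⟨(mkS P.n cQ1G_vs cQ1_x), [[392], [394]], [], mapL Prod.snd cQ1_F, memM (app D []) [[456], [404], [458], [460]], []⟩
noncomputable def zt360 : ST :=
  (.dif 1 0 (.and 0 3 (.br 0 [W (nat_lit 0x1d373dc9), W (nat_lit 0x1d373d95)] (W (nat_lit 0xc01)) [(11, [])] (.cons (.orb 0 (.and 0 4 (.br 0 [W (nat_lit 0x1cf655c9), W (nat_lit 0x73d95)] (W (nat_lit 0xc01)) [(15, [])] (.cons .fnd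
 .nil))))
 .nil))))
noncomputable def zm364 : ℕ :=
  (nat_lit 0x284200e26010a4c0e123e0053)
noncomputable def cC2_F : List (List ℕ × ℕ × ℕ) :=
  [([0], zm364, zm364)]
noncomputable def cC2G_v0 : Lev :=
  ⟨0, 100, sg (W (nat_lit 0xc0100c0100c0100c0100c0100c01)), [[6], [8]], 0, 2⟩
noncomputable def cC2G_v1 : Lev :=
  ⟨29, 77, sg (W (nat_lit 0x24070240702407024070240702407)), [[242], [244]], 118, 2⟩
noncomputable def cC2G_v2 : Lev :=
  ⟨38, 60, sg (W (nat_lit 0xf33d4f33d4f33d4f33d4f33d4f33d4f3)), [[506], [508]], 250, 2⟩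
noncomputable def cC2G_v3 : Lev :=
  ⟨23, 32, sg (W (nat_lit 0x1fd7edfd7edfd7edfd7edfb)), [[510]], 252, 1⟩
noncomputable def cC2G_v4 : Lev :=
  ⟨4, 3, sg (W (nat_lit 0x7fdff)), [], 254, 0⟩
noncomputable def cC2G_vs5 : List Lev :=
  []
noncomputable def cC2G_vs4 : List Lev :=
  cC2G_v4 :: cC2G_vs5
noncomputable def cC2G_vs3 : List Lev :=
  cC2G_v3 :: cC2G_vs4
noncomputable def cC2G_vs2 : List Lev :=
  cC2G_v2 :: cC2G_vs3
noncomputable def cC2G_vs1 : List Lev :=
  cC2G_v1 :: cC2G_vs2
noncomputable def cC2G_vs : List Lev :=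
  cC2G_v0 :: cC2G_vs1
noncomputable def cC2_x : List (ℕ × List ℕ) :=
  [((nat_lit 0), []),
  ((nat_lit 0), [(nat_lit 0xfffffffffffffffffff800000)]),
  ((nat_lit 0), []),
  ((nat_lit 0), [(nat_lit 0xf860c04a0c12fb5dd800000)]),
  ((nat_lit 0), [(nat_lit 0x400090)])]
noncomputable def cC2_G : Gl :=
  ⟨P, ns, (app D []), (diag [[210]]), [], [], memM (app D []) [[476], [478]], true⟩
noncomputable def cC2_s : St :=
  ⟨(mkS P.n cC2G_vs cC2_x), [[0], [2]], [], mapL Prod.snd cC2_F, memM (app D []) [[476], [478]], []⟩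
noncomputable def zt368 : ST :=
  (.br 0 [W (nat_lit 0x1f5795e8779de), W (nat_lit 0x1f97c5eb795e8775f5)] (W (nat_lit 0xc0100c0100c0100c01)) [(0, [])] (.cons (.orb 0 (.dif 0 2 (.br 0 [W (nat_lit 0x1eb78de3), W (nat_lit 0x1f77c5e3)] (W (nat_lit 0xc0100c0100c0100c0100c0100c01)) [(29, [])] (.cons (.img [0] 0 (.br 0 [] [] [(38, [])] (.cons (.orb 0 (.dif 0 7 (.br 0 [[512], W (nat_lit 0x1f77ade578de5)] (W (nat_lit 0x4030040100c0100c01)) [(23, [])] (.cons (.orb 0 (.and 0 10 (.br 0 [] [] [(4, [])] (.cons .fnd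
 .nil))))
 .nil))))
 .nil)))
 .nil))))
 .nil))
noncomputable def zt372 : List ℕ :=
  []
noncomputable def zcj373 : List (List ℕ) :=
  []
noncomputable def zt376 : List ℕ :=
  []
noncomputable def zcj377 : List (List ℕ) :=
  [[540]]
noncomputable def zus380 : List (List ℕ) :=
  [[532],
  [538],
  W (nat_lit 0x8561b)]
noncomputable def zF381 : List (List (ℕ × List ℕ)) :=
  [[(1, []),
   (0, []),
   (3, []),
   (2, [])],
  [(1, W (nat_lit 0x8761f)),
   (0, W (nat_lit 0x8761f)),
   (3, W (nat_lit 0x8761f)),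
   (2, W (nat_lit 0x8761f))],
  [(0, [542]),
   (1, [542]),
   (2, [542]),
   (3, [542])],
  [(2, []),
   (3, []),
   (0, []),
   (1, [])]]
noncomputable def zE384 : List (ℕ × List ℕ) :=
  [(526, [540]),
  (528, W (nat_lit 0x87e13))]
noncomputable def zt385 : List ℕ :=
  W (nat_lit 0x87e1b)
noncomputable def zcj386 : List (List ℕ) :=
  [W (nat_lit 0x21f8561b),
  W (nat_lit 0x21d87e15),
  W (nat_lit 0x8761f8561b),
  W (nat_lit 0x87615)]
noncomputable def zus390 : List (List ℕ) :=
  [[522],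
  [523],
  [524],
  [525],
  W (nat_lit 0x82e0b)]
noncomputable def zF391 : List (List (ℕ × List ℕ)) :=
  [[(1, []),
   (5, []),
   (0, []),
   (4, W (nat_lit 0x87e11)),
   (3, W (nat_lit 0x21d87e11)),
   (2, [])],
  [(3, []),
   (2, W (nat_lit 0x21d87e1586e11)),
   (1, W (nat_lit 0x21d87e11)),
   (5, W (nat_lit 0x21f86e11)),
   (0, []),
   (4, W (nat_lit 0x8761586e11))]]
noncomputable def zus394 : List (List ℕ) :=
  [[518],
  [519],
  [520],
  [521],
  W (nat_lit 0x81e0b),
  W (nat_lit 0x81e0d)]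
noncomputable def zF395 : List (List (ℕ × List ℕ)) :=
  [[(1, []),
   (2, W (nat_lit 0x21d87e1b82e0b)),
   (0, []),
   (6, W (nat_lit 0x21d87e1b8460d)),
   (3, [524]),
   (5, W (nat_lit 0x21b8460b)),
   (4, W (nat_lit 0x8761f85611))],
  [(3, []),
   (1, W (nat_lit 0x87e1586e0c)),
   (5, W (nat_lit 0x876158460b)),
   (4, W (nat_lit 0x21d87e1b)),
   (0, []),
   (6, W (nat_lit 0x8761f8561182e0b)),
   (2, W (nat_lit 0x8560e))]]
noncomputable def zus398 : List (List ℕ) :=
  [[514],
  [515],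
  [516],
  [517],
  W (nat_lit 0x80e03),
  W (nat_lit 0x80e05),
  W (nat_lit 0x80e0d),
  W (nat_lit 0x80e07),
  W (nat_lit 0x80e12),
  W (nat_lit 0x80e17),
  W (nat_lit 0x80e09),
  W (nat_lit 0x81213),
  W (nat_lit 0x8160c),
  W (nat_lit 0x8120b)]
noncomputable def zF399 : List (List (ℕ × List ℕ)) :=
  [[(1, []),
   (5, []),
   (0, []),
   (7, W (nat_lit 0x8761f8460e81e0b)),
   (3, W (nat_lit 0x86e0e81e0d)),
   (2, []),
   (9, W (nat_lit 0x8561183208)),
   (8, W (nat_lit 0x86e1182e08)),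
   (4, W (nat_lit 0x87e1586e0b81e0b)),
   (6, W (nat_lit 0x87e1586e1183209)),
   (12, W (nat_lit 0x21d8561b8460b82e0a)),
   (13, W (nat_lit 0x21d87e158460b82e08)),
   (11, W (nat_lit 0x83a0a)),
   (10, W (nat_lit 0x8761f8561b)),
   (14, W (nat_lit 0x8761f86e0e))],
  [(3, []),
   (6, []),
   (2, W (nat_lit 0x87e1586e0b81e0b)),
   (4, W (nat_lit 0x8761586e1182e0b)),
   (0, []),
   (9, W (nat_lit 0x8761f86e0b81e0d)),
   (1, W (nat_lit 0x21d8560b81e0b)),
   (10, W (nat_lit 0x8761f)),
   (11, W (nat_lit 0x21f86e1183a09)),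
   (8, W (nat_lit 0x8561b82e08)),
   (5, W (nat_lit 0x21d8561181e0d)),
   (7, W (nat_lit 0x21f8561b8460b81e0d)),
   (14, W (nat_lit 0x87e158460c81e0d)),
   (12, W (nat_lit 0x8761f86e1183a07)),
   (13, [519])]]
noncomputable def D2_v0 : Lev :=
  ⟨0, 15, sg (W (nat_lit 0x8160580e0580e03)), [[518], [520]], 256, 2⟩
noncomputable def D2_v1 : Lev :=
  ⟨46, 7, sg (W (nat_lit 0x8260782607)), [[522], [524]], 258, 2⟩
noncomputable def D2_v2 : Lev :=
  ⟨2, 6, sg (W (nat_lit 0x20b8360b)), [[526], [528], [530]], 260, 3⟩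
noncomputable def D2_v3 : Lev :=
  ⟨25, 2, sg [528], [[532], [534], [536], [538]], 263, 4⟩
noncomputable def D2_v4 : Lev :=
  ⟨1, 4, sg (W (nat_lit 0x86e15)), [[540], [542]], 267, 2⟩
noncomputable def D2_v5 : Lev :=
  ⟨28, 2, sg [542], [[540]], 269, 0⟩
noncomputable def D2_v6 : Lev :=
  ⟨3, 2, sg [540], [], 269, 0⟩
noncomputable def D2_vs7 : List Lev :=
  []
noncomputable def D2_vs6 : List Lev :=
  D2_v6 :: D2_vs7
noncomputable def D2_vs5 : List Lev :=
  D2_v5 :: D2_vs6
noncomputable def D2_vs4 : List Lev :=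
  D2_v4 :: D2_vs5
noncomputable def D2_vs3 : List Lev :=
  D2_v3 :: D2_vs4
noncomputable def D2_vs2 : List Lev :=
  D2_v2 :: D2_vs3
noncomputable def D2_vs1 : List Lev :=
  D2_v1 :: D2_vs2
noncomputable def D2_vs : List Lev :=
  D2_v0 :: D2_vs1
noncomputable def zps403 : List (List ℕ × List ℕ) :=
  [([477], W (nat_lit 0x77ddf)), ([476], W (nat_lit 0x781e0)), ([478], [476])]
noncomputable def zts406 : List (List ℕ) :=
  [W (nat_lit 0x2398d62b88a25),
  W (nat_lit 0x23d8ce2b8962888a2b)]
noncomputable def zts409 : List (List ℕ) :=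
  [[],
  W (nat_lit 0x8761f83a08),
  W (nat_lit 0x21d81e0b),
  []]
noncomputable def zcj412 : List (List (List ℕ)) :=
  [[W (nat_lit 0x21f86e1182e0b81e0b8160c), W (nat_lit 0x21d87e1b8320780e05)],
  [W (nat_lit 0x8560b82a05), W (nat_lit 0x21f8561183a0780e17)]]
noncomputable def zcj415 : List (List (List ℕ)) :=
  [[W (nat_lit 0x21f86e1182e0b81e0b8160c), W (nat_lit 0x21d87e1b8320780e05)],
  [W (nat_lit 0x8560b82a05), W (nat_lit 0x21f8561183a0780e17)]]
noncomputable def zE418 : Net :=
  (.cons 64 (nat_lit 0x7df5e2f825e11e10)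
 (.cons 32 (nat_lit 0xddc10318000000007815f066)
 (.cons 16 (nat_lit 0xfff30000fed30000f31e00000b28)
 (.cons 8 (nat_lit 0x5600f900d0004c0002005800c20014)
 (.cons 4 (nat_lit 0x108010c020f0002020002090c000206)
 (.cons 2 (nat_lit 0x1223323233310333201322303020132)
 (.cons 1 (nat_lit 0x50410111500004040100040400001040)
 (.cons 2 (nat_lit 0x200202000002000000000200000000)
 (.cons 4 (nat_lit 0x8080c0c0006080000040e0c08020c)
 (.cons 8 (nat_lit 0x5400b0000400240002003400480000)
 (.cons 16 (nat_lit 0xfe020000b8c80000c31800000ca8)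
 (.cons 32 (nat_lit 0xf084230800000000781de862)
 (.cons 64 (nat_lit 0x7df5e2f847844220)
 .nil)))))))))))))
noncomputable def zK419 : Lk :=
  ⟨zE418, 1, 2, 1⟩
noncomputable def zts422 : List (List ℕ) :=
  [W (nat_lit 0x2599464490647),
  W (nat_lit 0x2599564d9464991249916498fe43)]
noncomputable def zts425 : List (List ℕ) :=
  [W (nat_lit 0x21d856118320981213),
  W (nat_lit 0x21f8320a80e09)]
noncomputable def P2_v0 : Lev :=
  ⟨3, 2, sg [524], [[616], [618], [620], [622], [624]], 310, 0⟩
noncomputable def P2_v1 : Lev :=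
  ⟨28, 2, sg [616], [[618], [620], [622], [624]], 310, 0⟩
noncomputable def P2_v2 : Lev :=
  ⟨1, 4, sg (W (nat_lit 0x9b66b)), [[626], [628]], 310, 2⟩
noncomputable def P2_v3 : Lev :=
  ⟨24, 2, sg [626], [[628]], 312, 0⟩
noncomputable def P2_v4 : Lev :=
  ⟨2, 2, sg [628], [], 312, 0⟩
noncomputable def P2_vs5 : List Lev :=
  []
noncomputable def P2_vs4 : List Lev :=
  P2_v4 :: P2_vs5
noncomputable def P2_vs3 : List Lev :=
  P2_v3 :: P2_vs4
noncomputable def P2_vs2 : List Lev :=
  P2_v2 :: P2_vs3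
noncomputable def P2_vs1 : List Lev :=
  P2_v1 :: P2_vs2
noncomputable def P2_vs : List Lev :=
  P2_v0 :: P2_vs1
noncomputable def P2_ps : List PcG :=
  [⟨[616], 2, [624], [W (nat_lit 0x9c66f9b60d), W (nat_lit 0x9c66f9b66b), W (nat_lit 0x9c66d), W (nat_lit 0x9c66f), [624]]⟩,
  ⟨[524], 2, W (nat_lit 0x9c66f), [W (nat_lit 0x2719be6b), W (nat_lit 0x9c66d), [622], [624]]⟩,
  ⟨[618], 2, [], [[620], [622], [624]]⟩,
  ⟨[620], 2, [], [[622], [624]]⟩,
  ⟨[622], 2, [], [[624]]⟩,
  ⟨[624], 2, [], []⟩]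
noncomputable def w2_0_E : List (ℕ × List CE) :=
  [(3, [])]
noncomputable def w2_0_R : List (List ℕ) :=
  [[],
  [616]]
noncomputable def zts444 : List (List ℕ) :=
  [W (nat_lit 0x87e1582e0b),
  [524],
  W (nat_lit 0x8760d),
  W (nat_lit 0x21d87e1b82e0b),
  W (nat_lit 0x8761586e1182e0b),
  W (nat_lit 0x21d87e15)]
noncomputable def zcj447 : List (List (List ℕ)) :=
  [[W (nat_lit 0x9c66f9b60d), W (nat_lit 0x9c66f9b66b), W (nat_lit 0x9c66d), W (nat_lit 0x9c66f), [624]],
  [[524], W (nat_lit 0x2719be6b), W (nat_lit 0x9c66d), [622], [624]],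
  [W (nat_lit 0x2719be0d), [618], [620], [622], [624]],
  [W (nat_lit 0x9c60d), [618], [620], [622], [624]],
  [[524], [618], [620], [622], [624]],
  [[524], [618], [620], [622], [624]]]
noncomputable def w2_1_E : List (ℕ × List CE) :=
  [(3, []),
  (3, [])]
noncomputable def w2_1_R : List (List ℕ) :=
  [[],
  [524],
  [616],
  W (nat_lit 0x83669)]
noncomputable def zcj454 : List (List (List ℕ)) :=
  [[W (nat_lit 0x9c66f9b66b), W (nat_lit 0x9c66d), W (nat_lit 0x9c66f), [624]],
  [W (nat_lit 0x2719be6b), W (nat_lit 0x9c66d), [622], [624]],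
  [[618], [620], [622], [624]],
  [[618], [620], [622], [624]],
  [[618], [620], [622], [624]],
  [[618], [620], [622], [624]]]
noncomputable def w2_2_E : List (ℕ × List CE) :=
  [(3, []),
  (3, []),
  (3, []),
  (3, [])]
noncomputable def w2_2_R : List (List ℕ) :=
  [[],
  [618],
  [524],
  W (nat_lit 0x9ae0d),
  [616],
  W (nat_lit 0x9ae69),
  W (nat_lit 0x83669),
  W (nat_lit 0x26b83669)]
noncomputable def zcj461 : List (List (List ℕ)) :=
  [[W (nat_lit 0x9c66d), W (nat_lit 0x9c66f), [624]],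
  [W (nat_lit 0x9c66d), [622], [624]],
  [[620], [622], [624]],
  [[620], [622], [624]],
  [[620], [622], [624]],
  [[620], [622], [624]]]
noncomputable def w2_3_E : List (ℕ × List CE) :=
  [(3, []),
  (1, [ceD, ⟨false, [616], 0, [622]⟩]),
  (1, [ceD, ⟨false, [616], 0, [622]⟩]),
  (3, []),
  (1, [ceD, ⟨false, [524], 0, W (nat_lit 0x9c66f)⟩]),
  (0, [⟨true, [], 1, [622]⟩, ⟨true, [], 1, W (nat_lit 0x9c66f)⟩]),
  (0, [⟨true, [], 1, []⟩, ⟨true, [], 1, []⟩]),
  (1, [ceD, ⟨false, [524], 0, [624]⟩])]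
noncomputable def w2_3_R : List (List ℕ) :=
  [[],
  [620],
  [618],
  [524],
  W (nat_lit 0x9ae0d),
  W (nat_lit 0x26d9ae0d),
  [616],
  W (nat_lit 0x26b83669)]
noncomputable def zcj468 : List (List (List ℕ)) :=
  [[W (nat_lit 0x9c66f), [624]],
  [[622], [624]],
  [[622], [624]],
  [[622], [624]],
  [[622], [624]],
  [[622], [624]]]
noncomputable def w2_4_E : List (ℕ × List CE) :=
  [(3, []),
  (3, []),
  (1, [ceD, ⟨false, [524], 0, [624]⟩]),
  (0, [⟨true, [], 1, [624]⟩, ⟨true, [], 1, [624]⟩]),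
  (1, [ceD, ⟨false, [524], 0, [624]⟩]),
  (1, [ceD, ⟨false, [524], 0, []⟩]),
  (3, []),
  (3, [])]
noncomputable def w2_4_R : List (List ℕ) :=
  [[],
  [622],
  [620],
  W (nat_lit 0x9be6d),
  [618],
  W (nat_lit 0x9ae0d),
  W (nat_lit 0x26d9ae0d),
  [616],
  W (nat_lit 0x9be69),
  W (nat_lit 0x26b83669),
  W (nat_lit 0x9be6b83669)]
noncomputable def zcj475 : List (List (List ℕ)) :=
  [[[624]],
  [[624]],
  [[624]],
  [[624]],
  [[624]],
  [[624]]]
noncomputable def w2_5_E : List (ℕ × List CE) :=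
  [(3, []),
  (1, [ceD, ⟨false, [616], 0, []⟩]),
  (1, [ceD, ⟨false, [524], 0, []⟩]),
  (1, [ceD, ⟨false, [524], 0, []⟩]),
  (3, []),
  (1, [ceD, ⟨false, [620], 0, []⟩]),
  (0, [⟨true, [], 1, []⟩, ⟨true, [], 1, []⟩]),
  (0, [⟨true, [], 1, []⟩, ⟨true, [], 1, []⟩]),
  (1, [ceD, ⟨false, [616], 0, []⟩]),
  (0, [⟨true, [], 1, []⟩, ⟨true, [], 1, []⟩]),
  (1, [ceD, ⟨false, [616], 0, []⟩])]
noncomputable def w2_5_R : List (List ℕ) :=
  [[],
  [624],
  [622],
  [620],
  W (nat_lit 0x9be6d),
  [618],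
  W (nat_lit 0x9c66b),
  W (nat_lit 0x9ae0d),
  W (nat_lit 0x9be69),
  W (nat_lit 0x9be6b83669)]
noncomputable def w2_6_F : List (List ℕ × ℕ × List ℕ) :=
  [([], 0, []),
  ([], 1, []),
  (W (nat_lit 0x87e1b82e0b81e04), 1, []),
  (W (nat_lit 0x21f8560c81e0d), 1, []),
  (W (nat_lit 0x8761586e0d), 2, []),
  (W (nat_lit 0x8761f86e118320981213), 1, []),
  (W (nat_lit 0x87e1586e0d81e0b), 2, []),
  (W (nat_lit 0x21b83a078120b), 1, []),
  (W (nat_lit 0x8761f8561b8360782e04), 2, []),
  (W (nat_lit 0x21d8561b83a08), 1, [])]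
noncomputable def w2_6_R : List (List ℕ) :=
  [[], [608], [630]]
noncomputable def zts485 : List (List ℕ) :=
  [W (nat_lit 0x87e1582e0b),
  [524],
  W (nat_lit 0x8760d),
  W (nat_lit 0x21d87e1b82e0b),
  W (nat_lit 0x8761586e1182e0b),
  W (nat_lit 0x21d87e15)]
noncomputable def X2_0_ps : List PcG :=
  [⟨[654], 2, W (nat_lit 0xa5e93), [W (nat_lit 0xa66919e679), [660], [662], W (nat_lit 0xa6691), [658], [664]]⟩,
  ⟨[632], 3, [], [W (nat_lit 0x299a4e91), [656], [662], W (nat_lit 0x299a5e95), [664]]⟩,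
  ⟨[656], 2, [664], [W (nat_lit 0xa6693), [660], [662], [664]]⟩,
  ⟨[658], 2, [664], [[660], [662], [664]]⟩,
  ⟨[660], 2, [664], [W (nat_lit 0xa6697), [664]]⟩,
  ⟨[662], 2, [664], [[664]]⟩,
  ⟨[664], 2, [], []⟩]
noncomputable def zE488 : List (ℕ × List ℕ) :=
  [(634, [654])]
noncomputable def X2_0_v0 : Lev :=
  ⟨2, 6, sg (W (nat_lit 0x9e67b9e679)), [[636], [638], [640]], 315, 3⟩
noncomputable def X2_0_v1 : Lev :=
  ⟨25, 2, sg [638], [[642], [644], [646], [648]], 318, 4⟩
noncomputable def X2_0_v2 : Lev :=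
  ⟨1, 4, sg (W (nat_lit 0xa1e83)), [[650], [652]], 322, 2⟩
noncomputable def X2_0_v3 : Lev :=
  ⟨28, 2, sg [650], [[652]], 324, 0⟩
noncomputable def X2_0_v4 : Lev :=
  ⟨3, 2, sg [652], [], 324, 0⟩
noncomputable def X2_0_vs5 : List Lev :=
  []
noncomputable def X2_0_vs4 : List Lev :=
  X2_0_v4 :: X2_0_vs5
noncomputable def X2_0_vs3 : List Lev :=
  X2_0_v3 :: X2_0_vs4
noncomputable def X2_0_vs2 : List Lev :=
  X2_0_v2 :: X2_0_vs3
noncomputable def X2_0_vs1 : List Lev :=
  X2_0_v1 :: X2_0_vs2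
noncomputable def X2_0_vs : List Lev :=
  X2_0_v0 :: X2_0_vs1
noncomputable def zm493 : ℕ :=
  (nat_lit 0x80200826010a48001200a88d)
noncomputable def cX2_0_F : List (List ℕ × ℕ × ℕ) :=
  [([0], zm493, zm493)]
noncomputable def cX2_0G_v0 : Lev :=
  ⟨2, 70, sg (W (nat_lit 0x816038160381603816038160381603)), [[666], [668], [670]], 330, 3⟩
noncomputable def cX2_0G_v1 : Lev :=
  ⟨3, 36, sg (W (nat_lit 0xa6e9ba769ba7e9ba769b)), [[672], [674], [676]], 333, 3⟩
noncomputable def cX2_0G_v2 : Lev :=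
  ⟨25, 2, sg [674], [[672], [676]], 336, 0⟩
noncomputable def cX2_0G_v3 : Lev :=
  ⟨28, 2, sg [676], [[672]], 336, 0⟩
noncomputable def cX2_0G_v4 : Lev :=
  ⟨1, 2, sg [672], [], 336, 0⟩
noncomputable def cX2_0G_vs5 : List Lev :=
  []
noncomputable def cX2_0G_vs4 : List Lev :=
  cX2_0G_v4 :: cX2_0G_vs5
noncomputable def cX2_0G_vs3 : List Lev :=
  cX2_0G_v3 :: cX2_0G_vs4
noncomputable def cX2_0G_vs2 : List Lev :=
  cX2_0G_v2 :: cX2_0G_vs3
noncomputable def cX2_0G_vs1 : List Lev :=
  cX2_0G_v1 :: cX2_0G_vs2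
noncomputable def cX2_0G_vs : List Lev :=
  cX2_0G_v0 :: cX2_0G_vs1
noncomputable def cX2_0_x : List (ℕ × List ℕ) :=
  [((nat_lit 0), [(nat_lit 0xd7bdff1d9fef5b3f1edc1ffac)]),
  ((nat_lit 0), [(nat_lit 0xd0a55c1d0d0000270a041ff28)])]
noncomputable def zE497 : List (ℕ × List ℕ) :=
  [(672, W (nat_lit 0xa2e87)),
  (674, W (nat_lit 0x28ba1e7f)),
  (676, W (nat_lit 0xa2e89))]
noncomputable def cX2_0_G : Gl :=
  ⟨P, ns, (app D zE497), (diag [[608]]), [], [], memM (app D zE497) [[632], [634]], true⟩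
noncomputable def cX2_0_s : St :=
  ⟨(mkS P.n cX2_0G_vs cX2_0_x), [[514], [516]], [], mapL Prod.snd cX2_0_F, memM (app D zE497) [[632], [634]], []⟩
noncomputable def zt499 : ST :=
  (.orb 0 (.and 1 0 (.br 0 [W (nat_lit 0xa2e79), W (nat_lit 0x28ba1e7f9e67b)] (W (nat_lit 0xc0100c01)) [(2, [])] (.cons (.orb 0 (.and 2 0 (.br 0 [W (nat_lit 0x28da1e7f), W (nat_lit 0xa368ba267f)] (W (nat_lit 0xc01)) [(3, [])] (.cons .fnd
 .nil))))
 .nil))))
noncomputable def X2_1_ps : List PcG :=
  [⟨[680], 2, W (nat_lit 0xb0ebf), [W (nat_lit 0xb0ebfaf6ab), W (nat_lit 0xb06bd), W (nat_lit 0x2c3b06bf), W (nat_lit 0xb0ec1), [704]]⟩,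
  ⟨[682], 2, [700], [[700], W (nat_lit 0x2c3afebf), [706], [704]]⟩,
  ⟨[700], 2, [], [W (nat_lit 0xb0ebf), [704], [706]]⟩,
  ⟨[702], 3, [], [[706], W (nat_lit 0xb0ec1)]⟩,
  ⟨[704], 2, [], [[706]]⟩,
  ⟨[706], 2, [], []⟩]
noncomputable def zE503 : List (ℕ × List ℕ) :=
  [(678, [682])]
noncomputable def X2_1_v0 : Lev :=
  ⟨0, 3, sg (W (nat_lit 0xa9ea9)), [[682], [684], [686]], 338, 3⟩
noncomputable def X2_1_v1 : Lev :=
  ⟨28, 2, sg [682], [[688], [690], [692], [694]], 341, 4⟩
noncomputable def X2_1_v2 : Lev :=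
  ⟨1, 4, sg (W (nat_lit 0xad6b3)), [[696], [698]], 345, 2⟩
noncomputable def X2_1_v3 : Lev :=
  ⟨24, 2, sg [696], [[698]], 347, 0⟩
noncomputable def X2_1_v4 : Lev :=
  ⟨2, 2, sg [698], [], 347, 0⟩
noncomputable def X2_1_vs5 : List Lev :=
  []
noncomputable def X2_1_vs4 : List Lev :=
  X2_1_v4 :: X2_1_vs5
noncomputable def X2_1_vs3 : List Lev :=
  X2_1_v3 :: X2_1_vs4
noncomputable def X2_1_vs2 : List Lev :=
  X2_1_v2 :: X2_1_vs3
noncomputable def X2_1_vs1 : List Lev :=
  X2_1_v1 :: X2_1_vs2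
noncomputable def X2_1_vs : List Lev :=
  X2_1_v0 :: X2_1_vs1
noncomputable def zm508 : ℕ :=
  (nat_lit 0x61000026049040011100a88d)
noncomputable def cX2_1_F : List (List ℕ × ℕ × ℕ) :=
  [([0], zm508, zm508)]
noncomputable def cX2_1G_v0 : Lev :=
  ⟨0, 15, sg (W (nat_lit 0x8160580e0580e03)), [[518], [520]], 256, 2⟩
noncomputable def cX2_1G_v1 : Lev :=
  ⟨24, 56, sg (W (nat_lit 0x81e0782607826078260782607)), [[708], [710]], 351, 2⟩
noncomputable def cX2_1G_v2 : Lev :=
  ⟨55, 12, sg (W (nat_lit 0xb1ec5b1ec5b1ec5)), [[712]], 353, 1⟩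
noncomputable def cX2_1G_v3 : Lev :=
  ⟨1, 2, sg [712], [], 354, 0⟩
noncomputable def cX2_1G_vs4 : List Lev :=
  []
noncomputable def cX2_1G_vs3 : List Lev :=
  cX2_1G_v3 :: cX2_1G_vs4
noncomputable def cX2_1G_vs2 : List Lev :=
  cX2_1G_v2 :: cX2_1G_vs3
noncomputable def cX2_1G_vs1 : List Lev :=
  cX2_1G_v1 :: cX2_1G_vs2
noncomputable def cX2_1G_vs : List Lev :=
  cX2_1G_v0 :: cX2_1G_vs1
noncomputable def cX2_1_x : List (ℕ × List ℕ) :=
  [((nat_lit 0), [(nat_lit 0x204000e0400020c0e12000001)]),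
  ((nat_lit 0), [(nat_lit 0xd7bdff1d9fef5b3f1ed800000)]),
  ((nat_lit 0), [(nat_lit 0xc0a0000c00e80a00000000000)])]
noncomputable def zE512 : List (ℕ × List ℕ) :=
  [(712, W (nat_lit 0x2bbae6b3))]
noncomputable def cX2_1_G : Gl :=
  ⟨P, ns, (app D zE512), (diag [[630]]), [], [], memM (app D zE512) [[678], [680]], true⟩
noncomputable def cX2_1_s : St :=
  ⟨(mkS P.n cX2_1G_vs cX2_1_x), [[514], [516]], [], mapL Prod.snd cX2_1_F, memM (app D zE512) [[678], [680]], []⟩
noncomputable def zt514 : ST :=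
  (.orb 0 (.and 0 1 (.br 0 [W (nat_lit 0xae6ab), W (nat_lit 0x2bbad6a9)] (W (nat_lit 0x403)) [(0, [])] (.cons (.orb 0 (.and 4 0 (.br 0 [[692], W (nat_lit 0xaeeb3), W (nat_lit 0xad6ab)] (W (nat_lit 0x500c01)) [(24, [])] (.cons (.orb 0 (.and 2 0 (.br 0 [[698]] [0] [(55, [])] (.cons .fnd
 .nil))))
 .nil))))
 .nil))))
noncomputable def cC3_F : List (List ℕ × ℕ × ℕ) :=
  []
noncomputable def cC3G_v0 : Lev :=
  ⟨0, 100, sg (W (nat_lit 0xc0100c0100c0100c0100c0100c01)), [[6], [8]], 0, 2⟩
noncomputable def cC3G_v1 : Lev :=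
  ⟨20, 22, sg (W (nat_lit 0x1c07024070240702407)), [[734], [736]], 364, 2⟩
noncomputable def cC3G_v2 : Lev :=
  ⟨1, 21, sg (W (nat_lit 0xb7ee1b7ee1b86dfb86df)), [[738], [740]], 366, 2⟩
noncomputable def cC3G_v3 : Lev :=
  ⟨5, 20, sg (W (nat_lit 0xb8ee5b8ee3b96e3b96e3)), [[742], [744], [746]], 368, 3⟩
noncomputable def cC3G_v4 : Lev :=
  ⟨27, 4, sg (W (nat_lit 0x2e9b9ee7)), [[748], [750]], 371, 2⟩
noncomputable def cC3G_v5 : Lev :=
  ⟨2, 4, sg (W (nat_lit 0xbbeed)), [[752]], 373, 1⟩
noncomputable def cC3G_v6 : Lev :=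
  ⟨3, 3, sg (W (nat_lit 0xbc6f1)), [], 374, 0⟩
noncomputable def cC3G_vs7 : List Lev :=
  []
noncomputable def cC3G_vs6 : List Lev :=
  cC3G_v6 :: cC3G_vs7
noncomputable def cC3G_vs5 : List Lev :=
  cC3G_v5 :: cC3G_vs6
noncomputable def cC3G_vs4 : List Lev :=
  cC3G_v4 :: cC3G_vs5
noncomputable def cC3G_vs3 : List Lev :=
  cC3G_v3 :: cC3G_vs4
noncomputable def cC3G_vs2 : List Lev :=
  cC3G_v2 :: cC3G_vs3
noncomputable def cC3G_vs1 : List Lev :=
  cC3G_v1 :: cC3G_vs2
noncomputable def cC3G_vs : List Lev :=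
  cC3G_v0 :: cC3G_vs1
noncomputable def cC3_x : List (ℕ × List ℕ) :=
  [((nat_lit 0x400000000000000000000000000000000000000000000000000000000000000000000000000000000000000000003), [(nat_lit 0xfffffffffffffffffffffffff)]),
  ((nat_lit 0), [(nat_lit 0x7ffffe)]),
  ((nat_lit 0x80000000000000000000000000000000000000000000000000000000000000000000000000000000000000000000), [(nat_lit 0x6ffffe)]),
  ((nat_lit 0), [(nat_lit 0x50818000000)]),
  ((nat_lit 0), []),
  ((nat_lit 0x4000000000000000000000000000000000000000000000000000000000000000000000000000000000000000000000), [(nat_lit 0x8604)]),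
  ((nat_lit 0), [(nat_lit 0x24008),
   (nat_lit 0x4408000000000000000000000),
   (nat_lit 0x4001010000000000000000)])]
noncomputable def cC3_G : Gl :=
  ⟨P, ns, (app D []), (diag [[212]]), [], [], memM (app D []) [[714], [716], [718], [720]], true⟩
noncomputable def cC3_s : St :=
  ⟨(mkS P.n cC3G_vs cC3_x), [[0], [2]], [], mapL Prod.snd cC3_F, memM (app D []) [[714], [716], [718], [720]], []⟩
noncomputable def zt527 : ST :=
  (.orb 0 (.br 0 [W (nat_lit 0xb62d9b4ecbb3ece), W (nat_lit 0x2dab4ed2), W (nat_lit 0x2dcb62d9b4ecbb4acb)] (W (nat_lit 0xc0101403004050040500c01)) [(2, W (nat_lit 0x1012e6)), (0, [])] (.cons (.img [0] 0 (.orb 0 (.and 1 0 (.mis 0))))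
 (.cons (.img [0] 0 (.br 0 [] [] [(20, [])] (.cons (.orb 0 (.br 0 [W (nat_lit 0x2d7b5ed3), W (nat_lit 0xb72d7)] (W (nat_lit 0x4030040300403)) [(2, [735]), (1, [])] (.cons (.orb 0 (.img [0] 0 (.and 2 0 (.mis 0))))
 (.cons (.orb 0 (.img [0] 0 (.and 3 0 (.dif 0 3 (.br 0 [W (nat_lit 0x2d7b5ed3), W (nat_lit 0x2dbb76d8)] (W (nat_lit 0xc01)) [(5, [])] (.cons (.img [0] 0 (.br 0 [] [] [(27, [])] (.cons (.orb 0 (.br 0 [W (nat_lit 0x2dcb5ed7)] [0] [(10, [749]), (2, [])] (.cons (.orb 2 (.img [0] 0 (.and 2 0 (.mis 0))))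
 (.cons (.orb 0 (.orb 1 (.img [0] 0 (.and 2 0 (.br 0 [] [] [(3, [])] (.cons .fnd
 .nil))))))
 .nil))))
 .nil)))
 .nil))))))
 .nil))))
 .nil)))
 .nil))))
noncomputable def zt531 : List ℕ :=
  []
noncomputable def zcj532 : List (List ℕ) :=
  []
noncomputable def zt535 : List ℕ :=
  []
noncomputable def zcj536 : List (List ℕ) :=
  [[766]]
noncomputable def zE539 : List (ℕ × List ℕ) :=
  [(762, W (nat_lit 0xc06fd))]
noncomputable def zt540 : List ℕ :=
  []
noncomputable def zcj541 : List (List ℕ) :=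
  [[768],
  [766]]
noncomputable def zus545 : List (List ℕ) :=
  [[758],
  [760]]
noncomputable def zF546 : List (List (ℕ × List ℕ)) :=
  [[(1, []),
   (0, W (nat_lit 0xc06fb)),
   (2, W (nat_lit 0x2ffc06fb))],
  [(2, []),
   (0, [768]),
   (1, [768])]]
noncomputable def zus549 : List (List ℕ) :=
  [[754],
  [756],
  [757],
  W (nat_lit 0xbcef8),
  W (nat_lit 0xbcef9),
  W (nat_lit 0xbcefb),
  W (nat_lit 0xbcef7),
  W (nat_lit 0xbdaf4),
  W (nat_lit 0xbd701),
  W (nat_lit 0xbd6f8),
  W (nat_lit 0xbd6fb),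
  W (nat_lit 0xbd6fa),
  W (nat_lit 0xbd6f9),
  W (nat_lit 0xbdafb)]
noncomputable def zF550 : List (List (ℕ × List ℕ)) :=
  [[(1, []),
   (0, [768]),
   (4, []),
   (7, []),
   (9, []),
   (2, []),
   (6, [762]),
   (12, W (nat_lit 0xbeef9)),
   (3, []),
   (5, []),
   (14, W (nat_lit 0x2ffbeef9)),
   (10, [758]),
   (8, W (nat_lit 0xc06f9)),
   (11, W (nat_lit 0x301beef7)),
   (13, W (nat_lit 0xbfef7))],
  [(2, []),
   (1, W (nat_lit 0xc06f9)),
   (6, W (nat_lit 0xbfefb)),
   (0, []),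
   (10, W (nat_lit 0x2ffc06fb)),
   (11, W (nat_lit 0x301beef7)),
   (3, W (nat_lit 0xbfefb)),
   (4, W (nat_lit 0xbeef9)),
   (5, [758]),
   (12, W (nat_lit 0x301beef9)),
   (13, W (nat_lit 0xbeef7)),
   (14, [758]),
   (9, W (nat_lit 0xbff01beef9)),
   (7, W (nat_lit 0xc06f7)),
   (8, W (nat_lit 0x301beef7))]]
noncomputable def D3_v0 : Lev :=
  ⟨2, 15, sg (W (nat_lit 0x2f3bd6f3bd6f3bd6f3)), [[758], [760]], 376, 2⟩
noncomputable def D3_v1 : Lev :=
  ⟨25, 3, sg (W (nat_lit 0xbe6f7)), [[762], [764]], 378, 2⟩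
noncomputable def D3_v2 : Lev :=
  ⟨7, 2, sg [762], [[766], [768]], 380, 2⟩
noncomputable def D3_v3 : Lev :=
  ⟨0, 2, sg [768], [[766]], 382, 0⟩
noncomputable def D3_v4 : Lev :=
  ⟨1, 2, sg [766], [], 382, 0⟩
noncomputable def D3_vs5 : List Lev :=
  []
noncomputable def D3_vs4 : List Lev :=
  D3_v4 :: D3_vs5
noncomputable def D3_vs3 : List Lev :=
  D3_v3 :: D3_vs4
noncomputable def D3_vs2 : List Lev :=
  D3_v2 :: D3_vs3
noncomputable def D3_vs1 : List Lev :=
  D3_v1 :: D3_vs2
noncomputable def D3_vs : List Lev :=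
  D3_v0 :: D3_vs1
noncomputable def zps554 : List (List ℕ × List ℕ) :=
  [(W (nat_lit 0xb2ed0), [716]), (W (nat_lit 0xb42cd), [719])]
noncomputable def zts557 : List (List ℕ) :=
  [W (nat_lit 0xc2f07c130a),
  W (nat_lit 0xc4f05)]
noncomputable def zts560 : List (List ℕ) :=
  [[],
  W (nat_lit 0xbeef5),
  W (nat_lit 0x301bd6fb),
  W (nat_lit 0x2ffbeef9bcef7),
  W (nat_lit 0x2f7bd6f9),
  [],
  W (nat_lit 0x2ffc06f9bd6f8),
  W (nat_lit 0x2ffc06f7bdafb),
  W (nat_lit 0x2f9bd6fa),
  W (nat_lit 0x2ffc06f9bd6f8),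
  [],
  W (nat_lit 0x2f7bcefb),
  W (nat_lit 0x2ffbeef9bcef7),
  W (nat_lit 0xc06f9bd6fb),
  W (nat_lit 0xc06fbbcef8),
  []]
noncomputable def zcj563 : List (List (List ℕ)) :=
  [[W (nat_lit 0x2ffbd6fb), W (nat_lit 0x2f9bdaf4)],
  [W (nat_lit 0x2ffbeef6), W (nat_lit 0x301beef7)],
  [W (nat_lit 0xc06f9), W (nat_lit 0x2ffc06fbbcefb)],
  [W (nat_lit 0xbfefbbcef8), W (nat_lit 0x2ffc06f7bd6f8)]]
noncomputable def zcj566 : List (List (List ℕ)) :=
  [[W (nat_lit 0x2ffbd6fb), W (nat_lit 0x2f9bdaf4)],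
  [W (nat_lit 0x2ffbeef6), W (nat_lit 0x301beef7)],
  [W (nat_lit 0xc06f9), W (nat_lit 0x2ffc06fbbcefb)],
  [W (nat_lit 0xbfefbbcef8), W (nat_lit 0x2ffc06f7bd6f8)]]
noncomputable def zE569 : Net :=
  (.cons 64 (nat_lit 0x1f8fc6f8ef1e3e5a)
 (.cons 32 (nat_lit 0xcddc94ea00000000d1091302)
 (.cons 16 (nat_lit 0x87be00007caf00008b4b0000c4a0)
 (.cons 8 (nat_lit 0x580006000d001e004a00a900be0058)
 (.cons 4 (nat_lit 0x4040d030a060b0d0909010c06020102)
 (.cons 2 (nat_lit 0x22000220002023232030022320002201)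
 (.cons 1 (nat_lit 0x14510450404111511051014150044114)
 (.cons 2 (nat_lit 0x20000000000022000000022200022200)
 (.cons 4 (nat_lit 0x8080e080c000c080a0008020c0408)
 (.cons 8 (nat_lit 0x56009000200004006800a800f80090)
 (.cons 16 (nat_lit 0xd5a800007d2600009b4a00004024)
 (.cons 32 (nat_lit 0xd95b5224000000001129120e)
 (.cons 64 (nat_lit 0x1f8fc6f1e3cf2ac0)
 .nil)))))))))))))
noncomputable def zK570 : Lk :=
  ⟨zE569, 1, 2, 1⟩
noncomputable def zts573 : List (List ℕ) :=
  [W (nat_lit 0xc8719c5b18),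
  W (nat_lit 0x325c7f19c5f23)]
noncomputable def zts576 : List (List ℕ) :=
  [W (nat_lit 0x301beef7bcef8),
  W (nat_lit 0xbff01bd6fa)]
noncomputable def P3_v0 : Lev :=
  ⟨7, 2, sg [818], [[766], [820]], 408, 0⟩
noncomputable def P3_v1 : Lev :=
  ⟨0, 2, sg [820], [[766]], 408, 0⟩
noncomputable def P3_v2 : Lev :=
  ⟨1, 2, sg [766], [], 382, 0⟩
noncomputable def P3_vs3 : List Lev :=
  []
noncomputable def P3_vs2 : List Lev :=
  P3_v2 :: P3_vs3
noncomputable def P3_vs1 : List Lev :=
  P3_v1 :: P3_vs2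
noncomputable def P3_vs : List Lev :=
  P3_v0 :: P3_vs1
noncomputable def P3_ps : List PcG :=
  [⟨[766], 2, [], [W (nat_lit 0xcd733), [820]]⟩,
  ⟨[818], 2, [], [[820]]⟩,
  ⟨[820], 2, [], []⟩]
noncomputable def w3_0_E : List (ℕ × List CE) :=
  [(3, [])]
noncomputable def w3_0_R : List (List ℕ) :=
  [[],
  [766]]
noncomputable def zts595 : List (List ℕ) :=
  [[766],
  W (nat_lit 0xbfefb),
  W (nat_lit 0xbff01)]
noncomputable def zcj598 : List (List (List ℕ)) :=
  [[W (nat_lit 0xcd733), [820]],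
  [[818], [820]],
  [[818], [820]]]
noncomputable def w3_1_E : List (ℕ × List CE) :=
  [(3, []),
  (3, [])]
noncomputable def w3_1_R : List (List ℕ) :=
  [[],
  [818],
  [766],
  W (nat_lit 0xcceff)]
noncomputable def zcj605 : List (List (List ℕ)) :=
  [[[820]],
  [[820]],
  [[820]]]
noncomputable def w3_2_E : List (ℕ × List CE) :=
  [(3, []),
  (1, [ceD, ⟨false, [766], 0, []⟩]),
  (1, [ceD, ⟨false, [818], 0, []⟩]),
  (0, [⟨true, [], 1, []⟩, ⟨true, [], 1, []⟩])]
noncomputable def w3_2_R : List (List ℕ) :=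
  [[],
  [820],
  [818],
  [766]]
noncomputable def w3_3_F : List (List ℕ × ℕ × List ℕ) :=
  [([], 0, []),
  (W (nat_lit 0xc06f3), 1, []),
  (W (nat_lit 0xbff01bdef3), 1, []),
  ([], 1, [])]
noncomputable def w3_3_R : List (List ℕ) :=
  [[], [766]]
noncomputable def zts615 : List (List ℕ) :=
  [[766],
  W (nat_lit 0xbfefb),
  W (nat_lit 0xbff01)]
noncomputable def zE624 : Net :=
  (.cons 64 (nat_lit 0xa04c653b8055873c)
 (.cons 32 (nat_lit 0xb6ebb29100000000e9eb6324)
 (.cons 16 (nat_lit 0x4617000081620000b57600008b02)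
 (.cons 8 (nat_lit 0xac00bd006a003800a50022000e000e)
 (.cons 4 (nat_lit 0xe050809020c050a010a000806070106)
 (.cons 2 (nat_lit 0x32102102203021000120100210300130)
 (.cons 1 (nat_lit 0x14410100414014414141145150000140)
 (.cons 2 (nat_lit 0x220020000020220200000000)
 (.cons 4 (nat_lit 0x20000080008000a06020e00060c0006)
 (.cons 8 (nat_lit 0x2c003a000a007000460008000c0016)
 (.cons 16 (nat_lit 0x42120000a07a0000ce9e00009580)
 (.cons 32 (nat_lit 0x36a3928000000000f1cb7928)
 (.cons 64 (nat_lit 0xa04c6536f30a4f80)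
 .nil)))))))))))))
noncomputable def zK625 : Lk :=
  ⟨zE624, 1, 3, 1⟩
noncomputable def zts628 : List (List ℕ) :=
  [W (nat_lit 0xd4f55d3f43d1b40d0f3dd0337ce73b),
  W (nat_lit 0x35fd6f50d2b3fd0f3dd0337cdf43)]
noncomputable def zts631 : List (List ℕ) :=
  [W (nat_lit 0x210640f0440e0240b01c0e00814),
  W (nat_lit 0x84110341d0240b01c0e00c02)]

theorem zb2 : bnd (pcB D [] 2 zt0 zcj1) (leB (app D []) [[34]] ([34] :: [])) = true := by decide +kernel
theorem zr3 : chk (pcR [] [34] 2 zt0 zcj1) = true := by decide +kernel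
theorem zb6 : bnd (pcB D [[34]] 2 zt4 zcj5) (leB (app D []) [[32], [34]] ([32] :: [[34]])) = true := by decide +kernel
theorem zr7 : chk (pcR [[34]] [32] 2 zt4 zcj5) = true := by decide +kernel
theorem zb10 : schB D [[24], [26], [28], [30]] [[32], [34]] zus8 zF9 4 = true := by decide +kernel
theorem zr11 : chk (schR [[24], [26], [28], [30]] zus8 zF9) = true := by decide +kernel
theorem zb15 : bnd (pcB D [[24], [26], [28], [30]] 3 zt13 zcj14) (leB (app D zE12) [[20], [22], [15]] ([15] :: [[24], [26], [28], [30]])) = true := by decide +kernel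
theorem zr16 : chk (pcR [[24], [26], [28], [30]] [15] 3 zt13 zcj14) = true := by decide +kernel
theorem zr17 : chk (defRels zE12) = true := by decide +kernel
theorem zb20 : schB D [[16], [15], [18]] [[20], [22], [15]] zus18 zF19 4 = true := by decide +kernel
theorem zr21 : chk (schR [[16], [15], [18]] zus18 zF19) = true := by decide +kernel
theorem zb24 : schB D [[12], [14]] [[16], [15], [18]] zus22 zF23 5 = true := by decide +kernel
theorem zr25 : chk (schR [[12], [14]] zus22 zF23) = true := by decide +kernel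
theorem zb28 : schB D [[10], [8]] [[12], [14]] zus26 zF27 21 = true := by decide +kernel
theorem zr29 : chk (schR [[10], [8]] zus26 zF27) = true := by decide +kernel
theorem zb32 : schB D [[6], [8]] [[10], [8]] zus30 zF31 22 = true := by decide +kernel
theorem zr33 : chk (schR [[6], [8]] zus30 zF31) = true := by decide +kernel
theorem zc35 : P.chainB ns D GM_w0_1_vs [[6], [8]] = true := by decide +kernel
theorem zb37 : wdB D [[6], [8]] GM_w0_1_v0.nx zcj36 = true := by decide +kernel
theorem zr38 : chk (wdR GM_w0_1_v0.nx (W (nat_lit 0x1244901c09)) zcj36) = true := by decide +kernel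
theorem zc39 : P.chainB ns D GM_vs [[0], [2]] = true := by decide +kernel
theorem zb41 : wdB D [[6], [8]] GM_v1.nx zcj40 = true := by decide +kernel
theorem zr42 : chk (wdR GM_v1.nx [73] zcj40) = true := by decide +kernel
theorem zb45 : bB P.n P.N ns (app D zE44) [[0], [2]] [[6], [8]] 0 zrs34 zB43 = true := by decide +kernel
theorem zb46 : P.invSz ns [[0], [2]] 0 (orbM P.N ns GM_v0) 100 = true := by decide +kernel
theorem zr47 : chk (bR 0 zrs34 zB43) = true := by decide +kernel
theorem zr48 : chk (defRels zE44) = true := by decide +kernel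
theorem zb51 : bnd (pcB D [] 2 zt49 zcj50) (leB (app D []) [[70]] ([70] :: [])) = true := by decide +kernel
theorem zr52 : chk (pcR [] [70] 2 zt49 zcj50) = true := by decide +kernel
theorem zb56 : bnd (pcB D [[70]] 2 zt54 zcj55) (leB (app D zE53) [[66], [68]] ([68] :: [[70]])) = true := by decide +kernel
theorem zr57 : chk (pcR [[70]] [68] 2 zt54 zcj55) = true := by decide +kernel
theorem zr58 : chk (defRels zE53) = true := by decide +kernel
theorem zb61 : schB D [[60], [54], [62], [64]] [[66], [68]] zus59 zF60 4 = true := by decide +kernel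
theorem zr62 : chk (schR [[60], [54], [62], [64]] zus59 zF60) = true := by decide +kernel
theorem zb66 : bnd (pcB D [[60], [54], [62], [64]] 2 zt64 zcj65) (leB (app D zE63) [[54], [56], [58]] ([58] :: [[60], [54], [62], [64]])) = true := by decide +kernel
theorem zr67 : chk (pcR [[60], [54], [62], [64]] [58] 2 zt64 zcj65) = true := by decide +kernel
theorem zr68 : chk (defRels zE63) = true := by decide +kernel
theorem zb71 : schB D [[50], [52]] [[54], [56], [58]] zus69 zF70 3 = true := by decide +kernel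
theorem zr72 : chk (schR [[50], [52]] zus69 zF70) = true := by decide +kernel
theorem zb75 : schB D [[46], [48]] [[50], [52]] zus73 zF74 4 = true := by decide +kernel
theorem zr76 : chk (schR [[46], [48]] zus73 zF74) = true := by decide +kernel
theorem zb79 : schB D [[44], [42]] [[46], [48]] zus77 zF78 5 = true := by decide +kernel
theorem zr80 : chk (schR [[44], [42]] zus77 zF78) = true := by decide +kernel
theorem zb83 : schB D [[40], [42]] [[44], [42]] zus81 zF82 21 = true := by decide +kernel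
theorem zr84 : chk (schR [[40], [42]] zus81 zF82) = true := by decide +kernel
theorem zb87 : schB D [[36], [38]] [[40], [42]] zus85 zF86 22 = true := by decide +kernel
theorem zr88 : chk (schR [[36], [38]] zus85 zF86) = true := by decide +kernel
theorem zc90 : P.chainB ns D GA_w0_1_vs [[36], [38]] = true := by decide +kernel
theorem zb92 : wdB D [[36], [38]] GA_w0_1_v0.nx zcj91 = true := by decide +kernel
theorem zr93 : chk (wdR GA_w0_1_v0.nx (W (nat_lit 0x570cc57)) zcj91) = true := by decide +kernel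
theorem zc94 : P.chainB ns D GA_vs [[0], [2], [4]] = true := by decide +kernel
theorem zb96 : wdB D [[36], [38]] GA_v1.nx zcj95 = true := by decide +kernel
theorem zr97 : chk (wdR GA_v1.nx [87] zcj95) = true := by decide +kernel
theorem zb100 : bB P.n P.N ns (app D zE99) [[0], [2], [4]] [[36], [38]] 0 zrs89 zB98 = true := by decide +kernel
theorem zb101 : P.invSz ns [[0], [2], [4]] 0 (orbM P.N ns GA_v0) 100 = true := by decide +kernel
theorem zr102 : chk (bR 0 zrs89 zB98) = true := by decide +kernel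
theorem zr103 : chk (defRels zE99) = true := by decide +kernel
theorem zf106 : P.fixXB ns (diag [[0], [2]]) cL_F = true := by decide +kernel
theorem zc107 : P.chainB ns D cLG_vs [[0], [2], [4]] = true := by decide +kernel
theorem zs108 : ssB P.N ns D (mkS P.n cLG_vs cL_x) [[0], [2], [4]] = true := by decide +kernel
theorem zs110 : cL_G.chk zt109 cL_s none = true := by decide +kernel
theorem zr111 : chk (comR [] (mapL Prod.snd (diag [[0], [2]]))) = true := by decide +kernel
theorem zm112 : leB D [] [[0], [2], [4]] = true := by decide +kernel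
theorem zr114 : chk (pcsR S_ps []) = true := by decide +kernel
theorem zr115 : chk (defRels zE113) = true := by decide +kernel
theorem zb116 : bnd (pcsB D S_ps []) (leB (app D zE113) [[118], [120], [122]] (pcGens S_ps [])) = true := by decide +kernel
theorem zc117 : P.chainB ns D S_vs [[118], [120], [122]] = true := by decide +kernel
theorem zm119 : leB D zts118 [[0], [2]] = true := by decide +kernel
theorem zr120 : chk (zp [] [[118], [120], [122]] zts118) = true := by decide +kernel
theorem zf124 : P.fixXB ns (diag [[118], [120], [122]]) cS_F = true := by decide +kernel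
theorem zc125 : P.chainB ns D cSG_vs [[0], [2], [4]] = true := by decide +kernel
theorem zs126 : ssB P.N ns D (mkS P.n cSG_vs cS_x) [[0], [2], [4]] = true := by decide +kernel
theorem zs128 : cS_G.chk zt127 cS_s none = true := by decide +kernel
theorem zr129 : chk (comR [[158]] (mapL Prod.snd (diag [[118], [120], [122]]))) = true := by decide +kernel
theorem zm130 : leB D [[158]] [[0], [2], [4]] = true := by decide +kernel
theorem zm132 : leB D zts131 [[0], [2]] = true := by decide +kernel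
theorem zr133 : chk (zp [] [[158]] zts131) = true := by decide +kernel
theorem zc134 : P.chainB ns D T_vs [[160], [162], [164], [166], [168], [170], [172], [174], [176], [178]] = true := by decide +kernel
theorem zr135 : chk (pcsR T_ps []) = true := by decide +kernel
theorem zb136 : bnd (pcsB D T_ps []) (leB (app D []) [[160], [162], [164], [166], [168], [170], [172], [174], [176], [178]] (pcGens T_ps [])) = true := by decide +kernel
theorem zq137 : cvN 2 [160] [[]] v0_E = v0_R := by decide +kernel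
theorem zr138 : chk (cvR 2 2 [160] [[]] v0_E) = true := by decide +kernel
theorem zb139 : cvB D [[160], [162], [164], [166], [168], [170], [172], [174], [176], [178]] [[162], [164], [166], [168], [170], [172], [174], [176], [178]] 2 [160] [[]] v0_E = true := by decide +kernel
theorem zm141 : leB D zts140 [[0], [2], [4]] = true := by decide +kernel
theorem zr142 : chk (zp [] [[160], [162], [164], [166], [168], [170], [172], [174], [176], [178]] zts140) = true := by decide +kernel
theorem zm144 : nrmB D [[160], [162], [164], [166], [168], [170], [172], [174], [176], [178]] [[162], [164], [166], [168], [170], [172], [174], [176], [178]] zcj143 = true := by decide +kernel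
theorem zr145 : chk (nrmR [[160], [162], [164], [166], [168], [170], [172], [174], [176], [178]] [[162], [164], [166], [168], [170], [172], [174], [176], [178]] zcj143) = true := by decide +kernel
theorem zm146 : leB D [[162], [164], [166], [168], [170], [172], [174], [176], [178]] [[160], [162], [164], [166], [168], [170], [172], [174], [176], [178]] = true := by decide +kernel
theorem zq147 : cvN 2 [162] v0_R v1_E = v1_R := by decide +kernel
theorem zr148 : chk (cvR 2 2 [162] v0_R v1_E) = true := by decide +kernel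
theorem zb149 : cvB D [[160], [162], [164], [166], [168], [170], [172], [174], [176], [178]] [[164], [166], [168], [170], [172], [174], [176], [178]] 2 [162] v0_R v1_E = true := by decide +kernel
theorem zm151 : nrmB D [[160], [162], [164], [166], [168], [170], [172], [174], [176], [178]] [[164], [166], [168], [170], [172], [174], [176], [178]] zcj150 = true := by decide +kernel
theorem zr152 : chk (nrmR [[160], [162], [164], [166], [168], [170], [172], [174], [176], [178]] [[164], [166], [168], [170], [172], [174], [176], [178]] zcj150) = true := by decide +kernel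
theorem zm153 : leB D [[164], [166], [168], [170], [172], [174], [176], [178]] [[160], [162], [164], [166], [168], [170], [172], [174], [176], [178]] = true := by decide +kernel
theorem zq154 : cvN 2 [164] v1_R v2_E = v2_R := by decide +kernel
theorem zr155 : chk (cvR 2 2 [164] v1_R v2_E) = true := by decide +kernel
theorem zb156 : cvB D [[160], [162], [164], [166], [168], [170], [172], [174], [176], [178]] [[166], [168], [170], [172], [174], [176], [178]] 2 [164] v1_R v2_E = true := by decide +kernel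
theorem zm158 : nrmB D [[160], [162], [164], [166], [168], [170], [172], [174], [176], [178]] [[166], [168], [170], [172], [174], [176], [178]] zcj157 = true := by decide +kernel
theorem zr159 : chk (nrmR [[160], [162], [164], [166], [168], [170], [172], [174], [176], [178]] [[166], [168], [170], [172], [174], [176], [178]] zcj157) = true := by decide +kernel
theorem zm160 : leB D [[166], [168], [170], [172], [174], [176], [178]] [[160], [162], [164], [166], [168], [170], [172], [174], [176], [178]] = true := by decide +kernel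
theorem zq161 : cvN 2 [166] v2_R v3_E = v3_R := by decide +kernel
theorem zr162 : chk (cvR 2 2 [166] v2_R v3_E) = true := by decide +kernel
theorem zb163 : cvB D [[160], [162], [164], [166], [168], [170], [172], [174], [176], [178]] [[168], [170], [172], [174], [176], [178]] 2 [166] v2_R v3_E = true := by decide +kernel
theorem zm165 : nrmB D [[160], [162], [164], [166], [168], [170], [172], [174], [176], [178]] [[168], [170], [172], [174], [176], [178]] zcj164 = true := by decide +kernel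
theorem zr166 : chk (nrmR [[160], [162], [164], [166], [168], [170], [172], [174], [176], [178]] [[168], [170], [172], [174], [176], [178]] zcj164) = true := by decide +kernel
theorem zm167 : leB D [[168], [170], [172], [174], [176], [178]] [[160], [162], [164], [166], [168], [170], [172], [174], [176], [178]] = true := by decide +kernel
theorem zq168 : cvN 2 [168] v3_R v4_E = v4_R := by decide +kernel
theorem zr169 : chk (cvR 2 2 [168] v3_R v4_E) = true := by decide +kernel
theorem zb170 : cvB D [[160], [162], [164], [166], [168], [170], [172], [174], [176], [178]] [[170], [172], [174], [176], [178]] 2 [168] v3_R v4_E = true := by decide +kernel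
theorem zm172 : nrmB D [[160], [162], [164], [166], [168], [170], [172], [174], [176], [178]] [[170], [172], [174], [176], [178]] zcj171 = true := by decide +kernel
theorem zr173 : chk (nrmR [[160], [162], [164], [166], [168], [170], [172], [174], [176], [178]] [[170], [172], [174], [176], [178]] zcj171) = true := by decide +kernel
theorem zm174 : leB D [[170], [172], [174], [176], [178]] [[160], [162], [164], [166], [168], [170], [172], [174], [176], [178]] = true := by decide +kernel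
theorem zq175 : cvN 2 [170] v4_R v5_E = v5_R := by decide +kernel
theorem zr176 : chk (cvR 2 2 [170] v4_R v5_E) = true := by decide +kernel
theorem zb177 : cvB D [[160], [162], [164], [166], [168], [170], [172], [174], [176], [178]] [[172], [174], [176], [178]] 2 [170] v4_R v5_E = true := by decide +kernel
theorem zm179 : nrmB D [[160], [162], [164], [166], [168], [170], [172], [174], [176], [178]] [[172], [174], [176], [178]] zcj178 = true := by decide +kernel
theorem zr180 : chk (nrmR [[160], [162], [164], [166], [168], [170], [172], [174], [176], [178]] [[172], [174], [176], [178]] zcj178) = true := by decide +kernel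
theorem zm181 : leB D [[172], [174], [176], [178]] [[160], [162], [164], [166], [168], [170], [172], [174], [176], [178]] = true := by decide +kernel
theorem zq182 : cvN 2 [172] v5_R v6_E = v6_R := by decide +kernel
theorem zr183 : chk (cvR 2 2 [172] v5_R v6_E) = true := by decide +kernel
theorem zb184 : cvB D [[160], [162], [164], [166], [168], [170], [172], [174], [176], [178]] [[174], [176], [178]] 2 [172] v5_R v6_E = true := by decide +kernel
theorem zm186 : nrmB D [[160], [162], [164], [166], [168], [170], [172], [174], [176], [178]] [[174], [176], [178]] zcj185 = true := by decide +kernel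
theorem zr187 : chk (nrmR [[160], [162], [164], [166], [168], [170], [172], [174], [176], [178]] [[174], [176], [178]] zcj185) = true := by decide +kernel
theorem zm188 : leB D [[174], [176], [178]] [[160], [162], [164], [166], [168], [170], [172], [174], [176], [178]] = true := by decide +kernel
theorem zq189 : cvN 2 [174] v6_R v7_E = v7_R := by decide +kernel
theorem zr190 : chk (cvR 2 2 [174] v6_R v7_E) = true := by decide +kernel
theorem zb191 : cvB D [[160], [162], [164], [166], [168], [170], [172], [174], [176], [178]] [[176], [178]] 2 [174] v6_R v7_E = true := by decide +kernel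
theorem zm193 : nrmB D [[160], [162], [164], [166], [168], [170], [172], [174], [176], [178]] [[176], [178]] zcj192 = true := by decide +kernel
theorem zr194 : chk (nrmR [[160], [162], [164], [166], [168], [170], [172], [174], [176], [178]] [[176], [178]] zcj192) = true := by decide +kernel
theorem zm195 : leB D [[176], [178]] [[160], [162], [164], [166], [168], [170], [172], [174], [176], [178]] = true := by decide +kernel
theorem zq196 : cvN 2 [176] v7_R v8_E = v8_R := by decide +kernel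
theorem zr197 : chk (cvR 2 2 [176] v7_R v8_E) = true := by decide +kernel
theorem zb198 : cvB D [[160], [162], [164], [166], [168], [170], [172], [174], [176], [178]] [[178]] 2 [176] v7_R v8_E = true := by decide +kernel
theorem zm200 : nrmB D [[160], [162], [164], [166], [168], [170], [172], [174], [176], [178]] [[178]] zcj199 = true := by decide +kernel
theorem zr201 : chk (nrmR [[160], [162], [164], [166], [168], [170], [172], [174], [176], [178]] [[178]] zcj199) = true := by decide +kernel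
theorem zm202 : leB D [[178]] [[160], [162], [164], [166], [168], [170], [172], [174], [176], [178]] = true := by decide +kernel
theorem zq203 : cvN 2 [178] v8_R v9_E = v9_R := by decide +kernel
theorem zr204 : chk (cvR 2 2 [178] v8_R v9_E) = true := by decide +kernel
theorem zb205 : cvB D [[160], [162], [164], [166], [168], [170], [172], [174], [176], [178]] [] 2 [178] v8_R v9_E = true := by decide +kernel
theorem zr206 : chk (fuR v9_R v10_R v10_F) = true := by decide +kernel
theorem zb207 : fuB D [[0], [2], [4]] [] v9_R v10_R v10_F = true := by decide +kernel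
theorem zm208 : leB D [[0], [2], [4]] [[0], [2], [4]] = true := by decide +kernel
theorem zm210 : leB D zts209 [[0], [2], [4]] = true := by decide +kernel
theorem zr211 : chk (zp [] [[160], [162], [164], [166], [168], [170], [172], [174], [176], [178]] zts209) = true := by decide +kernel
theorem zf213 : P.fixXB ns (diag [[206]]) cC0_F = true := by decide +kernel
theorem zc214 : P.chainB ns D cC0G_vs [[0], [2]] = true := by decide +kernel
theorem zs215 : ssB P.N ns D (mkS P.n cC0G_vs cC0_x) [[0], [2]] = true := by decide +kernel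
theorem zs217 : cC0_G.chk zt216 cC0_s none = true := by decide +kernel
theorem zr218 : chk (comR [[214], [216]] (mapL Prod.snd (diag [[206]]))) = true := by decide +kernel
theorem zm219 : leB D [[214], [216]] [[0], [2]] = true := by decide +kernel
theorem zb222 : bnd (pcB D [] 2 zt220 zcj221) (leB (app D []) [[274]] ([274] :: [])) = true := by decide +kernel
theorem zr223 : chk (pcR [] [274] 2 zt220 zcj221) = true := by decide +kernel
theorem zb226 : bnd (pcB D [[274]] 2 zt224 zcj225) (leB (app D []) [[274], [276]] ([276] :: [[274]])) = true := by decide +kernel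
theorem zr227 : chk (pcR [[274]] [276] 2 zt224 zcj225) = true := by decide +kernel
theorem zb231 : bnd (pcB D [[274], [276]] 2 zt229 zcj230) (leB (app D zE228) [[270], [272]] ([272] :: [[274], [276]])) = true := by decide +kernel
theorem zr232 : chk (pcR [[274], [276]] [272] 2 zt229 zcj230) = true := by decide +kernel
theorem zr233 : chk (defRels zE228) = true := by decide +kernel
theorem zb236 : schB D [[264], [266], [268]] [[270], [272]] zus234 zF235 4 = true := by decide +kernel
theorem zr237 : chk (schR [[264], [266], [268]] zus234 zF235) = true := by decide +kernel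
theorem zb240 : schB D [[258], [260], [262]] [[264], [266], [268]] zus238 zF239 6 = true := by decide +kernel
theorem zr241 : chk (schR [[258], [260], [262]] zus238 zF239) = true := by decide +kernel
theorem zb244 : schB D [[254], [256]] [[258], [260], [262]] zus242 zF243 20 = true := by decide +kernel
theorem zr245 : chk (schR [[254], [256]] zus242 zF243) = true := by decide +kernel
theorem zc246 : P.chainB ns D D0_vs [[254], [256]] = true := by decide +kernel
theorem zm248 : bnd (leB D (mapL Prod.fst zps247) [[214], [216]]) (leB D (mapL Prod.snd zps247) [[214], [216]]) = true := by decide +kernel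
theorem zr249 : chk (zp [] [[278], [280], [282]] (mapL comW zps247)) = true := by decide +kernel
theorem zm251 : leB D zts250 [[278], [280], [282]] = true := by decide +kernel
theorem zr252 : chk (zp [] [[254], [256]] zts250) = true := by decide +kernel
theorem zm254 : leB D zts253 [[254], [256]] = true := by decide +kernel
theorem zr255 : chk (zp [] (comWs [[214], [216]] [[214], [216]]) zts253) = true := by decide +kernel
theorem zm257 : nrmB D [[214], [216]] [[254], [256]] zcj256 = true := by decide +kernel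
theorem zr258 : chk (nrmR [[214], [216]] [[254], [256]] zcj256) = true := by decide +kernel
theorem zm260 : nrmB D [[214], [216]] [[254], [256]] zcj259 = true := by decide +kernel
theorem zr261 : chk (nrmR [[214], [216]] [[254], [256]] zcj259) = true := by decide +kernel
theorem zr263 : chk (pcsR Q0_ps []) = true := by decide +kernel
theorem zr264 : chk (defRels zE262) = true := by decide +kernel
theorem zb265 : bnd (pcsB D Q0_ps []) (leB (app D zE262) [[302], [304], [306], [308], [310]] (pcGens Q0_ps [])) = true := by decide +kernel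
theorem zc266 : P.chainB ns D Q0_vs [[302], [304], [306], [308], [310]] = true := by decide +kernel
theorem zm268 : leB D zts267 [[254], [256]] = true := by decide +kernel
theorem zr269 : chk (zp [] [[302], [304], [306], [308], [310]] zts267) = true := by decide +kernel
theorem zm271 : nrmB D [[254], [256]] [[302], [304], [306], [308], [310]] zcj270 = true := by decide +kernel
theorem zr272 : chk (nrmR [[254], [256]] [[302], [304], [306], [308], [310]] zcj270) = true := by decide +kernel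
theorem zr273 : chk (pcsR Z0_ps []) = true := by decide +kernel
theorem zb274 : bnd (pcsB D Z0_ps []) (leB (app D []) [[340]] (pcGens Z0_ps [])) = true := by decide +kernel
theorem zc275 : P.chainB ns D Z0_vs [[340]] = true := by decide +kernel
theorem zf279 : P.fixXB ns (diag [[302], [304], [306], [308], [310]]) cQ0_F = true := by decide +kernel
theorem zc280 : P.chainB ns D cQ0G_vs [[254], [256]] = true := by decide +kernel
theorem zs281 : ssB P.N ns D (mkS P.n cQ0G_vs cQ0_x) [[254], [256]] = true := by decide +kernel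
theorem zs283 : cQ0_G.chk zt282 cQ0_s none = true := by decide +kernel
theorem zr284 : chk (comR [[340]] (mapL Prod.snd (diag [[302], [304], [306], [308], [310]]))) = true := by decide +kernel
theorem zm285 : leB D [[340]] [[254], [256]] = true := by decide +kernel
theorem zf287 : P.fixXB ns (diag [[208]]) cC1_F = true := by decide +kernel
theorem zc288 : P.chainB ns D cC1G_vs [[0], [2]] = true := by decide +kernel
theorem zs289 : ssB P.N ns D (mkS P.n cC1G_vs cC1_x) [[0], [2]] = true := by decide +kernel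
theorem zs291 : cC1_G.chk zt290 cC1_s none = true := by decide +kernel
theorem zr292 : chk (comR [[348], [350]] (mapL Prod.snd (diag [[208]]))) = true := by decide +kernel
theorem zm293 : leB D [[348], [350]] [[0], [2]] = true := by decide +kernel
theorem zb296 : bnd (pcB D [] 2 zt294 zcj295) (leB (app D []) [[414]] ([414] :: [])) = true := by decide +kernel
theorem zr297 : chk (pcR [] [414] 2 zt294 zcj295) = true := by decide +kernel
theorem zb301 : bnd (pcB D [[414]] 2 zt299 zcj300) (leB (app D zE298) [[410], [412]] ([412] :: [[414]])) = true := by decide +kernel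
theorem zr302 : chk (pcR [[414]] [412] 2 zt299 zcj300) = true := by decide +kernel
theorem zr303 : chk (defRels zE298) = true := by decide +kernel
theorem zb306 : schB D [[404], [406], [408], [403]] [[410], [412]] zus304 zF305 4 = true := by decide +kernel
theorem zr307 : chk (schR [[404], [406], [408], [403]] zus304 zF305) = true := by decide +kernel
theorem zb311 : bnd (pcB D [[404], [406], [408], [403]] 2 zt309 zcj310) (leB (app D zE308) [[398], [400], [402]] ([398] :: [[404], [406], [408], [403]])) = true := by decide +kernel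
theorem zr312 : chk (pcR [[404], [406], [408], [403]] [398] 2 zt309 zcj310) = true := by decide +kernel
theorem zr313 : chk (defRels zE308) = true := by decide +kernel
theorem zb316 : schB D [[396], [393]] [[398], [400], [402]] zus314 zF315 5 = true := by decide +kernel
theorem zr317 : chk (schR [[396], [393]] zus314 zF315) = true := by decide +kernel
theorem zb320 : schB D [[392], [394]] [[396], [393]] zus318 zF319 6 = true := by decide +kernel
theorem zr321 : chk (schR [[392], [394]] zus318 zF319) = true := by decide +kernel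
theorem zc322 : P.chainB ns D D1_vs [[392], [394]] = true := by decide +kernel
theorem zm324 : bnd (leB D (mapL Prod.fst zps323) [[348], [350]]) (leB D (mapL Prod.snd zps323) [[348], [350]]) = true := by decide +kernel
theorem zr325 : chk (zp [] [[416], [418]] (mapL comW zps323)) = true := by decide +kernel
theorem zm327 : leB D zts326 [[416], [418]] = true := by decide +kernel
theorem zr328 : chk (zp [] [[392], [394]] zts326) = true := by decide +kernel
theorem zm330 : leB D zts329 [[392], [394]] = true := by decide +kernel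
theorem zr331 : chk (zp [] (comWs [[348], [350]] [[348], [350]]) zts329) = true := by decide +kernel
theorem zm333 : nrmB D [[348], [350]] [[392], [394]] zcj332 = true := by decide +kernel
theorem zr334 : chk (nrmR [[348], [350]] [[392], [394]] zcj332) = true := by decide +kernel
theorem zm336 : nrmB D [[348], [350]] [[392], [394]] zcj335 = true := by decide +kernel
theorem zr337 : chk (nrmR [[348], [350]] [[392], [394]] zcj335) = true := by decide +kernel
theorem zr339 : chk (pcsR Q1_ps []) = true := by decide +kernel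
theorem zr340 : chk (defRels zE338) = true := by decide +kernel
theorem zb341 : bnd (pcsB D Q1_ps []) (leB (app D zE338) [[442], [444], [446], [403]] (pcGens Q1_ps [])) = true := by decide +kernel
theorem zc342 : P.chainB ns D Q1_vs [[442], [444], [446], [403]] = true := by decide +kernel
theorem zm344 : leB D zts343 [[392], [394]] = true := by decide +kernel
theorem zr345 : chk (zp [] [[442], [444], [446], [403]] zts343) = true := by decide +kernel
theorem zm347 : nrmB D [[392], [394]] [[442], [444], [446], [403]] zcj346 = true := by decide +kernel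
theorem zr348 : chk (nrmR [[392], [394]] [[442], [444], [446], [403]] zcj346) = true := by decide +kernel
theorem zr350 : chk (pcsR Z1_ps []) = true := by decide +kernel
theorem zr351 : chk (defRels zE349) = true := by decide +kernel
theorem zb352 : bnd (pcsB D Z1_ps []) (leB (app D zE349) [[456], [404], [458], [460]] (pcGens Z1_ps [])) = true := by decide +kernel
theorem zc353 : P.chainB ns D Z1_vs [[456], [404], [458], [460]] = true := by decide +kernel
theorem zf357 : P.fixXB ns (diag [[442], [444], [446], [403]]) cQ1_F = true := by decide +kernel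
theorem zc358 : P.chainB ns D cQ1G_vs [[392], [394]] = true := by decide +kernel
theorem zs359 : ssB P.N ns D (mkS P.n cQ1G_vs cQ1_x) [[392], [394]] = true := by decide +kernel
theorem zs361 : cQ1_G.chk zt360 cQ1_s none = true := by decide +kernel
theorem zr362 : chk (comR [[456], [404], [458], [460]] (mapL Prod.snd (diag [[442], [444], [446], [403]]))) = true := by decide +kernel
theorem zm363 : leB D [[456], [404], [458], [460]] [[392], [394]] = true := by decide +kernel
theorem zf365 : P.fixXB ns (diag [[210]]) cC2_F = true := by decide +kernel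
theorem zc366 : P.chainB ns D cC2G_vs [[0], [2]] = true := by decide +kernel
theorem zs367 : ssB P.N ns D (mkS P.n cC2G_vs cC2_x) [[0], [2]] = true := by decide +kernel
theorem zs369 : cC2_G.chk zt368 cC2_s none = true := by decide +kernel
theorem zr370 : chk (comR [[476], [478]] (mapL Prod.snd (diag [[210]]))) = true := by decide +kernel
theorem zm371 : leB D [[476], [478]] [[0], [2]] = true := by decide +kernel
theorem zb374 : bnd (pcB D [] 2 zt372 zcj373) (leB (app D []) [[540]] ([540] :: [])) = true := by decide +kernel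
theorem zr375 : chk (pcR [] [540] 2 zt372 zcj373) = true := by decide +kernel
theorem zb378 : bnd (pcB D [[540]] 2 zt376 zcj377) (leB (app D []) [[540], [542]] ([542] :: [[540]])) = true := by decide +kernel
theorem zr379 : chk (pcR [[540]] [542] 2 zt376 zcj377) = true := by decide +kernel
theorem zb382 : schB D [[532], [534], [536], [538]] [[540], [542]] zus380 zF381 4 = true := by decide +kernel
theorem zr383 : chk (schR [[532], [534], [536], [538]] zus380 zF381) = true := by decide +kernel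
theorem zb387 : bnd (pcB D [[532], [534], [536], [538]] 2 zt385 zcj386) (leB (app D zE384) [[526], [528], [530]] ([530] :: [[532], [534], [536], [538]])) = true := by decide +kernel
theorem zr388 : chk (pcR [[532], [534], [536], [538]] [530] 2 zt385 zcj386) = true := by decide +kernel
theorem zr389 : chk (defRels zE384) = true := by decide +kernel
theorem zb392 : schB D [[522], [524]] [[526], [528], [530]] zus390 zF391 6 = true := by decide +kernel
theorem zr393 : chk (schR [[522], [524]] zus390 zF391) = true := by decide +kernel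
theorem zb396 : schB D [[518], [520]] [[522], [524]] zus394 zF395 7 = true := by decide +kernel
theorem zr397 : chk (schR [[518], [520]] zus394 zF395) = true := by decide +kernel
theorem zb400 : schB D [[514], [516]] [[518], [520]] zus398 zF399 15 = true := by decide +kernel
theorem zr401 : chk (schR [[514], [516]] zus398 zF399) = true := by decide +kernel
theorem zc402 : P.chainB ns D D2_vs [[514], [516]] = true := by decide +kernel
theorem zm404 : bnd (leB D (mapL Prod.fst zps403) [[476], [478]]) (leB D (mapL Prod.snd zps403) [[476], [478]]) = true := by decide +kernel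
theorem zr405 : chk (zp [] [[544], [546], [548]] (mapL comW zps403)) = true := by decide +kernel
theorem zm407 : leB D zts406 [[544], [546], [548]] = true := by decide +kernel
theorem zr408 : chk (zp [] [[514], [516]] zts406) = true := by decide +kernel
theorem zm410 : leB D zts409 [[514], [516]] = true := by decide +kernel
theorem zr411 : chk (zp [] (comWs [[476], [478]] [[476], [478]]) zts409) = true := by decide +kernel
theorem zm413 : nrmB D [[476], [478]] [[514], [516]] zcj412 = true := by decide +kernel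
theorem zr414 : chk (nrmR [[476], [478]] [[514], [516]] zcj412) = true := by decide +kernel
theorem zm416 : nrmB D [[476], [478]] [[514], [516]] zcj415 = true := by decide +kernel
theorem zr417 : chk (nrmR [[476], [478]] [[514], [516]] zcj415) = true := by decide +kernel
theorem zl420 : zK419.relB CL.Q49M.HS.P CL.Q49M.HSAux2.T.P CL.Q49M.HS.ns [[574], [576]] [[0], [2]] = true := by decide +kernel
theorem zl421 : allL (zK419.pl CL.Q49M.HS.P CL.Q49M.HSAux2.T.P CL.Q49M.HS.ns CL.Q49M.HSAux2.T.ns 0) (zp [] [[574], [576]] [[0], [2]]) = true := by decide +kernel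
theorem zm423 : leB D zts422 [[574], [576]] = true := by decide +kernel
theorem zr424 : chk (zp [] [[514], [516]] zts422) = true := by decide +kernel
theorem zm426 : leB D zts425 [[514], [516]] = true := by decide +kernel
theorem zr427 : chk (zp [] [[574], [576]] zts425) = true := by decide +kernel
theorem zr428 : chk [([602, 210], [210, 606, 602])] = true := by decide +kernel
theorem zr429 : chk [([606, 210], [210, 606])] = true := by decide +kernel
theorem zr430 : chk [([604, 606], [606, 608, 604])] = true := by decide +kernel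
theorem zr431 : chk [([610, 610], [608])] = true := by decide +kernel
theorem zr432 : chk [([612, 612], [608])] = true := by decide +kernel
theorem zr433 : chk [([610, 602], [602, 610])] = true := by decide +kernel
theorem zr434 : chk [([614, 604], [604, 602])] = true := by decide +kernel
theorem zr435 : chk [([612, 614], [614, 612])] = true := by decide +kernel
theorem zr436 : chk [([608, 608], [])] = true := by decide +kernel
theorem zn437 : movB P.n P.N ns [608] 1 = true := by decide +kernel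
theorem zc438 : P.chainB ns D P2_vs [[616], [524], [618], [620], [622], [624]] = true := by decide +kernel
theorem zr439 : chk (pcsR P2_ps []) = true := by decide +kernel
theorem zb440 : bnd (pcsB D P2_ps []) (leB (app D []) [[616], [524], [618], [620], [622], [624]] (pcGens P2_ps [])) = true := by decide +kernel
theorem zq441 : cvN 2 [616] [[]] w2_0_E = w2_0_R := by decide +kernel
theorem zr442 : chk (cvR 2 2 [616] [[]] w2_0_E) = true := by decide +kernel
theorem zb443 : cvB D [[616], [524], [618], [620], [622], [624]] [[524], [618], [620], [622], [624]] 2 [616] [[]] w2_0_E = true := by decide +kernel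
theorem zm445 : leB D zts444 [[514], [516]] = true := by decide +kernel
theorem zr446 : chk (zp [] [[616], [524], [618], [620], [622], [624]] zts444) = true := by decide +kernel
theorem zm448 : nrmB D [[616], [524], [618], [620], [622], [624]] [[524], [618], [620], [622], [624]] zcj447 = true := by decide +kernel
theorem zr449 : chk (nrmR [[616], [524], [618], [620], [622], [624]] [[524], [618], [620], [622], [624]] zcj447) = true := by decide +kernel
theorem zm450 : leB D [[524], [618], [620], [622], [624]] [[616], [524], [618], [620], [622], [624]] = true := by decide +kernel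
theorem zq451 : cvN 2 [524] w2_0_R w2_1_E = w2_1_R := by decide +kernel
theorem zr452 : chk (cvR 2 2 [524] w2_0_R w2_1_E) = true := by decide +kernel
theorem zb453 : cvB D [[616], [524], [618], [620], [622], [624]] [[618], [620], [622], [624]] 2 [524] w2_0_R w2_1_E = true := by decide +kernel
theorem zm455 : nrmB D [[616], [524], [618], [620], [622], [624]] [[618], [620], [622], [624]] zcj454 = true := by decide +kernel
theorem zr456 : chk (nrmR [[616], [524], [618], [620], [622], [624]] [[618], [620], [622], [624]] zcj454) = true := by decide +kernel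
theorem zm457 : leB D [[618], [620], [622], [624]] [[616], [524], [618], [620], [622], [624]] = true := by decide +kernel
theorem zq458 : cvN 2 [618] w2_1_R w2_2_E = w2_2_R := by decide +kernel
theorem zr459 : chk (cvR 2 2 [618] w2_1_R w2_2_E) = true := by decide +kernel
theorem zb460 : cvB D [[616], [524], [618], [620], [622], [624]] [[620], [622], [624]] 2 [618] w2_1_R w2_2_E = true := by decide +kernel
theorem zm462 : nrmB D [[616], [524], [618], [620], [622], [624]] [[620], [622], [624]] zcj461 = true := by decide +kernel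
theorem zr463 : chk (nrmR [[616], [524], [618], [620], [622], [624]] [[620], [622], [624]] zcj461) = true := by decide +kernel
theorem zm464 : leB D [[620], [622], [624]] [[616], [524], [618], [620], [622], [624]] = true := by decide +kernel
theorem zq465 : cvN 2 [620] w2_2_R w2_3_E = w2_3_R := by decide +kernel
theorem zr466 : chk (cvR 2 2 [620] w2_2_R w2_3_E) = true := by decide +kernel
theorem zb467 : cvB D [[616], [524], [618], [620], [622], [624]] [[622], [624]] 2 [620] w2_2_R w2_3_E = true := by decide +kernel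
theorem zm469 : nrmB D [[616], [524], [618], [620], [622], [624]] [[622], [624]] zcj468 = true := by decide +kernel
theorem zr470 : chk (nrmR [[616], [524], [618], [620], [622], [624]] [[622], [624]] zcj468) = true := by decide +kernel
theorem zm471 : leB D [[622], [624]] [[616], [524], [618], [620], [622], [624]] = true := by decide +kernel
theorem zq472 : cvN 2 [622] w2_3_R w2_4_E = w2_4_R := by decide +kernel
theorem zr473 : chk (cvR 2 2 [622] w2_3_R w2_4_E) = true := by decide +kernel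
theorem zb474 : cvB D [[616], [524], [618], [620], [622], [624]] [[624]] 2 [622] w2_3_R w2_4_E = true := by decide +kernel
theorem zm476 : nrmB D [[616], [524], [618], [620], [622], [624]] [[624]] zcj475 = true := by decide +kernel
theorem zr477 : chk (nrmR [[616], [524], [618], [620], [622], [624]] [[624]] zcj475) = true := by decide +kernel
theorem zm478 : leB D [[624]] [[616], [524], [618], [620], [622], [624]] = true := by decide +kernel
theorem zq479 : cvN 2 [624] w2_4_R w2_5_E = w2_5_R := by decide +kernel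
theorem zr480 : chk (cvR 2 2 [624] w2_4_R w2_5_E) = true := by decide +kernel
theorem zb481 : cvB D [[616], [524], [618], [620], [622], [624]] [] 2 [624] w2_4_R w2_5_E = true := by decide +kernel
theorem zr482 : chk (fuR w2_5_R w2_6_R w2_6_F) = true := by decide +kernel
theorem zb483 : fuB D [[514], [516]] [] w2_5_R w2_6_R w2_6_F = true := by decide +kernel
theorem zm484 : leB D [[514], [516]] [[514], [516]] = true := by decide +kernel
theorem zm486 : leB D zts485 [[514], [516]] = true := by decide +kernel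
theorem zr487 : chk (zp [] [[616], [524], [618], [620], [622], [624]] zts485) = true := by decide +kernel
theorem zr489 : chk (pcsR X2_0_ps []) = true := by decide +kernel
theorem zr490 : chk (defRels zE488) = true := by decide +kernel
theorem zb491 : bnd (pcsB D X2_0_ps []) (leB (app D zE488) [[632], [634]] (pcGens X2_0_ps [])) = true := by decide +kernel
theorem zc492 : P.chainB ns D X2_0_vs [[632], [634]] = true := by decide +kernel
theorem zf494 : P.fixXB ns (diag [[608]]) cX2_0_F = true := by decide +kernel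
theorem zc495 : P.chainB ns D cX2_0G_vs [[514], [516]] = true := by decide +kernel
theorem zs496 : ssB P.N ns D (mkS P.n cX2_0G_vs cX2_0_x) [[514], [516]] = true := by decide +kernel
theorem zr498 : chk (defRels zE497) = true := by decide +kernel
theorem zs500 : cX2_0_G.chk zt499 cX2_0_s none = true := by decide +kernel
theorem zr501 : chk (comR [[632], [634]] (mapL Prod.snd (diag [[608]]))) = true := by decide +kernel
theorem zm502 : leB D [[632], [634]] [[514], [516]] = true := by decide +kernel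
theorem zr504 : chk (pcsR X2_1_ps []) = true := by decide +kernel
theorem zr505 : chk (defRels zE503) = true := by decide +kernel
theorem zb506 : bnd (pcsB D X2_1_ps []) (leB (app D zE503) [[678], [680]] (pcGens X2_1_ps [])) = true := by decide +kernel
theorem zc507 : P.chainB ns D X2_1_vs [[678], [680]] = true := by decide +kernel
theorem zf509 : P.fixXB ns (diag [[630]]) cX2_1_F = true := by decide +kernel
theorem zc510 : P.chainB ns D cX2_1G_vs [[514], [516]] = true := by decide +kernel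
theorem zs511 : ssB P.N ns D (mkS P.n cX2_1G_vs cX2_1_x) [[514], [516]] = true := by decide +kernel
theorem zr513 : chk (defRels zE512) = true := by decide +kernel
theorem zs515 : cX2_1_G.chk zt514 cX2_1_s none = true := by decide +kernel
theorem zr516 : chk (comR [[678], [680]] (mapL Prod.snd (diag [[630]]))) = true := by decide +kernel
theorem zm517 : leB D [[678], [680]] [[514], [516]] = true := by decide +kernel
theorem zm518 : leB D [[630]] [[514], [516]] = true := by decide +kernel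
theorem zm519 : leB D [[612]] [[0], [2]] = true := by decide +kernel
theorem zm520 : leB D [[610]] [[0], [2]] = true := by decide +kernel
theorem zm521 : leB D [[606]] [[0], [2]] = true := by decide +kernel
theorem zm522 : leB D [[604]] [[514], [516]] = true := by decide +kernel
theorem zm523 : leB D [[602]] [[0], [2]] = true := by decide +kernel
theorem zf524 : P.fixXB ns (diag [[212]]) cC3_F = true := by decide +kernel
theorem zc525 : P.chainB ns D cC3G_vs [[0], [2]] = true := by decide +kernel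
theorem zs526 : ssB P.N ns D (mkS P.n cC3G_vs cC3_x) [[0], [2]] = true := by decide +kernel
theorem zs528 : cC3_G.chk zt527 cC3_s none = true := by decide +kernel
theorem zr529 : chk (comR [[714], [716], [718], [720]] (mapL Prod.snd (diag [[212]]))) = true := by decide +kernel
theorem zm530 : leB D [[714], [716], [718], [720]] [[0], [2]] = true := by decide +kernel
theorem zb533 : bnd (pcB D [] 2 zt531 zcj532) (leB (app D []) [[766]] ([766] :: [])) = true := by decide +kernel
theorem zr534 : chk (pcR [] [766] 2 zt531 zcj532) = true := by decide +kernel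
theorem zb537 : bnd (pcB D [[766]] 2 zt535 zcj536) (leB (app D []) [[766], [768]] ([768] :: [[766]])) = true := by decide +kernel
theorem zr538 : chk (pcR [[766]] [768] 2 zt535 zcj536) = true := by decide +kernel
theorem zb542 : bnd (pcB D [[766], [768]] 2 zt540 zcj541) (leB (app D zE539) [[762], [764]] ([764] :: [[766], [768]])) = true := by decide +kernel
theorem zr543 : chk (pcR [[766], [768]] [764] 2 zt540 zcj541) = true := by decide +kernel
theorem zr544 : chk (defRels zE539) = true := by decide +kernel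
theorem zb547 : schB D [[758], [760]] [[762], [764]] zus545 zF546 3 = true := by decide +kernel
theorem zr548 : chk (schR [[758], [760]] zus545 zF546) = true := by decide +kernel
theorem zb551 : schB D [[754], [756]] [[758], [760]] zus549 zF550 15 = true := by decide +kernel
theorem zr552 : chk (schR [[754], [756]] zus549 zF550) = true := by decide +kernel
theorem zc553 : P.chainB ns D D3_vs [[754], [756]] = true := by decide +kernel
theorem zm555 : bnd (leB D (mapL Prod.fst zps554) [[714], [716], [718], [720]]) (leB D (mapL Prod.snd zps554) [[714], [716], [718], [720]]) = true := by decide +kernel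
theorem zr556 : chk (zp [] [[770], [772]] (mapL comW zps554)) = true := by decide +kernel
theorem zm558 : leB D zts557 [[770], [772]] = true := by decide +kernel
theorem zr559 : chk (zp [] [[754], [756]] zts557) = true := by decide +kernel
theorem zm561 : leB D zts560 [[754], [756]] = true := by decide +kernel
theorem zr562 : chk (zp [] (comWs [[714], [716], [718], [720]] [[714], [716], [718], [720]]) zts560) = true := by decide +kernel
theorem zm564 : nrmB D [[714], [716], [718], [720]] [[754], [756]] zcj563 = true := by decide +kernel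
theorem zr565 : chk (nrmR [[714], [716], [718], [720]] [[754], [756]] zcj563) = true := by decide +kernel
theorem zm567 : nrmB D [[714], [716], [718], [720]] [[754], [756]] zcj566 = true := by decide +kernel
theorem zr568 : chk (nrmR [[714], [716], [718], [720]] [[754], [756]] zcj566) = true := by decide +kernel
theorem zl571 : zK570.relB CL.Q49M.HS.P CL.Q49M.HSAux3.T.P CL.Q49M.HS.ns [[788], [790]] [[0], [2]] = true := by decide +kernel
theorem zl572 : allL (zK570.pl CL.Q49M.HS.P CL.Q49M.HSAux3.T.P CL.Q49M.HS.ns CL.Q49M.HSAux3.T.ns 0) (zp [] [[788], [790]] [[0], [2]]) = true := by decide +kernel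
theorem zm574 : leB D zts573 [[788], [790]] = true := by decide +kernel
theorem zr575 : chk (zp [] [[754], [756]] zts573) = true := by decide +kernel
theorem zm577 : leB D zts576 [[754], [756]] = true := by decide +kernel
theorem zr578 : chk (zp [] [[788], [790]] zts576) = true := by decide +kernel
theorem zr579 : chk [([806, 212], [212, 810, 806])] = true := by decide +kernel
theorem zr580 : chk [([810, 212], [212, 810])] = true := by decide +kernel
theorem zr581 : chk [([808, 810], [810, 766, 808])] = true := by decide +kernel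
theorem zr582 : chk [([812, 812], [766])] = true := by decide +kernel
theorem zr583 : chk [([814, 814], [766])] = true := by decide +kernel
theorem zr584 : chk [([812, 806], [806, 812])] = true := by decide +kernel
theorem zr585 : chk [([816, 808], [808, 806])] = true := by decide +kernel
theorem zr586 : chk [([814, 816], [816, 814])] = true := by decide +kernel
theorem zr587 : chk [([766, 766], [])] = true := by decide +kernel
theorem zn588 : movB P.n P.N ns [766] 1 = true := by decide +kernel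
theorem zc589 : P.chainB ns D P3_vs [[766], [818], [820]] = true := by decide +kernel
theorem zr590 : chk (pcsR P3_ps []) = true := by decide +kernel
theorem zb591 : bnd (pcsB D P3_ps []) (leB (app D []) [[766], [818], [820]] (pcGens P3_ps [])) = true := by decide +kernel
theorem zq592 : cvN 2 [766] [[]] w3_0_E = w3_0_R := by decide +kernel
theorem zr593 : chk (cvR 2 2 [766] [[]] w3_0_E) = true := by decide +kernel
theorem zb594 : cvB D [[766], [818], [820]] [[818], [820]] 2 [766] [[]] w3_0_E = true := by decide +kernel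
theorem zm596 : leB D zts595 [[754], [756]] = true := by decide +kernel
theorem zr597 : chk (zp [] [[766], [818], [820]] zts595) = true := by decide +kernel
theorem zm599 : nrmB D [[766], [818], [820]] [[818], [820]] zcj598 = true := by decide +kernel
theorem zr600 : chk (nrmR [[766], [818], [820]] [[818], [820]] zcj598) = true := by decide +kernel
theorem zm601 : leB D [[818], [820]] [[766], [818], [820]] = true := by decide +kernel
theorem zq602 : cvN 2 [818] w3_0_R w3_1_E = w3_1_R := by decide +kernel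
theorem zr603 : chk (cvR 2 2 [818] w3_0_R w3_1_E) = true := by decide +kernel
theorem zb604 : cvB D [[766], [818], [820]] [[820]] 2 [818] w3_0_R w3_1_E = true := by decide +kernel
theorem zm606 : nrmB D [[766], [818], [820]] [[820]] zcj605 = true := by decide +kernel
theorem zr607 : chk (nrmR [[766], [818], [820]] [[820]] zcj605) = true := by decide +kernel
theorem zm608 : leB D [[820]] [[766], [818], [820]] = true := by decide +kernel
theorem zq609 : cvN 2 [820] w3_1_R w3_2_E = w3_2_R := by decide +kernel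
theorem zr610 : chk (cvR 2 2 [820] w3_1_R w3_2_E) = true := by decide +kernel
theorem zb611 : cvB D [[766], [818], [820]] [] 2 [820] w3_1_R w3_2_E = true := by decide +kernel
theorem zr612 : chk (fuR w3_2_R w3_3_R w3_3_F) = true := by decide +kernel
theorem zb613 : fuB D [[754], [756]] [] w3_2_R w3_3_R w3_3_F = true := by decide +kernel
theorem zm614 : leB D [[754], [756]] [[754], [756]] = true := by decide +kernel
theorem zm616 : leB D zts615 [[754], [756]] = true := by decide +kernel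
theorem zr617 : chk (zp [] [[766], [818], [820]] zts615) = true := by decide +kernel
theorem zm618 : leB D [[814]] [[0], [2]] = true := by decide +kernel
theorem zm619 : leB D [[812]] [[0], [2]] = true := by decide +kernel
theorem zm620 : leB D [[810]] [[0], [2]] = true := by decide +kernel
theorem zm621 : leB D [[808]] [[754], [756]] = true := by decide +kernel
theorem zm622 : leB D [[806]] [[0], [2]] = true := by decide +kernel
theorem zm623 : leB D [[0], [2]] [[0], [2], [4]] = true := by decide +kernel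
theorem zl626 : zK625.relB CL.Q49M.HS.P CL.Q49M.HSAuxM.T.P CL.Q49M.HS.ns [[822], [824]] [[0], [2]] = true := by decide +kernel
theorem zl627 : allL (zK625.pl CL.Q49M.HS.P CL.Q49M.HSAuxM.T.P CL.Q49M.HS.ns CL.Q49M.HSAuxM.T.ns 0) (zp [] [[822], [824]] [[0], [2]]) = true := by decide +kernel
theorem zm629 : leB D zts628 [[822], [824]] = true := by decide +kernel
theorem zr630 : chk (zp [] [[0], [2]] zts628) = true := by decide +kernel
theorem zm632 : leB D zts631 [[0], [2]] = true := by decide +kernel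
theorem zr633 : chk (zp [] [[822], [824]] zts631) = true := by decide +kernel
theorem zk634 : allL (keepB P.n P.N) ns0 = true := by decide +kernel
theorem ze635 : extB ns0 ns 3 ws [] = true := by decide +kernel
theorem zn636 : P.netsB ns (mkDefs ws 3) = true := by decide +kernel

variable {G X : Type*} [Group G] [MulAction G X] {e : ℕ → X} {gs : List G}

theorem keep0 : allL (keepB P.n P.N) ns0 = true := zk634

theorem len {k} (c : Ctx P e gs ns0 [] k) : gs.length = 3 := c.len ze635

theorem ctx0 {k} (c : Ctx P e gs ns0 [] k) : Ctx P e (ext gs ws) ns D chk0 :=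
  c.ext rfl ze635 zn636

theorem ctx {k} (c : Ctx P e gs ns0 [] k) {H : Subgroup G} (hF : Faithful e P.n H) (hH : ∀ g ∈ gs, g ∈ H) :
    Ctx P e (ext gs ws) ns D chk :=
  (ctx0 c).withB hF (mem_of_mem_ext hH _)

instance instNe : NeZero P.n := ⟨by decide⟩
noncomputable def gs0 : List (Equiv.Perm (Fin P.n)) := permsOf P.n P.N ns0
noncomputable def gs1 : List (Equiv.Perm (Fin P.n)) := ext gs0 ws
theorem c1 : Ctx P (eF P.n) gs1 ns D chk :=
  ctx (ctx_permsOf hP keep0) (faithful_eF _) fun _ _ => trivial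

theorem GM_u8 (c : Ctx P e gs ns D chk) :
    UB (subW gs [[34]]) 2 :=
  (c.pc_step (UB.nil gs) (Rels.nil _)
    (c.rels _ zr3) zb2).le (by decide)

theorem GM_u7 (c : Ctx P e gs ns D chk) :
    UB (subW gs [[32], [34]]) 4 :=
  (c.pc_step (GM_u8 c) (Rels.nil _)
    (c.rels _ zr7) zb6).le (by decide)

theorem GM_u6 (c : Ctx P e gs ns D chk) :
    UB (subW gs [[24], [26], [28], [30]]) 16 :=
  (c.sch_step (GM_u7 c)
    (c.rels _ zr11) zb10).le (by decide)

theorem GM_u5 (c : Ctx P e gs ns D chk) :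
    UB (subW gs [[20], [22], [15]]) 48 :=
  (c.pc_step (GM_u6 c) (c.rels _ zr17)
    (c.rels _ zr16) zb15).le (by decide)

theorem GM_u4 (c : Ctx P e gs ns D chk) :
    UB (subW gs [[16], [15], [18]]) 192 :=
  (c.sch_step (GM_u5 c)
    (c.rels _ zr21) zb20).le (by decide)

theorem GM_u3 (c : Ctx P e gs ns D chk) :
    UB (subW gs [[12], [14]]) 960 :=
  (c.sch_step (GM_u4 c)
    (c.rels _ zr25) zb24).le (by decide)

theorem GM_u2 (c : Ctx P e gs ns D chk) :
    UB (subW gs [[10], [8]]) 20160 :=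
  (c.sch_step (GM_u3 c)
    (c.rels _ zr29) zb28).le (by decide)

theorem GM_u1 (c : Ctx P e gs ns D chk) :
    UB (subW gs [[6], [8]]) 443520 :=
  (c.sch_step (GM_u2 c)
    (c.rels _ zr33) zb32).le (by decide)

theorem GM_w0_1_c : P.chainB ns D GM_w0_1_vs [[6], [8]] = true :=
  zc35

theorem GM_w0_1_o : prodL GM_w0_1_vs 1 = 443520 := by decide +kernel

theorem GM_c : P.chainB ns D GM_vs [[0], [2]] = true :=
  zc39

theorem GM_o : prodL GM_vs 1 = 44352000 := by decide +kernel

theorem GM_u0w (c : Ctx P e gs ns D chk) :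
    AllWd e gs [[6], [8]] zrs34 :=
  ⟨c.wd (v := GM_w0_1_v0) (vs := GM_w0_1_vs1) (GM_u1 c) GM_w0_1_c GM_w0_1_o
      (c.rels _ zr38) zb37,
    ⟨c.wd (v := GM_v1) (vs := GM_vs2) (GM_u1 c) (Par.chainB_tail GM_c) (by decide +kernel)
      (c.rels _ zr42) zb41,
    trivial⟩⟩

theorem GM_u0 (c : Ctx P e gs ns D chk) :
    UB (subW gs [[0], [2]]) 44352000 :=
  (c.b_step (GM_u1 c) (GM_u0w c) (c.rels _ zr48)
    (c.rels _ zr47) zb45 zb46).le (by decide)

theorem GM_ub (c : Ctx P e gs ns D chk) :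
    UB (subW gs [[0], [2]]) 44352000 :=
  (GM_u0 c)

theorem GM_ex (c : Ctx P e gs ns D chk) :
    Exact e P.n P.N gs ns 1 GM_vs [[0], [2]] :=
  c.exact GM_c GM_o (GM_ub c)

theorem GM_card (c : Ctx P e gs ns D chk) :
    Nat.card (subW gs [[0], [2]]) = 44352000 :=
  (GM_ex c).card.trans GM_o

theorem GA_u9 (c : Ctx P e gs ns D chk) :
    UB (subW gs [[70]]) 2 :=
  (c.pc_step (UB.nil gs) (Rels.nil _)
    (c.rels _ zr52) zb51).le (by decide)

theorem GA_u8 (c : Ctx P e gs ns D chk) :
    UB (subW gs [[66], [68]]) 4 :=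
  (c.pc_step (GA_u9 c) (c.rels _ zr58)
    (c.rels _ zr57) zb56).le (by decide)

theorem GA_u7 (c : Ctx P e gs ns D chk) :
    UB (subW gs [[60], [54], [62], [64]]) 16 :=
  (c.sch_step (GA_u8 c)
    (c.rels _ zr62) zb61).le (by decide)

theorem GA_u6 (c : Ctx P e gs ns D chk) :
    UB (subW gs [[54], [56], [58]]) 32 :=
  (c.pc_step (GA_u7 c) (c.rels _ zr68)
    (c.rels _ zr67) zb66).le (by decide)

theorem GA_u5 (c : Ctx P e gs ns D chk) :
    UB (subW gs [[50], [52]]) 96 :=
  (c.sch_step (GA_u6 c)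
    (c.rels _ zr72) zb71).le (by decide)

theorem GA_u4 (c : Ctx P e gs ns D chk) :
    UB (subW gs [[46], [48]]) 384 :=
  (c.sch_step (GA_u5 c)
    (c.rels _ zr76) zb75).le (by decide)

theorem GA_u3 (c : Ctx P e gs ns D chk) :
    UB (subW gs [[44], [42]]) 1920 :=
  (c.sch_step (GA_u4 c)
    (c.rels _ zr80) zb79).le (by decide)

theorem GA_u2 (c : Ctx P e gs ns D chk) :
    UB (subW gs [[40], [42]]) 40320 :=
  (c.sch_step (GA_u3 c)
    (c.rels _ zr84) zb83).le (by decide)

theorem GA_u1 (c : Ctx P e gs ns D chk) :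
    UB (subW gs [[36], [38]]) 887040 :=
  (c.sch_step (GA_u2 c)
    (c.rels _ zr88) zb87).le (by decide)

theorem GA_w0_1_c : P.chainB ns D GA_w0_1_vs [[36], [38]] = true :=
  zc90

theorem GA_w0_1_o : prodL GA_w0_1_vs 1 = 887040 := by decide +kernel

theorem GA_c : P.chainB ns D GA_vs [[0], [2], [4]] = true :=
  zc94

theorem GA_o : prodL GA_vs 1 = 88704000 := by decide +kernel

theorem GA_u0w (c : Ctx P e gs ns D chk) :
    AllWd e gs [[36], [38]] zrs89 :=
  ⟨c.wd (v := GA_w0_1_v0) (vs := GA_w0_1_vs1) (GA_u1 c) GA_w0_1_c GA_w0_1_o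
      (c.rels _ zr93) zb92,
    ⟨c.wd (v := GA_v1) (vs := GA_vs2) (GA_u1 c) (Par.chainB_tail GA_c) (by decide +kernel)
      (c.rels _ zr97) zb96,
    trivial⟩⟩

theorem GA_u0 (c : Ctx P e gs ns D chk) :
    UB (subW gs [[0], [2], [4]]) 88704000 :=
  (c.b_step (GA_u1 c) (GA_u0w c) (c.rels _ zr103)
    (c.rels _ zr102) zb100 zb101).le (by decide)

theorem GA_ub (c : Ctx P e gs ns D chk) :
    UB (subW gs [[0], [2], [4]]) 88704000 :=
  (GA_u0 c)

theorem GA_ex (c : Ctx P e gs ns D chk) :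
    Exact e P.n P.N gs ns 1 GA_vs [[0], [2], [4]] :=
  c.exact GA_c GA_o (GA_ub c)

theorem GA_card (c : Ctx P e gs ns D chk) :
    Nat.card (subW gs [[0], [2], [4]]) = 88704000 :=
  (GA_ex c).card.trans GA_o

theorem cLG_c : P.chainB ns D cLG_vs [[0], [2], [4]] = true :=
  zc107

theorem cLG_o : prodL cLG_vs 1 = 88704000 := by decide +kernel

theorem cL (c : Ctx P e gs ns D chk) :
    (subW gs [[0], [2], [4]]) ⊓ Subgroup.centralizer (subW gs [[0], [2]] : Set G) = (subW gs []) :=
  c.cent (lx := [[0], [2]]) (Rels.nil _) (c.sOk (c.exact cLG_c cLG_o (GA_ub c)) zs108) (fun _ h => by cases h)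
    (c.fixX zf106) (c.rels _ zr111) zm112 zs110

theorem S_pr (c : Ctx P e gs ns D chk) :
    Rels gs (pcsR S_ps []) :=
  (c.rels _ zr114)

theorem S_pe (c : Ctx P e gs ns D chk) :
    Rels gs (defRels zE113) :=
  (c.rels _ zr115)

theorem S_pb : bnd (pcsB D S_ps []) (leB (app D zE113) [[118], [120], [122]] (pcGens S_ps [])) = true := zb116

theorem S_ub (c : Ctx P e gs ns D chk) :
    UB (subW gs [[118], [120], [122]]) 512 :=
  c.pcs (UB.nil gs) (S_pe c) (S_pr c) S_pb (by decide +kernel)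

theorem S_c : P.chainB ns D S_vs [[118], [120], [122]] = true :=
  zc117

theorem S_o : prodL S_vs 1 = 512 := by decide +kernel

theorem S_lb (c : Ctx P e gs ns D chk) :
    LB (subW gs [[118], [120], [122]]) 512 :=
  c.lb S_c S_o

theorem S_card (c : Ctx P e gs ns D chk) :
    Nat.card (subW gs [[118], [120], [122]]) = 512 :=
  (S_ub c).card_eq (S_lb c)

theorem S_le (c : Ctx P e gs ns D chk) :
    (subW gs [[118], [120], [122]]) ≤ (subW gs [[0], [2]]) :=
  (c.le_of_rels (ws := [[118], [120], [122]]) (l := [[0], [2]]) (c.rels _ zr120) zm119)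

theorem cSG_c : P.chainB ns D cSG_vs [[0], [2], [4]] = true :=
  zc125

theorem cSG_o : prodL cSG_vs 1 = 88704000 := by decide +kernel

theorem cS (c : Ctx P e gs ns D chk) :
    (subW gs [[0], [2], [4]]) ⊓ Subgroup.centralizer (subW gs [[118], [120], [122]] : Set G) = (subW gs [[158]]) :=
  c.cent (lx := [[118], [120], [122]]) (Rels.nil _) (c.sOk (c.exact cSG_c cSG_o (GA_ub c)) zs126) (fun _ h => by cases h)
    (c.fixX zf124) (c.rels _ zr129) zm130 zs128

theorem SZ_le (c : Ctx P e gs ns D chk) :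
    (subW gs [[158]]) ≤ (subW gs [[0], [2]]) :=
  (c.le_of_rels (ws := [[158]]) (l := [[0], [2]]) (c.rels _ zr133) zm132)

theorem gam (c : Ctx P e gs ns D chk) :
    Gam (subW gs [[0], [2], [4]]) (subW gs [[0], [2]]) :=
  ⟨_, S_le c, 9, 86625, (S_card c).trans (by norm_num), (GM_card c).trans (by norm_num), by norm_num, (cS c).le.trans (SZ_le c)⟩

theorem T_c : P.chainB ns D T_vs [[160], [162], [164], [166], [168], [170], [172], [174], [176], [178]] = true :=
  zc134

theorem T_o : prodL T_vs 1 = 1024 := by decide +kernel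

theorem T_lb (c : Ctx P e gs ns D chk) :
    LB (subW gs [[160], [162], [164], [166], [168], [170], [172], [174], [176], [178]]) 1024 :=
  c.lb T_c T_o

theorem T_pr (c : Ctx P e gs ns D chk) :
    Rels gs (pcsR T_ps []) :=
  (c.rels _ zr135)

theorem T_pe (c : Ctx P e gs ns D chk) :
    Rels gs (defRels []) :=
  (Rels.nil _)

theorem T_pb : bnd (pcsB D T_ps []) (leB (app D []) [[160], [162], [164], [166], [168], [170], [172], [174], [176], [178]] (pcGens T_ps [])) = true := zb136

theorem T_ub (c : Ctx P e gs ns D chk) :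
    UB (subW gs [[160], [162], [164], [166], [168], [170], [172], [174], [176], [178]]) 1024 :=
  c.pcs (UB.nil gs) (T_pe c) (T_pr c) T_pb (by decide +kernel)

theorem T_card (c : Ctx P e gs ns D chk) :
    Nat.card (subW gs [[160], [162], [164], [166], [168], [170], [172], [174], [176], [178]]) = 1024 :=
  (T_ub c).card_eq (T_lb c)

theorem v_le0 (c : Ctx P e gs ns D chk) :
    (subW gs [[160], [162], [164], [166], [168], [170], [172], [174], [176], [178]]) ≤ (subW gs [[0], [2], [4]]) :=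
  (c.le_of_rels (ws := [[160], [162], [164], [166], [168], [170], [172], [174], [176], [178]]) (l := [[0], [2], [4]]) (c.rels _ zr142) zm141)

theorem v0 (c : Ctx P e gs ns D chk) :
    Cov 2 (subW gs [[160], [162], [164], [166], [168], [170], [172], [174], [176], [178]]) (subW gs [[0], [2], [4]]) gs v0_R (subW gs [[162], [164], [166], [168], [170], [172], [174], [176], [178]]) :=
  Cov.step' (q := 2) (g := [160]) c.defs (by norm_num) (Cov.init 2 (subW gs [[160], [162], [164], [166], [168], [170], [172], [174], [176], [178]]) (subW gs [[0], [2], [4]]) gs)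
    (pc_lvl' c.defs (T_pr c) T_pb (T_lb c) 0 (by decide +kernel))
    (c.le_normalizer (cj := zcj143) (((T_ub c).mono (c.le zm146)).1) (c.rels _ zr145) zm144) (v_le0 c)
    (c.rels _ zr138) zb139 zq137

theorem v1 (c : Ctx P e gs ns D chk) :
    Cov 2 (subW gs [[160], [162], [164], [166], [168], [170], [172], [174], [176], [178]]) (subW gs [[0], [2], [4]]) gs v1_R (subW gs [[164], [166], [168], [170], [172], [174], [176], [178]]) :=
  Cov.step' (q := 2) (g := [162]) c.defs (by norm_num) (v0 c)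
    (pc_lvl' c.defs (T_pr c) T_pb (T_lb c) 1 (by decide +kernel))
    (c.le_normalizer (cj := zcj150) (((T_ub c).mono (c.le zm153)).1) (c.rels _ zr152) zm151) (v_le0 c)
    (c.rels _ zr148) zb149 zq147

theorem v2 (c : Ctx P e gs ns D chk) :
    Cov 2 (subW gs [[160], [162], [164], [166], [168], [170], [172], [174], [176], [178]]) (subW gs [[0], [2], [4]]) gs v2_R (subW gs [[166], [168], [170], [172], [174], [176], [178]]) :=
  Cov.step' (q := 2) (g := [164]) c.defs (by norm_num) (v1 c)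
    (pc_lvl' c.defs (T_pr c) T_pb (T_lb c) 2 (by decide +kernel))
    (c.le_normalizer (cj := zcj157) (((T_ub c).mono (c.le zm160)).1) (c.rels _ zr159) zm158) (v_le0 c)
    (c.rels _ zr155) zb156 zq154

theorem v3 (c : Ctx P e gs ns D chk) :
    Cov 2 (subW gs [[160], [162], [164], [166], [168], [170], [172], [174], [176], [178]]) (subW gs [[0], [2], [4]]) gs v3_R (subW gs [[168], [170], [172], [174], [176], [178]]) :=
  Cov.step' (q := 2) (g := [166]) c.defs (by norm_num) (v2 c)
    (pc_lvl' c.defs (T_pr c) T_pb (T_lb c) 3 (by decide +kernel))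
    (c.le_normalizer (cj := zcj164) (((T_ub c).mono (c.le zm167)).1) (c.rels _ zr166) zm165) (v_le0 c)
    (c.rels _ zr162) zb163 zq161

theorem v4 (c : Ctx P e gs ns D chk) :
    Cov 2 (subW gs [[160], [162], [164], [166], [168], [170], [172], [174], [176], [178]]) (subW gs [[0], [2], [4]]) gs v4_R (subW gs [[170], [172], [174], [176], [178]]) :=
  Cov.step' (q := 2) (g := [168]) c.defs (by norm_num) (v3 c)
    (pc_lvl' c.defs (T_pr c) T_pb (T_lb c) 4 (by decide +kernel))
    (c.le_normalizer (cj := zcj171) (((T_ub c).mono (c.le zm174)).1) (c.rels _ zr173) zm172) (v_le0 c)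
    (c.rels _ zr169) zb170 zq168

theorem v5 (c : Ctx P e gs ns D chk) :
    Cov 2 (subW gs [[160], [162], [164], [166], [168], [170], [172], [174], [176], [178]]) (subW gs [[0], [2], [4]]) gs v5_R (subW gs [[172], [174], [176], [178]]) :=
  Cov.step' (q := 2) (g := [170]) c.defs (by norm_num) (v4 c)
    (pc_lvl' c.defs (T_pr c) T_pb (T_lb c) 5 (by decide +kernel))
    (c.le_normalizer (cj := zcj178) (((T_ub c).mono (c.le zm181)).1) (c.rels _ zr180) zm179) (v_le0 c)
    (c.rels _ zr176) zb177 zq175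

theorem v6 (c : Ctx P e gs ns D chk) :
    Cov 2 (subW gs [[160], [162], [164], [166], [168], [170], [172], [174], [176], [178]]) (subW gs [[0], [2], [4]]) gs v6_R (subW gs [[174], [176], [178]]) :=
  Cov.step' (q := 2) (g := [172]) c.defs (by norm_num) (v5 c)
    (pc_lvl' c.defs (T_pr c) T_pb (T_lb c) 6 (by decide +kernel))
    (c.le_normalizer (cj := zcj185) (((T_ub c).mono (c.le zm188)).1) (c.rels _ zr187) zm186) (v_le0 c)
    (c.rels _ zr183) zb184 zq182

theorem v7 (c : Ctx P e gs ns D chk) :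
    Cov 2 (subW gs [[160], [162], [164], [166], [168], [170], [172], [174], [176], [178]]) (subW gs [[0], [2], [4]]) gs v7_R (subW gs [[176], [178]]) :=
  Cov.step' (q := 2) (g := [174]) c.defs (by norm_num) (v6 c)
    (pc_lvl' c.defs (T_pr c) T_pb (T_lb c) 7 (by decide +kernel))
    (c.le_normalizer (cj := zcj192) (((T_ub c).mono (c.le zm195)).1) (c.rels _ zr194) zm193) (v_le0 c)
    (c.rels _ zr190) zb191 zq189

theorem v8 (c : Ctx P e gs ns D chk) :
    Cov 2 (subW gs [[160], [162], [164], [166], [168], [170], [172], [174], [176], [178]]) (subW gs [[0], [2], [4]]) gs v8_R (subW gs [[178]]) :=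
  Cov.step' (q := 2) (g := [176]) c.defs (by norm_num) (v7 c)
    (pc_lvl' c.defs (T_pr c) T_pb (T_lb c) 8 (by decide +kernel))
    (c.le_normalizer (cj := zcj199) (((T_ub c).mono (c.le zm202)).1) (c.rels _ zr201) zm200) (v_le0 c)
    (c.rels _ zr197) zb198 zq196

theorem v9 (c : Ctx P e gs ns D chk) :
    Cov 2 (subW gs [[160], [162], [164], [166], [168], [170], [172], [174], [176], [178]]) (subW gs [[0], [2], [4]]) gs v9_R (subW gs []) :=
  Cov.step' (q := 2) (g := [178]) c.defs (by norm_num) (v8 c)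
    (pc_lvl' c.defs (T_pr c) T_pb (T_lb c) 9 (by decide +kernel))
    (le_normalizer_nil gs _) (v_le0 c)
    (c.rels _ zr204) zb205 zq203

theorem v10 (c : Ctx P e gs ns D chk) :
    Cov 2 (subW gs [[160], [162], [164], [166], [168], [170], [172], [174], [176], [178]]) (subW gs [[0], [2], [4]]) gs v10_R (subW gs []) :=
  Cov.fuse c.defs (v9 c) (le_normalizer_nil gs _) (c.le zm208)
    (c.rels _ zr206) zb207

theorem v_cls (c : Ctx P e gs ns D chk) :
    Cls 2 (subW gs [[160], [162], [164], [166], [168], [170], [172], [174], [176], [178]]) (subW gs [[0], [2], [4]]) gs [[], [206], [208], [210], [212]] :=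
  (v10 c).cls

theorem T_le (c : Ctx P e gs ns D chk) :
    (subW gs [[160], [162], [164], [166], [168], [170], [172], [174], [176], [178]]) ≤ (subW gs [[0], [2], [4]]) :=
  (c.le_of_rels (ws := [[160], [162], [164], [166], [168], [170], [172], [174], [176], [178]]) (l := [[0], [2], [4]]) (c.rels _ zr211) zm210)

theorem cC0G_c : P.chainB ns D cC0G_vs [[0], [2]] = true :=
  zc214

theorem cC0G_o : prodL cC0G_vs 1 = 44352000 := by decide +kernel

theorem cC0 (c : Ctx P e gs ns D chk) :
    (subW gs [[0], [2]]) ⊓ Subgroup.centralizer (subW gs [[206]] : Set G) = (subW gs [[214], [216]]) :=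
  c.cent (lx := [[206]]) (Rels.nil _) (c.sOk (c.exact cC0G_c cC0G_o (GM_ub c)) zs215) (fun _ h => by cases h)
    (c.fixX zf213) (c.rels _ zr218) zm219 zs217

theorem D0_u5 (c : Ctx P e gs ns D chk) :
    UB (subW gs [[274]]) 2 :=
  (c.pc_step (UB.nil gs) (Rels.nil _)
    (c.rels _ zr223) zb222).le (by decide)

theorem D0_u4 (c : Ctx P e gs ns D chk) :
    UB (subW gs [[274], [276]]) 4 :=
  (c.pc_step (D0_u5 c) (Rels.nil _)
    (c.rels _ zr227) zb226).le (by decide)

theorem D0_u3 (c : Ctx P e gs ns D chk) :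
    UB (subW gs [[270], [272]]) 8 :=
  (c.pc_step (D0_u4 c) (c.rels _ zr233)
    (c.rels _ zr232) zb231).le (by decide)

theorem D0_u2 (c : Ctx P e gs ns D chk) :
    UB (subW gs [[264], [266], [268]]) 32 :=
  (c.sch_step (D0_u3 c)
    (c.rels _ zr237) zb236).le (by decide)

theorem D0_u1 (c : Ctx P e gs ns D chk) :
    UB (subW gs [[258], [260], [262]]) 192 :=
  (c.sch_step (D0_u2 c)
    (c.rels _ zr241) zb240).le (by decide)

theorem D0_u0 (c : Ctx P e gs ns D chk) :
    UB (subW gs [[254], [256]]) 3840 :=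
  (c.sch_step (D0_u1 c)
    (c.rels _ zr245) zb244).le (by decide)

theorem D0_ub (c : Ctx P e gs ns D chk) :
    UB (subW gs [[254], [256]]) 3840 :=
  (D0_u0 c)

theorem D0_c : P.chainB ns D D0_vs [[254], [256]] = true :=
  zc246

theorem D0_o : prodL D0_vs 1 = 3840 := by decide +kernel

theorem D0_ex (c : Ctx P e gs ns D chk) :
    Exact e P.n P.N gs ns 1 D0_vs [[254], [256]] :=
  c.exact D0_c D0_o (D0_ub c)

theorem D0_card (c : Ctx P e gs ns D chk) :
    Nat.card (subW gs [[254], [256]]) = 3840 :=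
  (D0_ex c).card.trans D0_o

theorem cm0_c_le (c : Ctx P e gs ns D chk) :
    (subW gs [[278], [280], [282]]) ≤ ⁅(subW gs [[214], [216]]), (subW gs [[214], [216]])⁆ :=
  c.le_commutator (ps := zps247) (c.rels _ zr249) zm248

theorem cm0 (c : Ctx P e gs ns D chk) :
    ⁅(subW gs [[214], [216]]), (subW gs [[214], [216]])⁆ = (subW gs [[254], [256]]) :=
  have hfin : Finite (subW gs [[254], [256]]) := (D0_ub c).1
  le_antisymm (commutator_subW_le (c.le_normalizer (cj := zcj259) hfin (c.rels _ zr261) zm260) (c.le_normalizer (cj := zcj256) hfin (c.rels _ zr258) zm257)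
    (c.le_of_rels (ws := (comWs [[214], [216]] [[214], [216]])) (l := [[254], [256]]) (c.rels _ zr255) zm254)) ((c.le_of_rels (ws := [[254], [256]]) (l := [[278], [280], [282]]) (c.rels _ zr252) zm251).trans (cm0_c_le c))

theorem Q0_pr (c : Ctx P e gs ns D chk) :
    Rels gs (pcsR Q0_ps []) :=
  (c.rels _ zr263)

theorem Q0_pe (c : Ctx P e gs ns D chk) :
    Rels gs (defRels zE262) :=
  (c.rels _ zr264)

theorem Q0_pb : bnd (pcsB D Q0_ps []) (leB (app D zE262) [[302], [304], [306], [308], [310]] (pcGens Q0_ps [])) = true := zb265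

theorem Q0_ub (c : Ctx P e gs ns D chk) :
    UB (subW gs [[302], [304], [306], [308], [310]]) 64 :=
  c.pcs (UB.nil gs) (Q0_pe c) (Q0_pr c) Q0_pb (by decide +kernel)

theorem Q0_c : P.chainB ns D Q0_vs [[302], [304], [306], [308], [310]] = true :=
  zc266

theorem Q0_o : prodL Q0_vs 1 = 64 := by decide +kernel

theorem Q0_lb (c : Ctx P e gs ns D chk) :
    LB (subW gs [[302], [304], [306], [308], [310]]) 64 :=
  c.lb Q0_c Q0_o

theorem Q0_card (c : Ctx P e gs ns D chk) :
    Nat.card (subW gs [[302], [304], [306], [308], [310]]) = 64 :=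
  (Q0_ub c).card_eq (Q0_lb c)

theorem Q0_le (c : Ctx P e gs ns D chk) :
    (subW gs [[302], [304], [306], [308], [310]]) ≤ (subW gs [[254], [256]]) :=
  (c.le_of_rels (ws := [[302], [304], [306], [308], [310]]) (l := [[254], [256]]) (c.rels _ zr269) zm268)

theorem nQ0 (c : Ctx P e gs ns D chk) :
    (subW gs [[254], [256]]) ≤ Subgroup.normalizer (subW gs [[302], [304], [306], [308], [310]] : Set G) :=
  have hfin : Finite (subW gs [[302], [304], [306], [308], [310]]) := (Q0_ub c).1
  (c.le_normalizer (cj := zcj270) hfin (c.rels _ zr272) zm271)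

theorem Z0_pr (c : Ctx P e gs ns D chk) :
    Rels gs (pcsR Z0_ps []) :=
  (c.rels _ zr273)

theorem Z0_pe (c : Ctx P e gs ns D chk) :
    Rels gs (defRels []) :=
  (Rels.nil _)

theorem Z0_pb : bnd (pcsB D Z0_ps []) (leB (app D []) [[340]] (pcGens Z0_ps [])) = true := zb274

theorem Z0_ub (c : Ctx P e gs ns D chk) :
    UB (subW gs [[340]]) 4 :=
  c.pcs (UB.nil gs) (Z0_pe c) (Z0_pr c) Z0_pb (by decide +kernel)

theorem Z0_c : P.chainB ns D Z0_vs [[340]] = true :=
  zc275

theorem Z0_o : prodL Z0_vs 1 = 4 := by decide +kernel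

theorem Z0_lb (c : Ctx P e gs ns D chk) :
    LB (subW gs [[340]]) 4 :=
  c.lb Z0_c Z0_o

theorem Z0_card (c : Ctx P e gs ns D chk) :
    Nat.card (subW gs [[340]]) = 4 :=
  (Z0_ub c).card_eq (Z0_lb c)

theorem cQ0G_c : P.chainB ns D cQ0G_vs [[254], [256]] = true :=
  zc280

theorem cQ0G_o : prodL cQ0G_vs 1 = 3840 := by decide +kernel

theorem cQ0 (c : Ctx P e gs ns D chk) :
    (subW gs [[254], [256]]) ⊓ Subgroup.centralizer (subW gs [[302], [304], [306], [308], [310]] : Set G) = (subW gs [[340]]) :=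
  c.cent (lx := [[302], [304], [306], [308], [310]]) (Rels.nil _) (c.sOk (c.exact cQ0G_c cQ0G_o (D0_ub c)) zs281) (fun _ h => by cases h)
    (c.fixX zf279) (c.rels _ zr284) zm285 zs283

theorem row0 (c : Ctx P e gs ns D chk) :
    Row True (subW gs [[0], [2]]) (wordG gs [206]) :=
  row_con (dd (cC0 c) (cm0 c)) (Q0_le c) (nQ0 c) (isPGroup_of_card (Q0_card c) 6 (by norm_num)) (cQ0 c)
    (isPGroup_of_card (Z0_card c) 2 (by norm_num))

theorem cC1G_c : P.chainB ns D cC1G_vs [[0], [2]] = true :=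
  zc288

theorem cC1G_o : prodL cC1G_vs 1 = 44352000 := by decide +kernel

theorem cC1 (c : Ctx P e gs ns D chk) :
    (subW gs [[0], [2]]) ⊓ Subgroup.centralizer (subW gs [[208]] : Set G) = (subW gs [[348], [350]]) :=
  c.cent (lx := [[208]]) (Rels.nil _) (c.sOk (c.exact cC1G_c cC1G_o (GM_ub c)) zs289) (fun _ h => by cases h)
    (c.fixX zf287) (c.rels _ zr292) zm293 zs291

theorem D1_u5 (c : Ctx P e gs ns D chk) :
    UB (subW gs [[414]]) 2 :=
  (c.pc_step (UB.nil gs) (Rels.nil _)
    (c.rels _ zr297) zb296).le (by decide)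

theorem D1_u4 (c : Ctx P e gs ns D chk) :
    UB (subW gs [[410], [412]]) 4 :=
  (c.pc_step (D1_u5 c) (c.rels _ zr303)
    (c.rels _ zr302) zb301).le (by decide)

theorem D1_u3 (c : Ctx P e gs ns D chk) :
    UB (subW gs [[404], [406], [408], [403]]) 16 :=
  (c.sch_step (D1_u4 c)
    (c.rels _ zr307) zb306).le (by decide)

theorem D1_u2 (c : Ctx P e gs ns D chk) :
    UB (subW gs [[398], [400], [402]]) 32 :=
  (c.pc_step (D1_u3 c) (c.rels _ zr313)
    (c.rels _ zr312) zb311).le (by decide)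

theorem D1_u1 (c : Ctx P e gs ns D chk) :
    UB (subW gs [[396], [393]]) 160 :=
  (c.sch_step (D1_u2 c)
    (c.rels _ zr317) zb316).le (by decide)

theorem D1_u0 (c : Ctx P e gs ns D chk) :
    UB (subW gs [[392], [394]]) 960 :=
  (c.sch_step (D1_u1 c)
    (c.rels _ zr321) zb320).le (by decide)

theorem D1_ub (c : Ctx P e gs ns D chk) :
    UB (subW gs [[392], [394]]) 960 :=
  (D1_u0 c)

theorem D1_c : P.chainB ns D D1_vs [[392], [394]] = true :=
  zc322

theorem D1_o : prodL D1_vs 1 = 960 := by decide +kernel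

theorem D1_ex (c : Ctx P e gs ns D chk) :
    Exact e P.n P.N gs ns 1 D1_vs [[392], [394]] :=
  c.exact D1_c D1_o (D1_ub c)

theorem D1_card (c : Ctx P e gs ns D chk) :
    Nat.card (subW gs [[392], [394]]) = 960 :=
  (D1_ex c).card.trans D1_o

theorem cm1_c_le (c : Ctx P e gs ns D chk) :
    (subW gs [[416], [418]]) ≤ ⁅(subW gs [[348], [350]]), (subW gs [[348], [350]])⁆ :=
  c.le_commutator (ps := zps323) (c.rels _ zr325) zm324

theorem cm1 (c : Ctx P e gs ns D chk) :
    ⁅(subW gs [[348], [350]]), (subW gs [[348], [350]])⁆ = (subW gs [[392], [394]]) :=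
  have hfin : Finite (subW gs [[392], [394]]) := (D1_ub c).1
  le_antisymm (commutator_subW_le (c.le_normalizer (cj := zcj335) hfin (c.rels _ zr337) zm336) (c.le_normalizer (cj := zcj332) hfin (c.rels _ zr334) zm333)
    (c.le_of_rels (ws := (comWs [[348], [350]] [[348], [350]])) (l := [[392], [394]]) (c.rels _ zr331) zm330)) ((c.le_of_rels (ws := [[392], [394]]) (l := [[416], [418]]) (c.rels _ zr328) zm327).trans (cm1_c_le c))

theorem Q1_pr (c : Ctx P e gs ns D chk) :
    Rels gs (pcsR Q1_ps []) :=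
  (c.rels _ zr339)

theorem Q1_pe (c : Ctx P e gs ns D chk) :
    Rels gs (defRels zE338) :=
  (c.rels _ zr340)

theorem Q1_pb : bnd (pcsB D Q1_ps []) (leB (app D zE338) [[442], [444], [446], [403]] (pcGens Q1_ps [])) = true := zb341

theorem Q1_ub (c : Ctx P e gs ns D chk) :
    UB (subW gs [[442], [444], [446], [403]]) 16 :=
  c.pcs (UB.nil gs) (Q1_pe c) (Q1_pr c) Q1_pb (by decide +kernel)

theorem Q1_c : P.chainB ns D Q1_vs [[442], [444], [446], [403]] = true :=
  zc342

theorem Q1_o : prodL Q1_vs 1 = 16 := by decide +kernel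

theorem Q1_lb (c : Ctx P e gs ns D chk) :
    LB (subW gs [[442], [444], [446], [403]]) 16 :=
  c.lb Q1_c Q1_o

theorem Q1_card (c : Ctx P e gs ns D chk) :
    Nat.card (subW gs [[442], [444], [446], [403]]) = 16 :=
  (Q1_ub c).card_eq (Q1_lb c)

theorem Q1_le (c : Ctx P e gs ns D chk) :
    (subW gs [[442], [444], [446], [403]]) ≤ (subW gs [[392], [394]]) :=
  (c.le_of_rels (ws := [[442], [444], [446], [403]]) (l := [[392], [394]]) (c.rels _ zr345) zm344)

theorem nQ1 (c : Ctx P e gs ns D chk) :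
    (subW gs [[392], [394]]) ≤ Subgroup.normalizer (subW gs [[442], [444], [446], [403]] : Set G) :=
  have hfin : Finite (subW gs [[442], [444], [446], [403]]) := (Q1_ub c).1
  (c.le_normalizer (cj := zcj346) hfin (c.rels _ zr348) zm347)

theorem Z1_pr (c : Ctx P e gs ns D chk) :
    Rels gs (pcsR Z1_ps []) :=
  (c.rels _ zr350)

theorem Z1_pe (c : Ctx P e gs ns D chk) :
    Rels gs (defRels zE349) :=
  (c.rels _ zr351)

theorem Z1_pb : bnd (pcsB D Z1_ps []) (leB (app D zE349) [[456], [404], [458], [460]] (pcGens Z1_ps [])) = true := zb352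

theorem Z1_ub (c : Ctx P e gs ns D chk) :
    UB (subW gs [[456], [404], [458], [460]]) 16 :=
  c.pcs (UB.nil gs) (Z1_pe c) (Z1_pr c) Z1_pb (by decide +kernel)

theorem Z1_c : P.chainB ns D Z1_vs [[456], [404], [458], [460]] = true :=
  zc353

theorem Z1_o : prodL Z1_vs 1 = 16 := by decide +kernel

theorem Z1_lb (c : Ctx P e gs ns D chk) :
    LB (subW gs [[456], [404], [458], [460]]) 16 :=
  c.lb Z1_c Z1_o

theorem Z1_card (c : Ctx P e gs ns D chk) :
    Nat.card (subW gs [[456], [404], [458], [460]]) = 16 :=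
  (Z1_ub c).card_eq (Z1_lb c)

theorem cQ1G_c : P.chainB ns D cQ1G_vs [[392], [394]] = true :=
  zc358

theorem cQ1G_o : prodL cQ1G_vs 1 = 960 := by decide +kernel

theorem cQ1 (c : Ctx P e gs ns D chk) :
    (subW gs [[392], [394]]) ⊓ Subgroup.centralizer (subW gs [[442], [444], [446], [403]] : Set G) = (subW gs [[456], [404], [458], [460]]) :=
  c.cent (lx := [[442], [444], [446], [403]]) (Rels.nil _) (c.sOk (c.exact cQ1G_c cQ1G_o (D1_ub c)) zs359) (fun _ h => by cases h)
    (c.fixX zf357) (c.rels _ zr362) zm363 zs361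

theorem row1 (c : Ctx P e gs ns D chk) :
    Row True (subW gs [[0], [2]]) (wordG gs [208]) :=
  row_con (dd (cC1 c) (cm1 c)) (Q1_le c) (nQ1 c) (isPGroup_of_card (Q1_card c) 4 (by norm_num)) (cQ1 c)
    (isPGroup_of_card (Z1_card c) 4 (by norm_num))

theorem cC2G_c : P.chainB ns D cC2G_vs [[0], [2]] = true :=
  zc366

theorem cC2G_o : prodL cC2G_vs 1 = 44352000 := by decide +kernel

theorem cC2 (c : Ctx P e gs ns D chk) :
    (subW gs [[0], [2]]) ⊓ Subgroup.centralizer (subW gs [[210]] : Set G) = (subW gs [[476], [478]]) :=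
  c.cent (lx := [[210]]) (Rels.nil _) (c.sOk (c.exact cC2G_c cC2G_o (GM_ub c)) zs367) (fun _ h => by cases h)
    (c.fixX zf365) (c.rels _ zr370) zm371 zs369

theorem D2_u6 (c : Ctx P e gs ns D chk) :
    UB (subW gs [[540]]) 2 :=
  (c.pc_step (UB.nil gs) (Rels.nil _)
    (c.rels _ zr375) zb374).le (by decide)

theorem D2_u5 (c : Ctx P e gs ns D chk) :
    UB (subW gs [[540], [542]]) 4 :=
  (c.pc_step (D2_u6 c) (Rels.nil _)
    (c.rels _ zr379) zb378).le (by decide)

theorem D2_u4 (c : Ctx P e gs ns D chk) :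
    UB (subW gs [[532], [534], [536], [538]]) 16 :=
  (c.sch_step (D2_u5 c)
    (c.rels _ zr383) zb382).le (by decide)

theorem D2_u3 (c : Ctx P e gs ns D chk) :
    UB (subW gs [[526], [528], [530]]) 32 :=
  (c.pc_step (D2_u4 c) (c.rels _ zr389)
    (c.rels _ zr388) zb387).le (by decide)

theorem D2_u2 (c : Ctx P e gs ns D chk) :
    UB (subW gs [[522], [524]]) 192 :=
  (c.sch_step (D2_u3 c)
    (c.rels _ zr393) zb392).le (by decide)

theorem D2_u1 (c : Ctx P e gs ns D chk) :
    UB (subW gs [[518], [520]]) 1344 :=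
  (c.sch_step (D2_u2 c)
    (c.rels _ zr397) zb396).le (by decide)

theorem D2_u0 (c : Ctx P e gs ns D chk) :
    UB (subW gs [[514], [516]]) 20160 :=
  (c.sch_step (D2_u1 c)
    (c.rels _ zr401) zb400).le (by decide)

theorem D2_ub (c : Ctx P e gs ns D chk) :
    UB (subW gs [[514], [516]]) 20160 :=
  (D2_u0 c)

theorem D2_c : P.chainB ns D D2_vs [[514], [516]] = true :=
  zc402

theorem D2_o : prodL D2_vs 1 = 20160 := by decide +kernel

theorem D2_ex (c : Ctx P e gs ns D chk) :
    Exact e P.n P.N gs ns 1 D2_vs [[514], [516]] :=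
  c.exact D2_c D2_o (D2_ub c)

theorem D2_card (c : Ctx P e gs ns D chk) :
    Nat.card (subW gs [[514], [516]]) = 20160 :=
  (D2_ex c).card.trans D2_o

theorem cm2_c_le (c : Ctx P e gs ns D chk) :
    (subW gs [[544], [546], [548]]) ≤ ⁅(subW gs [[476], [478]]), (subW gs [[476], [478]])⁆ :=
  c.le_commutator (ps := zps403) (c.rels _ zr405) zm404

theorem cm2 (c : Ctx P e gs ns D chk) :
    ⁅(subW gs [[476], [478]]), (subW gs [[476], [478]])⁆ = (subW gs [[514], [516]]) :=
  have hfin : Finite (subW gs [[514], [516]]) := (D2_ub c).1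
  le_antisymm (commutator_subW_le (c.le_normalizer (cj := zcj415) hfin (c.rels _ zr417) zm416) (c.le_normalizer (cj := zcj412) hfin (c.rels _ zr414) zm413)
    (c.le_of_rels (ws := (comWs [[476], [478]] [[476], [478]])) (l := [[514], [516]]) (c.rels _ zr411) zm410)) ((c.le_of_rels (ws := [[514], [516]]) (l := [[544], [546], [548]]) (c.rels _ zr408) zm407).trans (cm2_c_le c))

theorem iso2_r_T {Γ Y : Type*} [Group Γ] [MulAction Γ Y] {e' : ℕ → Y} {cs : List Γ} {D₁ D₂ : List (ℕ × List ℕ)}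
    {k₁ k₂ : List (List ℕ × List ℕ) → Bool} (c : Ctx CL.Q49M.HS.P e gs CL.Q49M.HS.ns D₁ k₁) (c' : Ctx CL.Q49M.HSAux2.T.P e' cs CL.Q49M.HSAux2.T.ns D₂ k₂)
    (hF : Faithful e' CL.Q49M.HSAux2.T.P.n (subW cs [[0], [2]])) :
    RelLe gs [[574], [576]] cs [[0], [2]] :=
  c.relLe (K := zK419) c' hF zl420 (fun (t : ℕ) (ht : t < 1) => match t, ht with
    | 0, _ => zl421
    | t + 1, h => absurd h (by omega))

theorem iso2_r {Γ Y : Type*} [Group Γ] [MulAction Γ Y] {e' : ℕ → Y} {cs : List Γ} {D₁ D₂ : List (ℕ × List ℕ)}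
    {k₁ k₂ : List (List ℕ × List ℕ) → Bool} (c : Ctx CL.Q49M.HS.P e gs CL.Q49M.HS.ns D₁ k₁) (c' : Ctx CL.Std.A8.P e' cs CL.Std.A8.ns D₂ k₂)
    (hF : Faithful e' CL.Std.A8.P.n (subW cs [[0], [2]])) :
    RelLe gs [[574], [576]] cs [[0], [2]] :=
  (iso2_r_T c CL.Q49M.HSAux2.T.c1 ((faithful_eF _).mono le_top)).trans (CL.Q49M.HSAux2.S.rel c' hF)

theorem iso2_e (c : Ctx P e gs ns D chk) :
    subW gs (app [[574], [576]] []) = (subW gs [[514], [516]]) :=
  le_antisymm (c.le_of_rels (ws := [[574], [576]]) (l := [[514], [516]]) (c.rels _ zr427) zm426) (c.le_of_rels (ws := [[514], [516]]) (l := [[574], [576]]) (c.rels _ zr424) zm423)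

theorem iso2 (c : Ctx P e gs ns D chk) :
    Nonempty ((subW gs [[514], [516]]) ≃* (subW CL.Std.A8.gs1 [[0], [2]])) :=
  (RelLe.quo' (l := [[574], [576]]) (lQ := []) (iso2_r c CL.Std.A8.c1 ((faithful_eF _).mono le_top)) (by decide) (iso2_e c) (a := 1) (b := 20160) (D2_ub c)
    (LB.one _) (LB.of_card CL.Std.A8.card)).equiv_nil

theorem e1_2 (c : Ctx P e gs ns D chk) :
    wordG gs [602, 210] = wordG gs [210, 606, 602] :=
  c.eq zr428

theorem e0_2 (c : Ctx P e gs ns D chk) :
    wordG gs [606, 210] = wordG gs [210, 606] :=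
  c.eq zr429

theorem e2_2 (c : Ctx P e gs ns D chk) :
    wordG gs [604, 606] = wordG gs [606, 608, 604] :=
  c.eq zr430

theorem e3_2 (c : Ctx P e gs ns D chk) :
    wordG gs [610, 610] = wordG gs [608] :=
  c.eq zr431

theorem e4_2 (c : Ctx P e gs ns D chk) :
    wordG gs [612, 612] = wordG gs [608] :=
  c.eq zr432

theorem e5_2 (c : Ctx P e gs ns D chk) :
    wordG gs [610, 602] = wordG gs [602, 610] :=
  c.eq zr433

theorem e6_2 (c : Ctx P e gs ns D chk) :
    wordG gs [614, 604] = wordG gs [604, 602] :=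
  c.eq zr434

theorem e8_2 (c : Ctx P e gs ns D chk) :
    wordG gs [612, 614] = wordG gs [614, 612] :=
  c.eq zr435

theorem e9_2 (c : Ctx P e gs ns D chk) :
    wordG gs [608, 608] = wordG gs [] :=
  c.eq zr436

theorem e7_2 (c : Ctx P e gs ns D chk) :
    (wordG gs [608]) ≠ 1 :=
  c.ne_one zn437

theorem P2_c : P.chainB ns D P2_vs [[616], [524], [618], [620], [622], [624]] = true :=
  zc438

theorem P2_o : prodL P2_vs 1 = 64 := by decide +kernel

theorem P2_lb (c : Ctx P e gs ns D chk) :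
    LB (subW gs [[616], [524], [618], [620], [622], [624]]) 64 :=
  c.lb P2_c P2_o

theorem P2_pr (c : Ctx P e gs ns D chk) :
    Rels gs (pcsR P2_ps []) :=
  (c.rels _ zr439)

theorem P2_pe (c : Ctx P e gs ns D chk) :
    Rels gs (defRels []) :=
  (Rels.nil _)

theorem P2_pb : bnd (pcsB D P2_ps []) (leB (app D []) [[616], [524], [618], [620], [622], [624]] (pcGens P2_ps [])) = true := zb440

theorem P2_ub (c : Ctx P e gs ns D chk) :
    UB (subW gs [[616], [524], [618], [620], [622], [624]]) 64 :=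
  c.pcs (UB.nil gs) (P2_pe c) (P2_pr c) P2_pb (by decide +kernel)

theorem P2_card (c : Ctx P e gs ns D chk) :
    Nat.card (subW gs [[616], [524], [618], [620], [622], [624]]) = 64 :=
  (P2_ub c).card_eq (P2_lb c)

theorem w2__le0 (c : Ctx P e gs ns D chk) :
    (subW gs [[616], [524], [618], [620], [622], [624]]) ≤ (subW gs [[514], [516]]) :=
  (c.le_of_rels (ws := [[616], [524], [618], [620], [622], [624]]) (l := [[514], [516]]) (c.rels _ zr446) zm445)

theorem w2_0 (c : Ctx P e gs ns D chk) :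
    Cov 2 (subW gs [[616], [524], [618], [620], [622], [624]]) (subW gs [[514], [516]]) gs w2_0_R (subW gs [[524], [618], [620], [622], [624]]) :=
  Cov.step' (q := 2) (g := [616]) c.defs (by norm_num) (Cov.init 2 (subW gs [[616], [524], [618], [620], [622], [624]]) (subW gs [[514], [516]]) gs)
    (pc_lvl' c.defs (P2_pr c) P2_pb (P2_lb c) 0 (by decide +kernel))
    (c.le_normalizer (cj := zcj447) (((P2_ub c).mono (c.le zm450)).1) (c.rels _ zr449) zm448) (w2__le0 c)
    (c.rels _ zr442) zb443 zq441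

theorem w2_1 (c : Ctx P e gs ns D chk) :
    Cov 2 (subW gs [[616], [524], [618], [620], [622], [624]]) (subW gs [[514], [516]]) gs w2_1_R (subW gs [[618], [620], [622], [624]]) :=
  Cov.step' (q := 2) (g := [524]) c.defs (by norm_num) (w2_0 c)
    (pc_lvl' c.defs (P2_pr c) P2_pb (P2_lb c) 1 (by decide +kernel))
    (c.le_normalizer (cj := zcj454) (((P2_ub c).mono (c.le zm457)).1) (c.rels _ zr456) zm455) (w2__le0 c)
    (c.rels _ zr452) zb453 zq451

theorem w2_2 (c : Ctx P e gs ns D chk) :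
    Cov 2 (subW gs [[616], [524], [618], [620], [622], [624]]) (subW gs [[514], [516]]) gs w2_2_R (subW gs [[620], [622], [624]]) :=
  Cov.step' (q := 2) (g := [618]) c.defs (by norm_num) (w2_1 c)
    (pc_lvl' c.defs (P2_pr c) P2_pb (P2_lb c) 2 (by decide +kernel))
    (c.le_normalizer (cj := zcj461) (((P2_ub c).mono (c.le zm464)).1) (c.rels _ zr463) zm462) (w2__le0 c)
    (c.rels _ zr459) zb460 zq458

theorem w2_3 (c : Ctx P e gs ns D chk) :
    Cov 2 (subW gs [[616], [524], [618], [620], [622], [624]]) (subW gs [[514], [516]]) gs w2_3_R (subW gs [[622], [624]]) :=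
  Cov.step' (q := 2) (g := [620]) c.defs (by norm_num) (w2_2 c)
    (pc_lvl' c.defs (P2_pr c) P2_pb (P2_lb c) 3 (by decide +kernel))
    (c.le_normalizer (cj := zcj468) (((P2_ub c).mono (c.le zm471)).1) (c.rels _ zr470) zm469) (w2__le0 c)
    (c.rels _ zr466) zb467 zq465

theorem w2_4 (c : Ctx P e gs ns D chk) :
    Cov 2 (subW gs [[616], [524], [618], [620], [622], [624]]) (subW gs [[514], [516]]) gs w2_4_R (subW gs [[624]]) :=
  Cov.step' (q := 2) (g := [622]) c.defs (by norm_num) (w2_3 c)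
    (pc_lvl' c.defs (P2_pr c) P2_pb (P2_lb c) 4 (by decide +kernel))
    (c.le_normalizer (cj := zcj475) (((P2_ub c).mono (c.le zm478)).1) (c.rels _ zr477) zm476) (w2__le0 c)
    (c.rels _ zr473) zb474 zq472

theorem w2_5 (c : Ctx P e gs ns D chk) :
    Cov 2 (subW gs [[616], [524], [618], [620], [622], [624]]) (subW gs [[514], [516]]) gs w2_5_R (subW gs []) :=
  Cov.step' (q := 2) (g := [624]) c.defs (by norm_num) (w2_4 c)
    (pc_lvl' c.defs (P2_pr c) P2_pb (P2_lb c) 5 (by decide +kernel))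
    (le_normalizer_nil gs _) (w2__le0 c)
    (c.rels _ zr480) zb481 zq479

theorem w2_6 (c : Ctx P e gs ns D chk) :
    Cov 2 (subW gs [[616], [524], [618], [620], [622], [624]]) (subW gs [[514], [516]]) gs w2_6_R (subW gs []) :=
  Cov.fuse c.defs (w2_5 c) (le_normalizer_nil gs _) (c.le zm484)
    (c.rels _ zr482) zb483

theorem w2__cls (c : Ctx P e gs ns D chk) :
    Cls 2 (subW gs [[616], [524], [618], [620], [622], [624]]) (subW gs [[514], [516]]) gs [[], [608], [630]] :=
  (w2_6 c).cls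

theorem P2_le (c : Ctx P e gs ns D chk) :
    (subW gs [[616], [524], [618], [620], [622], [624]]) ≤ (subW gs [[514], [516]]) :=
  (c.le_of_rels (ws := [[616], [524], [618], [620], [622], [624]]) (l := [[514], [516]]) (c.rels _ zr487) zm486)

theorem X2_0_pr (c : Ctx P e gs ns D chk) :
    Rels gs (pcsR X2_0_ps []) :=
  (c.rels _ zr489)

theorem X2_0_pe (c : Ctx P e gs ns D chk) :
    Rels gs (defRels zE488) :=
  (c.rels _ zr490)

theorem X2_0_pb : bnd (pcsB D X2_0_ps []) (leB (app D zE488) [[632], [634]] (pcGens X2_0_ps [])) = true := zb491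

theorem X2_0_ub (c : Ctx P e gs ns D chk) :
    UB (subW gs [[632], [634]]) 192 :=
  c.pcs (UB.nil gs) (X2_0_pe c) (X2_0_pr c) X2_0_pb (by decide +kernel)

theorem X2_0_c : P.chainB ns D X2_0_vs [[632], [634]] = true :=
  zc492

theorem X2_0_o : prodL X2_0_vs 1 = 192 := by decide +kernel

theorem X2_0_lb (c : Ctx P e gs ns D chk) :
    LB (subW gs [[632], [634]]) 192 :=
  c.lb X2_0_c X2_0_o

theorem X2_0_card (c : Ctx P e gs ns D chk) :
    Nat.card (subW gs [[632], [634]]) = 192 :=
  (X2_0_ub c).card_eq (X2_0_lb c)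

theorem cX2_0G_c : P.chainB ns D cX2_0G_vs [[514], [516]] = true :=
  zc495

theorem cX2_0G_o : prodL cX2_0G_vs 1 = 20160 := by decide +kernel

theorem cX2_0 (c : Ctx P e gs ns D chk) :
    (subW gs [[514], [516]]) ⊓ Subgroup.centralizer (subW gs [[608]] : Set G) = (subW gs [[632], [634]]) :=
  c.cent (lx := [[608]]) (c.rels _ zr498) (c.sOk (c.exact cX2_0G_c cX2_0G_o (D2_ub c)) zs496) (fun _ h => by cases h)
    (c.fixX zf494) (c.rels _ zr501) zm502 zs500

theorem X2_1_pr (c : Ctx P e gs ns D chk) :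
    Rels gs (pcsR X2_1_ps []) :=
  (c.rels _ zr504)

theorem X2_1_pe (c : Ctx P e gs ns D chk) :
    Rels gs (defRels zE503) :=
  (c.rels _ zr505)

theorem X2_1_pb : bnd (pcsB D X2_1_ps []) (leB (app D zE503) [[678], [680]] (pcGens X2_1_ps [])) = true := zb506

theorem X2_1_ub (c : Ctx P e gs ns D chk) :
    UB (subW gs [[678], [680]]) 96 :=
  c.pcs (UB.nil gs) (X2_1_pe c) (X2_1_pr c) X2_1_pb (by decide +kernel)

theorem X2_1_c : P.chainB ns D X2_1_vs [[678], [680]] = true :=
  zc507

theorem X2_1_o : prodL X2_1_vs 1 = 96 := by decide +kernel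

theorem X2_1_lb (c : Ctx P e gs ns D chk) :
    LB (subW gs [[678], [680]]) 96 :=
  c.lb X2_1_c X2_1_o

theorem X2_1_card (c : Ctx P e gs ns D chk) :
    Nat.card (subW gs [[678], [680]]) = 96 :=
  (X2_1_ub c).card_eq (X2_1_lb c)

theorem cX2_1G_c : P.chainB ns D cX2_1G_vs [[514], [516]] = true :=
  zc510

theorem cX2_1G_o : prodL cX2_1G_vs 1 = 20160 := by decide +kernel

theorem cX2_1 (c : Ctx P e gs ns D chk) :
    (subW gs [[514], [516]]) ⊓ Subgroup.centralizer (subW gs [[630]] : Set G) = (subW gs [[678], [680]]) :=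
  c.cent (lx := [[630]]) (c.rels _ zr513) (c.sOk (c.exact cX2_1G_c cX2_1G_o (D2_ub c)) zs511) (fun _ h => by cases h)
    (c.fixX zf509) (c.rels _ zr516) zm517 zs515

theorem row2 (c : Ctx P e gs ns D chk) :
    Row True (subW gs [[0], [2]]) (wordG gs [210]) :=
  have := (D2_ub c).1
  have := CL.Std.A8.simple
  row_cmp (dd (cC2 c) (cm2 c)) (iso2 c).some.isSimpleGroup
    (w_of (c.mem zm523) (c.mem zm522) (c.mem zm521) (c.mem zm520) (c.mem zm519)
      (e1_2 c) (e0_2 c) (e2_2 c) (e3_2 c) (e4_2 c) (e5_2 c) (e6_2 c) (e8_2 c) (e7_2 c) (st_two (e7_2 c) (e9_2 c) ((w2__cls c).up (by norm_num) (k := 6) (D2_card c) (by decide +kernel) (P2_card c) (P2_le c)) (c.mem zm518) (cX2_0 c) (X2_0_card c) (cX2_1 c) (X2_1_card c) (by norm_num)))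

theorem cC3G_c : P.chainB ns D cC3G_vs [[0], [2]] = true :=
  zc525

theorem cC3G_o : prodL cC3G_vs 1 = 44352000 := by decide +kernel

theorem cC3 (c : Ctx P e gs ns D chk) :
    (subW gs [[0], [2]]) ⊓ Subgroup.centralizer (subW gs [[212]] : Set G) = (subW gs [[714], [716], [718], [720]]) :=
  c.cent (lx := [[212]]) (Rels.nil _) (c.sOk (c.exact cC3G_c cC3G_o (GM_ub c)) zs526) (fun _ h => by cases h)
    (c.fixX zf524) (c.rels _ zr529) zm530 zs528

theorem D3_u4 (c : Ctx P e gs ns D chk) :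
    UB (subW gs [[766]]) 2 :=
  (c.pc_step (UB.nil gs) (Rels.nil _)
    (c.rels _ zr534) zb533).le (by decide)

theorem D3_u3 (c : Ctx P e gs ns D chk) :
    UB (subW gs [[766], [768]]) 4 :=
  (c.pc_step (D3_u4 c) (Rels.nil _)
    (c.rels _ zr538) zb537).le (by decide)

theorem D3_u2 (c : Ctx P e gs ns D chk) :
    UB (subW gs [[762], [764]]) 8 :=
  (c.pc_step (D3_u3 c) (c.rels _ zr544)
    (c.rels _ zr543) zb542).le (by decide)

theorem D3_u1 (c : Ctx P e gs ns D chk) :
    UB (subW gs [[758], [760]]) 24 :=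
  (c.sch_step (D3_u2 c)
    (c.rels _ zr548) zb547).le (by decide)

theorem D3_u0 (c : Ctx P e gs ns D chk) :
    UB (subW gs [[754], [756]]) 360 :=
  (c.sch_step (D3_u1 c)
    (c.rels _ zr552) zb551).le (by decide)

theorem D3_ub (c : Ctx P e gs ns D chk) :
    UB (subW gs [[754], [756]]) 360 :=
  (D3_u0 c)

theorem D3_c : P.chainB ns D D3_vs [[754], [756]] = true :=
  zc553

theorem D3_o : prodL D3_vs 1 = 360 := by decide +kernel

theorem D3_ex (c : Ctx P e gs ns D chk) :
    Exact e P.n P.N gs ns 1 D3_vs [[754], [756]] :=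
  c.exact D3_c D3_o (D3_ub c)

theorem D3_card (c : Ctx P e gs ns D chk) :
    Nat.card (subW gs [[754], [756]]) = 360 :=
  (D3_ex c).card.trans D3_o

theorem cm3_c_le (c : Ctx P e gs ns D chk) :
    (subW gs [[770], [772]]) ≤ ⁅(subW gs [[714], [716], [718], [720]]), (subW gs [[714], [716], [718], [720]])⁆ :=
  c.le_commutator (ps := zps554) (c.rels _ zr556) zm555

theorem cm3 (c : Ctx P e gs ns D chk) :
    ⁅(subW gs [[714], [716], [718], [720]]), (subW gs [[714], [716], [718], [720]])⁆ = (subW gs [[754], [756]]) :=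
  have hfin : Finite (subW gs [[754], [756]]) := (D3_ub c).1
  le_antisymm (commutator_subW_le (c.le_normalizer (cj := zcj566) hfin (c.rels _ zr568) zm567) (c.le_normalizer (cj := zcj563) hfin (c.rels _ zr565) zm564)
    (c.le_of_rels (ws := (comWs [[714], [716], [718], [720]] [[714], [716], [718], [720]])) (l := [[754], [756]]) (c.rels _ zr562) zm561)) ((c.le_of_rels (ws := [[754], [756]]) (l := [[770], [772]]) (c.rels _ zr559) zm558).trans (cm3_c_le c))

theorem iso3_r_T {Γ Y : Type*} [Group Γ] [MulAction Γ Y] {e' : ℕ → Y} {cs : List Γ} {D₁ D₂ : List (ℕ × List ℕ)}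
    {k₁ k₂ : List (List ℕ × List ℕ) → Bool} (c : Ctx CL.Q49M.HS.P e gs CL.Q49M.HS.ns D₁ k₁) (c' : Ctx CL.Q49M.HSAux3.T.P e' cs CL.Q49M.HSAux3.T.ns D₂ k₂)
    (hF : Faithful e' CL.Q49M.HSAux3.T.P.n (subW cs [[0], [2]])) :
    RelLe gs [[788], [790]] cs [[0], [2]] :=
  c.relLe (K := zK570) c' hF zl571 (fun (t : ℕ) (ht : t < 1) => match t, ht with
    | 0, _ => zl572
    | t + 1, h => absurd h (by omega))

theorem iso3_r {Γ Y : Type*} [Group Γ] [MulAction Γ Y] {e' : ℕ → Y} {cs : List Γ} {D₁ D₂ : List (ℕ × List ℕ)}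
    {k₁ k₂ : List (List ℕ × List ℕ) → Bool} (c : Ctx CL.Q49M.HS.P e gs CL.Q49M.HS.ns D₁ k₁) (c' : Ctx CL.Std.A6.P e' cs CL.Std.A6.ns D₂ k₂)
    (hF : Faithful e' CL.Std.A6.P.n (subW cs [[0], [2]])) :
    RelLe gs [[788], [790]] cs [[0], [2]] :=
  (iso3_r_T c CL.Q49M.HSAux3.T.c1 ((faithful_eF _).mono le_top)).trans (CL.Q49M.HSAux3.S.rel c' hF)

theorem iso3_e (c : Ctx P e gs ns D chk) :
    subW gs (app [[788], [790]] []) = (subW gs [[754], [756]]) :=
  le_antisymm (c.le_of_rels (ws := [[788], [790]]) (l := [[754], [756]]) (c.rels _ zr578) zm577) (c.le_of_rels (ws := [[754], [756]]) (l := [[788], [790]]) (c.rels _ zr575) zm574)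

theorem iso3 (c : Ctx P e gs ns D chk) :
    Nonempty ((subW gs [[754], [756]]) ≃* (subW CL.Std.A6.gs1 [[0], [2]])) :=
  (RelLe.quo' (l := [[788], [790]]) (lQ := []) (iso3_r c CL.Std.A6.c1 ((faithful_eF _).mono le_top)) (by decide) (iso3_e c) (a := 1) (b := 360) (D3_ub c)
    (LB.one _) (LB.of_card CL.Std.A6.card)).equiv_nil

theorem e1_3 (c : Ctx P e gs ns D chk) :
    wordG gs [806, 212] = wordG gs [212, 810, 806] :=
  c.eq zr579

theorem e0_3 (c : Ctx P e gs ns D chk) :
    wordG gs [810, 212] = wordG gs [212, 810] :=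
  c.eq zr580

theorem e2_3 (c : Ctx P e gs ns D chk) :
    wordG gs [808, 810] = wordG gs [810, 766, 808] :=
  c.eq zr581

theorem e3_3 (c : Ctx P e gs ns D chk) :
    wordG gs [812, 812] = wordG gs [766] :=
  c.eq zr582

theorem e4_3 (c : Ctx P e gs ns D chk) :
    wordG gs [814, 814] = wordG gs [766] :=
  c.eq zr583

theorem e5_3 (c : Ctx P e gs ns D chk) :
    wordG gs [812, 806] = wordG gs [806, 812] :=
  c.eq zr584

theorem e6_3 (c : Ctx P e gs ns D chk) :
    wordG gs [816, 808] = wordG gs [808, 806] :=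
  c.eq zr585

theorem e8_3 (c : Ctx P e gs ns D chk) :
    wordG gs [814, 816] = wordG gs [816, 814] :=
  c.eq zr586

theorem e9_3 (c : Ctx P e gs ns D chk) :
    wordG gs [766, 766] = wordG gs [] :=
  c.eq zr587

theorem e7_3 (c : Ctx P e gs ns D chk) :
    (wordG gs [766]) ≠ 1 :=
  c.ne_one zn588

theorem P3_c : P.chainB ns D P3_vs [[766], [818], [820]] = true :=
  zc589

theorem P3_o : prodL P3_vs 1 = 8 := by decide +kernel

theorem P3_lb (c : Ctx P e gs ns D chk) :
    LB (subW gs [[766], [818], [820]]) 8 :=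
  c.lb P3_c P3_o

theorem P3_pr (c : Ctx P e gs ns D chk) :
    Rels gs (pcsR P3_ps []) :=
  (c.rels _ zr590)

theorem P3_pe (c : Ctx P e gs ns D chk) :
    Rels gs (defRels []) :=
  (Rels.nil _)

theorem P3_pb : bnd (pcsB D P3_ps []) (leB (app D []) [[766], [818], [820]] (pcGens P3_ps [])) = true := zb591

theorem P3_ub (c : Ctx P e gs ns D chk) :
    UB (subW gs [[766], [818], [820]]) 8 :=
  c.pcs (UB.nil gs) (P3_pe c) (P3_pr c) P3_pb (by decide +kernel)

theorem P3_card (c : Ctx P e gs ns D chk) :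
    Nat.card (subW gs [[766], [818], [820]]) = 8 :=
  (P3_ub c).card_eq (P3_lb c)

theorem w3__le0 (c : Ctx P e gs ns D chk) :
    (subW gs [[766], [818], [820]]) ≤ (subW gs [[754], [756]]) :=
  (c.le_of_rels (ws := [[766], [818], [820]]) (l := [[754], [756]]) (c.rels _ zr597) zm596)

theorem w3_0 (c : Ctx P e gs ns D chk) :
    Cov 2 (subW gs [[766], [818], [820]]) (subW gs [[754], [756]]) gs w3_0_R (subW gs [[818], [820]]) :=
  Cov.step' (q := 2) (g := [766]) c.defs (by norm_num) (Cov.init 2 (subW gs [[766], [818], [820]]) (subW gs [[754], [756]]) gs)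
    (pc_lvl' c.defs (P3_pr c) P3_pb (P3_lb c) 0 (by decide +kernel))
    (c.le_normalizer (cj := zcj598) (((P3_ub c).mono (c.le zm601)).1) (c.rels _ zr600) zm599) (w3__le0 c)
    (c.rels _ zr593) zb594 zq592

theorem w3_1 (c : Ctx P e gs ns D chk) :
    Cov 2 (subW gs [[766], [818], [820]]) (subW gs [[754], [756]]) gs w3_1_R (subW gs [[820]]) :=
  Cov.step' (q := 2) (g := [818]) c.defs (by norm_num) (w3_0 c)
    (pc_lvl' c.defs (P3_pr c) P3_pb (P3_lb c) 1 (by decide +kernel))
    (c.le_normalizer (cj := zcj605) (((P3_ub c).mono (c.le zm608)).1) (c.rels _ zr607) zm606) (w3__le0 c)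
    (c.rels _ zr603) zb604 zq602

theorem w3_2 (c : Ctx P e gs ns D chk) :
    Cov 2 (subW gs [[766], [818], [820]]) (subW gs [[754], [756]]) gs w3_2_R (subW gs []) :=
  Cov.step' (q := 2) (g := [820]) c.defs (by norm_num) (w3_1 c)
    (pc_lvl' c.defs (P3_pr c) P3_pb (P3_lb c) 2 (by decide +kernel))
    (le_normalizer_nil gs _) (w3__le0 c)
    (c.rels _ zr610) zb611 zq609

theorem w3_3 (c : Ctx P e gs ns D chk) :
    Cov 2 (subW gs [[766], [818], [820]]) (subW gs [[754], [756]]) gs w3_3_R (subW gs []) :=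
  Cov.fuse c.defs (w3_2 c) (le_normalizer_nil gs _) (c.le zm614)
    (c.rels _ zr612) zb613

theorem w3__cls (c : Ctx P e gs ns D chk) :
    Cls 2 (subW gs [[766], [818], [820]]) (subW gs [[754], [756]]) gs [[], [766]] :=
  (w3_3 c).cls

theorem P3_le (c : Ctx P e gs ns D chk) :
    (subW gs [[766], [818], [820]]) ≤ (subW gs [[754], [756]]) :=
  (c.le_of_rels (ws := [[766], [818], [820]]) (l := [[754], [756]]) (c.rels _ zr617) zm616)

theorem row3 (c : Ctx P e gs ns D chk) :
    Row True (subW gs [[0], [2]]) (wordG gs [212]) :=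
  have := (D3_ub c).1
  have := CL.Std.A6.simple
  row_cmp (dd (cC3 c) (cm3 c)) (iso3 c).some.isSimpleGroup
    (w_of (c.mem zm622) (c.mem zm621) (c.mem zm620) (c.mem zm619) (c.mem zm618)
      (e1_3 c) (e0_3 c) (e2_3 c) (e3_3 c) (e4_3 c) (e5_3 c) (e6_3 c) (e8_3 c) (e7_3 c) (st_one (e7_3 c) (e9_3 c) ((w3__cls c).up (by norm_num) (k := 3) (D3_card c) (by decide +kernel) (P3_card c) (P3_le c))))

theorem tb (c : Ctx P e gs ns D chk) :
    Tb True (subW gs [[0], [2], [4]]) (subW gs [[0], [2]]) :=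
  have := (GA_ub c).1
  tb_of ((v_cls c).up (by norm_num) (k := 10) (GA_card c) (by decide +kernel) (T_card c) (T_le c))
    (List.forall_mem_cons.2 ⟨row0 c, (List.forall_mem_cons.2 ⟨row1 c, (List.forall_mem_cons.2 ⟨row2 c, (List.forall_mem_cons.2 ⟨row3 c, fun _ h => by cases h⟩)⟩)⟩)⟩)

theorem md (c : Ctx P e gs ns D chk) :
    Md True (subW gs [[0], [2], [4]]) (subW gs [[0], [2]]) 44352000 :=
  ⟨(c.le zm623), GM_card c, (GA_card c).trans (by norm_num), by norm_num, (cL c).trans (subW_nil _), tb c, gam c⟩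

theorem isoM_r_T {Γ Y : Type*} [Group Γ] [MulAction Γ Y] {e' : ℕ → Y} {cs : List Γ} {D₁ D₂ : List (ℕ × List ℕ)}
    {k₁ k₂ : List (List ℕ × List ℕ) → Bool} (c : Ctx CL.Q49M.HS.P e gs CL.Q49M.HS.ns D₁ k₁) (c' : Ctx CL.Q49M.HSAuxM.T.P e' cs CL.Q49M.HSAuxM.T.ns D₂ k₂)
    (hF : Faithful e' CL.Q49M.HSAuxM.T.P.n (subW cs [[0], [2]])) :
    RelLe gs [[822], [824]] cs [[0], [2]] :=
  c.relLe (K := zK625) c' hF zl626 (fun (t : ℕ) (ht : t < 1) => match t, ht with
    | 0, _ => zl627
    | t + 1, h => absurd h (by omega))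

theorem isoM_r {Γ Y : Type*} [Group Γ] [MulAction Γ Y] {e' : ℕ → Y} {cs : List Γ} {D₁ D₂ : List (ℕ × List ℕ)}
    {k₁ k₂ : List (List ℕ × List ℕ) → Bool} (c : Ctx CL.Q49M.HS.P e gs CL.Q49M.HS.ns D₁ k₁) (c' : Ctx CL.Std.HS.P e' cs CL.Std.HS.ns D₂ k₂)
    (hF : Faithful e' CL.Std.HS.P.n (subW cs [[0], [2]])) :
    RelLe gs [[822], [824]] cs [[0], [2]] :=
  (isoM_r_T c CL.Q49M.HSAuxM.T.c1 ((faithful_eF _).mono le_top)).trans (CL.Q49M.HSAuxM.S.rel c' hF)

theorem isoM_e (c : Ctx P e gs ns D chk) :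
    subW gs (app [[822], [824]] []) = (subW gs [[0], [2]]) :=
  le_antisymm (c.le_of_rels (ws := [[822], [824]]) (l := [[0], [2]]) (c.rels _ zr633) zm632) (c.le_of_rels (ws := [[0], [2]]) (l := [[822], [824]]) (c.rels _ zr630) zm629)

theorem isoM (c : Ctx P e gs ns D chk) :
    Nonempty ((subW gs [[0], [2]]) ≃* (subW CL.Std.HS.gs1 [[0], [2]])) :=
  (RelLe.quo' (l := [[822], [824]]) (lQ := []) (isoM_r c CL.Std.HS.c1 ((faithful_eF _).mono le_top)) (by decide) (isoM_e c) (a := 1) (b := 44352000) (GM_ub c)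
    (LB.one _) (LB.of_card CL.Std.HS.card)).equiv_nil


end CL.Q49M.HS
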