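/-
Auxiliary models.
Generated by tools/pg.
-/
import Cfsg.Agent.Spor.PGSub

set_option autoImplicit false
set_option maxRecDepth 200000
set_option Elab.async false
set_option linter.unusedVariables false

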