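/-
Involutions of Aut(J2) and their centralisers.
Generated by tools/pg.
-/
import Cfsg.Agent.Q49.TbA
import Cfsg.Agent.Spor.StdSym
import Cfsg.Agent.Spor.StdCore
import Cfsg.Agent.Spor.StdL32
import Cfsg.Agent.Spor.StdJ2
import Cfsg.Agent.Q49.MJ2A
import Cfsg.Agent.Spor.PGCtx

set_option autoImplicit false
set_option maxRecDepth 200000
set_option Elab.async false
set_option linter.unusedVariables false

namespace CL.Q49M.J2
open CL.PG

def P : Par := ⟨100, 128, 7, 3⟩
theorem hP : P.Ok := by decide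
noncomputable def a0 : Net := (.cons 64 (nat_lit 0xa1e5f2781b998d54)
 (.cons 32 (nat_lit 0x83016ff600000000af009123)
 (.cons 16 (nat_lit 0xee5a00009a5f0000ce8c00003e1d)
 (.cons 8 (nat_lit 0x510012002300d000bc00c00062005d)
 (.cons 4 (nat_lit 0xf0c0a0004020807000401020c020504)
 (.cons 2 (nat_lit 0x13200230211000102332022222130312)
 (.cons 1 (nat_lit 0x44450110504010101140044104050001)
 (.cons 2 (nat_lit 0x2000000002020202200000002000000)
 (.cons 4 (nat_lit 0x20a020000080008040000080a000c)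
 (.cons 8 (nat_lit 0x9000120004009800b400c800680042)
 (.cons 16 (nat_lit 0xec1a0000aa700000c68c00007c12)
 (.cons 32 (nat_lit 0x3e14d9a00000000e3129820)
 (.cons 64 (nat_lit 0xa1e5f279223ac44a)
 .nil)))))))))))))
noncomputable def a1 : Net := (.cons 64 (nat_lit 0xd20401776ba27aea)
 (.cons 32 (nat_lit 0x2d4f1dbe00000000d806ca37)
 (.cons 16 (nat_lit 0x25ff000050f80000243000004000)
 (.cons 8 (nat_lit 0xe5007900180011008200e2000f00c9)
 (.cons 4 (nat_lit 0xd04080202000607070f080202050c00)
 (.cons 2 (nat_lit 0x30100102102003200112203200102201)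
 (.cons 1 (nat_lit 0x50404015404014514045141001141004)
 (.cons 2 (nat_lit 0x202022002000002002022000)
 (.cons 4 (nat_lit 0xc0008000a0404040a06080800000a08)
 (.cons 8 (nat_lit 0x30007c0018003000f200cc004400c2)
 (.cons 16 (nat_lit 0x24b2000052c80000282c00004c82)
 (.cons 32 (nat_lit 0xff4b1dfe00000000d0b4acb6)
 (.cons 64 (nat_lit 0xd2040177792be3d8)
 .nil)))))))))))))
noncomputable def a2 : Net := (.cons 64 (nat_lit 0x24e30480812a604)
 (.cons 32 (nat_lit 0x67200018000000008b4a2918)
 (.cons 16 (nat_lit 0xc4a000004f6000002e30)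
 (.cons 8 (nat_lit 0xc00700084000000e8000400400080)
 (.cons 4 (nat_lit 0x4060003080c010c00060a000c010a06)
 (.cons 2 (nat_lit 0x20001000020220022203023302200320)
 (.cons 1 (nat_lit 0x45000011441011400410440040404514)
 (.cons 2 (nat_lit 0x20000000020002000200200000200020)
 (.cons 4 (nat_lit 0x400000008080a08080e04000c000a00)
 (.cons 8 (nat_lit 0xc0070008400000040000400400080)
 (.cons 16 (nat_lit 0xc4a000004e6000002e30)
 (.cons 32 (nat_lit 0x67200018000000008b4a2918)
 (.cons 64 (nat_lit 0x24e30400812a640)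
 .nil)))))))))))))
noncomputable def a3 : Net := (.cons 64 (nat_lit 0x1b93ba967f44d4b4)
 (.cons 32 (nat_lit 0xdbdd00140000000086e60fa8)
 (.cons 16 (nat_lit 0x250000012980000438200001954)
 (.cons 8 (nat_lit 0x9d0008003d008700e0004e0044000c)
 (.cons 4 (nat_lit 0x6000a00000f0c090408080e00010a08)
 (.cons 2 (nat_lit 0x1222012003030020122022130100132)
 (.cons 1 (nat_lit 0x54111041104044140104444500104104)
 (.cons 2 (nat_lit 0x200000000020000000020000000002)
 (.cons 4 (nat_lit 0x20800080204020c04000c0000040208)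
 (.cons 8 (nat_lit 0x1c000800240046000200060004005c)
 (.cons 16 (nat_lit 0x1848000034980000010a00006954)
 (.cons 32 (nat_lit 0xc1dd920e00000000a6aa4ea8)
 (.cons 64 (nat_lit 0x1b93ba9acf5f2560)
 .nil)))))))))))))
noncomputable def a4 : Net := (.cons 64 (nat_lit 0xf9aaa3596ccee838)
 (.cons 32 (nat_lit 0xb8208471000000000bcb9024)
 (.cons 16 (nat_lit 0xbd2a0000bc85000054dd0000fb8c)
 (.cons 8 (nat_lit 0x88000f00e700220009009000dc00d4)
 (.cons 4 (nat_lit 0x202020c0b0b0d0e030c040e0600020c)
 (.cons 2 (nat_lit 0x2002322030222201202102330221202)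
 (.cons 1 (nat_lit 0x41001414114111411141400411410414)
 (.cons 2 (nat_lit 0x2222202222000202000020220200)
 (.cons 4 (nat_lit 0x6000a0c000a0008060c0c080800040c)
 (.cons 8 (nat_lit 0x880024009c00fa000c009400d000e4)
 (.cons 16 (nat_lit 0xbd280000dec80000505a0000fbac)
 (.cons 32 (nat_lit 0x892a0620000000000ddad080)
 (.cons 64 (nat_lit 0xf9aaa35f6dc17028)
 .nil)))))))))))))
noncomputable def a5 : Net := (.cons 64 (nat_lit 0x83b3151ea2672ef8)
 (.cons 32 (nat_lit 0x4274713000000006c5fc08c)
 (.cons 16 (nat_lit 0xc6960000dca2000084ad000094b8)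
 (.cons 8 (nat_lit 0x140014007c00e200d8004200480004)
 (.cons 4 (nat_lit 0x5060b0a02060004080602000808010c)
 (.cons 2 (nat_lit 0x10200100323020102021020130300102)
 (.cons 1 (nat_lit 0x1411410411151404045040144501100)
 (.cons 2 (nat_lit 0x200000222000002020020220002000)
 (.cons 4 (nat_lit 0x40a02020400000008040408000000)
 (.cons 8 (nat_lit 0x100000007600b200c0004000b000a0)
 (.cons 16 (nat_lit 0xc1960000f4b0000084a000001810)
 (.cons 32 (nat_lit 0x63456000000000020574046)
 (.cons 64 (nat_lit 0x83b3151aa0d73938)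
 .nil)))))))))))))
noncomputable def a6 : Net := (.cons 64 (nat_lit 0x844cc20f0e0ad42c)
 (.cons 32 (nat_lit 0xc1008a1000000000192ae188)
 (.cons 16 (nat_lit 0xe000000e2520000704700001072)
 (.cons 8 (nat_lit 0xca00c40046004600260011003f008e)
 (.cons 4 (nat_lit 0x4040004000a0804030a040a04030a0c)
 (.cons 2 (nat_lit 0x1020010202022301300322032100220)
 (.cons 1 (nat_lit 0x4440001544441100441511004411050)
 (.cons 2 (nat_lit 0x20002000020200202022002220000)
 (.cons 4 (nat_lit 0x404000804000a04040a04000000080a)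
 (.cons 8 (nat_lit 0xc200c00064005600160038002c00a0)
 (.cons 16 (nat_lit 0xe00000056d8000040d4000022e4)
 (.cons 32 (nat_lit 0x41048810000000001bb9d59a)
 (.cons 64 (nat_lit 0x844cc2056c290624)
 .nil)))))))))))))
noncomputable def a7 : Net := (.cons 64 (nat_lit 0xb28d7feeb3bdb0c)
 (.cons 32 (nat_lit 0x7e72135f00000000a3680546)
 (.cons 16 (nat_lit 0xa5ca0000416c0000174b00005ec4)
 (.cons 8 (nat_lit 0x160054004a009900b4001e006600a0)
 (.cons 4 (nat_lit 0xd0e060a000404090d0800050603000e)
 (.cons 2 (nat_lit 0x3102102002022003100030230101022)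
 (.cons 1 (nat_lit 0x5044014404540144401010410000404)
 (.cons 2 (nat_lit 0x2022000020002000000000000000)
 (.cons 4 (nat_lit 0xc0404080802040a0800000006000800)
 (.cons 8 (nat_lit 0x46001400c2009000f0001400640028)
 (.cons 16 (nat_lit 0xb08000004a640000174200004ec6)
 (.cons 32 (nat_lit 0x7e52406800000000a728054a)
 (.cons 64 (nat_lit 0xb28d7f225a8890c)
 .nil)))))))))))))
noncomputable def a8 : Net := (.cons 64 (nat_lit 0xa529d308f9d2380)
 (.cons 32 (nat_lit 0x4e17e50d0000000043ddb05a)
 (.cons 16 (nat_lit 0x512e00000edc000037470000480c)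
 (.cons 8 (nat_lit 0x6200ec009400e20060001c00b1004e)
 (.cons 4 (nat_lit 0xf0400000e0a0100060d0c010e07020c)
 (.cons 2 (nat_lit 0x2010023300230220201223003100302)
 (.cons 1 (nat_lit 0x54040005505411101401411004410404)
 (.cons 2 (nat_lit 0x2000000000202200202022000220200)
 (.cons 4 (nat_lit 0xa0000060c000a00060400040a0c0008)
 (.cons 8 (nat_lit 0x7600e80094006200a0000800900000)
 (.cons 16 (nat_lit 0x552c00001efc0000f51a0000008c)
 (.cons 32 (nat_lit 0x4405f13c00000000a3fcd014)
 (.cons 64 (nat_lit 0xa529d32db3e078c)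
 .nil)))))))))))))
noncomputable def a9 : Net := (.cons 64 (nat_lit 0x2ccbadebcb0c4d14)
 (.cons 32 (nat_lit 0x7757bba100000000f77ee002)
 (.cons 16 (nat_lit 0x8c7d000001190000440800001358)
 (.cons 8 (nat_lit 0x9c004c00c200280032009000d1004e)
 (.cons 4 (nat_lit 0xe07060b040904000c080201050b000a)
 (.cons 2 (nat_lit 0x2022123202000030300220001100320)
 (.cons 1 (nat_lit 0x44544401450044451550440404410450)
 (.cons 2 (nat_lit 0x20022002000020000000220000000200)
 (.cons 4 (nat_lit 0x806060a0000080c0c0a00080406000a)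
 (.cons 8 (nat_lit 0x9c0050004a0024006000900040004c)
 (.cons 16 (nat_lit 0x8334000009720000440c00001b4c)
 (.cons 32 (nat_lit 0x7f9d962800000000f55ea00a)
 (.cons 64 (nat_lit 0x2ccbade3d99f0d50)
 .nil)))))))))))))
noncomputable def a10 : Net := (.cons 64 (nat_lit 0x209b264043b05008)
 (.cons 32 (nat_lit 0x3203224000000000794dc810)
 (.cons 16 (nat_lit 0x30980000f8920000a88400003450)
 (.cons 8 (nat_lit 0x2001400260088006c00a000640046)
 (.cons 4 (nat_lit 0x20c090d0e0c080c000905060208)
 (.cons 2 (nat_lit 0x212211220302002000222000220)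
 (.cons 1 (nat_lit 0x11400114105010441000440001110)
 (.cons 2 (nat_lit 0x200020200000002000220000220)
 (.cons 4 (nat_lit 0x20c02040e0c080c000004000208)
 (.cons 8 (nat_lit 0x20014003a0088002c008000640002)
 (.cons 16 (nat_lit 0x30900000f8920000a88400003450)
 (.cons 32 (nat_lit 0x3203020000000000794dc810)
 (.cons 64 (nat_lit 0x209b264043b01008)
 .nil)))))))))))))
noncomputable def a11 : Net := (.cons 64 (nat_lit 0xc828458cfb944180)
 (.cons 32 (nat_lit 0x8cc8d000000000006d002400)
 (.cons 16 (nat_lit 0x55080000020a0000cc4100009948)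
 (.cons 8 (nat_lit 0x6000c0000e0045001c000800d00008)
 (.cons 4 (nat_lit 0xc08000c0c0300080c040602030a0004)
 (.cons 2 (nat_lit 0x1000002200002201202000000200220)
 (.cons 1 (nat_lit 0x10000044450004000040000055050110)
 (.cons 2 (nat_lit 0x2200002000000000000000220)
 (.cons 4 (nat_lit 0x400000c0c0000080c040000000a0000)
 (.cons 8 (nat_lit 0x60004000060004001c000000d00008)
 (.cons 16 (nat_lit 0x51080000020a0000cc0000008948)
 (.cons 32 (nat_lit 0x8cc8d000000000006d002400)
 (.cons 64 (nat_lit 0xc828458cfb940180)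
 .nil)))))))))))))
noncomputable def a12 : Net := (.cons 64 (nat_lit 0xf9aaa3596ccee838)
 (.cons 32 (nat_lit 0xb8208471000000000bcb9024)
 (.cons 16 (nat_lit 0xbd2a0000bc85000054dd0000fb8c)
 (.cons 8 (nat_lit 0x88000f00e700220009009000dc00d4)
 (.cons 4 (nat_lit 0x202020c0b0b0d0e030c040e0600020c)
 (.cons 2 (nat_lit 0x2002322030222201202102330221202)
 (.cons 1 (nat_lit 0x41001414114111411141400411410414)
 (.cons 2 (nat_lit 0x2222202222000202000020220200)
 (.cons 4 (nat_lit 0x6000a0c000a0008060c0c080800040c)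
 (.cons 8 (nat_lit 0x880024009c00fa000c009400d000e4)
 (.cons 16 (nat_lit 0xbd280000dec80000505a0000fbac)
 (.cons 32 (nat_lit 0x892a0620000000000ddad080)
 (.cons 64 (nat_lit 0xf9aaa35f6dc17028)
 .nil)))))))))))))
noncomputable def a13 : Net := (.cons 64 (nat_lit 0xfc7d8a41b63134d0)
 (.cons 32 (nat_lit 0xfd717b10000000076f1f31c)
 (.cons 16 (nat_lit 0x1cd1000060400000a4bd00008902)
 (.cons 8 (nat_lit 0xab00b300d40008005f00720002004a)
 (.cons 4 (nat_lit 0x50c040c06060200020d020100080500)
 (.cons 2 (nat_lit 0x13303003100002013223003000020030)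
 (.cons 1 (nat_lit 0x15454144044100015041100000004510)
 (.cons 2 (nat_lit 0x20000000020000000022000000000020)
 (.cons 4 (nat_lit 0x2040c02020000040e000000080004)
 (.cons 8 (nat_lit 0x4a003c00840008005c0070000000ca)
 (.cons 16 (nat_lit 0x6b2000000000000c13e0000818c)
 (.cons 32 (nat_lit 0x2bfa97f0000000007571f280)
 (.cons 64 (nat_lit 0xfc7d8a44dc1f6642)
 .nil)))))))))))))
noncomputable def a14 : Net := (.cons 64 (nat_lit 0x32c4504544d5d808)
 (.cons 32 (nat_lit 0x33c2289000000000154a2390)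
 (.cons 16 (nat_lit 0x5a4000008e0000009f860000d98c)
 (.cons 8 (nat_lit 0x800a000c8004c00c5003d000a00c0)
 (.cons 4 (nat_lit 0x408080e0e000808000008080c0b000a)
 (.cons 2 (nat_lit 0x1020221002102000331202220002030)
 (.cons 1 (nat_lit 0x10440010444044414000101415154154)
 (.cons 2 (nat_lit 0x20020002002000000202220002000)
 (.cons 4 (nat_lit 0x408080c00000808000008080c08000a)
 (.cons 8 (nat_lit 0x800a000c8000400c00004000a00c0)
 (.cons 16 (nat_lit 0x5a4000000e0000009f860000d18c)
 (.cons 32 (nat_lit 0x23c2289000000000154a2390)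
 (.cons 64 (nat_lit 0x32c450454455d808)
 .nil)))))))))))))
noncomputable def a15 : Net := (.cons 64 (nat_lit 0x2ccbadebcb0c4d14)
 (.cons 32 (nat_lit 0x7757bba100000000f77ee002)
 (.cons 16 (nat_lit 0x8c7d000001190000440800001358)
 (.cons 8 (nat_lit 0x9c004c00c200280032009000d1004e)
 (.cons 4 (nat_lit 0xe07060b040904000c080201050b000a)
 (.cons 2 (nat_lit 0x2022123202000030300220001100320)
 (.cons 1 (nat_lit 0x44544401450044451550440404410450)
 (.cons 2 (nat_lit 0x20022002000020000000220000000200)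
 (.cons 4 (nat_lit 0x806060a0000080c0c0a00080406000a)
 (.cons 8 (nat_lit 0x9c0050004a0024006000900040004c)
 (.cons 16 (nat_lit 0x8334000009720000440c00001b4c)
 (.cons 32 (nat_lit 0x7f9d962800000000f55ea00a)
 (.cons 64 (nat_lit 0x2ccbade3d99f0d50)
 .nil)))))))))))))
noncomputable def a16 : Net := (.cons 64 (nat_lit 0x8fdcd77279aebd0c)
 (.cons 32 (nat_lit 0x88c94b1100000000b39b48c2)
 (.cons 16 (nat_lit 0x94af0000476e000043b10000c262)
 (.cons 8 (nat_lit 0x8f008d00b200d800d0007500160066)
 (.cons 4 (nat_lit 0x1060408010a0208000d03080a070f04)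
 (.cons 2 (nat_lit 0x2310100312200100003210000303020)
 (.cons 1 (nat_lit 0x4150444111404040004400104400144)
 (.cons 2 (nat_lit 0x2000200022002020002200200200020)
 (.cons 4 (nat_lit 0xc0c000800040a0004040008060a0c)
 (.cons 8 (nat_lit 0x80008800f800f800d0003400100026)
 (.cons 16 (nat_lit 0x9ba200005624000003b80000c266)
 (.cons 32 (nat_lit 0x8c994f0200000000e3bb48c4)
 (.cons 64 (nat_lit 0x8fdcd77eb1397f04)
 .nil)))))))))))))
noncomputable def a17 : Net := (.cons 64 (nat_lit 0xe0609160464e2100)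
 (.cons 32 (nat_lit 0xb9308002000000001b421404)
 (.cons 16 (nat_lit 0xc1220000308400004e8300009628)
 (.cons 8 (nat_lit 0x420030002400a300d6008e00540062)
 (.cons 4 (nat_lit 0x4000809020000000506060009080f0c)
 (.cons 2 (nat_lit 0x20002200022320003130100020011302)
 (.cons 1 (nat_lit 0x15104140544540441044500400401444)
 (.cons 2 (nat_lit 0x20002200022000202020000000000202)
 (.cons 4 (nat_lit 0x400080802000000000606000808000c)
 (.cons 8 (nat_lit 0x4200300024004000c0008c00540062)
 (.cons 16 (nat_lit 0xc1220000308400005c0400009628)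
 (.cons 32 (nat_lit 0xb9308002000000001b421404)
 (.cons 64 (nat_lit 0xe0609160464e2100)
 .nil)))))))))))))
noncomputable def a18 : Net := (.cons 64 (nat_lit 0x885c2d0f60809020)
 (.cons 32 (nat_lit 0xe86438900000000033338420)
 (.cons 16 (nat_lit 0x61040000004c0000e2d00000d9b0)
 (.cons 8 (nat_lit 0x4800280088000c00e2009400ca0034)
 (.cons 4 (nat_lit 0x400040b04080800000802080c0d0e02)
 (.cons 2 (nat_lit 0x1001022122102022002022220220002)
 (.cons 1 (nat_lit 0x100411001004010001540411400150)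
 (.cons 2 (nat_lit 0x22002002020002020220200000)
 (.cons 4 (nat_lit 0x40004000408000000080208080c0202)
 (.cons 8 (nat_lit 0x4000280008000c00a0009400ca0034)
 (.cons 16 (nat_lit 0x61000000000c0000e2d00000d9b0)
 (.cons 32 (nat_lit 0xe86418900000000033338420)
 (.cons 64 (nat_lit 0x885c2d0f60809020)
 .nil)))))))))))))
noncomputable def a19 : Net := (.cons 64 (nat_lit 0x2ecb2de3d99f4d50)
 (.cons 32 (nat_lit 0x80626993000000007fdea14a)
 (.cons 16 (nat_lit 0xe5c300005ede0000ac880000991c)
 (.cons 8 (nat_lit 0xf002400520098003c00d800d00016)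
 (.cons 4 (nat_lit 0x40e04070005040c0c060e0908050e00)
 (.cons 2 (nat_lit 0x1220020230202310102230020001300)
 (.cons 1 (nat_lit 0x5454044414044455514414010501100)
 (.cons 2 (nat_lit 0x2002200000200002220020000200)
 (.cons 4 (nat_lit 0x4000c0c040c000a0804040808080a00)
 (.cons 8 (nat_lit 0x4400080054000c005c005000d00016)
 (.cons 16 (nat_lit 0xeda00000431600000e8400005918)
 (.cons 32 (nat_lit 0xa8a0445e00000000fefea142)
 (.cons 64 (nat_lit 0x2ecb2debcb0c0d14)
 .nil)))))))))))))
noncomputable def a20 : Net := (.cons 64 (nat_lit 0xc828458cfb944180)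
 (.cons 32 (nat_lit 0x8cc8d000000000006d002400)
 (.cons 16 (nat_lit 0x55080000020a0000cc4100009948)
 (.cons 8 (nat_lit 0x6000c0000e0045001c000800d00008)
 (.cons 4 (nat_lit 0xc08000c0c0300080c040602030a0004)
 (.cons 2 (nat_lit 0x1000002200002201202000000200220)
 (.cons 1 (nat_lit 0x10000044450004000040000055050110)
 (.cons 2 (nat_lit 0x2200002000000000000000220)
 (.cons 4 (nat_lit 0x400000c0c0000080c040000000a0000)
 (.cons 8 (nat_lit 0x60004000060004001c000000d00008)
 (.cons 16 (nat_lit 0x51080000020a0000cc0000008948)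
 (.cons 32 (nat_lit 0x8cc8d000000000006d002400)
 (.cons 64 (nat_lit 0xc828458cfb940180)
 .nil)))))))))))))
noncomputable def a21 : Net := (.cons 64 (nat_lit 0xf4d17b9e8f087970)
 (.cons 32 (nat_lit 0x75e053de00000000331fac6a)
 (.cons 16 (nat_lit 0xb3800000712900003e7c00001048)
 (.cons 8 (nat_lit 0x3100e1006e00e6000c008200020090)
 (.cons 4 (nat_lit 0x30d090a0a000006000608080d02000c)
 (.cons 2 (nat_lit 0x10030230111222310203200303021000)
 (.cons 1 (nat_lit 0x10014111411510500104101405400104)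
 (.cons 2 (nat_lit 0x20202202020000200002000000002)
 (.cons 4 (nat_lit 0x20c000806060000000408000c040004)
 (.cons 8 (nat_lit 0x4000680088006c0000008a008200d0)
 (.cons 16 (nat_lit 0xf380000037240000165c00001080)
 (.cons 32 (nat_lit 0x71a001de000000003137ac2a)
 (.cons 64 (nat_lit 0xf4d17b943d4020e8)
 .nil)))))))))))))
noncomputable def a22 : Net := (.cons 64 (nat_lit 0xe170013279596200)
 (.cons 32 (nat_lit 0xfc30404000000000d4a010c0)
 (.cons 16 (nat_lit 0x280000002a7a0000d6a000000a0c)
 (.cons 8 (nat_lit 0xa0002c00ba00e400100024001000ca)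
 (.cons 4 (nat_lit 0x2000206060c090a0a00020d06)
 (.cons 2 (nat_lit 0x1002110000032100202102302012200)
 (.cons 1 (nat_lit 0x10404000100554004000044001104010)
 (.cons 2 (nat_lit 0x2000000002000000002002002000)
 (.cons 4 (nat_lit 0x200040c08080a00020c02)
 (.cons 8 (nat_lit 0xa00024003800e400100024001000c2)
 (.cons 16 (nat_lit 0x280000002a720000d6a000000a0c)
 (.cons 32 (nat_lit 0xbc30404000000000d4a010c0)
 (.cons 64 (nat_lit 0xe170013279496200)
 .nil)))))))))))))
noncomputable def a23 : Net := (.cons 64 (nat_lit 0x20590d1816855a24)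
 (.cons 32 (nat_lit 0x33f83c1800000000ce7419bc)
 (.cons 16 (nat_lit 0x584000080dd0000c8c000003646)
 (.cons 8 (nat_lit 0x46002000a8005a00e8003d005e00c4)
 (.cons 4 (nat_lit 0x60500080c0a0c040f0c020d060a0608)
 (.cons 2 (nat_lit 0x3100222001210022212032002213020)
 (.cons 1 (nat_lit 0x4110110400104014140400440511040)
 (.cons 2 (nat_lit 0x2000220000200022000000000000020)
 (.cons 4 (nat_lit 0x204000a00000c000c0c0604080e0600)
 (.cons 8 (nat_lit 0x56003000a80050002800d4007000c4)
 (.cons 16 (nat_lit 0x584000088940000c3d40000b448)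
 (.cons 32 (nat_lit 0x33e0381000000000145629b8)
 (.cons 64 (nat_lit 0x20590d10520d8a38)
 .nil)))))))))))))
noncomputable def a24 : Net := (.cons 64 (nat_lit 0xd007bc6005656000)
 (.cons 32 (nat_lit 0x6bebbf77000000009ff4528a)
 (.cons 16 (nat_lit 0xd4950000a03a0000ce0600002de8)
 (.cons 8 (nat_lit 0x4a0073001600980038001800ca00a4)
 (.cons 4 (nat_lit 0x30c020506010c0709040c0800000204)
 (.cons 2 (nat_lit 0x21302211200010103020100300102232)
 (.cons 1 (nat_lit 0x54414154001404501110000104014114)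
 (.cons 2 (nat_lit 0x2000000002000000200000220)
 (.cons 4 (nat_lit 0xc0c080800000c0a0a02040808000800)
 (.cons 8 (nat_lit 0x5c007000120018003a0080008000c2)
 (.cons 16 (nat_lit 0xcff00000243c0000ce1e00000560)
 (.cons 32 (nat_lit 0xabe91b7000000000b93c1298)
 (.cons 64 (nat_lit 0xd007bc6f8a982e94)
 .nil)))))))))))))
noncomputable def a25 : Net := (.cons 64 (nat_lit 0xf5b44267420a8066)
 (.cons 32 (nat_lit 0x85b0997700000000b4e53e4e)
 (.cons 16 (nat_lit 0x10f40000a739000036e800006b00)
 (.cons 8 (nat_lit 0xa0002000a800cc0078003e00110018)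
 (.cons 4 (nat_lit 0x20002050800060f0c00080107040c0b)
 (.cons 2 (nat_lit 0x300202302201130202201003013202)
 (.cons 1 (nat_lit 0x1501041144144154411141404041011)
 (.cons 2 (nat_lit 0x2222222000020000202002002)
 (.cons 4 (nat_lit 0x2040004040400080400000806040c00)
 (.cons 8 (nat_lit 0xc400a200a200c8007200280050000a)
 (.cons 16 (nat_lit 0x41e40000c1d6000030a400002300)
 (.cons 32 (nat_lit 0x5124d93c00000000b4a7b6d4)
 (.cons 64 (nat_lit 0xf5b44261926891c8)
 .nil)))))))))))))
noncomputable def a26 : Net := (.cons 64 (nat_lit 0x54cc83886f7dff84)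
 (.cons 32 (nat_lit 0x36bbfde700000000fc24d4c8)
 (.cons 16 (nat_lit 0xaf8000015d600001c0d0000356c)
 (.cons 8 (nat_lit 0x7600ac000a00dd0098000000900018)
 (.cons 4 (nat_lit 0x6090e0108040604080b0c0204010b0a)
 (.cons 2 (nat_lit 0x2001220003021300322101130233020)
 (.cons 1 (nat_lit 0x4451151011004104414404100441000)
 (.cons 2 (nat_lit 0x2202200002000200202000000022000)
 (.cons 4 (nat_lit 0x4020800000406040e000c02040a0808)
 (.cons 8 (nat_lit 0x5800c8000a00d8009600d400900018)
 (.cons 16 (nat_lit 0x1eba000015d60000042800001534)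
 (.cons 32 (nat_lit 0x22bb7d6a000000007d25c492)
 (.cons 64 (nat_lit 0x54cc8388ce422f98)
 .nil)))))))))))))
noncomputable def a27 : Net := (.cons 64 (nat_lit 0xb6b2f677d3cd13cc)
 (.cons 32 (nat_lit 0x7dc154f300000000c2ea42d2)
 (.cons 16 (nat_lit 0xf2880000ea2000008b24000044fc)
 (.cons 8 (nat_lit 0x6a00a60016005f008400d80029009a)
 (.cons 4 (nat_lit 0xd0904040c0a0a010c04030c05080f08)
 (.cons 2 (nat_lit 0x30103022022220020003002322203310)
 (.cons 1 (nat_lit 0x11414054141445140101504041001444)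
 (.cons 2 (nat_lit 0x22022002222220020200002022002200)
 (.cons 4 (nat_lit 0x80202000808000200040a0c04000c08)
 (.cons 8 (nat_lit 0x2000840020005800840098002c00da)
 (.cons 16 (nat_lit 0xb0f800004c1c00008b2c000050f0)
 (.cons 32 (nat_lit 0x6f6192920000000082a742d0)
 (.cons 64 (nat_lit 0xb6b2f67857223f04)
 .nil)))))))))))))
noncomputable def a28 : Net := (.cons 64 (nat_lit 0x94b330b60b3d35b2)
 (.cons 32 (nat_lit 0xbb02e11e00000000e8ef4482)
 (.cons 16 (nat_lit 0x7a080000fcdc0000c8a800002700)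
 (.cons 8 (nat_lit 0x23009b00520084008800ad004c0020)
 (.cons 4 (nat_lit 0x101000a080b080f0a0c0c020b000204)
 (.cons 2 (nat_lit 0x10020022122212212001222130000010)
 (.cons 1 (nat_lit 0x41011005441000144105410411001410)
 (.cons 2 (nat_lit 0x20022000022000200200200020002000)
 (.cons 4 (nat_lit 0x40002000a020c04000408020c000c02)
 (.cons 8 (nat_lit 0x3200b8004200840042002c00080030)
 (.cons 16 (nat_lit 0x7a180000fcec0000406000001744)
 (.cons 32 (nat_lit 0xbba2e10400000000e8e78080)
 (.cons 64 (nat_lit 0x94b330bda134ec24)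
 .nil)))))))))))))
noncomputable def a29 : Net := (.cons 64 (nat_lit 0xd279d550ec79e2c8)
 (.cons 32 (nat_lit 0xe968703c000000003b505000)
 (.cons 16 (nat_lit 0x5e700000d618000038a80000ceea)
 (.cons 8 (nat_lit 0x640021009200890032009000480038)
 (.cons 4 (nat_lit 0x80a0e0f060a0f0b090204010e000200)
 (.cons 2 (nat_lit 0x32032221203201020112200021221002)
 (.cons 1 (nat_lit 0x41441440501414411114040044010100)
 (.cons 2 (nat_lit 0x22020200002200222000020020020000)
 (.cons 4 (nat_lit 0x80a0c0c020e0e06080004000c000600)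
 (.cons 8 (nat_lit 0x24005200c400c20008009000400018)
 (.cons 16 (nat_lit 0xde080000d450000028a80000cee8)
 (.cons 32 (nat_lit 0xbb307028000000003bd05020)
 (.cons 64 (nat_lit 0xd279d551fc31e248)
 .nil)))))))))))))
noncomputable def a30 : Net := (.cons 64 (nat_lit 0x4f024042e6905c80)
 (.cons 32 (nat_lit 0x4f044000000000009d66f840)
 (.cons 16 (nat_lit 0x48020000a2280000d5a10000a496)
 (.cons 8 (nat_lit 0x40040003900c20058003c00d20000)
 (.cons 4 (nat_lit 0x20008000e080800040a0a0c0c0a0a08)
 (.cons 2 (nat_lit 0x21020000222201020010203022232020)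
 (.cons 1 (nat_lit 0x40044001441050441004105440401014)
 (.cons 2 (nat_lit 0x20020000222000020000200020202020)
 (.cons 4 (nat_lit 0x2000800000808000008080c0c0a0808)
 (.cons 8 (nat_lit 0x40040003800c20050002400c20000)
 (.cons 16 (nat_lit 0x48020000a228000054a00000a496)
 (.cons 32 (nat_lit 0x4f044000000000009d66f840)
 (.cons 64 (nat_lit 0x4f024042e6905c80)
 .nil)))))))))))))
noncomputable def a31 : Net := (.cons 64 (nat_lit 0x10c85a438fe08280)
 (.cons 32 (nat_lit 0xe888726400000000184527c8)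
 (.cons 16 (nat_lit 0x1800000000800000c83000002808)
 (.cons 8 (nat_lit 0x80002a00c0001a00b000fa00ba00a0)
 (.cons 4 (nat_lit 0x80002080e000a0106040802040c0c02)
 (.cons 2 (nat_lit 0x30000200020011111002120030201020)
 (.cons 1 (nat_lit 0x401041111410040054044500400014)
 (.cons 2 (nat_lit 0x20020020002020000200020)
 (.cons 4 (nat_lit 0x800020a0a000a040404000004040400)
 (.cons 8 (nat_lit 0x80002a00c0004000b000fa00b800a0)
 (.cons 16 (nat_lit 0x1800000000800000c83000002808)
 (.cons 32 (nat_lit 0xe808726400000000184426c8)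
 (.cons 64 (nat_lit 0x10c85a428fe0a080)
 .nil)))))))))))))
noncomputable def a32 : Net := (.cons 64 (nat_lit 0xcde9338fef0a38cb)
 (.cons 32 (nat_lit 0x408980eb00000000e66bafe0)
 (.cons 16 (nat_lit 0xc4b00006f2500002198000027d0)
 (.cons 8 (nat_lit 0x21009300aa003400c300c2001800de)
 (.cons 4 (nat_lit 0x2040a090b0a0d02090b060304080902)
 (.cons 2 (nat_lit 0x30123320123222330220310222332)
 (.cons 1 (nat_lit 0x41010141410404114544404400140151)
 (.cons 2 (nat_lit 0x20220002002000202000220202)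
 (.cons 4 (nat_lit 0x20c020c02040a0008080008040c0000)
 (.cons 8 (nat_lit 0x60009200380012000600e8001c005e)
 (.cons 16 (nat_lit 0xce2000053a40000c5c8000027c2)
 (.cons 32 (nat_lit 0xcc20806e00000000d47f23e2)
 (.cons 64 (nat_lit 0xcde9338d06ec6f24)
 .nil)))))))))))))
noncomputable def a33 : Net := (.cons 64 (nat_lit 0x970cce2b613cd192)
 (.cons 32 (nat_lit 0x8353c8c9000000008e9ffb4a)
 (.cons 16 (nat_lit 0x1c620000009800009e06000015e0)
 (.cons 8 (nat_lit 0x15009400f600fc00d400c900f400c8)
 (.cons 4 (nat_lit 0x90e000c0f000a03060b0a0901050804)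
 (.cons 2 (nat_lit 0x20210233101022110012021020210210)
 (.cons 1 (nat_lit 0x11014410411404500401440110404110)
 (.cons 2 (nat_lit 0x20000220002200000000200220202200)
 (.cons 4 (nat_lit 0x80e00000e000808000a000000000006)
 (.cons 8 (nat_lit 0x18005200c2007000d4004000e400e8)
 (.cons 16 (nat_lit 0x9e60000004b800007e1800003410)
 (.cons 32 (nat_lit 0x8057ccc200000000ae9deb06)
 (.cons 64 (nat_lit 0x970cce28aab2217c)
 .nil)))))))))))))
noncomputable def a34 : Net := (.cons 64 (nat_lit 0x9489901217198420)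
 (.cons 32 (nat_lit 0x53a0f9100000000028e40224)
 (.cons 16 (nat_lit 0x2228000020880000014000005558)
 (.cons 8 (nat_lit 0x4800440010009800800022009800fc)
 (.cons 4 (nat_lit 0xc04080a000d0c0b0802040807060a0c)
 (.cons 2 (nat_lit 0x2012330202332002202002100200102)
 (.cons 1 (nat_lit 0x51001001141550040114000015114040)
 (.cons 2 (nat_lit 0x2002000202000000202000000200000)
 (.cons 4 (nat_lit 0xc04080a00040c080802000800020808)
 (.cons 8 (nat_lit 0x4800440010009800800020009800a4)
 (.cons 16 (nat_lit 0x2228000020880000010000001150)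
 (.cons 32 (nat_lit 0x53a0f9100000000028e40224)
 (.cons 64 (nat_lit 0x9489901217198420)
 .nil)))))))))))))
noncomputable def a35 : Net := (.cons 64 (nat_lit 0x22200911d4d65042)
 (.cons 32 (nat_lit 0x322400240000000054c39e42)
 (.cons 16 (nat_lit 0x10040000b95800007a0800000498)
 (.cons 8 (nat_lit 0x8009800270090004600a400e6)
 (.cons 4 (nat_lit 0x100050b06020c0104000e040802)
 (.cons 2 (nat_lit 0x2332023210200220110020222)
 (.cons 1 (nat_lit 0x10001141145004140004111110)
 (.cons 2 (nat_lit 0x222200000220000020220)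
 (.cons 4 (nat_lit 0x2040c0000000c000802)
 (.cons 8 (nat_lit 0x80098006a0090004600a400a0)
 (.cons 16 (nat_lit 0x10000000b91800003a4800000498)
 (.cons 32 (nat_lit 0x322400240000000054c19e42)
 (.cons 64 (nat_lit 0x2220091554965000)
 .nil)))))))))))))
noncomputable def a36 : Net := (.cons 64 (nat_lit 0xd1cd06060a2f11d2)
 (.cons 32 (nat_lit 0x83acfd38000000006d4ae17a)
 (.cons 16 (nat_lit 0x3513000084c500004aaa000030e8)
 (.cons 8 (nat_lit 0xc900820044008000020049003c00e2)
 (.cons 4 (nat_lit 0xa0708080202080c06000d0a08090d0e)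
 (.cons 2 (nat_lit 0x11103020022302020220221022233010)
 (.cons 1 (nat_lit 0x40411001010100050110145010415114)
 (.cons 2 (nat_lit 0x202002000200000000200020220000)
 (.cons 4 (nat_lit 0x8000800020608080000040c0a0e0608)
 (.cons 8 (nat_lit 0xfa0082000800800022005000be00d6)
 (.cons 16 (nat_lit 0x65320000848a000043f8000034ca)
 (.cons 32 (nat_lit 0xc320fd38000000006b7aa8bc)
 (.cons 64 (nat_lit 0xd1cd060da026c844)
 .nil)))))))))))))
noncomputable def a37 : Net := (.cons 64 (nat_lit 0xd0db061e00432000)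
 (.cons 32 (nat_lit 0x99f0803200000000f6100480)
 (.cons 16 (nat_lit 0x48500000b8180000d2800000a800)
 (.cons 8 (nat_lit 0x80006000320091000000f400860000)
 (.cons 4 (nat_lit 0x10b0a040005030f0208040e000a0000)
 (.cons 2 (nat_lit 0x213122012230000030200231032)
 (.cons 1 (nat_lit 0x4405004444014114051405000154)
 (.cons 2 (nat_lit 0x2000002002020000000200000002)
 (.cons 4 (nat_lit 0x4040004020e0208040600000000)
 (.cons 8 (nat_lit 0x80006000320040000000f000860000)
 (.cons 16 (nat_lit 0x48500000b8180000d28000008800)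
 (.cons 32 (nat_lit 0x9970803200000000f6100480)
 (.cons 64 (nat_lit 0xd0db061e00432000)
 .nil)))))))))))))
noncomputable def a38 : Net := (.cons 64 (nat_lit 0xf264f698d96e1f55)
 (.cons 32 (nat_lit 0x5c5b92b8000000009cb163cd)
 (.cons 16 (nat_lit 0x2e8c000063640000b419000021c2)
 (.cons 8 (nat_lit 0x9c00360012004f00a000c700060031)
 (.cons 4 (nat_lit 0x6020c0f0e0a0901000a0f040001050b)
 (.cons 2 (nat_lit 0x30313230013030320220111300001223)
 (.cons 1 (nat_lit 0x14011411044444110101105501040110)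
 (.cons 2 (nat_lit 0x20000020022000000200000002000220)
 (.cons 4 (nat_lit 0x400020e0e0a08000808020000000c0c)
 (.cons 8 (nat_lit 0xb8002000d200d000800010000a0028)
 (.cons 16 (nat_lit 0xa8a8000081240000b41000002880)
 (.cons 32 (nat_lit 0x9e7bc4b0000000009539638c)
 (.cons 64 (nat_lit 0xf264f69dd2dd729c)
 .nil)))))))))))))
noncomputable def a39 : Net := (.cons 64 (nat_lit 0x3d890948f99b1ee6)
 (.cons 32 (nat_lit 0x390182430000000021839ecf)
 (.cons 16 (nat_lit 0xafc000007a4300008cc400001e7a)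
 (.cons 8 (nat_lit 0x3002b0015008d00c500aa00420030)
 (.cons 4 (nat_lit 0x9040008000807050605000100020a0b)
 (.cons 2 (nat_lit 0x2030322132111012310321200323003)
 (.cons 1 (nat_lit 0x1040401415445044050500400441044)
 (.cons 2 (nat_lit 0x2000202020020000000000200222020)
 (.cons 4 (nat_lit 0x80400000c0a08000400080600020408)
 (.cons 8 (nat_lit 0x2002a006800d200c600aa00500028)
 (.cons 16 (nat_lit 0xafc000002b440000ec4000000c72)
 (.cons 32 (nat_lit 0x2d808b4a0000000061f1b8f0)
 (.cons 64 (nat_lit 0x3d890941589d0630)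
 .nil)))))))))))))
noncomputable def a40 : Net := (.cons 64 (nat_lit 0xda200916849b0000)
 (.cons 32 (nat_lit 0x5228082000000000b0c82840)
 (.cons 16 (nat_lit 0x80000ef1c0000944a000034dc)
 (.cons 8 (nat_lit 0x20000e00f4008200a0004c00e00044)
 (.cons 4 (nat_lit 0xa0000000606020208070a080e060604)
 (.cons 2 (nat_lit 0x22000302201220010020100310232202)
 (.cons 1 (nat_lit 0x11450110100444040504404401)
 (.cons 2 (nat_lit 0x2200200200002000000202202)
 (.cons 4 (nat_lit 0x6040202080808080c060000)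
 (.cons 8 (nat_lit 0x20000e0074001000a0004400e00044)
 (.cons 16 (nat_lit 0x80000af1c0000944a000034cc)
 (.cons 32 (nat_lit 0x5228082000000000b0c82840)
 (.cons 64 (nat_lit 0xda200916849b0000)
 .nil)))))))))))))
noncomputable def a41 : Net := (.cons 64 (nat_lit 0x972849582fe01980)
 (.cons 32 (nat_lit 0x919ec2700000000005c732e1)
 (.cons 16 (nat_lit 0x8b4400006c0c00008dd300008d9d)
 (.cons 8 (nat_lit 0xfc00d900c300300084000100a400d8)
 (.cons 4 (nat_lit 0x40209060208010600080401090c080c)
 (.cons 2 (nat_lit 0x22002003100110032001100210102033)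
 (.cons 1 (nat_lit 0x11141044014100154004010101141041)
 (.cons 2 (nat_lit 0x2002022000200000000020202002022)
 (.cons 4 (nat_lit 0x208020604000c040c0408080c000c)
 (.cons 8 (nat_lit 0xf400da008200680080001000a00068)
 (.cons 16 (nat_lit 0x9540000180c0000895000007510)
 (.cons 32 (nat_lit 0x139e82700000000005c2a2e0)
 (.cons 64 (nat_lit 0x972849512e431b90)
 .nil)))))))))))))
noncomputable def a42 : Net := (.cons 64 (nat_lit 0x6a3bac8985e743c4)
 (.cons 32 (nat_lit 0xaa0368d900000000567f53ba)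
 (.cons 16 (nat_lit 0x8ee60000b95b000003480000a736)
 (.cons 8 (nat_lit 0x9c00920023000f00d7000a00f600e9)
 (.cons 4 (nat_lit 0xa020c060300010b090a07000c00)
 (.cons 2 (nat_lit 0x30032000000201202130203030022103)
 (.cons 1 (nat_lit 0x44041001114101141004104414141041)
 (.cons 2 (nat_lit 0x20022002022002222000202000022022)
 (.cons 4 (nat_lit 0x804080a08040206000c080e0002080c)
 (.cons 8 (nat_lit 0x5c00b800a800280040000a00d600e0)
 (.cons 16 (nat_lit 0x4ee4000080520000530800002f32)
 (.cons 32 (nat_lit 0x8a3bc8500000000056fb53ee)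
 (.cons 64 (nat_lit 0x6a3bac853fc6a600)
 .nil)))))))))))))
noncomputable def a43 : Net := (.cons 64 (nat_lit 0x2819400a0ea0428)
 (.cons 32 (nat_lit 0x6894c00000000002d019910)
 (.cons 16 (nat_lit 0xc40000009d840000394600001228)
 (.cons 8 (nat_lit 0x88000c00e100c800380000006800d2)
 (.cons 4 (nat_lit 0xc0008000600060800070e0a00040d02)
 (.cons 2 (nat_lit 0x2002003022221220000022122323203)
 (.cons 1 (nat_lit 0x44001005540410105011144044505115)
 (.cons 2 (nat_lit 0x2002000020220200000022022000200)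
 (.cons 4 (nat_lit 0xc000800060004080000060200040402)
 (.cons 8 (nat_lit 0x8000c00e000c80030000000680092)
 (.cons 16 (nat_lit 0xc40000009d840000384600001228)
 (.cons 32 (nat_lit 0x6894c00000000002d019910)
 (.cons 64 (nat_lit 0x2819400a0ea0420)
 .nil)))))))))))))
noncomputable def a44 : Net := (.cons 64 (nat_lit 0xe9c210c533f21ad1)
 (.cons 32 (nat_lit 0x92c207cd000000003a9dc1d4)
 (.cons 16 (nat_lit 0x2cc000002cbe000026ad00004c00)
 (.cons 8 (nat_lit 0x92008300c40098000c003000a200a7)
 (.cons 4 (nat_lit 0xc000a04060c0c07020604040700050a)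
 (.cons 2 (nat_lit 0x2202200000310210030122113031022)
 (.cons 1 (nat_lit 0x5101004010100441411404411440014)
 (.cons 2 (nat_lit 0x202002020000220020000202020022)
 (.cons 4 (nat_lit 0x8000a040206000202060c0200080400)
 (.cons 8 (nat_lit 0x10008800ec0090002c00b000a200b6)
 (.cons 16 (nat_lit 0x3e4000002c7200000ca000004800)
 (.cons 32 (nat_lit 0x5b420744000000002a9d42cc)
 (.cons 64 (nat_lit 0xe9c210c339f02ddc)
 .nil)))))))))))))
noncomputable def a45 : Net := (.cons 64 (nat_lit 0xce8904a9d9d8275)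
 (.cons 32 (nat_lit 0x3ad583af0000000033294ee2)
 (.cons 16 (nat_lit 0x840200004cee0000289c00006c86)
 (.cons 8 (nat_lit 0xa200ad008000ec0012003e00410078)
 (.cons 4 (nat_lit 0x807040000080401000a0a060703060f)
 (.cons 2 (nat_lit 0x22011001010200333220110113302223)
 (.cons 1 (nat_lit 0x10055100040414151014110144405105)
 (.cons 2 (nat_lit 0x20000200000020000022200002200200)
 (.cons 4 (nat_lit 0x808040004080408020208040802040c)
 (.cons 8 (nat_lit 0x800a800c4005400800078001000ec)
 (.cons 16 (nat_lit 0x86060000c8e60000688c00008896)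
 (.cons 32 (nat_lit 0x32fd13e000000000b33e64f4)
 (.cons 64 (nat_lit 0xce8904dbd4c80b8)
 .nil)))))))))))))
noncomputable def a46 : Net := (.cons 64 (nat_lit 0x54950f58a7db5b)
 (.cons 32 (nat_lit 0x685cc5540000000096d81a14)
 (.cons 16 (nat_lit 0xb108000088120000dbd800004436)
 (.cons 8 (nat_lit 0xc002c0094001b006c00a4000600cb)
 (.cons 4 (nat_lit 0x80803000f0d080a040f000e0a0a02)
 (.cons 2 (nat_lit 0x12200012030320003023123210022322)
 (.cons 1 (nat_lit 0x41104004000050011041041044144404)
 (.cons 2 (nat_lit 0x2200002000000020000000020202200)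
 (.cons 4 (nat_lit 0x4080806080c040a0a020e000a000000)
 (.cons 8 (nat_lit 0x4002c009400be007600ac0094004a)
 (.cons 16 (nat_lit 0xb10000008a100000db500000c838)
 (.cons 32 (nat_lit 0x681cc554000000009eda18fc)
 (.cons 64 (nat_lit 0x54950f522f852e)
 .nil)))))))))))))
noncomputable def a47 : Net := (.cons 64 (nat_lit 0x4812841c2a43904)
 (.cons 32 (nat_lit 0x1c14404c0000000006709408)
 (.cons 16 (nat_lit 0x189400008c000000b43400008880)
 (.cons 8 (nat_lit 0x40012002c003600800086000000f2)
 (.cons 4 (nat_lit 0x609040803020902000600020c0b)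
 (.cons 2 (nat_lit 0x10200222300220202023222001012)
 (.cons 1 (nat_lit 0x1400040511114444145041100555)
 (.cons 2 (nat_lit 0x200020000220220020022000000)
 (.cons 4 (nat_lit 0x60004080000080c000600020c04)
 (.cons 8 (nat_lit 0x40012002c003200800080000000f2)
 (.cons 16 (nat_lit 0x109000008c000000b43400008880)
 (.cons 32 (nat_lit 0x1c14400c0000000006709408)
 (.cons 64 (nat_lit 0x4812841c2a43904)
 .nil)))))))))))))
noncomputable def a48 : Net := (.cons 64 (nat_lit 0xcd8f2870acd07ad1)
 (.cons 32 (nat_lit 0x94f280b800000000681cc554)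
 (.cons 16 (nat_lit 0xd1540000c02c0000b3800000ca10)
 (.cons 8 (nat_lit 0x3400ac008600d10006002c00900001)
 (.cons 4 (nat_lit 0x20a0100000c0a0004080a0108030a0b)
 (.cons 2 (nat_lit 0x20210132030032013222002122300201)
 (.cons 1 (nat_lit 0x14444040404004011110504040000105)
 (.cons 2 (nat_lit 0x22202000002002022220002020000000)
 (.cons 4 (nat_lit 0xa020000080c0e0800080a0400000802)
 (.cons 8 (nat_lit 0x3c00a4008600c4000e002c009000a4)
 (.cons 16 (nat_lit 0xd9d80000c4220000b3880000c812)
 (.cons 32 (nat_lit 0x95fe888600000000685cc554)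
 (.cons 64 (nat_lit 0xcd8f2870a65824a4)
 .nil)))))))))))))
noncomputable def a49 : Net := (.cons 64 (nat_lit 0x4029214a6f486130)
 (.cons 32 (nat_lit 0x400121500000000001329020)
 (.cons 16 (nat_lit 0x202800000b490000028000008a38)
 (.cons 8 (nat_lit 0x600010001a000200a40094008000c0)
 (.cons 4 (nat_lit 0xa010200040008080802090c050a0c)
 (.cons 2 (nat_lit 0x20033021202200302220310203)
 (.cons 1 (nat_lit 0x410045455500450404541141004100)
 (.cons 2 (nat_lit 0x20000000200200002220000200)
 (.cons 4 (nat_lit 0xa000200040008080802000400080c)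
 (.cons 8 (nat_lit 0x600010001a000200a40094008000c0)
 (.cons 16 (nat_lit 0x2028000009480000028000008a30)
 (.cons 32 (nat_lit 0x400121500000000001209020)
 (.cons 64 (nat_lit 0x4029214a6f486130)
 .nil)))))))))))))
noncomputable def a50 : Net := (.cons 64 (nat_lit 0x4401915b03b4af51)
 (.cons 32 (nat_lit 0x33b8f8d00000000c5187d16)
 (.cons 16 (nat_lit 0x29f0000d4480000072c0000e0e5)
 (.cons 8 (nat_lit 0xf1009d0048005400040000009c0004)
 (.cons 4 (nat_lit 0x708080d080c08070008010a02090006)
 (.cons 2 (nat_lit 0x12010200213201122000013220023)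
 (.cons 1 (nat_lit 0x41411044104101410110141444100401)
 (.cons 2 (nat_lit 0x20002002200202200220002022000002)
 (.cons 4 (nat_lit 0x4080800080c08060a0a020a0800000e)
 (.cons 8 (nat_lit 0xf6009e0000004000b4000000a4008a)
 (.cons 16 (nat_lit 0x19400005408000074340000e86a)
 (.cons 32 (nat_lit 0x73b9e8e00000000d5c81d10)
 (.cons 64 (nat_lit 0x4401915711d6fc44)
 .nil)))))))))))))
noncomputable def a51 : Net := (.cons 64 (nat_lit 0x55d8c14e608a6cd)
 (.cons 32 (nat_lit 0x55f99f1600000000b7e547f0)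
 (.cons 16 (nat_lit 0xd0a2000025bc0000c0db00005b98)
 (.cons 8 (nat_lit 0x5006c0020000500d70027008200a8)
 (.cons 4 (nat_lit 0xa0108020400000408030408000208)
 (.cons 2 (nat_lit 0x21010210003102003133210020020021)
 (.cons 1 (nat_lit 0x10101504045441044114404041001011)
 (.cons 2 (nat_lit 0x20200000020002020022002022000000)
 (.cons 4 (nat_lit 0xa000008000c040e08040408080200)
 (.cons 8 (nat_lit 0x100074008800080080006600000000)
 (.cons 16 (nat_lit 0xc0b200002de40000d43e0000db90)
 (.cons 32 (nat_lit 0x55a8931400000000bf6776f0)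
 (.cons 64 (nat_lit 0x55d8c186afd8702)
 .nil)))))))))))))
noncomputable def a52 : Net := (.cons 64 (nat_lit 0x810c1ce4c0c300)
 (.cons 32 (nat_lit 0xcb028800000000015368120)
 (.cons 16 (nat_lit 0x810000051b8000030400000ad1a)
 (.cons 8 (nat_lit 0x800b000da005000e0009a00ed)
 (.cons 4 (nat_lit 0x8040a06000c0508060204060c0002)
 (.cons 2 (nat_lit 0x22000010000130010100232033131)
 (.cons 1 (nat_lit 0x4114014004400411004014101000050)
 (.cons 2 (nat_lit 0x22000000000020000000202000000)
 (.cons 4 (nat_lit 0x8040a0400000800040204060c0002)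
 (.cons 8 (nat_lit 0xa000d8005000e0001800e0)
 (.cons 16 (nat_lit 0x810000051b80000304000008d1a)
 (.cons 32 (nat_lit 0xcb028800000000015368120)
 (.cons 64 (nat_lit 0x810c1ce4c0c300)
 .nil)))))))))))))
noncomputable def a53 : Net := (.cons 64 (nat_lit 0x54950f58a7db5b)
 (.cons 32 (nat_lit 0x685cc5540000000096d81a14)
 (.cons 16 (nat_lit 0xb108000088120000dbd800004436)
 (.cons 8 (nat_lit 0xc002c0094001b006c00a4000600cb)
 (.cons 4 (nat_lit 0x80803000f0d080a040f000e0a0a02)
 (.cons 2 (nat_lit 0x12200012030320003023123210022322)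
 (.cons 1 (nat_lit 0x41104004000050011041041044144404)
 (.cons 2 (nat_lit 0x2200002000000020000000020202200)
 (.cons 4 (nat_lit 0x4080806080c040a0a020e000a000000)
 (.cons 8 (nat_lit 0x4002c009400be007600ac0094004a)
 (.cons 16 (nat_lit 0xb10000008a100000db500000c838)
 (.cons 32 (nat_lit 0x681cc554000000009eda18fc)
 (.cons 64 (nat_lit 0x54950f522f852e)
 .nil)))))))))))))
noncomputable def a54 : Net := (.cons 64 (nat_lit 0x8122a1b1b6b31f95)
 (.cons 32 (nat_lit 0x2c067e730000000048648071)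
 (.cons 16 (nat_lit 0xad16000000420000b21b000067d2)
 (.cons 8 (nat_lit 0x2800ed0049002d0050004000d500f0)
 (.cons 4 (nat_lit 0x8020d0a03080006000906010209000a)
 (.cons 2 (nat_lit 0x3000220222001212001101020333021)
 (.cons 1 (nat_lit 0x1144145014104011411141041141110)
 (.cons 2 (nat_lit 0x2002000022200002002000022222220)
 (.cons 4 (nat_lit 0x8000202020808040c0800000000080c)
 (.cons 8 (nat_lit 0xc00080058002c00580028005400f0)
 (.cons 16 (nat_lit 0x532000080c00000b60a00006cd8)
 (.cons 32 (nat_lit 0xad245fca000000000034803a)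
 (.cons 64 (nat_lit 0x8122a1b4e04d1b4e)
 .nil)))))))))))))
noncomputable def a55 : Net := (.cons 64 (nat_lit 0x1818d6fcfc4fc62)
 (.cons 32 (nat_lit 0xfb8c34a20000000002ca0004)
 (.cons 16 (nat_lit 0xd06b00000219000032b4000065b8)
 (.cons 8 (nat_lit 0xad007c001200a1006c0042008e004e)
 (.cons 4 (nat_lit 0x6000d010c0608040e000f060a0209)
 (.cons 2 (nat_lit 0x21010323002101031022000130320212)
 (.cons 1 (nat_lit 0x4010111010105010014101101441454)
 (.cons 2 (nat_lit 0x2000202000000020022000000200002)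
 (.cons 4 (nat_lit 0x400040004020c0408000400000608)
 (.cons 8 (nat_lit 0x4007c001000a000640042007c0022)
 (.cons 16 (nat_lit 0x40e60000065a000032a40000edbc)
 (.cons 32 (nat_lit 0xfa8c30800000000088ca5014)
 (.cons 64 (nat_lit 0x1818d67c3c8faca)
 .nil)))))))))))))
noncomputable def a56 : Net := (.cons 64 (nat_lit 0x81109d4004050800)
 (.cons 32 (nat_lit 0x8b161b000000000093b04010)
 (.cons 16 (nat_lit 0x9b50000051980000a30000000062)
 (.cons 8 (nat_lit 0x1000880030003a005c00c200cc0001)
 (.cons 4 (nat_lit 0xa04000a02040001080a000008020009)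
 (.cons 2 (nat_lit 0x22120200000120003032003300012331)
 (.cons 1 (nat_lit 0x1040414410011040004010504001415)
 (.cons 2 (nat_lit 0x2020200000020000002000000002220)
 (.cons 4 (nat_lit 0xa04000a02040000080a000008000004)
 (.cons 8 (nat_lit 0x1000800020001a000c00c200840006)
 (.cons 16 (nat_lit 0x9b50000051100000a30000000062)
 (.cons 32 (nat_lit 0x8b161b000000000093b04010)
 (.cons 64 (nat_lit 0x81109d4004050800)
 .nil)))))))))))))
noncomputable def a57 : Net := (.cons 64 (nat_lit 0x8001c4d020c280a)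
 (.cons 32 (nat_lit 0x188014400000000005cc8840)
 (.cons 16 (nat_lit 0x8800000aa58000049300000b138)
 (.cons 8 (nat_lit 0x48001400220012008200dc0080)
 (.cons 4 (nat_lit 0x8000404040204080d0e000c0b00040e)
 (.cons 2 (nat_lit 0x20000002122320030203201000320030)
 (.cons 1 (nat_lit 0x10000041004045004045410400040151)
 (.cons 2 (nat_lit 0x20000002002020000000200000020000)
 (.cons 4 (nat_lit 0x8000004040204080c0e000c0000000e)
 (.cons 8 (nat_lit 0x48001400220012008200dc0000)
 (.cons 16 (nat_lit 0x88000000a58000049300000b138)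
 (.cons 32 (nat_lit 0x188004400000000005cc8840)
 (.cons 64 (nat_lit 0x8001c45020c280a)
 .nil)))))))))))))
noncomputable def a58 : Net := (.cons 64 (nat_lit 0x3aba6486a1e39424)
 (.cons 32 (nat_lit 0x95f5366300000000a1e9472b)
 (.cons 16 (nat_lit 0x85f70000269800009a070000d9fa)
 (.cons 8 (nat_lit 0xaa00ee00140041002e00b8008a0010)
 (.cons 4 (nat_lit 0xe0a0302080608080a0609080b050301)
 (.cons 2 (nat_lit 0x22013113201220123201100222011010)
 (.cons 1 (nat_lit 0x40404514500001054101500101110100)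
 (.cons 2 (nat_lit 0x20202002000000002200000202000200)
 (.cons 4 (nat_lit 0xc080404080c02080c000c080a000a04)
 (.cons 8 (nat_lit 0x8c0028000400c8008600f800880000)
 (.cons 16 (nat_lit 0xa79800002e1800009e02000049aa)
 (.cons 32 (nat_lit 0xb755126800000000e0a8c76c)
 (.cons 64 (nat_lit 0x3aba6481e920b248)
 .nil)))))))))))))
noncomputable def a59 : Net := (.cons 64 (nat_lit 0x5b81d4bfc8363be6)
 (.cons 32 (nat_lit 0xbb98c68a000000004a01916b)
 (.cons 16 (nat_lit 0x339c0000bf880000f67200008a96)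
 (.cons 8 (nat_lit 0x8c00ea00f4008700b2007000560014)
 (.cons 4 (nat_lit 0xa000604080a0b00000a0f080a02050a)
 (.cons 2 (nat_lit 0x10021221232021020020100121001102)
 (.cons 1 (nat_lit 0x14014111411444040015114110144041)
 (.cons 2 (nat_lit 0x22220222220020000200000200022)
 (.cons 4 (nat_lit 0x6000c06080a0604000004080c0a0006)
 (.cons 8 (nat_lit 0x9c004800140094009a005000400010)
 (.cons 16 (nat_lit 0xa39c0000eb2e00005c1800008f50)
 (.cons 32 (nat_lit 0xb898462c00000000ce51906a)
 (.cons 64 (nat_lit 0x5b81d4bdecfa39d4)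
 .nil)))))))))))))
noncomputable def a60 : Net := (.cons 64 (nat_lit 0x230dcb89a97d087c)
 (.cons 32 (nat_lit 0x36258d5600000000d6b607c8)
 (.cons 16 (nat_lit 0xa670000010d60000403c0000fcda)
 (.cons 8 (nat_lit 0xcd000e008c00fa000600e700620008)
 (.cons 4 (nat_lit 0x50d000a0b080f000404020102020c0c)
 (.cons 2 (nat_lit 0x3122002110221011022302012022020)
 (.cons 1 (nat_lit 0x14501410014010040514154011450)
 (.cons 2 (nat_lit 0x22000200020020020002000002000)
 (.cons 4 (nat_lit 0xc020a0a0004000400000604020c0e)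
 (.cons 8 (nat_lit 0xdc000a008600fa000800e0005a0080)
 (.cons 16 (nat_lit 0xa1780000b1de000044180000c4b2)
 (.cons 32 (nat_lit 0x172c8cd800000000de062788)
 (.cons 64 (nat_lit 0x230dcb8f9f290c34)
 .nil)))))))))))))
noncomputable def a61 : Net := (.cons 64 (nat_lit 0x9c31e131144caed0)
 (.cons 32 (nat_lit 0xcbcdf01800000000222ea4cc)
 (.cons 16 (nat_lit 0x647400003520000042ec00003006)
 (.cons 8 (nat_lit 0xf6002b000200be002e007800d00088)
 (.cons 4 (nat_lit 0x204090104010e05000206010c030a0e)
 (.cons 2 (nat_lit 0x21032110200000310320002102203020)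
 (.cons 1 (nat_lit 0x11104500410010400400401100500110)
 (.cons 2 (nat_lit 0x22000000000020200000200000000020)
 (.cons 4 (nat_lit 0xa0c0a000400000400000c0c00020208)
 (.cons 8 (nat_lit 0xe6003e000200ba002e005a000a00e8)
 (.cons 16 (nat_lit 0x644800001510000040a600007482)
 (.cons 32 (nat_lit 0xd3dd300c0000000022a2a04a)
 (.cons 64 (nat_lit 0x9c31e13a1ab43a44)
 .nil)))))))))))))
noncomputable def a62 : Net := (.cons 64 (nat_lit 0x590d410d682e1300)
 (.cons 32 (nat_lit 0x2a708c020000000037509240)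
 (.cons 16 (nat_lit 0xe70000005ba80000b0000000e988)
 (.cons 8 (nat_lit 0xb800620051005800a20004005400ec)
 (.cons 4 (nat_lit 0x804000408080c0c0404080005060c04)
 (.cons 2 (nat_lit 0x31220220003221203022022220023210)
 (.cons 1 (nat_lit 0x50110145015110150104141000011444)
 (.cons 2 (nat_lit 0x220220020020200002022000022200)
 (.cons 4 (nat_lit 0x800000408080c0c0404000000000c08)
 (.cons 8 (nat_lit 0xb8006200d2004000020004001000d0)
 (.cons 16 (nat_lit 0xe70000004ba00000b0000000e908)
 (.cons 32 (nat_lit 0x2a708c020000000037509240)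
 (.cons 64 (nat_lit 0x590d410d682e1300)
 .nil)))))))))))))
noncomputable def a63 : Net := (.cons 64 (nat_lit 0x18416a64804010)
 (.cons 32 (nat_lit 0x11b000880000000034734440)
 (.cons 16 (nat_lit 0x10e00000d83000008f24000099a8)
 (.cons 8 (nat_lit 0x2000d0003c008000b400c400440020)
 (.cons 4 (nat_lit 0x20c080b0e0606060604040f03060c04)
 (.cons 2 (nat_lit 0x200200321000023031023300013010)
 (.cons 1 (nat_lit 0x1140151540100515450110011000100)
 (.cons 2 (nat_lit 0x200200020000020000020000000000)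
 (.cons 4 (nat_lit 0x20c0808080600060604000000040c04)
 (.cons 8 (nat_lit 0x2000d0003c0080002400c400400020)
 (.cons 16 (nat_lit 0x10e00000d03000008f2400001920)
 (.cons 32 (nat_lit 0x11b000880000000034734440)
 (.cons 64 (nat_lit 0x18416a64804010)
 .nil)))))))))))))
noncomputable def a64 : Net := (.cons 64 (nat_lit 0x1002a0384803c40)
 (.cons 32 (nat_lit 0x2500202800000000d8034118)
 (.cons 16 (nat_lit 0xc0000007a0000006c9400002000)
 (.cons 8 (nat_lit 0x2c007200800004006a001800f4)
 (.cons 4 (nat_lit 0x8000406000e06020a0800040600050e)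
 (.cons 2 (nat_lit 0x20002220000301020003130220320212)
 (.cons 1 (nat_lit 0x4041111050511405004110010401)
 (.cons 2 (nat_lit 0x2020000000020000000220020202)
 (.cons 4 (nat_lit 0x8000406000e06020a0800040000040c)
 (.cons 8 (nat_lit 0x2c007200800004004a001800f4)
 (.cons 16 (nat_lit 0xc000000600000002c8400002000)
 (.cons 32 (nat_lit 0x2500202800000000d8034118)
 (.cons 64 (nat_lit 0x1002a0384803c40)
 .nil)))))))))))))
noncomputable def a65 : Net := (.cons 64 (nat_lit 0x3e024bb42de7d32b)
 (.cons 32 (nat_lit 0x44024362000000000f68bbd4)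
 (.cons 16 (nat_lit 0x7c320000fb52000033300000808e)
 (.cons 8 (nat_lit 0xa00fd007b006b00cc0025007f00cc)
 (.cons 4 (nat_lit 0xa0c04020d05050d0808050801040a)
 (.cons 2 (nat_lit 0x200331030212323120201202002001)
 (.cons 1 (nat_lit 0x104144111045104114044445101401)
 (.cons 2 (nat_lit 0x20020020202220000220000002)
 (.cons 4 (nat_lit 0x804040008040c080c080c0800080e)
 (.cons 8 (nat_lit 0x800f800f00062000800a8006e00cc)
 (.cons 16 (nat_lit 0x34300000c07a000034600000d0e4)
 (.cons 32 (nat_lit 0x660049da00000000ce793f94)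
 (.cons 64 (nat_lit 0x3e024bbd433d0f10)
 .nil)))))))))))))
noncomputable def a66 : Net := (.cons 64 (nat_lit 0x609c02cd1ade144)
 (.cons 32 (nat_lit 0xa370e00000000000094deae0)
 (.cons 16 (nat_lit 0xe2280000de7800009dfd0000d44a)
 (.cons 8 (nat_lit 0x3000aa00cc00c200fd00d900300028)
 (.cons 4 (nat_lit 0x40c080a060f0908080e060202000609)
 (.cons 2 (nat_lit 0x1212000300002000031212203303132)
 (.cons 1 (nat_lit 0x50000005040004415054014015045051)
 (.cons 2 (nat_lit 0x2000002000000000002)
 (.cons 4 (nat_lit 0x40c080a06000008000e0c0802000600)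
 (.cons 8 (nat_lit 0x3000a800cc00c2003c008200300028)
 (.cons 16 (nat_lit 0xe2280000de780000fc700000d448)
 (.cons 32 (nat_lit 0xa370e00000000000094deae0)
 (.cons 64 (nat_lit 0x609c02cd1ade140)
 .nil)))))))))))))
noncomputable def a67 : Net := (.cons 64 (nat_lit 0x1a057a8403cdf78e)
 (.cons 32 (nat_lit 0xc40f79800000000d8e6f4b2)
 (.cons 16 (nat_lit 0x8145000050330000a53400008904)
 (.cons 8 (nat_lit 0x100e200f800c400d6008e0092008c)
 (.cons 4 (nat_lit 0x1000c0b000d060a0b06050906000007)
 (.cons 2 (nat_lit 0x22011020200022200212230010000011)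
 (.cons 1 (nat_lit 0x15004411001054115140011444050111)
 (.cons 2 (nat_lit 0x20000000000002200200000000000220)
 (.cons 4 (nat_lit 0x80002020a0206020800020000)
 (.cons 8 (nat_lit 0xfc007a00d60056006a00b0008c)
 (.cons 16 (nat_lit 0x974000006032000011c400008924)
 (.cons 32 (nat_lit 0x1c40c51c00000000fd16f4ca)
 (.cons 64 (nat_lit 0x1a057a8111cc5586)
 .nil)))))))))))))
noncomputable def a68 : Net := (.cons 64 (nat_lit 0xb458822ebfe62e83)
 (.cons 32 (nat_lit 0x72f164810000000089c31dbf)
 (.cons 16 (nat_lit 0x40f500003b180000138d0000a3c9)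
 (.cons 8 (nat_lit 0xa6000e00c4007c005000a300a100c2)
 (.cons 4 (nat_lit 0xc060c05040600000802000206030d00)
 (.cons 2 (nat_lit 0x30202031031033000012221030122001)
 (.cons 1 (nat_lit 0x44410441045011014051011054444100)
 (.cons 2 (nat_lit 0x20020020000022000000000000002200)
 (.cons 4 (nat_lit 0xc0c0c0404060002000602000e040e04)
 (.cons 8 (nat_lit 0x26000e00c6006c00d800a000c600d2)
 (.cons 16 (nat_lit 0x407400003b1a00001a8c0000a6d8)
 (.cons 32 (nat_lit 0xd2b166a000000000c0441d6a)
 (.cons 64 (nat_lit 0xb458822e19ff6702)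
 .nil)))))))))))))
noncomputable def a69 : Net := (.cons 64 (nat_lit 0x7d5f9669a467d61a)
 (.cons 32 (nat_lit 0xb9d41c0700000000aea2218c)
 (.cons 16 (nat_lit 0xb526000076bc000081800000eb3e)
 (.cons 8 (nat_lit 0x8c00cb005500b0002600a8006d000a)
 (.cons 4 (nat_lit 0x80606080a0d060902040003090d0005)
 (.cons 2 (nat_lit 0x10123200112021130020002021010221)
 (.cons 1 (nat_lit 0x4114101115140440140001144110141)
 (.cons 2 (nat_lit 0x22202200220200020000220000220)
 (.cons 4 (nat_lit 0xc0000080e060c000400080c040000)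
 (.cons 8 (nat_lit 0x1c00c0007e00a0000400200066000a)
 (.cons 16 (nat_lit 0x2966000054900000a9800000e9ea)
 (.cons 32 (nat_lit 0xb99d1e40000000002ea2218c)
 (.cons 64 (nat_lit 0x7d5f9668a2677458)
 .nil)))))))))))))
noncomputable def a70 : Net := (.cons 64 (nat_lit 0xc4c8382000000000)
 (.cons 32 (nat_lit 0x48ab18240000000098b60084)
 (.cons 16 (nat_lit 0x4a0000e28000009910000048d0)
 (.cons 8 (nat_lit 0xa800200074001c00320018002b00c4)
 (.cons 4 (nat_lit 0x400000c040c040a030a0c0a00010d06)
 (.cons 2 (nat_lit 0x20000002123002020002123002130202)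
 (.cons 1 (nat_lit 0x40010044040444011101010401414441)
 (.cons 2 (nat_lit 0x20000002020002020002020002020202)
 (.cons 4 (nat_lit 0x400000c040c040800080c0a000c0c04)
 (.cons 8 (nat_lit 0x2000000060000400320018000000c4)
 (.cons 16 (nat_lit 0x4a0000e28000009910000008d0)
 (.cons 32 (nat_lit 0x48ab18240000000098b60084)
 (.cons 64 (nat_lit 0xc4c8382000000000)
 .nil)))))))))))))
noncomputable def a71 : Net := (.cons 64 (nat_lit 0x1b110f821ef54280)
 (.cons 32 (nat_lit 0x2f3028400000000002ee0400)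
 (.cons 16 (nat_lit 0x3f04000092a1000090000000ae74)
 (.cons 8 (nat_lit 0x3200cc00a2009a00300084008000f1)
 (.cons 4 (nat_lit 0x5020a0008040202060c04000a0a0806)
 (.cons 2 (nat_lit 0x20011003202200000002203200320101)
 (.cons 1 (nat_lit 0x40000000011410100010405410014040)
 (.cons 2 (nat_lit 0x20000000002200000000200200020000)
 (.cons 4 (nat_lit 0x40000000804020200080400020a0408)
 (.cons 8 (nat_lit 0x3200cc00a20000003000840080002c)
 (.cons 16 (nat_lit 0x1d04000092a0000090000000ae54)
 (.cons 32 (nat_lit 0x2f3028400000000002ee0400)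
 (.cons 64 (nat_lit 0x1b110f821ef54280)
 .nil)))))))))))))
noncomputable def a72 : Net := (.cons 64 (nat_lit 0x58b9a22a9fcd2a3b)
 (.cons 32 (nat_lit 0x651b2906000000000f85023a)
 (.cons 16 (nat_lit 0xa5070000184900001d1f0000ca8a)
 (.cons 8 (nat_lit 0xd000a00a8009c006f0007009600c3)
 (.cons 4 (nat_lit 0x20a04080e000c02020000020402030c)
 (.cons 2 (nat_lit 0x1202020003000203001020013200002)
 (.cons 1 (nat_lit 0x44114101041040114010044041141001)
 (.cons 2 (nat_lit 0x2022200022000020020002022220002)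
 (.cons 4 (nat_lit 0x202060804000808060000040a0e0008)
 (.cons 8 (nat_lit 0x1c000800a8003c0064000000a200c0)
 (.cons 16 (nat_lit 0x8c0c0000d84000001c5c0000ab8a)
 (.cons 32 (nat_lit 0x750b2926000000000985162a)
 (.cons 64 (nat_lit 0x58b9a22a1fc5233a)
 .nil)))))))))))))
noncomputable def a73 : Net := (.cons 64 (nat_lit 0x11a515e10379183c)
 (.cons 32 (nat_lit 0x29cd8354000000000e63aa3c)
 (.cons 16 (nat_lit 0x3cd000007aeb0000805000007318)
 (.cons 8 (nat_lit 0x6c0030003c002100c60006001c0092)
 (.cons 4 (nat_lit 0x2080a020a0705080a07080201000d0f)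
 (.cons 2 (nat_lit 0x13010210123330022022001222321010)
 (.cons 1 (nat_lit 0x5040010454141010054041101145040)
 (.cons 2 (nat_lit 0x20000220020002000200220020)
 (.cons 4 (nat_lit 0x608000002080408080a0000020c0c06)
 (.cons 8 (nat_lit 0x780098004c002600c6000c00060088)
 (.cons 16 (nat_lit 0x2c1000006be80000005a00003400)
 (.cons 32 (nat_lit 0x2948877c00000000a06b2038)
 (.cons 64 (nat_lit 0x11a515e333a90e5e)
 .nil)))))))))))))
noncomputable def a74 : Net := (.cons 64 (nat_lit 0x318b8929b006a000)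
 (.cons 32 (nat_lit 0x6ba02940000000002a467ad0)
 (.cons 16 (nat_lit 0x1004000030020000386000002145)
 (.cons 8 (nat_lit 0x200ea0010006a001800bc00f80041)
 (.cons 4 (nat_lit 0xc0802080900020006020202070d0500)
 (.cons 2 (nat_lit 0x21211222000020002200020012200323)
 (.cons 1 (nat_lit 0x101044111514414500111100405)
 (.cons 2 (nat_lit 0x202000020002200000002200200)
 (.cons 4 (nat_lit 0xc080008080002000002020202080000)
 (.cons 8 (nat_lit 0xea00100062001800b800400040)
 (.cons 16 (nat_lit 0x100400003002000038200000360c)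
 (.cons 32 (nat_lit 0x6ba02940000000002a467ad0)
 (.cons 64 (nat_lit 0x318b8929b006a000)
 .nil)))))))))))))
noncomputable def a75 : Net := (.cons 64 (nat_lit 0x8d00e9a69294c84)
 (.cons 32 (nat_lit 0xa8900028000000007c1300ac)
 (.cons 16 (nat_lit 0x80800000e00400007cc800001044)
 (.cons 8 (nat_lit 0x8000ba009c008a009800b8002c00d0)
 (.cons 4 (nat_lit 0x40806050000080c0c0b03080204)
 (.cons 2 (nat_lit 0x20103000203303030023010231030223)
 (.cons 1 (nat_lit 0x5005101445001040401514051000)
 (.cons 2 (nat_lit 0x200000000020202020000000)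
 (.cons 4 (nat_lit 0x408000a0000000c080008080204)
 (.cons 8 (nat_lit 0x8000b2000c008a00980094002c00d0)
 (.cons 16 (nat_lit 0x80800000e00400007dc800001104)
 (.cons 32 (nat_lit 0xa8900028000000003d1b01a8)
 (.cons 64 (nat_lit 0x8d00e9a69294c84)
 .nil)))))))))))))
noncomputable def a76 : Net := (.cons 64 (nat_lit 0xa70680c98ac2a670)
 (.cons 32 (nat_lit 0x763528500000000094b01200)
 (.cons 16 (nat_lit 0xf0520000690000001410000088c0)
 (.cons 8 (nat_lit 0xa000880000008c00e8001e00db000c)
 (.cons 4 (nat_lit 0x60004060408000a0c01010002020e09)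
 (.cons 2 (nat_lit 0x20302002020220203000020302002002)
 (.cons 1 (nat_lit 0x41011451440000455000001041411140)
 (.cons 2 (nat_lit 0x20002002020000200000000000022000)
 (.cons 4 (nat_lit 0x60004060408000a0c00000002020a08)
 (.cons 8 (nat_lit 0xa0008800000084002800140020000c)
 (.cons 16 (nat_lit 0xf0520000680000001410000088c0)
 (.cons 32 (nat_lit 0x763128500000000094b01200)
 (.cons 64 (nat_lit 0xa70680c98ac2a670)
 .nil)))))))))))))
noncomputable def a77 : Net := (.cons 64 (nat_lit 0xcd682574a57c9759)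
 (.cons 32 (nat_lit 0x8223336800000000d4659a06)
 (.cons 16 (nat_lit 0x236000050780000ee020000301f)
 (.cons 8 (nat_lit 0xb00740078001600ae0040009a0040)
 (.cons 4 (nat_lit 0x20300080d0c030d0601020203070805)
 (.cons 2 (nat_lit 0x22132002012021002030222220101200)
 (.cons 1 (nat_lit 0x41144114100444405011044111100141)
 (.cons 2 (nat_lit 0x2002022200002200022020202000220)
 (.cons 4 (nat_lit 0x600020a0c0c0c0c0408000608060800)
 (.cons 8 (nat_lit 0x44005400d8002200ae004400820040)
 (.cons 16 (nat_lit 0x51e000051800000ee000000380a)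
 (.cons 32 (nat_lit 0x8223371800000000d6639a82)
 (.cons 64 (nat_lit 0xcd682574b5569758)
 .nil)))))))))))))
noncomputable def a78 : Net := (.cons 64 (nat_lit 0x7d5f9668a2677458)
 (.cons 32 (nat_lit 0x26722c3d0000000026a2298c)
 (.cons 16 (nat_lit 0xdf380000da090000a1800000e1e9)
 (.cons 8 (nat_lit 0x700030005c001c000400200099000a)
 (.cons 4 (nat_lit 0xa08090e070c0c05000400030a030007)
 (.cons 2 (nat_lit 0x30031101231201320020002030320232)
 (.cons 1 (nat_lit 0x40144141110140510140001141140144)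
 (.cons 2 (nat_lit 0x20222000200000000020000220220222)
 (.cons 4 (nat_lit 0x6080c080c0c040c0204000800060002)
 (.cons 8 (nat_lit 0x70000000ce009c002600a800900008)
 (.cons 16 (nat_lit 0xcb5c00004ac8000081800000e93c)
 (.cons 32 (nat_lit 0x162b3a1800000000a6a22184)
 (.cons 64 (nat_lit 0x7d5f9669a467d61a)
 .nil)))))))))))))
noncomputable def a79 : Net := (.cons 64 (nat_lit 0x7d700190f51d6c00)
 (.cons 32 (nat_lit 0x94b321900000000048238800)
 (.cons 16 (nat_lit 0xc080000ce64000058ac000051e8)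
 (.cons 8 (nat_lit 0xf2008c000400060018004800240012)
 (.cons 4 (nat_lit 0xa0002020008080204040d040a0a)
 (.cons 2 (nat_lit 0x20020003211200230201200320120202)
 (.cons 1 (nat_lit 0x41410500100401450010004044011111)
 (.cons 2 (nat_lit 0x220000200200200000000020020202)
 (.cons 4 (nat_lit 0xa0000020008080200040c040a0a)
 (.cons 8 (nat_lit 0x2008c000400060010004800240000)
 (.cons 16 (nat_lit 0xc08000086640000588c000051a8)
 (.cons 32 (nat_lit 0x94b321800000000048238800)
 (.cons 64 (nat_lit 0x7d700190f5156c00)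
 .nil)))))))))))))
noncomputable def a80 : Net := (.cons 64 (nat_lit 0x1b110f821ef54280)
 (.cons 32 (nat_lit 0x2f3028400000000002ee0400)
 (.cons 16 (nat_lit 0x3f04000092a1000090000000ae74)
 (.cons 8 (nat_lit 0x3200cc00a2009a00300084008000f1)
 (.cons 4 (nat_lit 0x5020a0008040202060c04000a0a0806)
 (.cons 2 (nat_lit 0x20011003202200000002203200320101)
 (.cons 1 (nat_lit 0x40000000011410100010405410014040)
 (.cons 2 (nat_lit 0x20000000002200000000200200020000)
 (.cons 4 (nat_lit 0x40000000804020200080400020a0408)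
 (.cons 8 (nat_lit 0x3200cc00a20000003000840080002c)
 (.cons 16 (nat_lit 0x1d04000092a0000090000000ae54)
 (.cons 32 (nat_lit 0x2f3028400000000002ee0400)
 (.cons 64 (nat_lit 0x1b110f821ef54280)
 .nil)))))))))))))
noncomputable def a81 : Net := (.cons 64 (nat_lit 0x1b110f821ef54280)
 (.cons 32 (nat_lit 0x2f3028400000000002ee0400)
 (.cons 16 (nat_lit 0x3f04000092a1000090000000ae74)
 (.cons 8 (nat_lit 0x3200cc00a2009a00300084008000f1)
 (.cons 4 (nat_lit 0x5020a0008040202060c04000a0a0806)
 (.cons 2 (nat_lit 0x20011003202200000002203200320101)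
 (.cons 1 (nat_lit 0x40000000011410100010405410014040)
 (.cons 2 (nat_lit 0x20000000002200000000200200020000)
 (.cons 4 (nat_lit 0x40000000804020200080400020a0408)
 (.cons 8 (nat_lit 0x3200cc00a20000003000840080002c)
 (.cons 16 (nat_lit 0x1d04000092a0000090000000ae54)
 (.cons 32 (nat_lit 0x2f3028400000000002ee0400)
 (.cons 64 (nat_lit 0x1b110f821ef54280)
 .nil)))))))))))))
noncomputable def a82 : Net := (.cons 64 (nat_lit 0x8935c36f038d1448)
 (.cons 32 (nat_lit 0x28a3ed400000000061507c8c)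
 (.cons 16 (nat_lit 0x249000009a0600007c4400005f88)
 (.cons 8 (nat_lit 0x2000140014007a001c009200e400f0)
 (.cons 4 (nat_lit 0x406050402040d0c070c0209000c0e07)
 (.cons 2 (nat_lit 0x2200223010020000012020003202031)
 (.cons 1 (nat_lit 0x41411105500104011100544050411041)
 (.cons 2 (nat_lit 0x2202000000000000000020000202020)
 (.cons 4 (nat_lit 0x4060a0402000c00000c020800040800)
 (.cons 8 (nat_lit 0x2000140014007a0014009200e40070)
 (.cons 16 (nat_lit 0x249000008a0600007c4400005f88)
 (.cons 32 (nat_lit 0x2883ed400000000061507c8c)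
 (.cons 64 (nat_lit 0x8935c36f03851448)
 .nil)))))))))))))
noncomputable def a83 : Net := (.cons 64 (nat_lit 0x16451093c7aa0800)
 (.cons 32 (nat_lit 0x34e50388000000008c321400)
 (.cons 16 (nat_lit 0x2900000d510000048100000dea4)
 (.cons 8 (nat_lit 0xd00085004a004400a800b700200031)
 (.cons 4 (nat_lit 0x6060000040d000e0400000c04080d09)
 (.cons 2 (nat_lit 0x32102202020231102220101002002132)
 (.cons 1 (nat_lit 0x54011400044400004100010141041141)
 (.cons 2 (nat_lit 0x2002200020200002200000002002022)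
 (.cons 4 (nat_lit 0x60000040c00040400040004080602)
 (.cons 8 (nat_lit 0xd000840008004400a800c0000000ca)
 (.cons 16 (nat_lit 0x2900000d510000040100000dea4)
 (.cons 32 (nat_lit 0x34e50388000000008c301400)
 (.cons 64 (nat_lit 0x16451093c7a20800)
 .nil)))))))))))))
noncomputable def a84 : Net := (.cons 64 (nat_lit 0x1d0859c5e347dad3)
 (.cons 32 (nat_lit 0x5b3918480000000033b404cc)
 (.cons 16 (nat_lit 0xacf000034940000a17800006d80)
 (.cons 8 (nat_lit 0x34004000fc00c300a80086004d00a0)
 (.cons 4 (nat_lit 0xc090104090809060c07080502060409)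
 (.cons 2 (nat_lit 0x21120201302033032231030322013220)
 (.cons 1 (nat_lit 0x50050104100441411440004441101014)
 (.cons 2 (nat_lit 0x200002222020002200002022)
 (.cons 4 (nat_lit 0xc0c0004000800040400080000000402)
 (.cons 8 (nat_lit 0x280048006c006400880082000a0016)
 (.cons 16 (nat_lit 0x12c6000009d8000081c80000eb92)
 (.cons 32 (nat_lit 0x5331190c0000000093c406c2)
 (.cons 64 (nat_lit 0x1d0859cb25ddffc2)
 .nil)))))))))))))
noncomputable def a85 : Net := (.cons 64 (nat_lit 0x28074011a2a242f8)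
 (.cons 32 (nat_lit 0x792afd8600000000050f6883)
 (.cons 16 (nat_lit 0x39ab00008e6900007508000057f0)
 (.cons 8 (nat_lit 0xf8007600ac0046005700cc006800a6)
 (.cons 4 (nat_lit 0x8070d04060708070f0f050800080708)
 (.cons 2 (nat_lit 0x113200220302300113210212201103)
 (.cons 1 (nat_lit 0x10104401440400101140511101454)
 (.cons 2 (nat_lit 0x20000200200200200220000002000)
 (.cons 4 (nat_lit 0x206000c040806080a00020c00060e)
 (.cons 8 (nat_lit 0xf0004600ac0042008000cc0070003e)
 (.cons 16 (nat_lit 0x28a000008e2a0000332200005d98)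
 (.cons 32 (nat_lit 0x792cbd8600000000d6cfc9e6)
 (.cons 64 (nat_lit 0x280740189fbf6140)
 .nil)))))))))))))
noncomputable def a86 : Net := (.cons 64 (nat_lit 0x71148a020111f396)
 (.cons 32 (nat_lit 0x9445880a00000000c5650be2)
 (.cons 16 (nat_lit 0xc459000028fa000017b200004d1a)
 (.cons 8 (nat_lit 0x560052000b00be000c008a002c)
 (.cons 4 (nat_lit 0xb000404020e0209090f04000902040f)
 (.cons 2 (nat_lit 0x2012003102000201301220233201021)
 (.cons 1 (nat_lit 0x1041404101045111410410451500015)
 (.cons 2 (nat_lit 0x2002000000022000220002000000)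
 (.cons 4 (nat_lit 0xa000c000208020a0806040c0400040c)
 (.cons 8 (nat_lit 0x160000001a0034000c006a008c)
 (.cons 16 (nat_lit 0x4458000030d800005f3800006d90)
 (.cons 32 (nat_lit 0xd4518800000000004baf0b18)
 (.cons 64 (nat_lit 0x71148a00d0d6fb94)
 .nil)))))))))))))
noncomputable def a87 : Net := (.cons 64 (nat_lit 0xe3ed451411ad18ea)
 (.cons 32 (nat_lit 0xccf7a01800000000e526232e)
 (.cons 16 (nat_lit 0x20f30000bbf10000b9a400004c44)
 (.cons 8 (nat_lit 0x4500f6006d0028000a00ef00c00078)
 (.cons 4 (nat_lit 0xc0505060004080c040208080007060b)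
 (.cons 2 (nat_lit 0x22003010333023122320010302000)
 (.cons 1 (nat_lit 0x41011104140114015010040144444011)
 (.cons 2 (nat_lit 0x22002000000200000020020202200002)
 (.cons 4 (nat_lit 0x400020e0204000a020a0a0a08060000)
 (.cons 8 (nat_lit 0x4000360074006e002a00c400d200c0)
 (.cons 16 (nat_lit 0x20e00000e9fc000018a600005454)
 (.cons 32 (nat_lit 0xac36e41800000000f93611cc)
 (.cons 64 (nat_lit 0xe3ed45157815bf80)
 .nil)))))))))))))
noncomputable def a88 : Net := (.cons 64 (nat_lit 0x11a515e10379183c)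
 (.cons 32 (nat_lit 0x29cd8354000000000e63aa3c)
 (.cons 16 (nat_lit 0x3cd000007aeb0000805000007318)
 (.cons 8 (nat_lit 0x6c0030003c002100c60006001c0092)
 (.cons 4 (nat_lit 0x2080a020a0705080a07080201000d0f)
 (.cons 2 (nat_lit 0x13010210123330022022001222321010)
 (.cons 1 (nat_lit 0x5040010454141010054041101145040)
 (.cons 2 (nat_lit 0x20000220020002000200220020)
 (.cons 4 (nat_lit 0x608000002080408080a0000020c0c06)
 (.cons 8 (nat_lit 0x780098004c002600c6000c00060088)
 (.cons 16 (nat_lit 0x2c1000006be80000005a00003400)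
 (.cons 32 (nat_lit 0x2948877c00000000a06b2038)
 (.cons 64 (nat_lit 0x11a515e333a90e5e)
 .nil)))))))))))))
noncomputable def a89 : Net := (.cons 64 (nat_lit 0x1b110f821ef54280)
 (.cons 32 (nat_lit 0x2f3028400000000002ee0400)
 (.cons 16 (nat_lit 0x3f04000092a1000090000000ae74)
 (.cons 8 (nat_lit 0x3200cc00a2009a00300084008000f1)
 (.cons 4 (nat_lit 0x5020a0008040202060c04000a0a0806)
 (.cons 2 (nat_lit 0x20011003202200000002203200320101)
 (.cons 1 (nat_lit 0x40000000011410100010405410014040)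
 (.cons 2 (nat_lit 0x20000000002200000000200200020000)
 (.cons 4 (nat_lit 0x40000000804020200080400020a0408)
 (.cons 8 (nat_lit 0x3200cc00a20000003000840080002c)
 (.cons 16 (nat_lit 0x1d04000092a0000090000000ae54)
 (.cons 32 (nat_lit 0x2f3028400000000002ee0400)
 (.cons 64 (nat_lit 0x1b110f821ef54280)
 .nil)))))))))))))
noncomputable def a90 : Net := (.cons 64 (nat_lit 0x2bcc5048ec262158)
 (.cons 32 (nat_lit 0x2b14d2100000000042460548)
 (.cons 16 (nat_lit 0x83040000fc82000056300000838a)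
 (.cons 8 (nat_lit 0x60000a00c10069006000a0009c00a9)
 (.cons 4 (nat_lit 0xc0204050400060a06000f0a0b020109)
 (.cons 2 (nat_lit 0x2220302230122222202310000230220)
 (.cons 1 (nat_lit 0x4100504140110004404145040100110)
 (.cons 2 (nat_lit 0x2200002220020002202200000200220)
 (.cons 4 (nat_lit 0x4020400040402000000000a08020008)
 (.cons 8 (nat_lit 0x60004800820040006000a0009c0010)
 (.cons 16 (nat_lit 0x83040000fc820000563000008388)
 (.cons 32 (nat_lit 0x291092100000000042460548)
 (.cons 64 (nat_lit 0x2bcc5048ec262158)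
 .nil)))))))))))))
noncomputable def a91 : Net := (.cons 64 (nat_lit 0x31270829b0108000)
 (.cons 32 (nat_lit 0x20042808000000001b2c9260)
 (.cons 16 (nat_lit 0x110600002d0200002e9400003f48)
 (.cons 8 (nat_lit 0x200014001a003c00fc00160059005a)
 (.cons 4 (nat_lit 0x2000a0c0f020202020c070c080e00)
 (.cons 2 (nat_lit 0x10120030232231332223120203200)
 (.cons 1 (nat_lit 0x10004401404514101410100401)
 (.cons 2 (nat_lit 0x20002202000022202020200200)
 (.cons 4 (nat_lit 0x80c0802080202080808080e00)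
 (.cons 8 (nat_lit 0x340018003e000800160040005a)
 (.cons 16 (nat_lit 0x31240000a74000002e9400003f48)
 (.cons 32 (nat_lit 0x20042808000000001b2c9060)
 (.cons 64 (nat_lit 0x31270829b0108000)
 .nil)))))))))))))
noncomputable def a92 : Net := (.cons 64 (nat_lit 0xea02b63d319dafc6)
 (.cons 32 (nat_lit 0xea22ea3b00000000d2de9adc)
 (.cons 16 (nat_lit 0x203a000012000000cc1b000001fe)
 (.cons 8 (nat_lit 0x400036006b00d100190049001500a4)
 (.cons 4 (nat_lit 0xa080e0506010f080e0d0900000c0604)
 (.cons 2 (nat_lit 0x220013103002003123001120130)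
 (.cons 1 (nat_lit 0x504440440100141444051104454144)
 (.cons 2 (nat_lit 0x220200200000000002000000020)
 (.cons 4 (nat_lit 0x80c0402000c08060c040000000604)
 (.cons 8 (nat_lit 0x40003400b400e20088005a001800e4)
 (.cons 16 (nat_lit 0x48380000209600008d80000001fe)
 (.cons 32 (nat_lit 0xea22e82a00000000d7d7dbd6)
 (.cons 64 (nat_lit 0xea02b63e719eb89c)
 .nil)))))))))))))
noncomputable def a93 : Net := (.cons 64 (nat_lit 0xd8aa9ca8bea24338)
 (.cons 32 (nat_lit 0x8ed3201100000000a7866781)
 (.cons 16 (nat_lit 0xb6f6000046e20000e3c30000383a)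
 (.cons 8 (nat_lit 0x8e009200fe00c300c7004b006e0041)
 (.cons 4 (nat_lit 0x60200080208000c0e020a06050f040c)
 (.cons 2 (nat_lit 0x12032230020022200111033003202330)
 (.cons 1 (nat_lit 0x54041441411011040510404015501500)
 (.cons 2 (nat_lit 0x2020222020000000000000002000)
 (.cons 4 (nat_lit 0x80a0000040200000a020e06040c0408)
 (.cons 8 (nat_lit 0xb2008a007000c200800048004a0078)
 (.cons 16 (nat_lit 0x226e00004f6e0000e4040000084e)
 (.cons 32 (nat_lit 0x165324100000000083c3049c)
 (.cons 64 (nat_lit 0xd8aa9cae2cf0d6fc)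
 .nil)))))))))))))
noncomputable def a94 : Net := (.cons 64 (nat_lit 0xfb73f9e4a441974d)
 (.cons 32 (nat_lit 0x916f2ed900000000418c7d96)
 (.cons 16 (nat_lit 0x9edb0000302e00004608000000e5)
 (.cons 8 (nat_lit 0x40004a0086001000cc002c00ac006a)
 (.cons 4 (nat_lit 0xe0c0301030700070604010e0a060200)
 (.cons 2 (nat_lit 0x1320003231200022200101002330200)
 (.cons 1 (nat_lit 0x44144011104440044100040114404400)
 (.cons 2 (nat_lit 0x20000002000000020200000022000200)
 (.cons 4 (nat_lit 0xe0804020800040e00000608000c00)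
 (.cons 8 (nat_lit 0xbc0058008c001000cc002400ae00e8)
 (.cons 16 (nat_lit 0x55f0000020ec00000680000084ea)
 (.cons 32 (nat_lit 0x102d27140000000045887d86)
 (.cons 64 (nat_lit 0xfb73f9e0fe2e9d40)
 .nil)))))))))))))
noncomputable def a95 : Net := (.cons 64 (nat_lit 0xed0b4265a667323c)
 (.cons 32 (nat_lit 0xb4ad51c0000000008ae02d3b)
 (.cons 16 (nat_lit 0x48700004c3a000019a60000b01a)
 (.cons 8 (nat_lit 0xd500e7003700040090009800eb0055)
 (.cons 4 (nat_lit 0x8040b000002000b000200090e020808)
 (.cons 2 (nat_lit 0x1010302020120010212002030211301)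
 (.cons 1 (nat_lit 0x100004110140400114101054101441)
 (.cons 2 (nat_lit 0x2200220200022200000002200)
 (.cons 4 (nat_lit 0x60c040a02000a0004000000040a08)
 (.cons 8 (nat_lit 0x5400a2001c00040090002000680042)
 (.cons 16 (nat_lit 0x448200000c3a000099a60000b14c)
 (.cons 32 (nat_lit 0x94ad51c0000000009a008932)
 (.cons 64 (nat_lit 0xed0b4265a66f3204)
 .nil)))))))))))))
noncomputable def a96 : Net := (.cons 64 (nat_lit 0x2209d9ec06e3275b)
 (.cons 32 (nat_lit 0x1ba5500e00000000df54e229)
 (.cons 16 (nat_lit 0x2b0100003b94000051be0000bb9b)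
 (.cons 8 (nat_lit 0x9d00ca002000ac00d0000100510012)
 (.cons 4 (nat_lit 0x80103020709080f0a020f000a04030c)
 (.cons 2 (nat_lit 0x1001223013000011020212101012220)
 (.cons 1 (nat_lit 0x4100041544440044044441041010414)
 (.cons 2 (nat_lit 0x22002220002002200000000020)
 (.cons 4 (nat_lit 0x80e020808080e080e0008060004)
 (.cons 8 (nat_lit 0x9c00a200fc008e00d000040064001a)
 (.cons 16 (nat_lit 0x232800005f8c000011aa000082ca)
 (.cons 32 (nat_lit 0x19ac40e0000000008bd2c632)
 (.cons 64 (nat_lit 0x2209d9e4e1217628)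
 .nil)))))))))))))
noncomputable def a97 : Net := (.cons 64 (nat_lit 0x11a515e333a90e5e)
 (.cons 32 (nat_lit 0x2948877c00000000e44be038)
 (.cons 16 (nat_lit 0x2c100000b0dd0000e03900007420)
 (.cons 8 (nat_lit 0x7800980002008a007a002c000600cd)
 (.cons 4 (nat_lit 0x6080a0006020a040a000003010c030d)
 (.cons 2 (nat_lit 0x13032010100112321200000202120221)
 (.cons 1 (nat_lit 0x5010040014511114401040110440541)
 (.cons 2 (nat_lit 0x20020000002020002000020020020)
 (.cons 4 (nat_lit 0x2080002040a0a040400080008000200)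
 (.cons 8 (nat_lit 0x6c00300000000e0070002e001c00ca)
 (.cons 16 (nat_lit 0x3cd00000b4580000a82800007338)
 (.cons 32 (nat_lit 0x29cd8354000000004c43e23c)
 (.cons 64 (nat_lit 0x11a515e10379183c)
 .nil)))))))))))))
noncomputable def a98 : Net := (.cons 64 (nat_lit 0x1cb5860347ed2bc9)
 (.cons 32 (nat_lit 0x757a50300000000087298ebd)
 (.cons 16 (nat_lit 0xbdda00000d200000d6220000d91a)
 (.cons 8 (nat_lit 0x1600de000500c40010005e005c00a5)
 (.cons 4 (nat_lit 0xe0a05020b010408060a0c0401020402)
 (.cons 2 (nat_lit 0x30230202010000232030002011100220)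
 (.cons 1 (nat_lit 0x44141510100004014051144501105100)
 (.cons 2 (nat_lit 0x20222000200002020000020000200200)
 (.cons 4 (nat_lit 0xe0a0c020a00040204080c04000a0000)
 (.cons 8 (nat_lit 0x120088000000c0001200fc001c0064)
 (.cons 16 (nat_lit 0xa9d400000324000034200000d894)
 (.cons 32 (nat_lit 0x657a523000000000e721f684)
 (.cons 64 (nat_lit 0x1cb5860958a1bad2)
 .nil)))))))))))))
noncomputable def a99 : Net := (.cons 64 (nat_lit 0x31270829b0108000)
 (.cons 32 (nat_lit 0x20042808000000001b2c9260)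
 (.cons 16 (nat_lit 0x110600002d0200002e9400003f48)
 (.cons 8 (nat_lit 0x200014001a003c00fc00160059005a)
 (.cons 4 (nat_lit 0x2000a0c0f020202020c070c080e00)
 (.cons 2 (nat_lit 0x10120030232231332223120203200)
 (.cons 1 (nat_lit 0x10004401404514101410100401)
 (.cons 2 (nat_lit 0x20002202000022202020200200)
 (.cons 4 (nat_lit 0x80c0802080202080808080e00)
 (.cons 8 (nat_lit 0x340018003e000800160040005a)
 (.cons 16 (nat_lit 0x31240000a74000002e9400003f48)
 (.cons 32 (nat_lit 0x20042808000000001b2c9060)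
 (.cons 64 (nat_lit 0x31270829b0108000)
 .nil)))))))))))))
noncomputable def a100 : Net := (.cons 64 (nat_lit 0x1b110f821ef54280)
 (.cons 32 (nat_lit 0x2f3028400000000002ee0400)
 (.cons 16 (nat_lit 0x3f04000092a1000090000000ae74)
 (.cons 8 (nat_lit 0x3200cc00a2009a00300084008000f1)
 (.cons 4 (nat_lit 0x5020a0008040202060c04000a0a0806)
 (.cons 2 (nat_lit 0x20011003202200000002203200320101)
 (.cons 1 (nat_lit 0x40000000011410100010405410014040)
 (.cons 2 (nat_lit 0x20000000002200000000200200020000)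
 (.cons 4 (nat_lit 0x40000000804020200080400020a0408)
 (.cons 8 (nat_lit 0x3200cc00a20000003000840080002c)
 (.cons 16 (nat_lit 0x1d04000092a0000090000000ae54)
 (.cons 32 (nat_lit 0x2f3028400000000002ee0400)
 (.cons 64 (nat_lit 0x1b110f821ef54280)
 .nil)))))))))))))
noncomputable def a101 : Net := (.cons 64 (nat_lit 0x26eedc16f3b559a)
 (.cons 32 (nat_lit 0x8ce13f670000000070cf78cc)
 (.cons 16 (nat_lit 0x13e600002b0000004d6600002539)
 (.cons 8 (nat_lit 0x6000e6001600a600c0001e00f20000)
 (.cons 4 (nat_lit 0x3080e0409080e070006090500090604)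
 (.cons 2 (nat_lit 0x12000003030023313010323121002020)
 (.cons 1 (nat_lit 0x14054044144041510014041410414041)
 (.cons 2 (nat_lit 0x22002020222022020022022000022020)
 (.cons 4 (nat_lit 0xc00080e0c080e04080a0e0000000406)
 (.cons 8 (nat_lit 0x600028004e00a20020000000f20022)
 (.cons 16 (nat_lit 0x9f8400000b04000045e400003438)
 (.cons 32 (nat_lit 0x8ecf92200000000008cf78f4)
 (.cons 64 (nat_lit 0x26eedc5c3075f9e)
 .nil)))))))))))))
noncomputable def a102 : Net := (.cons 64 (nat_lit 0xfa392ea069c6371c)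
 (.cons 32 (nat_lit 0x628f06d90000000010564b6a)
 (.cons 16 (nat_lit 0xcac60000692200000e22000003f0)
 (.cons 8 (nat_lit 0x3000ea008000f900f6005f00540020)
 (.cons 4 (nat_lit 0xa090803030f04010a000c0501000c08)
 (.cons 2 (nat_lit 0x102231032202101100221120011300)
 (.cons 1 (nat_lit 0x10410011150441040100140040000441)
 (.cons 2 (nat_lit 0x20000002000222000000220000000020)
 (.cons 4 (nat_lit 0x804000006040e040000040000000c06)
 (.cons 8 (nat_lit 0xa006600b8007800e4004a00d400c2)
 (.cons 16 (nat_lit 0xc0580000040200000e700000a372)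
 (.cons 32 (nat_lit 0x908e2678000000001454cb60)
 (.cons 64 (nat_lit 0xfa392ea2385db708)
 .nil)))))))))))))
noncomputable def a103 : Net := (.cons 64 (nat_lit 0xd6a40f9e12743f68)
 (.cons 32 (nat_lit 0xfa93203f000000007e91f66f)
 (.cons 16 (nat_lit 0x49b3000096c00000f04900009972)
 (.cons 8 (nat_lit 0x860068004c0088000f00320081003b)
 (.cons 4 (nat_lit 0x30d000c0204070c0a000400010e0002)
 (.cons 2 (nat_lit 0x120021322010001002000002030201)
 (.cons 1 (nat_lit 0x14010440414014010105001001041005)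
 (.cons 2 (nat_lit 0x2020200020000020200000002020000)
 (.cons 4 (nat_lit 0xa0c000a02040a080a04000200020006)
 (.cons 8 (nat_lit 0x940062000c00540086003000a0003a)
 (.cons 16 (nat_lit 0x4100000094400000b0480000b024)
 (.cons 32 (nat_lit 0x6c1328b0000000007e81d646)
 (.cons 64 (nat_lit 0xd6a40f9d1c741f20)
 .nil)))))))))))))
noncomputable def a104 : Net := (.cons 64 (nat_lit 0x1c97daaa84436e18)
 (.cons 32 (nat_lit 0x8ba84655000000007926f928)
 (.cons 16 (nat_lit 0xc74200000b6c0000b64600004283)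
 (.cons 8 (nat_lit 0x7a001d0049008c00b8002e0033000b)
 (.cons 4 (nat_lit 0x20504020c0a04040408030a09060c01)
 (.cons 2 (nat_lit 0x10101221200330032032110003030020)
 (.cons 1 (nat_lit 0x54050114410010044450104015044011)
 (.cons 2 (nat_lit 0x2000020000020002000000000020020)
 (.cons 4 (nat_lit 0xc04000e0c040c0400000808040800)
 (.cons 8 (nat_lit 0xba00800048000c00f000640030004a)
 (.cons 16 (nat_lit 0xc54c0000536a0000de440000479a)
 (.cons 32 (nat_lit 0x833954da000000007966f928)
 (.cons 64 (nat_lit 0x1c97daa2890fe912)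
 .nil)))))))))))))
noncomputable def a105 : Net := (.cons 64 (nat_lit 0x75398ca1df620812)
 (.cons 32 (nat_lit 0x51412ce200000000939bfe35)
 (.cons 16 (nat_lit 0xac5c00007f3300001347000000ee)
 (.cons 8 (nat_lit 0x2c00700097000f009100ca00a20095)
 (.cons 4 (nat_lit 0xa000a050a09050301040200060d06)
 (.cons 2 (nat_lit 0x1020012312220000121100220303)
 (.cons 1 (nat_lit 0x50410000041041411001011404401014)
 (.cons 2 (nat_lit 0x2022200000022000000002)
 (.cons 4 (nat_lit 0xa04000008080e0200000c00000804)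
 (.cons 8 (nat_lit 0x70009000a2000200c800a000b4)
 (.cons 16 (nat_lit 0xac1c000072220000130c000060a8)
 (.cons 32 (nat_lit 0x555120e600000000919ffc36)
 (.cons 64 (nat_lit 0x75398ca1d0668902)
 .nil)))))))))))))
noncomputable def a106 : Net := (.cons 64 (nat_lit 0x31270829b0108000)
 (.cons 32 (nat_lit 0x20042808000000001b2c9260)
 (.cons 16 (nat_lit 0x110600002d0200002e9400003f48)
 (.cons 8 (nat_lit 0x200014001a003c00fc00160059005a)
 (.cons 4 (nat_lit 0x2000a0c0f020202020c070c080e00)
 (.cons 2 (nat_lit 0x10120030232231332223120203200)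
 (.cons 1 (nat_lit 0x10004401404514101410100401)
 (.cons 2 (nat_lit 0x20002202000022202020200200)
 (.cons 4 (nat_lit 0x80c0802080202080808080e00)
 (.cons 8 (nat_lit 0x340018003e000800160040005a)
 (.cons 16 (nat_lit 0x31240000a74000002e9400003f48)
 (.cons 32 (nat_lit 0x20042808000000001b2c9060)
 (.cons 64 (nat_lit 0x31270829b0108000)
 .nil)))))))))))))
noncomputable def a107 : Net := (.cons 64 (nat_lit 0x2bcc5048ec262158)
 (.cons 32 (nat_lit 0x2b14d2100000000042460548)
 (.cons 16 (nat_lit 0x83040000fc82000056300000838a)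
 (.cons 8 (nat_lit 0x60000a00c10069006000a0009c00a9)
 (.cons 4 (nat_lit 0xc0204050400060a06000f0a0b020109)
 (.cons 2 (nat_lit 0x2220302230122222202310000230220)
 (.cons 1 (nat_lit 0x4100504140110004404145040100110)
 (.cons 2 (nat_lit 0x2200002220020002202200000200220)
 (.cons 4 (nat_lit 0x4020400040402000000000a08020008)
 (.cons 8 (nat_lit 0x60004800820040006000a0009c0010)
 (.cons 16 (nat_lit 0x83040000fc820000563000008388)
 (.cons 32 (nat_lit 0x291092100000000042460548)
 (.cons 64 (nat_lit 0x2bcc5048ec262158)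
 .nil)))))))))))))
noncomputable def a108 : Net := (.cons 64 (nat_lit 0x8dcb3592619befe3)
 (.cons 32 (nat_lit 0x2772ad6c00000000c404fe8c)
 (.cons 16 (nat_lit 0x812800007d530000f612000039b1)
 (.cons 8 (nat_lit 0xea003c008f001f00e2008000420059)
 (.cons 4 (nat_lit 0xc03080f0109000a060c0c050407050c)
 (.cons 2 (nat_lit 0x3222230230003311000322002130330)
 (.cons 1 (nat_lit 0x44110145010401100004401404041511)
 (.cons 2 (nat_lit 0x20200000002000002200000020022)
 (.cons 4 (nat_lit 0x80800000008000a04080e0c04000602)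
 (.cons 8 (nat_lit 0xc8009c000a001200c4003000400040)
 (.cons 16 (nat_lit 0x2cb800002c540000501200003ba6)
 (.cons 32 (nat_lit 0x2e78a87400000000d600bc8e)
 (.cons 64 (nat_lit 0x8dcb3595795859c2)
 .nil)))))))))))))
noncomputable def a109 : Net := (.cons 64 (nat_lit 0x1144120d00184396)
 (.cons 32 (nat_lit 0x2d61815100000000845db971)
 (.cons 16 (nat_lit 0x3410000820c000096f300002999)
 (.cons 8 (nat_lit 0x44009a000200220072003c00330092)
 (.cons 4 (nat_lit 0xb020209030204080c060a0e09030e0c)
 (.cons 2 (nat_lit 0x13000202002030001220200020203021)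
 (.cons 1 (nat_lit 0x54011101101400050415144505111040)
 (.cons 2 (nat_lit 0x2000202000000000020220000220000)
 (.cons 4 (nat_lit 0xe020208020e040a060a060002000608)
 (.cons 8 (nat_lit 0x40009a000000a0005200de003000d0)
 (.cons 16 (nat_lit 0x340000082880000567c00000f0a)
 (.cons 32 (nat_lit 0x2d218150000000008a559544)
 (.cons 64 (nat_lit 0x1144120a82dbe186)
 .nil)))))))))))))
noncomputable def a110 : Net := (.cons 64 (nat_lit 0x64757b85dad73bf4)
 (.cons 32 (nat_lit 0x92d298200000000031063a75)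
 (.cons 16 (nat_lit 0x994e0000570300001e02000081eb)
 (.cons 8 (nat_lit 0x490086001f00cc0084002200a1007e)
 (.cons 4 (nat_lit 0xd0a06040e0c08030008040f010408)
 (.cons 2 (nat_lit 0x320022001200212100200321121201)
 (.cons 1 (nat_lit 0x14140404104444101104101400014504)
 (.cons 2 (nat_lit 0x20000202002200202000000200022000)
 (.cons 4 (nat_lit 0x8060c04020a00080808020408080408)
 (.cons 8 (nat_lit 0xc00084001800c4000a00100060007a)
 (.cons 16 (nat_lit 0x4bcc000057020000b60000008158)
 (.cons 32 (nat_lit 0xb2b6ca2000000000328c3e04)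
 (.cons 64 (nat_lit 0x64757b83d8672df4)
 .nil)))))))))))))
noncomputable def a111 : Net := (.cons 64 (nat_lit 0x11a515e10379183c)
 (.cons 32 (nat_lit 0x29cd8354000000000e63aa3c)
 (.cons 16 (nat_lit 0x3cd000007aeb0000805000007318)
 (.cons 8 (nat_lit 0x6c0030003c002100c60006001c0092)
 (.cons 4 (nat_lit 0x2080a020a0705080a07080201000d0f)
 (.cons 2 (nat_lit 0x13010210123330022022001222321010)
 (.cons 1 (nat_lit 0x5040010454141010054041101145040)
 (.cons 2 (nat_lit 0x20000220020002000200220020)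
 (.cons 4 (nat_lit 0x608000002080408080a0000020c0c06)
 (.cons 8 (nat_lit 0x780098004c002600c6000c00060088)
 (.cons 16 (nat_lit 0x2c1000006be80000005a00003400)
 (.cons 32 (nat_lit 0x2948877c00000000a06b2038)
 (.cons 64 (nat_lit 0x11a515e333a90e5e)
 .nil)))))))))))))
noncomputable def a112 : Net := (.cons 64 (nat_lit 0x11a515e10379183c)
 (.cons 32 (nat_lit 0x29cd8354000000000e63aa3c)
 (.cons 16 (nat_lit 0x3cd000007aeb0000805000007318)
 (.cons 8 (nat_lit 0x6c0030003c002100c60006001c0092)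
 (.cons 4 (nat_lit 0x2080a020a0705080a07080201000d0f)
 (.cons 2 (nat_lit 0x13010210123330022022001222321010)
 (.cons 1 (nat_lit 0x5040010454141010054041101145040)
 (.cons 2 (nat_lit 0x20000220020002000200220020)
 (.cons 4 (nat_lit 0x608000002080408080a0000020c0c06)
 (.cons 8 (nat_lit 0x780098004c002600c6000c00060088)
 (.cons 16 (nat_lit 0x2c1000006be80000005a00003400)
 (.cons 32 (nat_lit 0x2948877c00000000a06b2038)
 (.cons 64 (nat_lit 0x11a515e333a90e5e)
 .nil)))))))))))))
noncomputable def a113 : Net := (.cons 64 (nat_lit 0x8dcb3592619befe3)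
 (.cons 32 (nat_lit 0x2772ad6c00000000c404fe8c)
 (.cons 16 (nat_lit 0x812800007d530000f612000039b1)
 (.cons 8 (nat_lit 0xea003c008f001f00e2008000420059)
 (.cons 4 (nat_lit 0xc03080f0109000a060c0c050407050c)
 (.cons 2 (nat_lit 0x3222230230003311000322002130330)
 (.cons 1 (nat_lit 0x44110145010401100004401404041511)
 (.cons 2 (nat_lit 0x20200000002000002200000020022)
 (.cons 4 (nat_lit 0x80800000008000a04080e0c04000602)
 (.cons 8 (nat_lit 0xc8009c000a001200c4003000400040)
 (.cons 16 (nat_lit 0x2cb800002c540000501200003ba6)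
 (.cons 32 (nat_lit 0x2e78a87400000000d600bc8e)
 (.cons 64 (nat_lit 0x8dcb3595795859c2)
 .nil)))))))))))))
noncomputable def a114 : Net := (.cons 64 (nat_lit 0x31270829b0108000)
 (.cons 32 (nat_lit 0x20042808000000001b2c9260)
 (.cons 16 (nat_lit 0x110600002d0200002e9400003f48)
 (.cons 8 (nat_lit 0x200014001a003c00fc00160059005a)
 (.cons 4 (nat_lit 0x2000a0c0f020202020c070c080e00)
 (.cons 2 (nat_lit 0x10120030232231332223120203200)
 (.cons 1 (nat_lit 0x10004401404514101410100401)
 (.cons 2 (nat_lit 0x20002202000022202020200200)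
 (.cons 4 (nat_lit 0x80c0802080202080808080e00)
 (.cons 8 (nat_lit 0x340018003e000800160040005a)
 (.cons 16 (nat_lit 0x31240000a74000002e9400003f48)
 (.cons 32 (nat_lit 0x20042808000000001b2c9060)
 (.cons 64 (nat_lit 0x31270829b0108000)
 .nil)))))))))))))
noncomputable def a115 : Net := (.cons 64 (nat_lit 0x1b110f821ef54280)
 (.cons 32 (nat_lit 0x2f3028400000000002ee0400)
 (.cons 16 (nat_lit 0x3f04000092a1000090000000ae74)
 (.cons 8 (nat_lit 0x3200cc00a2009a00300084008000f1)
 (.cons 4 (nat_lit 0x5020a0008040202060c04000a0a0806)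
 (.cons 2 (nat_lit 0x20011003202200000002203200320101)
 (.cons 1 (nat_lit 0x40000000011410100010405410014040)
 (.cons 2 (nat_lit 0x20000000002200000000200200020000)
 (.cons 4 (nat_lit 0x40000000804020200080400020a0408)
 (.cons 8 (nat_lit 0x3200cc00a20000003000840080002c)
 (.cons 16 (nat_lit 0x1d04000092a0000090000000ae54)
 (.cons 32 (nat_lit 0x2f3028400000000002ee0400)
 (.cons 64 (nat_lit 0x1b110f821ef54280)
 .nil)))))))))))))
noncomputable def a116 : Net := (.cons 64 (nat_lit 0x31270829b0108000)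
 (.cons 32 (nat_lit 0x20042808000000001b2c9260)
 (.cons 16 (nat_lit 0x110600002d0200002e9400003f48)
 (.cons 8 (nat_lit 0x200014001a003c00fc00160059005a)
 (.cons 4 (nat_lit 0x2000a0c0f020202020c070c080e00)
 (.cons 2 (nat_lit 0x10120030232231332223120203200)
 (.cons 1 (nat_lit 0x10004401404514101410100401)
 (.cons 2 (nat_lit 0x20002202000022202020200200)
 (.cons 4 (nat_lit 0x80c0802080202080808080e00)
 (.cons 8 (nat_lit 0x340018003e000800160040005a)
 (.cons 16 (nat_lit 0x31240000a74000002e9400003f48)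
 (.cons 32 (nat_lit 0x20042808000000001b2c9060)
 (.cons 64 (nat_lit 0x31270829b0108000)
 .nil)))))))))))))
noncomputable def a117 : Net := (.cons 64 (nat_lit 0x64757b85dad73bf4)
 (.cons 32 (nat_lit 0x92d298200000000031063a75)
 (.cons 16 (nat_lit 0x994e0000570300001e02000081eb)
 (.cons 8 (nat_lit 0x490086001f00cc0084002200a1007e)
 (.cons 4 (nat_lit 0xd0a06040e0c08030008040f010408)
 (.cons 2 (nat_lit 0x320022001200212100200321121201)
 (.cons 1 (nat_lit 0x14140404104444101104101400014504)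
 (.cons 2 (nat_lit 0x20000202002200202000000200022000)
 (.cons 4 (nat_lit 0x8060c04020a00080808020408080408)
 (.cons 8 (nat_lit 0xc00084001800c4000a00100060007a)
 (.cons 16 (nat_lit 0x4bcc000057020000b60000008158)
 (.cons 32 (nat_lit 0xb2b6ca2000000000328c3e04)
 (.cons 64 (nat_lit 0x64757b83d8672df4)
 .nil)))))))))))))
noncomputable def a118 : Net := (.cons 64 (nat_lit 0x103d8906b8604000)
 (.cons 32 (nat_lit 0x4d28a0800000000cfc62780)
 (.cons 16 (nat_lit 0x12500000ba2800001ac400002b50)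
 (.cons 8 (nat_lit 0xc009c002000420000006600d800e2)
 (.cons 4 (nat_lit 0xa080e080c0a0000000406040b0704)
 (.cons 2 (nat_lit 0x2022101003002000202033002002101)
 (.cons 1 (nat_lit 0x11010005050051404055154515510)
 (.cons 2 (nat_lit 0x22000000000000202000002000000)
 (.cons 4 (nat_lit 0x80806000c0a000000000204080804)
 (.cons 8 (nat_lit 0x8009c002000420000002000d800e2)
 (.cons 16 (nat_lit 0x12500000ba0800001ac400000b40)
 (.cons 32 (nat_lit 0x4c20200000000004fc62780)
 (.cons 64 (nat_lit 0x103d8906b8604000)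
 .nil)))))))))))))
noncomputable def a119 : Net := (.cons 64 (nat_lit 0x7d5f9668a2677458)
 (.cons 32 (nat_lit 0x26722c3d0000000026a2298c)
 (.cons 16 (nat_lit 0xdf380000da090000a1800000e1e9)
 (.cons 8 (nat_lit 0x700030005c001c000400200099000a)
 (.cons 4 (nat_lit 0xa08090e070c0c05000400030a030007)
 (.cons 2 (nat_lit 0x30031101231201320020002030320232)
 (.cons 1 (nat_lit 0x40144141110140510140001141140144)
 (.cons 2 (nat_lit 0x20222000200000000020000220220222)
 (.cons 4 (nat_lit 0x6080c080c0c040c0204000800060002)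
 (.cons 8 (nat_lit 0x70000000ce009c002600a800900008)
 (.cons 16 (nat_lit 0xcb5c00004ac8000081800000e93c)
 (.cons 32 (nat_lit 0x162b3a1800000000a6a22184)
 (.cons 64 (nat_lit 0x7d5f9669a467d61a)
 .nil)))))))))))))
noncomputable def a120 : Net := (.cons 64 (nat_lit 0x124bc49b2c472080)
 (.cons 32 (nat_lit 0xb2952e400000000043b41a00)
 (.cons 16 (nat_lit 0xc8c100008668000004100000ad60)
 (.cons 8 (nat_lit 0x3e003000a0005000a4000600b600bc)
 (.cons 4 (nat_lit 0xc00000a0c08060208000e0d0b080b0a)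
 (.cons 2 (nat_lit 0x20302020300000002200102131220002)
 (.cons 1 (nat_lit 0x10511045500110050400415114411144)
 (.cons 2 (nat_lit 0x20002020000000000200000020220020)
 (.cons 4 (nat_lit 0xa00080c00020208000e0a04080004)
 (.cons 8 (nat_lit 0xa4003200a000500024001a00b600bc)
 (.cons 16 (nat_lit 0xea82000086680000041000008d20)
 (.cons 32 (nat_lit 0xb2952e400000000043b41a00)
 (.cons 64 (nat_lit 0x124bc49b2c472080)
 .nil)))))))))))))
noncomputable def a121 : Net := (.cons 64 (nat_lit 0x8300f0b44229f8eb)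
 (.cons 32 (nat_lit 0xfed31fcc000000000dd53a2d)
 (.cons 16 (nat_lit 0x980000000308000063e70000b9ff)
 (.cons 8 (nat_lit 0x46006700800006002d003400c40030)
 (.cons 4 (nat_lit 0xb000003000404030300000d0000040e)
 (.cons 2 (nat_lit 0x32211112002030000302213301021013)
 (.cons 1 (nat_lit 0x11101444004011110414441440051440)
 (.cons 2 (nat_lit 0x2202200000020200000202000000200)
 (.cons 4 (nat_lit 0x80000040004020800060406000c0808)
 (.cons 8 (nat_lit 0x5600880080002400340054000800ec)
 (.cons 16 (nat_lit 0xe5420000030000005aaa00007528)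
 (.cons 32 (nat_lit 0xfcd36f500000000029303220)
 (.cons 64 (nat_lit 0x8300f0bf2ccd1ba0)
 .nil)))))))))))))
noncomputable def a122 : Net := (.cons 64 (nat_lit 0x10399faad8a7d800)
 (.cons 32 (nat_lit 0xa16d55c00000000028a4640a)
 (.cons 16 (nat_lit 0xc7500000c0080000cc400000776a)
 (.cons 8 (nat_lit 0x44008c008a000600020068000e00dc)
 (.cons 4 (nat_lit 0xc0a04010801040a04040c020a020b0c)
 (.cons 2 (nat_lit 0x3001222002002232120001013301300)
 (.cons 1 (nat_lit 0x15410140040011104000440505514145)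
 (.cons 2 (nat_lit 0x220000002202000000000000200)
 (.cons 4 (nat_lit 0xc0a04000800000a040000020a020400)
 (.cons 8 (nat_lit 0x40000c0080000400000068000600dc)
 (.cons 16 (nat_lit 0xc7500000c0080000cc400000776a)
 (.cons 32 (nat_lit 0xa16d55c00000000028a46408)
 (.cons 64 (nat_lit 0x10399faac8a7d800)
 .nil)))))))))))))
noncomputable def a123 : Net := (.cons 64 (nat_lit 0xe697861909cd1f62)
 (.cons 32 (nat_lit 0xc0c879400000000d4e9c1b4)
 (.cons 16 (nat_lit 0x8c9e00001c080000f81000002f5c)
 (.cons 8 (nat_lit 0xbe0012009f004600b900e70048008b)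
 (.cons 4 (nat_lit 0x402090a050904000906030c07020f06)
 (.cons 2 (nat_lit 0x10210121122130030323300121002012)
 (.cons 1 (nat_lit 0x4010504111550040114510041041411)
 (.cons 2 (nat_lit 0x220000020222000020022002)
 (.cons 4 (nat_lit 0xc02000a0a0c040404060e0404000402)
 (.cons 8 (nat_lit 0xbc0092007800220020006e00400088)
 (.cons 16 (nat_lit 0x80e00000c3e0000b93000002710)
 (.cons 32 (nat_lit 0xc80e018000000000c48980de)
 (.cons 64 (nat_lit 0xe69786130913c9d8)
 .nil)))))))))))))
noncomputable def a124 : Net := (.cons 64 (nat_lit 0x1681978560516c7a)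
 (.cons 32 (nat_lit 0x6bd9f0d70000000087bbc02e)
 (.cons 16 (nat_lit 0x82ca00000600000087cc00004130)
 (.cons 8 (nat_lit 0xfa0038009200a400fa007900f400fc)
 (.cons 4 (nat_lit 0xe0c0a05080c0f08040e0c08010a010e)
 (.cons 2 (nat_lit 0x21001030001210010003130201123220)
 (.cons 1 (nat_lit 0x44145040041111051445414010501150)
 (.cons 2 (nat_lit 0x20020000000200000200220000002000)
 (.cons 4 (nat_lit 0xe060a00080e040004060e080000080c)
 (.cons 8 (nat_lit 0x2000780096002800ba007000bc00f0)
 (.cons 16 (nat_lit 0xd48a000090040000cf8400002870)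
 (.cons 32 (nat_lit 0x6dd8715c00000000c6d3c858)
 (.cons 64 (nat_lit 0x1681978301dc9106)
 .nil)))))))))))))
noncomputable def a125 : Net := (.cons 64 (nat_lit 0x1a8008a85c44542)
 (.cons 32 (nat_lit 0x4110854400000000e71e8158)
 (.cons 16 (nat_lit 0x440000087800000e714000046a0)
 (.cons 8 (nat_lit 0xc000880060002800ca002000a20040)
 (.cons 4 (nat_lit 0x40800000a080709040c0a080e08080c)
 (.cons 2 (nat_lit 0x1000202000112220213020102222202)
 (.cons 1 (nat_lit 0x40500104400055110405415044404440)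
 (.cons 2 (nat_lit 0x202000000220200020020202200)
 (.cons 4 (nat_lit 0x408000008000800040c08080008000c)
 (.cons 8 (nat_lit 0xc00008006000280080002000200040)
 (.cons 16 (nat_lit 0x440000087800000e314000046a0)
 (.cons 32 (nat_lit 0x4110854400000000e71e8058)
 (.cons 64 (nat_lit 0x1a8008a85c44542)
 .nil)))))))))))))
noncomputable def a126 : Net := (.cons 64 (nat_lit 0x284181cda0a12148)
 (.cons 32 (nat_lit 0xac8b50000000000ce6e3a00)
 (.cons 16 (nat_lit 0x12080000c89400005e400000c080)
 (.cons 8 (nat_lit 0x3000a200e000890094003200c60030)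
 (.cons 4 (nat_lit 0xd00040d0100040e00000a08030e08)
 (.cons 2 (nat_lit 0x200220202000320122000000110200)
 (.cons 1 (nat_lit 0x40445040000045010044114141440)
 (.cons 2 (nat_lit 0x220000000020020000000220200)
 (.cons 4 (nat_lit 0xc00040c0000040e00000a080c0608)
 (.cons 8 (nat_lit 0x30002200e000800094002000c60030)
 (.cons 16 (nat_lit 0x12080000889400005e400000c080)
 (.cons 32 (nat_lit 0xac8b50000000000ce6e3a00)
 (.cons 64 (nat_lit 0x284181cda0a12048)
 .nil)))))))))))))
noncomputable def a127 : Net := (.cons 64 (nat_lit 0x8bf7802f1f2716a0)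
 (.cons 32 (nat_lit 0xb1ce27d5000000002621df26)
 (.cons 16 (nat_lit 0xa4ea00004a9500001592000005d4)
 (.cons 8 (nat_lit 0xd600e300a9009c0026008200540082)
 (.cons 4 (nat_lit 0xe030c000606040a060f040e02080b0e)
 (.cons 2 (nat_lit 0x32200122032332200112102230121230)
 (.cons 1 (nat_lit 0x14150104044110110151040511001140)
 (.cons 2 (nat_lit 0x202020220200000000020002000)
 (.cons 4 (nat_lit 0x4080c00020204080604040802000c0e)
 (.cons 8 (nat_lit 0x4c00e200e80094003400c20098008a)
 (.cons 16 (nat_lit 0xa7d4000002900000019200002c00)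
 (.cons 32 (nat_lit 0x32dba7d8000000000621daa0)
 (.cons 64 (nat_lit 0x8bf78020e025f2f2)
 .nil)))))))))))))
noncomputable def a128 : Net := (.cons 64 (nat_lit 0x284181cda0a12148)
 (.cons 32 (nat_lit 0xac8b50000000000ce6e3a00)
 (.cons 16 (nat_lit 0x12080000c89400005e400000c080)
 (.cons 8 (nat_lit 0x3000a200e000890094003200c60030)
 (.cons 4 (nat_lit 0xd00040d0100040e00000a08030e08)
 (.cons 2 (nat_lit 0x200220202000320122000000110200)
 (.cons 1 (nat_lit 0x40445040000045010044114141440)
 (.cons 2 (nat_lit 0x220000000020020000000220200)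
 (.cons 4 (nat_lit 0xc00040c0000040e00000a080c0608)
 (.cons 8 (nat_lit 0x30002200e000800094002000c60030)
 (.cons 16 (nat_lit 0x12080000889400005e400000c080)
 (.cons 32 (nat_lit 0xac8b50000000000ce6e3a00)
 (.cons 64 (nat_lit 0x284181cda0a12048)
 .nil)))))))))))))
noncomputable def a129 : Net := (.cons 64 (nat_lit 0xe6601f2d111eb872)
 (.cons 32 (nat_lit 0x620a7afb00000000cc554412)
 (.cons 16 (nat_lit 0x6122000079810000144100008a80)
 (.cons 8 (nat_lit 0x22004400cc00cb00410050009d00f8)
 (.cons 4 (nat_lit 0x606020b05090d0e04020001060b0e0a)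
 (.cons 2 (nat_lit 0x21001211132222230321300030200300)
 (.cons 1 (nat_lit 0x41041041041141440140104111111550)
 (.cons 2 (nat_lit 0x20020022202200220200002200000)
 (.cons 4 (nat_lit 0x404040400000e080c02040806020e08)
 (.cons 8 (nat_lit 0x4000dc004a004c000400b400c8)
 (.cons 16 (nat_lit 0x7080000eb800000105400009aa8)
 (.cons 32 (nat_lit 0xa00a60fa00000000d45d8458)
 (.cons 64 (nat_lit 0xe6601f2d111e9932)
 .nil)))))))))))))
noncomputable def a130 : Net := (.cons 64 (nat_lit 0xd48bc50366b6d56f)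
 (.cons 32 (nat_lit 0x3aecaa4000000000232d4cb0)
 (.cons 16 (nat_lit 0xf787000085a200004daa00006c98)
 (.cons 8 (nat_lit 0xe00006005000850064003a003800d2)
 (.cons 4 (nat_lit 0xa0806080000090c0c0c010a0a0c0109)
 (.cons 2 (nat_lit 0x20021003011000120031020002301211)
 (.cons 1 (nat_lit 0x1451404005004014045114111041414)
 (.cons 2 (nat_lit 0x202200000000022000022002002202)
 (.cons 4 (nat_lit 0xa0e040c000a080c0c00000e02020c0c)
 (.cons 8 (nat_lit 0x8000cc00c000840008000200220082)
 (.cons 16 (nat_lit 0x1fc40000542800004f8200004e4c)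
 (.cons 32 (nat_lit 0xbe652e440000000003194e78)
 (.cons 64 (nat_lit 0xd48bc5097481b3b8)
 .nil)))))))))))))
noncomputable def a131 : Net := (.cons 64 (nat_lit 0x5cd58803230bcbe3)
 (.cons 32 (nat_lit 0x916c92b0000000002848220c)
 (.cons 16 (nat_lit 0xd5d40000b04300004a7000001c0a)
 (.cons 8 (nat_lit 0x38008500c6001a008200ee002e0072)
 (.cons 4 (nat_lit 0x8010d08060c020402000b08060a010f)
 (.cons 2 (nat_lit 0x20210212000303100030202103000133)
 (.cons 1 (nat_lit 0x100140440104040140450145141054)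
 (.cons 2 (nat_lit 0x200000000002000000200000200002)
 (.cons 4 (nat_lit 0x800000c000c000000000e0a020a0400)
 (.cons 8 (nat_lit 0x2000180004005200c200c0001200f4)
 (.cons 16 (nat_lit 0xcd60000094400000687800005d08)
 (.cons 32 (nat_lit 0x996c1ab40000000008423708)
 (.cons 64 (nat_lit 0x5cd58800a23a0106)
 .nil)))))))))))))
noncomputable def a132 : Net := (.cons 64 (nat_lit 0x1a8008a85c44542)
 (.cons 32 (nat_lit 0x4110854400000000e71e8158)
 (.cons 16 (nat_lit 0x440000087800000e714000046a0)
 (.cons 8 (nat_lit 0xc000880060002800ca002000a20040)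
 (.cons 4 (nat_lit 0x40800000a080709040c0a080e08080c)
 (.cons 2 (nat_lit 0x1000202000112220213020102222202)
 (.cons 1 (nat_lit 0x40500104400055110405415044404440)
 (.cons 2 (nat_lit 0x202000000220200020020202200)
 (.cons 4 (nat_lit 0x408000008000800040c08080008000c)
 (.cons 8 (nat_lit 0xc00008006000280080002000200040)
 (.cons 16 (nat_lit 0x440000087800000e314000046a0)
 (.cons 32 (nat_lit 0x4110854400000000e71e8058)
 (.cons 64 (nat_lit 0x1a8008a85c44542)
 .nil)))))))))))))
noncomputable def a133 : Net := (.cons 64 (nat_lit 0x500994d0828c128)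
 (.cons 32 (nat_lit 0xf30926220000000086518440)
 (.cons 16 (nat_lit 0xce29000048000000728000006a44)
 (.cons 8 (nat_lit 0x1005f00080018000c009600b80004)
 (.cons 4 (nat_lit 0x3080205040000000800060e0a020008)
 (.cons 2 (nat_lit 0x3200010010000000200020100200002)
 (.cons 1 (nat_lit 0x10000401001400414044141050141454)
 (.cons 2 (nat_lit 0x20000200002)
 (.cons 4 (nat_lit 0x208000404000000080006060a000008)
 (.cons 8 (nat_lit 0x1e00080000000c008000b80004)
 (.cons 16 (nat_lit 0x5928000048000000728000006240)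
 (.cons 32 (nat_lit 0xf30926220000000086508440)
 (.cons 64 (nat_lit 0x500994d0828c028)
 .nil)))))))))))))
noncomputable def a134 : Net := (.cons 64 (nat_lit 0x4160f68c500048ed)
 (.cons 32 (nat_lit 0xac8bcbe6000000005240dec6)
 (.cons 16 (nat_lit 0x10b0000c70200008b5b00000a21)
 (.cons 8 (nat_lit 0x8a001800f400170083002800b20059)
 (.cons 4 (nat_lit 0x80601060c040a040c0e0507010208)
 (.cons 2 (nat_lit 0x21020112301011002032322312011020)
 (.cons 1 (nat_lit 0x44410514400400104515141110141001)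
 (.cons 2 (nat_lit 0x2020000200200002020202000200000)
 (.cons 4 (nat_lit 0xa00040c000800020a0004000400000a)
 (.cons 8 (nat_lit 0x8200f800e40016004000f200260050)
 (.cons 16 (nat_lit 0x4d200000d5020000198a00000324)
 (.cons 32 (nat_lit 0xedebd968000000004841df8e)
 (.cons 64 (nat_lit 0x4160f681e14b7530)
 .nil)))))))))))))
noncomputable def a135 : Net := (.cons 64 (nat_lit 0x2b743af68b7e4c47)
 (.cons 32 (nat_lit 0x3194e7800000000be652e44)
 (.cons 16 (nat_lit 0x4f820000d1860000e02b00005428)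
 (.cons 8 (nat_lit 0xbc005d00c200e000b2008000c00014)
 (.cons 4 (nat_lit 0x6020e0b090601030c0d0a0e000a0905)
 (.cons 2 (nat_lit 0x32222020031032110032202101200310)
 (.cons 1 (nat_lit 0x10454111441041140405014500500140)
 (.cons 2 (nat_lit 0x20200020022000020200000000000200)
 (.cons 4 (nat_lit 0x6000a0a0206000e08040a0800000804)
 (.cons 8 (nat_lit 0xf800440052000000fc00e000500080)
 (.cons 16 (nat_lit 0x4daa0000d3c000000868000085a2)
 (.cons 32 (nat_lit 0x232d4cb0000000003aecaa40)
 (.cons 64 (nat_lit 0x2b743afc99492a90)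
 .nil)))))))))))))
noncomputable def a136 : Net := (.cons 64 (nat_lit 0x1681958301dc910e)
 (.cons 32 (nat_lit 0x9a258e2300000000c6d3c858)
 (.cons 16 (nat_lit 0x908b0000b49a0000cca500002870)
 (.cons 8 (nat_lit 0xaa0089001600580099000e00bc00d2)
 (.cons 4 (nat_lit 0xe080a020b08080d0604000c0700040e)
 (.cons 2 (nat_lit 0x30020102120220030203021310220110)
 (.cons 1 (nat_lit 0x40051405114450011445401401501450)
 (.cons 2 (nat_lit 0x20000000000200020000002000002000)
 (.cons 4 (nat_lit 0x4080a0a08000808040e080c060a060e)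
 (.cons 8 (nat_lit 0xa0000800c4001800ba00c400f400cc)
 (.cons 16 (nat_lit 0x828a0000e04a000004dc00004130)
 (.cons 32 (nat_lit 0x9c240f200000000087bbc02e)
 (.cons 64 (nat_lit 0x1681958560512c7a)
 .nil)))))))))))))
noncomputable def a137 : Net := (.cons 64 (nat_lit 0x500994d0828c128)
 (.cons 32 (nat_lit 0xf30926220000000086518440)
 (.cons 16 (nat_lit 0xce29000048000000728000006a44)
 (.cons 8 (nat_lit 0x1005f00080018000c009600b80004)
 (.cons 4 (nat_lit 0x3080205040000000800060e0a020008)
 (.cons 2 (nat_lit 0x3200010010000000200020100200002)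
 (.cons 1 (nat_lit 0x10000401001400414044141050141454)
 (.cons 2 (nat_lit 0x20000200002)
 (.cons 4 (nat_lit 0x208000404000000080006060a000008)
 (.cons 8 (nat_lit 0x1e00080000000c008000b80004)
 (.cons 16 (nat_lit 0x5928000048000000728000006240)
 (.cons 32 (nat_lit 0xf30926220000000086508440)
 (.cons 64 (nat_lit 0x500994d0828c028)
 .nil)))))))))))))
noncomputable def a138 : Net := (.cons 64 (nat_lit 0x1a8008a85c44542)
 (.cons 32 (nat_lit 0x4110854400000000e71e8158)
 (.cons 16 (nat_lit 0x440000087800000e714000046a0)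
 (.cons 8 (nat_lit 0xc000880060002800ca002000a20040)
 (.cons 4 (nat_lit 0x40800000a080709040c0a080e08080c)
 (.cons 2 (nat_lit 0x1000202000112220213020102222202)
 (.cons 1 (nat_lit 0x40500104400055110405415044404440)
 (.cons 2 (nat_lit 0x202000000220200020020202200)
 (.cons 4 (nat_lit 0x408000008000800040c08080008000c)
 (.cons 8 (nat_lit 0xc00008006000280080002000200040)
 (.cons 16 (nat_lit 0x440000087800000e314000046a0)
 (.cons 32 (nat_lit 0x4110854400000000e71e8058)
 (.cons 64 (nat_lit 0x1a8008a85c44542)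
 .nil)))))))))))))
noncomputable def a139 : Net := (.cons 64 (nat_lit 0x725ad7efe2016cc4)
 (.cons 32 (nat_lit 0x521327960000000054db6510)
 (.cons 16 (nat_lit 0xb52b000041840000a03a0000066d)
 (.cons 8 (nat_lit 0xce006000cc00fb006800f000cc0030)
 (.cons 4 (nat_lit 0x20b020f0e040400080c03000e080008)
 (.cons 2 (nat_lit 0x22031030313020130101030300020203)
 (.cons 1 (nat_lit 0x41011001114440054011044141011411)
 (.cons 2 (nat_lit 0x20020000200200000020020000020002)
 (.cons 4 (nat_lit 0x208020e080a0c040c0802080a00000a)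
 (.cons 8 (nat_lit 0xac00220028007a003c00f0006c0080)
 (.cons 16 (nat_lit 0xe7300000c5040000e438000086ec)
 (.cons 32 (nat_lit 0x1201343a00000000555b4500)
 (.cons 64 (nat_lit 0x725ad7ebc61828e4)
 .nil)))))))))))))
noncomputable def a140 : Net := (.cons 64 (nat_lit 0xf248dc6919840421)
 (.cons 32 (nat_lit 0xa43a60ca0000000025682772)
 (.cons 16 (nat_lit 0x723400007f3d000022e500000f24)
 (.cons 8 (nat_lit 0x2400ec002e00be00c9002000180022)
 (.cons 4 (nat_lit 0x80404060809000a020202090d000900)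
 (.cons 2 (nat_lit 0x200211201201300300031201230002)
 (.cons 1 (nat_lit 0x4441404404501104110044004111411)
 (.cons 2 (nat_lit 0x220002000002202200020002220202)
 (.cons 4 (nat_lit 0x8000e040c0c0000040202040c080208)
 (.cons 8 (nat_lit 0x40008e00ba00f600e60000001a002c)
 (.cons 16 (nat_lit 0xf65c0000f730000022f000004ca2)
 (.cons 32 (nat_lit 0xb63a34cc0000000025cb0664)
 (.cons 64 (nat_lit 0xf248dc6708318d20)
 .nil)))))))))))))
noncomputable def a141 : Net := (.cons 64 (nat_lit 0x1a8008a85c44542)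
 (.cons 32 (nat_lit 0x4110854400000000e71e8158)
 (.cons 16 (nat_lit 0x440000087800000e714000046a0)
 (.cons 8 (nat_lit 0xc000880060002800ca002000a20040)
 (.cons 4 (nat_lit 0x40800000a080709040c0a080e08080c)
 (.cons 2 (nat_lit 0x1000202000112220213020102222202)
 (.cons 1 (nat_lit 0x40500104400055110405415044404440)
 (.cons 2 (nat_lit 0x202000000220200020020202200)
 (.cons 4 (nat_lit 0x408000008000800040c08080008000c)
 (.cons 8 (nat_lit 0xc00008006000280080002000200040)
 (.cons 16 (nat_lit 0x440000087800000e314000046a0)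
 (.cons 32 (nat_lit 0x4110854400000000e71e8058)
 (.cons 64 (nat_lit 0x1a8008a85c44542)
 .nil)))))))))))))
noncomputable def a142 : Net := (.cons 64 (nat_lit 0x1681978560516c7a)
 (.cons 32 (nat_lit 0x6bd9f0d70000000087bbc02e)
 (.cons 16 (nat_lit 0x82ca00000600000087cc00004130)
 (.cons 8 (nat_lit 0xfa0038009200a400fa007900f400fc)
 (.cons 4 (nat_lit 0xe0c0a05080c0f08040e0c08010a010e)
 (.cons 2 (nat_lit 0x21001030001210010003130201123220)
 (.cons 1 (nat_lit 0x44145040041111051445414010501150)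
 (.cons 2 (nat_lit 0x20020000000200000200220000002000)
 (.cons 4 (nat_lit 0xe060a00080e040004060e080000080c)
 (.cons 8 (nat_lit 0x2000780096002800ba007000bc00f0)
 (.cons 16 (nat_lit 0xd48a000090040000cf8400002870)
 (.cons 32 (nat_lit 0x6dd8715c00000000c6d3c858)
 (.cons 64 (nat_lit 0x1681978301dc9106)
 .nil)))))))))))))
noncomputable def a143 : Net := (.cons 64 (nat_lit 0xf00c9c07c7cea34)
 (.cons 32 (nat_lit 0x906168c800000000bde8d2aa)
 (.cons 16 (nat_lit 0x1c000000948a00001809000072ca)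
 (.cons 8 (nat_lit 0xcb001800c60044003f00c00082005b)
 (.cons 4 (nat_lit 0x4020a040a0a0e020608080000010301)
 (.cons 2 (nat_lit 0x1200010213021311000002000232332)
 (.cons 1 (nat_lit 0x14500144440140104040410144114)
 (.cons 2 (nat_lit 0x20000222000220200020000022222)
 (.cons 4 (nat_lit 0x4000204080a0e0a0c0808040004000a)
 (.cons 8 (nat_lit 0xca00d000d00040003e004800800040)
 (.cons 16 (nat_lit 0x944000009e120000888000007080)
 (.cons 32 (nat_lit 0x986129c000000000bd8bd2aa)
 (.cons 64 (nat_lit 0xf00c9c0f159285c)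
 .nil)))))))))))))
noncomputable def a144 : Net := (.cons 64 (nat_lit 0xfa5af17f8bc998b)
 (.cons 32 (nat_lit 0xca0b40cf000000000abf3029)
 (.cons 16 (nat_lit 0x8e4e0000079c0000e2a60000301e)
 (.cons 8 (nat_lit 0x13000c00b5000800f0001c004d)
 (.cons 4 (nat_lit 0xa0e0c00020c080808000c0b05040f08)
 (.cons 2 (nat_lit 0x1033103001001033001021212002333)
 (.cons 1 (nat_lit 0x44054101051004155011044401000011)
 (.cons 2 (nat_lit 0x20002202002000000000000202000002)
 (.cons 4 (nat_lit 0xa080c000208000a08000c0204000400)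
 (.cons 8 (nat_lit 0x4009e003400b0000000d0001800bc)
 (.cons 16 (nat_lit 0xf4a000031980000a2ae0000e144)
 (.cons 32 (nat_lit 0xcc2ee1d800000000cab56020)
 (.cons 64 (nat_lit 0xfa5af1ef0a4150a)
 .nil)))))))))))))
noncomputable def a145 : Net := (.cons 64 (nat_lit 0x208024000d848248)
 (.cons 32 (nat_lit 0xa002040000000000f38204d0)
 (.cons 16 (nat_lit 0x653c0000ae2000009f44)
 (.cons 8 (nat_lit 0xa00020007c005000ea00340010001c)
 (.cons 4 (nat_lit 0x20002030805010a0e070209040005)
 (.cons 2 (nat_lit 0x200202130132312302022320)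
 (.cons 1 (nat_lit 0x1454110140001414000040544)
 (.cons 2 (nat_lit 0x200200020002202000020020)
 (.cons 4 (nat_lit 0x202080806000e000200040004)
 (.cons 8 (nat_lit 0x200020007c006000aa00340010001c)
 (.cons 16 (nat_lit 0x640c0000ae2000009f44)
 (.cons 32 (nat_lit 0xa002000000000000f3820450)
 (.cons 64 (nat_lit 0x208024000d840848)
 .nil)))))))))))))
noncomputable def a146 : Net := (.cons 64 (nat_lit 0xf00c9c07c7cea34)
 (.cons 32 (nat_lit 0x906168c800000000bde8d2aa)
 (.cons 16 (nat_lit 0x1c000000948a00001809000072ca)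
 (.cons 8 (nat_lit 0xcb001800c60044003f00c00082005b)
 (.cons 4 (nat_lit 0x4020a040a0a0e020608080000010301)
 (.cons 2 (nat_lit 0x1200010213021311000002000232332)
 (.cons 1 (nat_lit 0x14500144440140104040410144114)
 (.cons 2 (nat_lit 0x20000222000220200020000022222)
 (.cons 4 (nat_lit 0x4000204080a0e0a0c0808040004000a)
 (.cons 8 (nat_lit 0xca00d000d00040003e004800800040)
 (.cons 16 (nat_lit 0x944000009e120000888000007080)
 (.cons 32 (nat_lit 0x986129c000000000bd8bd2aa)
 (.cons 64 (nat_lit 0xf00c9c0f159285c)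
 .nil)))))))))))))
noncomputable def a147 : Net := (.cons 64 (nat_lit 0x688b4aa869d1f90)
 (.cons 32 (nat_lit 0xa954060000000034c79f78)
 (.cons 16 (nat_lit 0x42820000c2da0000024400005200)
 (.cons 8 (nat_lit 0x4400ae000c00f0004400e100810011)
 (.cons 4 (nat_lit 0x40806080c0a040a0c0d030403090b)
 (.cons 2 (nat_lit 0x202020013031032121102303200000)
 (.cons 1 (nat_lit 0x450041051001114145104101414114)
 (.cons 2 (nat_lit 0x200000002000022220200202002000)
 (.cons 4 (nat_lit 0x600060808080c0408080204020802)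
 (.cons 8 (nat_lit 0x44002a00820070000000f400a20042)
 (.cons 16 (nat_lit 0x460a0000449a0000420200005208)
 (.cons 32 (nat_lit 0x221502c00000000bde6dc78)
 (.cons 64 (nat_lit 0x688b4aa0ee85dd0)
 .nil)))))))))))))
noncomputable def a148 : Net := (.cons 64 (nat_lit 0x228a59676bf76d3a)
 (.cons 32 (nat_lit 0xfaccaa300000000039504c7)
 (.cons 16 (nat_lit 0x9ec000012430000d7e00000e040)
 (.cons 8 (nat_lit 0xc2002d000000730094003d00ad0094)
 (.cons 4 (nat_lit 0x20208080006010800040109040e080c)
 (.cons 2 (nat_lit 0x22000302302001202001111221201200)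
 (.cons 1 (nat_lit 0x41041101401411411040411440511140)
 (.cons 2 (nat_lit 0x20000002000000002000220020022220)
 (.cons 4 (nat_lit 0xc000008000e040e0000040800060a08)
 (.cons 8 (nat_lit 0xe800a40010005400940018008800fc)
 (.cons 16 (nat_lit 0x26400005250000053e000008070)
 (.cons 32 (nat_lit 0x2d2cc2ac0000000003f48244)
 (.cons 64 (nat_lit 0x228a596d2172c324)
 .nil)))))))))))))
noncomputable def a149 : Net := (.cons 64 (nat_lit 0x208024000d848248)
 (.cons 32 (nat_lit 0xa002040000000000f38204d0)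
 (.cons 16 (nat_lit 0x653c0000ae2000009f44)
 (.cons 8 (nat_lit 0xa00020007c005000ea00340010001c)
 (.cons 4 (nat_lit 0x20002030805010a0e070209040005)
 (.cons 2 (nat_lit 0x200202130132312302022320)
 (.cons 1 (nat_lit 0x1454110140001414000040544)
 (.cons 2 (nat_lit 0x200200020002202000020020)
 (.cons 4 (nat_lit 0x202080806000e000200040004)
 (.cons 8 (nat_lit 0x200020007c006000aa00340010001c)
 (.cons 16 (nat_lit 0x640c0000ae2000009f44)
 (.cons 32 (nat_lit 0xa002000000000000f3820450)
 (.cons 64 (nat_lit 0x208024000d840848)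
 .nil)))))))))))))
noncomputable def a150 : Net := (.cons 64 (nat_lit 0xdf4f04c5ce420a3)
 (.cons 32 (nat_lit 0x31b1d01c00000000642e0d70)
 (.cons 16 (nat_lit 0x3c14000037800000f6dc00000b86)
 (.cons 8 (nat_lit 0x8400660018006a00060032001a0027)
 (.cons 4 (nat_lit 0x401080c000a0c0c00090c0a08000704)
 (.cons 2 (nat_lit 0x10103231120221020022030200122320)
 (.cons 1 (nat_lit 0x10101440041404410051441441040540)
 (.cons 2 (nat_lit 0x20002200000002000002202200020000)
 (.cons 4 (nat_lit 0x4000c0c02080004000c0c0808040404)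
 (.cons 8 (nat_lit 0x84007a005000e00004001200400084)
 (.cons 16 (nat_lit 0x1c5000007d200000f2d80000c884)
 (.cons 32 (nat_lit 0x3195f0500000000074260d54)
 (.cons 64 (nat_lit 0xdf4f04c71443cf8)
 .nil)))))))))))))
noncomputable def a151 : Net := (.cons 64 (nat_lit 0x4a4354f9ca5e8190)
 (.cons 32 (nat_lit 0x217673a0000000004497e10e)
 (.cons 16 (nat_lit 0x3fbe0000cc9600009abb0000124c)
 (.cons 8 (nat_lit 0x71006b00c200ca006f001d001c00a8)
 (.cons 4 (nat_lit 0x20804060a0d0e0c08080d020b00070b)
 (.cons 2 (nat_lit 0x31200200200310210022102023200010)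
 (.cons 1 (nat_lit 0x41110411140014000104101001504041)
 (.cons 2 (nat_lit 0x20020202000000000002200002002020)
 (.cons 4 (nat_lit 0x40204000e080a04000c000002000408)
 (.cons 8 (nat_lit 0x66006a004400420066003c00a8003a)
 (.cons 16 (nat_lit 0x3e9800008c940000fbb40000b44c)
 (.cons 32 (nat_lit 0x6374772800000000c1b74800)
 (.cons 64 (nat_lit 0x4a4354f63c11469c)
 .nil)))))))))))))
noncomputable def a152 : Net := (.cons 64 (nat_lit 0x89d2a21f8d470318)
 (.cons 32 (nat_lit 0x1da260120000000083a4eebf)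
 (.cons 16 (nat_lit 0xe89a0000df030000649a00007642)
 (.cons 8 (nat_lit 0x60008400920072008e00e000040098)
 (.cons 4 (nat_lit 0xe0608000602050c0a0b0b0c00060a07)
 (.cons 2 (nat_lit 0x20220021023020003200000310013)
 (.cons 1 (nat_lit 0x5140410415004001101514000410415)
 (.cons 2 (nat_lit 0x20020002002000020000200000)
 (.cons 4 (nat_lit 0xa0600000c020e0008080e0800000000)
 (.cons 8 (nat_lit 0x1000840002007000b8000400140096)
 (.cons 16 (nat_lit 0x68880000ff000000e4b200003600)
 (.cons 32 (nat_lit 0x9db0e0080000000093a5f652)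
 (.cons 64 (nat_lit 0x89d2a21f9a573b10)
 .nil)))))))))))))
noncomputable def a153 : Net := (.cons 64 (nat_lit 0x6e91ca6a994d79d5)
 (.cons 32 (nat_lit 0xc89222f7000000009dd22456)
 (.cons 16 (nat_lit 0x26d60000da2f0000a19000003c7f)
 (.cons 8 (nat_lit 0xd600b00071006400be0040003900cc)
 (.cons 4 (nat_lit 0x80c020000090c080e0001020309020c)
 (.cons 2 (nat_lit 0x20030022312131003210212003222001)
 (.cons 1 (nat_lit 0x54055401101411400104101005144404)
 (.cons 2 (nat_lit 0x2000200000220000200200000022202)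
 (.cons 4 (nat_lit 0xc00020a000a0806000402080a080c)
 (.cons 8 (nat_lit 0x14003200980024009600c40020000c)
 (.cons 16 (nat_lit 0x4cc40000c3020000a40c00003c70)
 (.cons 32 (nat_lit 0xc893e0f2000000008cf624d4)
 (.cons 64 (nat_lit 0x6e91ca621dce3b80)
 .nil)))))))))))))
noncomputable def a154 : Net := (.cons 64 (nat_lit 0xd0a0a044990e0240)
 (.cons 32 (nat_lit 0x7c0110500000000024291502)
 (.cons 16 (nat_lit 0x342800008b24000056800000219e)
 (.cons 8 (nat_lit 0xc0000400c0000200b0000a00ce0045)
 (.cons 4 (nat_lit 0x200000208040000000e00080101040a)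
 (.cons 2 (nat_lit 0x22022010102020233120002221021220)
 (.cons 1 (nat_lit 0x10410000004401400010050411004414)
 (.cons 2 (nat_lit 0x20020000002000200020000202000220)
 (.cons 4 (nat_lit 0x200000000040000000800080a000408)
 (.cons 8 (nat_lit 0xc0000000c0000200b0000a008e00c0)
 (.cons 16 (nat_lit 0x342800008b24000056800000311a)
 (.cons 32 (nat_lit 0x7c0110500000000024291400)
 (.cons 64 (nat_lit 0xd0a0a044990e0240)
 .nil)))))))))))))
noncomputable def a155 : Net := (.cons 64 (nat_lit 0xdac4f8e2de7f3a68)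
 (.cons 32 (nat_lit 0xae72c62000000005596d9f6)
 (.cons 16 (nat_lit 0x1e4a000009b40000f48e0000a50b)
 (.cons 8 (nat_lit 0x7000a000940094001a00560025001e)
 (.cons 4 (nat_lit 0xd02060a04070e0801090400020f00)
 (.cons 2 (nat_lit 0x20220020222023001320230200101203)
 (.cons 1 (nat_lit 0x44145041141410144410141401051004)
 (.cons 2 (nat_lit 0x200000000020200000222202002002)
 (.cons 4 (nat_lit 0x402060808020600000e0800000c00)
 (.cons 8 (nat_lit 0x740040000c00c4009a0056000c001e)
 (.cons 16 (nat_lit 0xe2a0000c97c0000e52a0000a20a)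
 (.cons 32 (nat_lit 0x8027ec6c0000000054a5d8e0)
 (.cons 64 (nat_lit 0xdac4f8e67d8e4a08)
 .nil)))))))))))))
noncomputable def a156 : Net := (.cons 64 (nat_lit 0x54fb5180b478ac7f)
 (.cons 32 (nat_lit 0x2f3e61c700000000971af946)
 (.cons 16 (nat_lit 0x5bae000054f30000e8720000e924)
 (.cons 8 (nat_lit 0xbc00c90080002f00d6001800c000a7)
 (.cons 4 (nat_lit 0x802040e04000600060a00020c080a06)
 (.cons 2 (nat_lit 0x20012003100200122310220020002302)
 (.cons 1 (nat_lit 0x14011444401101054114011004040105)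
 (.cons 2 (nat_lit 0x20002202000200002222000000000200)
 (.cons 4 (nat_lit 0x6040c04020008060600020c080006)
 (.cons 8 (nat_lit 0xb800aa0080006800d8001a00e000c2)
 (.cons 16 (nat_lit 0x2b62000014500000c968000041e4)
 (.cons 32 (nat_lit 0x2bf6714800000000951af120)
 (.cons 64 (nat_lit 0x54fb51887098a466)
 .nil)))))))))))))
noncomputable def a157 : Net := (.cons 64 (nat_lit 0xa29c820a20530808)
 (.cons 32 (nat_lit 0x9fea4000000000004a8190c6)
 (.cons 16 (nat_lit 0xb3a00000d0500000734000002470)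
 (.cons 8 (nat_lit 0xa005000a400d00028006000400060)
 (.cons 4 (nat_lit 0x800000f00080204020c0f0006030404)
 (.cons 2 (nat_lit 0x102033220000220023200000000222)
 (.cons 1 (nat_lit 0x4040100145014000105440401111141)
 (.cons 2 (nat_lit 0x220000000000020000000222)
 (.cons 4 (nat_lit 0x800000000080200020c000002000004)
 (.cons 8 (nat_lit 0x8005000a400d00028006000400060)
 (.cons 16 (nat_lit 0xb3a00000d0500000334000002030)
 (.cons 32 (nat_lit 0x9fea4000000000004a819044)
 (.cons 64 (nat_lit 0xa29c820a20530808)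
 .nil)))))))))))))
noncomputable def a158 : Net := (.cons 64 (nat_lit 0x3b32790507212b46)
 (.cons 32 (nat_lit 0x9b18248f00000000ff8af5e2)
 (.cons 16 (nat_lit 0xeb80000d847000025af000040b1)
 (.cons 8 (nat_lit 0x5a002c007500260038000c0008)
 (.cons 4 (nat_lit 0x40008030902080503020c030801040c)
 (.cons 2 (nat_lit 0x22020030123331012003202100210010)
 (.cons 1 (nat_lit 0x41001041105440015441100104404415)
 (.cons 2 (nat_lit 0x2002022000200020022200000200200)
 (.cons 4 (nat_lit 0x40808040a080c04000800020004080c)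
 (.cons 8 (nat_lit 0x88006200680044002c006c008c000a)
 (.cons 16 (nat_lit 0x17b80000b0000000a0ea0000c0dc)
 (.cons 32 (nat_lit 0xb22a5d8a00000000ffc7f584)
 (.cons 64 (nat_lit 0x3b32790c23695338)
 .nil)))))))))))))
noncomputable def a159 : Net := (.cons 64 (nat_lit 0x1c56ca043a9ccbed)
 (.cons 32 (nat_lit 0xa968f89b000000000bd62b55)
 (.cons 16 (nat_lit 0x4f8a0000cc440000868f00007700)
 (.cons 8 (nat_lit 0xfa003500120060005f00ce00b100ea)
 (.cons 4 (nat_lit 0x201010e0d020a090a050b0c080d00)
 (.cons 2 (nat_lit 0x30122001101202013001102202023012)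
 (.cons 1 (nat_lit 0x10401014140101401044510101111144)
 (.cons 2 (nat_lit 0x2002000000200002000002220222)
 (.cons 4 (nat_lit 0x80c00000a08020a0e0a000008000a00)
 (.cons 8 (nat_lit 0x40002400960020001000ec00b0007c)
 (.cons 16 (nat_lit 0xe7800000800000008fa800004300)
 (.cons 32 (nat_lit 0xad6c7098000000008bdf3f68)
 (.cons 64 (nat_lit 0x1c56ca01248c6720)
 .nil)))))))))))))
noncomputable def a160 : Net := (.cons 64 (nat_lit 0x29815265467b992b)
 (.cons 32 (nat_lit 0xa433047000000004292741a)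
 (.cons 16 (nat_lit 0x84900003c870000627a0000b96c)
 (.cons 8 (nat_lit 0xc0006000c4000c00c400230076004c)
 (.cons 4 (nat_lit 0xc000a0401060a08040e040503060305)
 (.cons 2 (nat_lit 0x3023001012222230030112103222012)
 (.cons 1 (nat_lit 0x4004000004514114040541501401511)
 (.cons 2 (nat_lit 0x2222000022002202020)
 (.cons 4 (nat_lit 0xe000a0000020c08040202040000060c)
 (.cons 8 (nat_lit 0xc0004000c000e8004000e8005e00d4)
 (.cons 16 (nat_lit 0x80800002ca60000f27000009c76)
 (.cons 32 (nat_lit 0x2a4222020000000046e6749c)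
 (.cons 64 (nat_lit 0x29815262d1d75d2a)
 .nil)))))))))))))
noncomputable def a161 : Net := (.cons 64 (nat_lit 0x80790005acc9e400)
 (.cons 32 (nat_lit 0x44d8142800000000cbbeb408)
 (.cons 16 (nat_lit 0x908000003a780000251400001b80)
 (.cons 8 (nat_lit 0x48000000a000b0000e009000c6005c)
 (.cons 4 (nat_lit 0x108020002080c0006080c00000b0e)
 (.cons 2 (nat_lit 0x10200023002002102130022030011330)
 (.cons 1 (nat_lit 0x4400405001510001040004051001410)
 (.cons 2 (nat_lit 0x200000002000000000002000000000)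
 (.cons 4 (nat_lit 0x802000208040204080400000406)
 (.cons 8 (nat_lit 0x48000000a000b000b4008000c600c6)
 (.cons 16 (nat_lit 0x9080000032380000251400001b80)
 (.cons 32 (nat_lit 0x44d814280000000099beb008)
 (.cons 64 (nat_lit 0x80790005acc9a400)
 .nil)))))))))))))
noncomputable def a162 : Net := (.cons 64 (nat_lit 0xe8205c7f165c346)
 (.cons 32 (nat_lit 0x70d00dfc000000008831f7cc)
 (.cons 16 (nat_lit 0x6252000016e6000011440000c3eb)
 (.cons 8 (nat_lit 0x8005600d6002e0040007d00a600eb)
 (.cons 4 (nat_lit 0x40c0c0c06040e0a05090d0c060c080d)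
 (.cons 2 (nat_lit 0x10202023221000010121322310202000)
 (.cons 1 (nat_lit 0x141105014041050050140400405004)
 (.cons 2 (nat_lit 0x202000020020000000020200000000)
 (.cons 4 (nat_lit 0x4040a0c0a040c0a040c080000040808)
 (.cons 8 (nat_lit 0x8001600d2008c0010002200b40048)
 (.cons 16 (nat_lit 0x6a40000093e2000008340000c1c8)
 (.cons 32 (nat_lit 0x70d00df0000000008859c7e8)
 (.cons 64 (nat_lit 0xe8205c3b34dc360)
 .nil)))))))))))))
noncomputable def a163 : Net := (.cons 64 (nat_lit 0x8b444e2d4d469804)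
 (.cons 32 (nat_lit 0xb07f00a00000000080281008)
 (.cons 16 (nat_lit 0x3f700000b1c00000304200008970)
 (.cons 8 (nat_lit 0xe0032000000920000008000cf0031)
 (.cons 4 (nat_lit 0x2080f0604000a0008010802080c02)
 (.cons 2 (nat_lit 0x3013220020203010000000023030)
 (.cons 1 (nat_lit 0x4055141100011450000000441415054)
 (.cons 2 (nat_lit 0x2200020200000000002000000)
 (.cons 4 (nat_lit 0x208000200000a0000000808020c02)
 (.cons 8 (nat_lit 0x32000000920000008000200030)
 (.cons 16 (nat_lit 0x3f700000b1c00000304000008970)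
 (.cons 32 (nat_lit 0xb07f00a00000000080281008)
 (.cons 64 (nat_lit 0x8b444e2d4d469804)
 .nil)))))))))))))
noncomputable def a164 : Net := (.cons 64 (nat_lit 0x8402323b0a07c601)
 (.cons 32 (nat_lit 0x2c9e100400000000371b3900)
 (.cons 16 (nat_lit 0x1e1800002cc900005727000029dd)
 (.cons 8 (nat_lit 0x90002000f900360024001e007f00c2)
 (.cons 4 (nat_lit 0x20c040000070400090b060a0e0c0805)
 (.cons 2 (nat_lit 0x20122002032030122112201310012223)
 (.cons 1 (nat_lit 0x10004014051540041001411441050014)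
 (.cons 2 (nat_lit 0x20002000000000022000220002000000)
 (.cons 4 (nat_lit 0xc040008040604080c0402020c0008)
 (.cons 8 (nat_lit 0x10000800fa00700024005200b600a0)
 (.cons 16 (nat_lit 0x1e180000bee8000073ac00006ad4)
 (.cons 32 (nat_lit 0x289e1024000000003713310a)
 (.cons 64 (nat_lit 0x8402323b0b46e408)
 .nil)))))))))))))
noncomputable def a165 : Net := (.cons 64 (nat_lit 0x1f8d2422c56daa14)
 (.cons 32 (nat_lit 0x272562b600000000c6a202da)
 (.cons 16 (nat_lit 0x671c0000c75000000ba800004314)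
 (.cons 8 (nat_lit 0x400850018001600fc00f200e10021)
 (.cons 4 (nat_lit 0x208080e0805010501080002080b0d04)
 (.cons 2 (nat_lit 0x22230200001101221002303030010102)
 (.cons 1 (nat_lit 0x44110140040450404144404051010441)
 (.cons 2 (nat_lit 0x22220020000200200022002000000022)
 (.cons 4 (nat_lit 0x80c080c0604000000020a000406)
 (.cons 8 (nat_lit 0x380080009c00340074002000ea0020)
 (.cons 16 (nat_lit 0x43100000475800000bb80000d336)
 (.cons 32 (nat_lit 0x3fad469800000000a6c2c252)
 (.cons 64 (nat_lit 0x1f8d242a25c56804)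
 .nil)))))))))))))
noncomputable def a166 : Net := (.cons 64 (nat_lit 0xbd1c90816ef784d0)
 (.cons 32 (nat_lit 0xe9e11048000000004116dc89)
 (.cons 16 (nat_lit 0x95c00000c01e00004f340000b759)
 (.cons 8 (nat_lit 0x90009800d000820054008500a8007e)
 (.cons 4 (nat_lit 0x5080c000c080a0800080f0c07040c)
 (.cons 2 (nat_lit 0x10200310033222211200120122022230)
 (.cons 1 (nat_lit 0x440104141410044401051441150451)
 (.cons 2 (nat_lit 0x200200022020000200002222000000)
 (.cons 4 (nat_lit 0xc000c000408000c000c0c0c04000c)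
 (.cons 8 (nat_lit 0x90009800d0001c001000c400e8007a)
 (.cons 16 (nat_lit 0x15040000761e00000f200000b350)
 (.cons 32 (nat_lit 0xc0e990c80000000043749cc8)
 (.cons 64 (nat_lit 0xbd1c9089eba30c56)
 .nil)))))))))))))
noncomputable def a167 : Net := (.cons 64 (nat_lit 0xb75f9287e2b242a7)
 (.cons 32 (nat_lit 0x199c2ab000000000c0fa846c)
 (.cons 16 (nat_lit 0x1fc800004259000025ee00001b10)
 (.cons 8 (nat_lit 0xac00f0005d0016001000d00028005b)
 (.cons 4 (nat_lit 0x20002040300020700000a050c0808)
 (.cons 2 (nat_lit 0x20000320230230212222202001022103)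
 (.cons 1 (nat_lit 0x14015504410410041044100100514011)
 (.cons 2 (nat_lit 0x20020000000220002022200200020000)
 (.cons 4 (nat_lit 0x80804080a00000a02000000000c0a0c)
 (.cons 8 (nat_lit 0xb400dc007a001200540090003c005e)
 (.cons 16 (nat_lit 0x746000002540000a5f400001c14)
 (.cons 32 (nat_lit 0x8eda2a3800000000c0fa8178)
 (.cons 64 (nat_lit 0xb75f9283c0b046d6)
 .nil)))))))))))))
noncomputable def a168 : Net := (.cons 64 (nat_lit 0xf643941e82a88000)
 (.cons 32 (nat_lit 0x2d73884c0000000001603480)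
 (.cons 16 (nat_lit 0xe550000060900000400c00000d70)
 (.cons 8 (nat_lit 0x20004c00440084006000c0006400c8)
 (.cons 4 (nat_lit 0x4040004000d0c000200060000000c0e)
 (.cons 2 (nat_lit 0x2013203120002230000020020020210)
 (.cons 1 (nat_lit 0x50000100044400000100540044104104)
 (.cons 2 (nat_lit 0x200020000000000020020000200)
 (.cons 4 (nat_lit 0x4040004000008000200060000000c0c)
 (.cons 8 (nat_lit 0x20004800440084002000c0006400c8)
 (.cons 16 (nat_lit 0xe540000040900000400000000d70)
 (.cons 32 (nat_lit 0x2d71884c0000000001603480)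
 (.cons 64 (nat_lit 0xf643941e02a88000)
 .nil)))))))))))))
noncomputable def a169 : Net := (.cons 64 (nat_lit 0x54fb5180b478ac7f)
 (.cons 32 (nat_lit 0x2f3e61c700000000971af946)
 (.cons 16 (nat_lit 0x5bae000054f30000e8720000e924)
 (.cons 8 (nat_lit 0xbc00c90080002f00d6001800c000a7)
 (.cons 4 (nat_lit 0x802040e04000600060a00020c080a06)
 (.cons 2 (nat_lit 0x20012003100200122310220020002302)
 (.cons 1 (nat_lit 0x14011444401101054114011004040105)
 (.cons 2 (nat_lit 0x20002202000200002222000000000200)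
 (.cons 4 (nat_lit 0x6040c04020008060600020c080006)
 (.cons 8 (nat_lit 0xb800aa0080006800d8001a00e000c2)
 (.cons 16 (nat_lit 0x2b62000014500000c968000041e4)
 (.cons 32 (nat_lit 0x2bf6714800000000951af120)
 (.cons 64 (nat_lit 0x54fb51887098a466)
 .nil)))))))))))))
noncomputable def a170 : Net := (.cons 64 (nat_lit 0xe34f810402bd2880)
 (.cons 32 (nat_lit 0x82ca40000000000054660800)
 (.cons 16 (nat_lit 0x80000057d60000421400003334)
 (.cons 8 (nat_lit 0x4400ca008c0069006200c800b0002a)
 (.cons 4 (nat_lit 0xe0808040208070204000400080a0600)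
 (.cons 2 (nat_lit 0x23000001221012112000201202231220)
 (.cons 1 (nat_lit 0x40410140044415144000140011100141)
 (.cons 2 (nat_lit 0x20000000002000002000200002200220)
 (.cons 4 (nat_lit 0xe0800040802040004000400080a0400)
 (.cons 8 (nat_lit 0x4400ca00280004002000c800b0002a)
 (.cons 16 (nat_lit 0x8000007b840000421000003334)
 (.cons 32 (nat_lit 0x82ca40000000000054660800)
 (.cons 64 (nat_lit 0xe34f810402bd2880)
 .nil)))))))))))))
noncomputable def a171 : Net := (.cons 64 (nat_lit 0xa29c820a20530808)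
 (.cons 32 (nat_lit 0x9fea4000000000004a8190c6)
 (.cons 16 (nat_lit 0xb3a00000d0500000734000002470)
 (.cons 8 (nat_lit 0xa005000a400d00028006000400060)
 (.cons 4 (nat_lit 0x800000f00080204020c0f0006030404)
 (.cons 2 (nat_lit 0x102033220000220023200000000222)
 (.cons 1 (nat_lit 0x4040100145014000105440401111141)
 (.cons 2 (nat_lit 0x220000000000020000000222)
 (.cons 4 (nat_lit 0x800000000080200020c000002000004)
 (.cons 8 (nat_lit 0x8005000a400d00028006000400060)
 (.cons 16 (nat_lit 0xb3a00000d0500000334000002030)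
 (.cons 32 (nat_lit 0x9fea4000000000004a819044)
 (.cons 64 (nat_lit 0xa29c820a20530808)
 .nil)))))))))))))
noncomputable def a172 : Net := (.cons 64 (nat_lit 0xd0a0a044990e0240)
 (.cons 32 (nat_lit 0x7c0110500000000024291502)
 (.cons 16 (nat_lit 0x342800008b24000056800000219e)
 (.cons 8 (nat_lit 0xc0000400c0000200b0000a00ce0045)
 (.cons 4 (nat_lit 0x200000208040000000e00080101040a)
 (.cons 2 (nat_lit 0x22022010102020233120002221021220)
 (.cons 1 (nat_lit 0x10410000004401400010050411004414)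
 (.cons 2 (nat_lit 0x20020000002000200020000202000220)
 (.cons 4 (nat_lit 0x200000000040000000800080a000408)
 (.cons 8 (nat_lit 0xc0000000c0000200b0000a008e00c0)
 (.cons 16 (nat_lit 0x342800008b24000056800000311a)
 (.cons 32 (nat_lit 0x7c0110500000000024291400)
 (.cons 64 (nat_lit 0xd0a0a044990e0240)
 .nil)))))))))))))
noncomputable def a173 : Net := (.cons 64 (nat_lit 0xa508681120b000)
 (.cons 32 (nat_lit 0x228642400000000043a80180)
 (.cons 16 (nat_lit 0x2440000f41000004c8800008710)
 (.cons 8 (nat_lit 0xc20048008800c400340010008200fe)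
 (.cons 4 (nat_lit 0x40400060a02040c020a0b000508040a)
 (.cons 2 (nat_lit 0x22200220001020000002222222220123)
 (.cons 1 (nat_lit 0x4410045050514400114111440105010)
 (.cons 2 (nat_lit 0x2200020000020000002222220200020)
 (.cons 4 (nat_lit 0x40400060a020008020200000408040a)
 (.cons 8 (nat_lit 0xc200480088008800340010008200fc)
 (.cons 16 (nat_lit 0x2440000741000000c8800008710)
 (.cons 32 (nat_lit 0x228642400000000043a80180)
 (.cons 64 (nat_lit 0xa508681120b000)
 .nil)))))))))))))
noncomputable def a174 : Net := (.cons 64 (nat_lit 0xee4cfd96c81bbfb7)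
 (.cons 32 (nat_lit 0x89fce40900000000e841d63c)
 (.cons 16 (nat_lit 0x43780000048500009f6800002305)
 (.cons 8 (nat_lit 0x3800ed00f0000800dc0020000c00a9)
 (.cons 4 (nat_lit 0x10c01060c02030200010102020e0a00)
 (.cons 2 (nat_lit 0x1202202000320232201023000100001)
 (.cons 1 (nat_lit 0x4401444441154415040114014010101)
 (.cons 2 (nat_lit 0x202002022002220020022002020002)
 (.cons 4 (nat_lit 0x40e04000002000a020802000c0204)
 (.cons 8 (nat_lit 0xb8007200be0032006c0020001800aa)
 (.cons 16 (nat_lit 0xa2f00000308c0000df380000212e)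
 (.cons 32 (nat_lit 0x2fb8601600000000e8e3d65a)
 (.cons 64 (nat_lit 0xee4cfd9a8dd41594)
 .nil)))))))))))))
noncomputable def a175 : Net := (.cons 64 (nat_lit 0xb75f9287e2b242a7)
 (.cons 32 (nat_lit 0x199c2ab000000000c0fa846c)
 (.cons 16 (nat_lit 0x1fc800004259000025ee00001b10)
 (.cons 8 (nat_lit 0xac00f0005d0016001000d00028005b)
 (.cons 4 (nat_lit 0x20002040300020700000a050c0808)
 (.cons 2 (nat_lit 0x20000320230230212222202001022103)
 (.cons 1 (nat_lit 0x14015504410410041044100100514011)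
 (.cons 2 (nat_lit 0x20020000000220002022200200020000)
 (.cons 4 (nat_lit 0x80804080a00000a02000000000c0a0c)
 (.cons 8 (nat_lit 0xb400dc007a001200540090003c005e)
 (.cons 16 (nat_lit 0x746000002540000a5f400001c14)
 (.cons 32 (nat_lit 0x8eda2a3800000000c0fa8178)
 (.cons 64 (nat_lit 0xb75f9283c0b046d6)
 .nil)))))))))))))
noncomputable def a176 : Net := (.cons 64 (nat_lit 0xc411bc4786b2000)
 (.cons 32 (nat_lit 0x1c43d122000000002204c400)
 (.cons 16 (nat_lit 0x90040000a0500000e00000006ad8)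
 (.cons 8 (nat_lit 0x90006000080016008800440058007e)
 (.cons 4 (nat_lit 0x10a080805090a0200000a00090206)
 (.cons 2 (nat_lit 0x22000212020010220200030002010)
 (.cons 1 (nat_lit 0x441001004011101100005054045454)
 (.cons 2 (nat_lit 0x22000002002000200000000000000)
 (.cons 4 (nat_lit 0x800080402020200000a00080602)
 (.cons 8 (nat_lit 0x900020000800160088004000580080)
 (.cons 16 (nat_lit 0x90040000a0100000e00000006ad8)
 (.cons 32 (nat_lit 0x1443d1220000000022048400)
 (.cons 64 (nat_lit 0xc411bc4786b2000)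
 .nil)))))))))))))
noncomputable def a177 : Net := (.cons 64 (nat_lit 0x54fb5180b478ac7f)
 (.cons 32 (nat_lit 0x2f3e61c700000000971af946)
 (.cons 16 (nat_lit 0x5bae000054f30000e8720000e924)
 (.cons 8 (nat_lit 0xbc00c90080002f00d6001800c000a7)
 (.cons 4 (nat_lit 0x802040e04000600060a00020c080a06)
 (.cons 2 (nat_lit 0x20012003100200122310220020002302)
 (.cons 1 (nat_lit 0x14011444401101054114011004040105)
 (.cons 2 (nat_lit 0x20002202000200002222000000000200)
 (.cons 4 (nat_lit 0x6040c04020008060600020c080006)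
 (.cons 8 (nat_lit 0xb800aa0080006800d8001a00e000c2)
 (.cons 16 (nat_lit 0x2b62000014500000c968000041e4)
 (.cons 32 (nat_lit 0x2bf6714800000000951af120)
 (.cons 64 (nat_lit 0x54fb51887098a466)
 .nil)))))))))))))
noncomputable def a178 : Net := (.cons 64 (nat_lit 0xc40c87c122b08c24)
 (.cons 32 (nat_lit 0x4c4c2440000000090182020)
 (.cons 16 (nat_lit 0x4288000066420000b01800003720)
 (.cons 8 (nat_lit 0x8000200e2002c00600000009400ba)
 (.cons 4 (nat_lit 0x400080c0e0100060508000408020209)
 (.cons 2 (nat_lit 0x2000000322202020220202212003331)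
 (.cons 1 (nat_lit 0x40400500540044510401004101101045)
 (.cons 2 (nat_lit 0x20002020200002202002020)
 (.cons 4 (nat_lit 0x400080008000006040800040802020e)
 (.cons 8 (nat_lit 0x8000200e2000c006000000090006a)
 (.cons 16 (nat_lit 0x288000066420000b00800003720)
 (.cons 32 (nat_lit 0x4c0c2440000000090182020)
 (.cons 64 (nat_lit 0xc40c87c122b08c24)
 .nil)))))))))))))
noncomputable def a179 : Net := (.cons 64 (nat_lit 0xe34f810402bd2880)
 (.cons 32 (nat_lit 0x82ca40000000000054660800)
 (.cons 16 (nat_lit 0x80000057d60000421400003334)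
 (.cons 8 (nat_lit 0x4400ca008c0069006200c800b0002a)
 (.cons 4 (nat_lit 0xe0808040208070204000400080a0600)
 (.cons 2 (nat_lit 0x23000001221012112000201202231220)
 (.cons 1 (nat_lit 0x40410140044415144000140011100141)
 (.cons 2 (nat_lit 0x20000000002000002000200002200220)
 (.cons 4 (nat_lit 0xe0800040802040004000400080a0400)
 (.cons 8 (nat_lit 0x4400ca00280004002000c800b0002a)
 (.cons 16 (nat_lit 0x8000007b840000421000003334)
 (.cons 32 (nat_lit 0x82ca40000000000054660800)
 (.cons 64 (nat_lit 0xe34f810402bd2880)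
 .nil)))))))))))))
noncomputable def a180 : Net := (.cons 64 (nat_lit 0xa29c820a20530808)
 (.cons 32 (nat_lit 0x9fea4000000000004a8190c6)
 (.cons 16 (nat_lit 0xb3a00000d0500000734000002470)
 (.cons 8 (nat_lit 0xa005000a400d00028006000400060)
 (.cons 4 (nat_lit 0x800000f00080204020c0f0006030404)
 (.cons 2 (nat_lit 0x102033220000220023200000000222)
 (.cons 1 (nat_lit 0x4040100145014000105440401111141)
 (.cons 2 (nat_lit 0x220000000000020000000222)
 (.cons 4 (nat_lit 0x800000000080200020c000002000004)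
 (.cons 8 (nat_lit 0x8005000a400d00028006000400060)
 (.cons 16 (nat_lit 0xb3a00000d0500000334000002030)
 (.cons 32 (nat_lit 0x9fea4000000000004a819044)
 (.cons 64 (nat_lit 0xa29c820a20530808)
 .nil)))))))))))))
noncomputable def a181 : Net := (.cons 64 (nat_lit 0xd0a0a044990e0240)
 (.cons 32 (nat_lit 0x7c0110500000000024291502)
 (.cons 16 (nat_lit 0x342800008b24000056800000219e)
 (.cons 8 (nat_lit 0xc0000400c0000200b0000a00ce0045)
 (.cons 4 (nat_lit 0x200000208040000000e00080101040a)
 (.cons 2 (nat_lit 0x22022010102020233120002221021220)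
 (.cons 1 (nat_lit 0x10410000004401400010050411004414)
 (.cons 2 (nat_lit 0x20020000002000200020000202000220)
 (.cons 4 (nat_lit 0x200000000040000000800080a000408)
 (.cons 8 (nat_lit 0xc0000000c0000200b0000a008e00c0)
 (.cons 16 (nat_lit 0x342800008b24000056800000311a)
 (.cons 32 (nat_lit 0x7c0110500000000024291400)
 (.cons 64 (nat_lit 0xd0a0a044990e0240)
 .nil)))))))))))))
noncomputable def a182 : Net := (.cons 64 (nat_lit 0x5c42401eea203000)
 (.cons 32 (nat_lit 0x4c17880400000000228c0880)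
 (.cons 16 (nat_lit 0xc100000e14800001c080000f7a2)
 (.cons 8 (nat_lit 0x100004006800e200a80086007600a2)
 (.cons 4 (nat_lit 0x805000202000c060400080808090a00)
 (.cons 2 (nat_lit 0x20110002102003203200000222003032)
 (.cons 1 (nat_lit 0x10004011044015445104054010005154)
 (.cons 2 (nat_lit 0x20000002002000020200000020000002)
 (.cons 4 (nat_lit 0x800000200000c080400080808000a00)
 (.cons 8 (nat_lit 0x100000006800a000a80086001200a2)
 (.cons 16 (nat_lit 0xc100000e14800001c080000f7a2)
 (.cons 32 (nat_lit 0x4415880400000000228c0880)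
 (.cons 64 (nat_lit 0x5c42401eea203000)
 .nil)))))))))))))
noncomputable def a183 : Net := (.cons 64 (nat_lit 0xc309ade9653f5c1)
 (.cons 32 (nat_lit 0x687a284d00000000d22479cc)
 (.cons 16 (nat_lit 0xe88000091a10000a7200000cfbe)
 (.cons 8 (nat_lit 0x9800f000b4007a00840098001600ed)
 (.cons 4 (nat_lit 0xe000c060b0d040a0006000603080e06)
 (.cons 2 (nat_lit 0x20020001221102021001000230201)
 (.cons 1 (nat_lit 0x14004051150150401044414451144114)
 (.cons 2 (nat_lit 0x22000002200200200022020000022220)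
 (.cons 4 (nat_lit 0x4000806080c0c0200000a08000c0e00)
 (.cons 8 (nat_lit 0xf000ec003400a8008000b8003400e0)
 (.cons 16 (nat_lit 0x26c000000b300000f74e0000cca0)
 (.cons 32 (nat_lit 0x647a304800000000b3ae3dce)
 (.cons 64 (nat_lit 0xc309ad0d902b708)
 .nil)))))))))))))
noncomputable def a184 : Net := (.cons 64 (nat_lit 0xc40c87c122b08c24)
 (.cons 32 (nat_lit 0x4c4c2440000000090182020)
 (.cons 16 (nat_lit 0x4288000066420000b01800003720)
 (.cons 8 (nat_lit 0x8000200e2002c00600000009400ba)
 (.cons 4 (nat_lit 0x400080c0e0100060508000408020209)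
 (.cons 2 (nat_lit 0x2000000322202020220202212003331)
 (.cons 1 (nat_lit 0x40400500540044510401004101101045)
 (.cons 2 (nat_lit 0x20002020200002202002020)
 (.cons 4 (nat_lit 0x400080008000006040800040802020e)
 (.cons 8 (nat_lit 0x8000200e2000c006000000090006a)
 (.cons 16 (nat_lit 0x288000066420000b00800003720)
 (.cons 32 (nat_lit 0x4c0c2440000000090182020)
 (.cons 64 (nat_lit 0xc40c87c122b08c24)
 .nil)))))))))))))
noncomputable def a185 : Net := (.cons 64 (nat_lit 0xdac4f8e2de7f3a68)
 (.cons 32 (nat_lit 0xae72c62000000005596d9f6)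
 (.cons 16 (nat_lit 0x1e4a000009b40000f48e0000a50b)
 (.cons 8 (nat_lit 0x7000a000940094001a00560025001e)
 (.cons 4 (nat_lit 0xd02060a04070e0801090400020f00)
 (.cons 2 (nat_lit 0x20220020222023001320230200101203)
 (.cons 1 (nat_lit 0x44145041141410144410141401051004)
 (.cons 2 (nat_lit 0x200000000020200000222202002002)
 (.cons 4 (nat_lit 0x402060808020600000e0800000c00)
 (.cons 8 (nat_lit 0x740040000c00c4009a0056000c001e)
 (.cons 16 (nat_lit 0xe2a0000c97c0000e52a0000a20a)
 (.cons 32 (nat_lit 0x8027ec6c0000000054a5d8e0)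
 (.cons 64 (nat_lit 0xdac4f8e67d8e4a08)
 .nil)))))))))))))
noncomputable def a186 : Net := (.cons 64 (nat_lit 0xa100a2179d675b91)
 (.cons 32 (nat_lit 0x81baf042000000006a8a50c2)
 (.cons 16 (nat_lit 0x33b00000aa820000156a00006b83)
 (.cons 8 (nat_lit 0x1a00aa0082000c008b00a200d2004f)
 (.cons 4 (nat_lit 0x20a0000000402000d0e0000090f06)
 (.cons 2 (nat_lit 0x22000000010000032011200330101120)
 (.cons 1 (nat_lit 0x104140450041041140440150415050)
 (.cons 2 (nat_lit 0x200200002002020000200000000)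
 (.cons 4 (nat_lit 0x2000008000402020c00040c0c0a04)
 (.cons 8 (nat_lit 0x18006a00c60024009a00ea00aa0058)
 (.cons 16 (nat_lit 0x13a00000078200004d080000290e)
 (.cons 32 (nat_lit 0x80baf04400000000385e00c8)
 (.cons 64 (nat_lit 0xa100a21f58875380)
 .nil)))))))))))))
noncomputable def a187 : Net := (.cons 64 (nat_lit 0xd0a0a044990e0240)
 (.cons 32 (nat_lit 0x7c0110500000000024291502)
 (.cons 16 (nat_lit 0x342800008b24000056800000219e)
 (.cons 8 (nat_lit 0xc0000400c0000200b0000a00ce0045)
 (.cons 4 (nat_lit 0x200000208040000000e00080101040a)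
 (.cons 2 (nat_lit 0x22022010102020233120002221021220)
 (.cons 1 (nat_lit 0x10410000004401400010050411004414)
 (.cons 2 (nat_lit 0x20020000002000200020000202000220)
 (.cons 4 (nat_lit 0x200000000040000000800080a000408)
 (.cons 8 (nat_lit 0xc0000000c0000200b0000a008e00c0)
 (.cons 16 (nat_lit 0x342800008b24000056800000311a)
 (.cons 32 (nat_lit 0x7c0110500000000024291400)
 (.cons 64 (nat_lit 0xd0a0a044990e0240)
 .nil)))))))))))))
noncomputable def a188 : Net := (.cons 64 (nat_lit 0xa29c820a20530808)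
 (.cons 32 (nat_lit 0x9fea4000000000004a8190c6)
 (.cons 16 (nat_lit 0xb3a00000d0500000734000002470)
 (.cons 8 (nat_lit 0xa005000a400d00028006000400060)
 (.cons 4 (nat_lit 0x800000f00080204020c0f0006030404)
 (.cons 2 (nat_lit 0x102033220000220023200000000222)
 (.cons 1 (nat_lit 0x4040100145014000105440401111141)
 (.cons 2 (nat_lit 0x220000000000020000000222)
 (.cons 4 (nat_lit 0x800000000080200020c000002000004)
 (.cons 8 (nat_lit 0x8005000a400d00028006000400060)
 (.cons 16 (nat_lit 0xb3a00000d0500000334000002030)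
 (.cons 32 (nat_lit 0x9fea4000000000004a819044)
 (.cons 64 (nat_lit 0xa29c820a20530808)
 .nil)))))))))))))
noncomputable def a189 : Net := (.cons 64 (nat_lit 0x9de4f70e025f0860)
 (.cons 32 (nat_lit 0x8dfc311700000000e0f4f685)
 (.cons 16 (nat_lit 0x67a200000ba600006220000006c4)
 (.cons 8 (nat_lit 0x1200950064003d00c0001e00300036)
 (.cons 4 (nat_lit 0xa08080304000d0c0d020004050b00)
 (.cons 2 (nat_lit 0x2100203320002030233002201212001)
 (.cons 1 (nat_lit 0x41400111444045110454145004011004)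
 (.cons 2 (nat_lit 0x22200202002000000000020000000000)
 (.cons 4 (nat_lit 0xa0e08000800000c0c02020804080800)
 (.cons 8 (nat_lit 0x40080000000d40040000000780034)
 (.cons 16 (nat_lit 0x66ba0000c9460000820000000fc4)
 (.cons 32 (nat_lit 0x193843100000000080f6f6c4)
 (.cons 64 (nat_lit 0x9de4f7085b2a98e6)
 .nil)))))))))))))
noncomputable def a190 : Net := (.cons 64 (nat_lit 0xc4c8382000000000)
 (.cons 32 (nat_lit 0x48ab18240000000098b60084)
 (.cons 16 (nat_lit 0x4a0000e28000009910000048d0)
 (.cons 8 (nat_lit 0xa800200074001c00320018002b00c4)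
 (.cons 4 (nat_lit 0x400000c040c040a030a0c0a00010d06)
 (.cons 2 (nat_lit 0x20000002123002020002123002130202)
 (.cons 1 (nat_lit 0x40010044040444011101010401414441)
 (.cons 2 (nat_lit 0x20000002020002020002020002020202)
 (.cons 4 (nat_lit 0x400000c040c040800080c0a000c0c04)
 (.cons 8 (nat_lit 0x2000000060000400320018000000c4)
 (.cons 16 (nat_lit 0x4a0000e28000009910000008d0)
 (.cons 32 (nat_lit 0x48ab18240000000098b60084)
 (.cons 64 (nat_lit 0xc4c8382000000000)
 .nil)))))))))))))
noncomputable def a191 : Net := (.cons 64 (nat_lit 0x5c42401eea203000)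
 (.cons 32 (nat_lit 0x4c17880400000000228c0880)
 (.cons 16 (nat_lit 0xc100000e14800001c080000f7a2)
 (.cons 8 (nat_lit 0x100004006800e200a80086007600a2)
 (.cons 4 (nat_lit 0x805000202000c060400080808090a00)
 (.cons 2 (nat_lit 0x20110002102003203200000222003032)
 (.cons 1 (nat_lit 0x10004011044015445104054010005154)
 (.cons 2 (nat_lit 0x20000002002000020200000020000002)
 (.cons 4 (nat_lit 0x800000200000c080400080808000a00)
 (.cons 8 (nat_lit 0x100000006800a000a80086001200a2)
 (.cons 16 (nat_lit 0xc100000e14800001c080000f7a2)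
 (.cons 32 (nat_lit 0x4415880400000000228c0880)
 (.cons 64 (nat_lit 0x5c42401eea203000)
 .nil)))))))))))))
noncomputable def a192 : Net := (.cons 64 (nat_lit 0x5a6301040a283000)
 (.cons 32 (nat_lit 0x5655090000000000070e34c0)
 (.cons 16 (nat_lit 0x4032000049b800003e1800003b68)
 (.cons 8 (nat_lit 0x1200000003001a0024002000da0068)
 (.cons 4 (nat_lit 0x4080c0d0d0200040202060606080e)
 (.cons 2 (nat_lit 0x100030010020301202000220330132)
 (.cons 1 (nat_lit 0x4014000011441440114004411551000)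
 (.cons 2 (nat_lit 0x20220200202002020000000)
 (.cons 4 (nat_lit 0x4080c0c0e02000402000802000004)
 (.cons 8 (nat_lit 0x12000000d0001a00240020004a0028)
 (.cons 16 (nat_lit 0x4030000059d000003e1800003b68)
 (.cons 32 (nat_lit 0x5655090000000000070e34c0)
 (.cons 64 (nat_lit 0x5a6301040a283000)
 .nil)))))))))))))
noncomputable def a193 : Net := (.cons 64 (nat_lit 0x1d2d356860cc4e52)
 (.cons 32 (nat_lit 0x690c1716000000004f802894)
 (.cons 16 (nat_lit 0x38610000de2800008c52000009f0)
 (.cons 8 (nat_lit 0x700002004100300062008c00830080)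
 (.cons 4 (nat_lit 0x20400060000020e02000e0203010003)
 (.cons 2 (nat_lit 0x1110012100102222210022120231003)
 (.cons 1 (nat_lit 0x1040111044101140110404041140011)
 (.cons 2 (nat_lit 0x200200200202022000022)
 (.cons 4 (nat_lit 0x60002040002000c0a000402080e0008)
 (.cons 8 (nat_lit 0x10000a0004009800e0000400220090)
 (.cons 16 (nat_lit 0x2d680000d32a000026d00000c9e2)
 (.cons 32 (nat_lit 0x69083750000000004d822814)
 (.cons 64 (nat_lit 0x1d2d356a1bf24fa4)
 .nil)))))))))))))
noncomputable def a194 : Net := (.cons 64 (nat_lit 0x1d2d356860cc4e52)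
 (.cons 32 (nat_lit 0x690c1716000000004f802894)
 (.cons 16 (nat_lit 0x38610000de2800008c52000009f0)
 (.cons 8 (nat_lit 0x700002004100300062008c00830080)
 (.cons 4 (nat_lit 0x20400060000020e02000e0203010003)
 (.cons 2 (nat_lit 0x1110012100102222210022120231003)
 (.cons 1 (nat_lit 0x1040111044101140110404041140011)
 (.cons 2 (nat_lit 0x200200200202022000022)
 (.cons 4 (nat_lit 0x60002040002000c0a000402080e0008)
 (.cons 8 (nat_lit 0x10000a0004009800e0000400220090)
 (.cons 16 (nat_lit 0x2d680000d32a000026d00000c9e2)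
 (.cons 32 (nat_lit 0x69083750000000004d822814)
 (.cons 64 (nat_lit 0x1d2d356a1bf24fa4)
 .nil)))))))))))))
noncomputable def a195 : Net := (.cons 64 (nat_lit 0x5dc9beeea7d8d6c4)
 (.cons 32 (nat_lit 0x33b71d2600000000dfb1712f)
 (.cons 16 (nat_lit 0x44420000ef89000024060000e22a)
 (.cons 8 (nat_lit 0x6300e60036005600d8000100400048)
 (.cons 4 (nat_lit 0x9090a0808070608030e030608000c06)
 (.cons 2 (nat_lit 0x1230122000211030000121202022302)
 (.cons 1 (nat_lit 0x40055541001410411015041100040140)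
 (.cons 2 (nat_lit 0x20002220022020020000020000)
 (.cons 4 (nat_lit 0xc0a080000000a04000c060408000404)
 (.cons 8 (nat_lit 0x4000c6003e00020048001000000060)
 (.cons 16 (nat_lit 0x548200003740000014200000e220)
 (.cons 32 (nat_lit 0x26b61d4000000000fd917032)
 (.cons 64 (nat_lit 0x5dc9beeef876efca)
 .nil)))))))))))))
noncomputable def a196 : Net := (.cons 64 (nat_lit 0xc411bc4786b2000)
 (.cons 32 (nat_lit 0x1c43d122000000002204c400)
 (.cons 16 (nat_lit 0x90040000a0500000e00000006ad8)
 (.cons 8 (nat_lit 0x90006000080016008800440058007e)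
 (.cons 4 (nat_lit 0x10a080805090a0200000a00090206)
 (.cons 2 (nat_lit 0x22000212020010220200030002010)
 (.cons 1 (nat_lit 0x441001004011101100005054045454)
 (.cons 2 (nat_lit 0x22000002002000200000000000000)
 (.cons 4 (nat_lit 0x800080402020200000a00080602)
 (.cons 8 (nat_lit 0x900020000800160088004000580080)
 (.cons 16 (nat_lit 0x90040000a0100000e00000006ad8)
 (.cons 32 (nat_lit 0x1443d1220000000022048400)
 (.cons 64 (nat_lit 0xc411bc4786b2000)
 .nil)))))))))))))
noncomputable def a197 : Net := (.cons 64 (nat_lit 0x1801407e84223000)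
 (.cons 32 (nat_lit 0xda25804000000000733f8340)
 (.cons 16 (nat_lit 0xca4000004858000048020000bf28)
 (.cons 8 (nat_lit 0x60000200d80041008800a6002e)
 (.cons 4 (nat_lit 0x60a0004090a000d0302040c0c0a0e)
 (.cons 2 (nat_lit 0x13030032001201200030222002)
 (.cons 1 (nat_lit 0x40010005004050041404450051400550)
 (.cons 2 (nat_lit 0x2202200000200000)
 (.cons 4 (nat_lit 0x2000004080a000c0202000c0c0a0e)
 (.cons 8 (nat_lit 0x60000200d8007c00080082002e)
 (.cons 16 (nat_lit 0xca4000004858000048000000bf28)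
 (.cons 32 (nat_lit 0xca25804000000000733f8340)
 (.cons 64 (nat_lit 0x1801407e84223000)
 .nil)))))))))))))
noncomputable def a198 : Net := (.cons 64 (nat_lit 0x5c42401eea203000)
 (.cons 32 (nat_lit 0x4c17880400000000228c0880)
 (.cons 16 (nat_lit 0xc100000e14800001c080000f7a2)
 (.cons 8 (nat_lit 0x100004006800e200a80086007600a2)
 (.cons 4 (nat_lit 0x805000202000c060400080808090a00)
 (.cons 2 (nat_lit 0x20110002102003203200000222003032)
 (.cons 1 (nat_lit 0x10004011044015445104054010005154)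
 (.cons 2 (nat_lit 0x20000002002000020200000020000002)
 (.cons 4 (nat_lit 0x800000200000c080400080808000a00)
 (.cons 8 (nat_lit 0x100000006800a000a80086001200a2)
 (.cons 16 (nat_lit 0xc100000e14800001c080000f7a2)
 (.cons 32 (nat_lit 0x4415880400000000228c0880)
 (.cons 64 (nat_lit 0x5c42401eea203000)
 .nil)))))))))))))
noncomputable def a199 : Net := (.cons 64 (nat_lit 0x1a011c036b420300)
 (.cons 32 (nat_lit 0x720810000000000044483500)
 (.cons 16 (nat_lit 0x7a000000ec000000d4200000c659)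
 (.cons 8 (nat_lit 0x18003000d6009a00a8008000520032)
 (.cons 4 (nat_lit 0x10403000d08020d080c0a020d000e)
 (.cons 2 (nat_lit 0x200311300022000023210311123)
 (.cons 1 (nat_lit 0x11500005014014010001150044)
 (.cons 2 (nat_lit 0x22000020000200022)
 (.cons 4 (nat_lit 0x808000408080002000000)
 (.cons 8 (nat_lit 0x10003000d6008a00a8008000120072)
 (.cons 16 (nat_lit 0x7a000000ec000000d42000000408)
 (.cons 32 (nat_lit 0x720810000000000044483500)
 (.cons 64 (nat_lit 0x1a011c036b400300)
 .nil)))))))))))))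
noncomputable def a200 : Net := (.cons 64 (nat_lit 0xc13e0001109d0100)
 (.cons 32 (nat_lit 0xc18848000000000043c30940)
 (.cons 16 (nat_lit 0x88000047480000b9020000e630)
 (.cons 8 (nat_lit 0xc400c800bc00310042000a00da0018)
 (.cons 4 (nat_lit 0x804040802080808000008060400)
 (.cons 2 (nat_lit 0x1320003120110220002202030021220)
 (.cons 1 (nat_lit 0x500000011000141500414054110115)
 (.cons 2 (nat_lit 0x20000220000202000020220)
 (.cons 4 (nat_lit 0x4040000080808000008020400)
 (.cons 8 (nat_lit 0xc400c800bc00300002000200da0018)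
 (.cons 16 (nat_lit 0x88000047080000b80000006610)
 (.cons 32 (nat_lit 0xc18848000000000043c30940)
 (.cons 64 (nat_lit 0xc13e0001109d0100)
 .nil)))))))))))))
noncomputable def a201 : Net := (.cons 64 (nat_lit 0x398e602905155800)
 (.cons 32 (nat_lit 0x1d84b0080000000065d45800)
 (.cons 16 (nat_lit 0x240a000011ec000010300000fe00)
 (.cons 8 (nat_lit 0x1000140082003c0090002400e00014)
 (.cons 4 (nat_lit 0x2040c000207020b0d05040e0e0a0d00)
 (.cons 2 (nat_lit 0x102001001113222011203002001102)
 (.cons 1 (nat_lit 0x1004410410005114400445454000014)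
 (.cons 2 (nat_lit 0x2000000000222000200002000002)
 (.cons 4 (nat_lit 0x2040c00020002000c00040e0e000000)
 (.cons 8 (nat_lit 0x1000140082003c0090002400e00014)
 (.cons 16 (nat_lit 0x2400000011ec000010300000fe00)
 (.cons 32 (nat_lit 0x1584b0080000000065d45800)
 (.cons 64 (nat_lit 0x398e602905155800)
 .nil)))))))))))))
noncomputable def a202 : Net := (.cons 64 (nat_lit 0x3873508935215480)
 (.cons 32 (nat_lit 0x389211000000000041848200)
 (.cons 16 (nat_lit 0x18c00000f2d80000610800000680)
 (.cons 8 (nat_lit 0x200006003600780080004e00a8007d)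
 (.cons 4 (nat_lit 0xa04070c08050408000504080d06)
 (.cons 2 (nat_lit 0x3101213020222000031322020221)
 (.cons 1 (nat_lit 0x10015000555414404004001440115155)
 (.cons 2 (nat_lit 0x20202000000220020200)
 (.cons 4 (nat_lit 0xa04080c08040408000204080c08)
 (.cons 8 (nat_lit 0x200006003600380080004e00a800c0)
 (.cons 16 (nat_lit 0x18400000f0d80000610800000680)
 (.cons 32 (nat_lit 0x389211000000000041848200)
 (.cons 64 (nat_lit 0x3873508135215480)
 .nil)))))))))))))
noncomputable def a203 : Net := (.cons 64 (nat_lit 0xda5a77e8141e54de)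
 (.cons 32 (nat_lit 0xf70e30dc00000000c957fa52)
 (.cons 16 (nat_lit 0x903800006cbb00006a6a00008a26)
 (.cons 8 (nat_lit 0x4600410034004d00c700b800a5003c)
 (.cons 4 (nat_lit 0xf04050606090d0b080700060c080f08)
 (.cons 2 (nat_lit 0x31103220202002102113001302221000)
 (.cons 1 (nat_lit 0x41144450041444410441104041001004)
 (.cons 2 (nat_lit 0x2200020202020022000002002000)
 (.cons 4 (nat_lit 0x800020a040600020c0200000c000c08)
 (.cons 8 (nat_lit 0x6009000140004000800e80008003c)
 (.cons 16 (nat_lit 0xf0220000fcf00000827a00008f86)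
 (.cons 32 (nat_lit 0xb556325400000000e9d6725c)
 (.cons 64 (nat_lit 0xda5a77e291547de4)
 .nil)))))))))))))
noncomputable def a204 : Net := (.cons 64 (nat_lit 0x90882046499d46a8)
 (.cons 32 (nat_lit 0x59d9764000000000f281a3a2)
 (.cons 16 (nat_lit 0x25040000252400003248000085d0)
 (.cons 8 (nat_lit 0xd000110036005c00cb00e1000c0014)
 (.cons 4 (nat_lit 0x80d000c0808000e020d0b08040b0f00)
 (.cons 2 (nat_lit 0x30100022002230000113303103031020)
 (.cons 1 (nat_lit 0x54400114051010410445504100115040)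
 (.cons 2 (nat_lit 0x22000020020220002200000020)
 (.cons 4 (nat_lit 0x80c000c0a02040e0a02000804000e00)
 (.cons 8 (nat_lit 0x8005000360054005c004000c80050)
 (.cons 16 (nat_lit 0x25040000852000002ecc000085cc)
 (.cons 32 (nat_lit 0x59d9764000000000ffe3e702)
 (.cons 64 (nat_lit 0x90882046499d56a8)
 .nil)))))))))))))
noncomputable def a205 : Net := (.cons 64 (nat_lit 0x28380092325fe6)
 (.cons 32 (nat_lit 0x69e345f000000004cd8668c)
 (.cons 16 (nat_lit 0xe2000061400000f7e40000834a)
 (.cons 8 (nat_lit 0x5600b800e800fc009500cf0072008a)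
 (.cons 4 (nat_lit 0x6000a06030c0c020d0a0301080a0000)
 (.cons 2 (nat_lit 0x2222020103003302330130102220)
 (.cons 1 (nat_lit 0x10001441010005101405144111111454)
 (.cons 2 (nat_lit 0x2022000000200000200000222200)
 (.cons 4 (nat_lit 0x2000a0402040000080a040004080404)
 (.cons 8 (nat_lit 0x50009c00c8007c00fc001a00e00088)
 (.cons 16 (nat_lit 0x4e40000b848000052b80000cf6c)
 (.cons 32 (nat_lit 0x696145400000000364821c8)
 (.cons 64 (nat_lit 0x2838003496c3b0)
 .nil)))))))))))))
noncomputable def a206 : Net := (.cons 64 (nat_lit 0xdc1f7cd846497f6c)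
 (.cons 32 (nat_lit 0x2d0bda4600000000869e878e)
 (.cons 16 (nat_lit 0xfdc000004a24000026100000ea70)
 (.cons 8 (nat_lit 0x52002400c800bf0082000d00c00074)
 (.cons 4 (nat_lit 0xe01010b04090e0b080c060c060d0606)
 (.cons 2 (nat_lit 0x30303021003030020100223203030102)
 (.cons 1 (nat_lit 0x40101510401444540440414111110014)
 (.cons 2 (nat_lit 0x20202020002202020220202202020000)
 (.cons 4 (nat_lit 0x40c0008080c0e0e0800060e060c0006)
 (.cons 8 (nat_lit 0x6003e001800b00080002800c00054)
 (.cons 16 (nat_lit 0xb5d8000012e20000a7920000da10)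
 (.cons 32 (nat_lit 0x310a925800000000a41e0584)
 (.cons 64 (nat_lit 0xdc1f7cd7ddccdffc)
 .nil)))))))))))))
noncomputable def a207 : Net := (.cons 64 (nat_lit 0x8fdcd77279aebd0c)
 (.cons 32 (nat_lit 0x88c94b1100000000b39b48c2)
 (.cons 16 (nat_lit 0x94af0000476e000043b10000c262)
 (.cons 8 (nat_lit 0x8f008d00b200d800d0007500160066)
 (.cons 4 (nat_lit 0x1060408010a0208000d03080a070f04)
 (.cons 2 (nat_lit 0x2310100312200100003210000303020)
 (.cons 1 (nat_lit 0x4150444111404040004400104400144)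
 (.cons 2 (nat_lit 0x2000200022002020002200200200020)
 (.cons 4 (nat_lit 0xc0c000800040a0004040008060a0c)
 (.cons 8 (nat_lit 0x80008800f800f800d0003400100026)
 (.cons 16 (nat_lit 0x9ba200005624000003b80000c266)
 (.cons 32 (nat_lit 0x8c994f0200000000e3bb48c4)
 (.cons 64 (nat_lit 0x8fdcd77eb1397f04)
 .nil)))))))))))))
noncomputable def a208 : Net := (.cons 64 (nat_lit 0x5b0352e60d232eb2)
 (.cons 32 (nat_lit 0x743351ae00000000ae2d23ea)
 (.cons 16 (nat_lit 0x7424000007c90000a7690000310a)
 (.cons 8 (nat_lit 0x48002900dc00d000f400ee00d00052)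
 (.cons 4 (nat_lit 0x1000e000c0f0e050f0c0c0000040f04)
 (.cons 2 (nat_lit 0x120200020001200302020220223210)
 (.cons 1 (nat_lit 0x1015401445004441141440150441104)
 (.cons 2 (nat_lit 0x200000002002002200000200200)
 (.cons 4 (nat_lit 0x40e0200020c000c0c040804080400)
 (.cons 8 (nat_lit 0x48000a0014008a007000ce00600056)
 (.cons 16 (nat_lit 0x74240000554400002fe80000c508)
 (.cons 32 (nat_lit 0x743353ec00000000ae6503fe)
 (.cons 64 (nat_lit 0x5b0352e32953efb4)
 .nil)))))))))))))
noncomputable def a209 : Net := (.cons 64 (nat_lit 0x2ccbadebcb0c4d14)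
 (.cons 32 (nat_lit 0x7757bba100000000f77ee002)
 (.cons 16 (nat_lit 0x8c7d000001190000440800001358)
 (.cons 8 (nat_lit 0x9c004c00c200280032009000d1004e)
 (.cons 4 (nat_lit 0xe07060b040904000c080201050b000a)
 (.cons 2 (nat_lit 0x2022123202000030300220001100320)
 (.cons 1 (nat_lit 0x44544401450044451550440404410450)
 (.cons 2 (nat_lit 0x20022002000020000000220000000200)
 (.cons 4 (nat_lit 0x806060a0000080c0c0a00080406000a)
 (.cons 8 (nat_lit 0x9c0050004a0024006000900040004c)
 (.cons 16 (nat_lit 0x8334000009720000440c00001b4c)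
 (.cons 32 (nat_lit 0x7f9d962800000000f55ea00a)
 (.cons 64 (nat_lit 0x2ccbade3d99f0d50)
 .nil)))))))))))))
noncomputable def a210 : Net := (.cons 64 (nat_lit 0x4248546270218080)
 (.cons 32 (nat_lit 0x4a38402000000000b1fc4000)
 (.cons 16 (nat_lit 0x6500000a34000000ba400009c40)
 (.cons 8 (nat_lit 0x60005a00950030005800c8006700b8)
 (.cons 4 (nat_lit 0x4000a070a0a0a0c0a00080202060002)
 (.cons 2 (nat_lit 0x20000002230122323022000030222002)
 (.cons 1 (nat_lit 0x44005004415441045410004450141414)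
 (.cons 2 (nat_lit 0x20000002220022020020000000222002)
 (.cons 4 (nat_lit 0x4000a040a0a080c0a00000000040002)
 (.cons 8 (nat_lit 0x60005a00100030005800c8000000b8)
 (.cons 16 (nat_lit 0x6500000a34000000aa400009440)
 (.cons 32 (nat_lit 0x4838000000000000b1fc4000)
 (.cons 64 (nat_lit 0x4248546270218080)
 .nil)))))))))))))
noncomputable def a211 : Net := (.cons 64 (nat_lit 0xc828458cfb944180)
 (.cons 32 (nat_lit 0x8cc8d000000000006d002400)
 (.cons 16 (nat_lit 0x55080000020a0000cc4100009948)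
 (.cons 8 (nat_lit 0x6000c0000e0045001c000800d00008)
 (.cons 4 (nat_lit 0xc08000c0c0300080c040602030a0004)
 (.cons 2 (nat_lit 0x1000002200002201202000000200220)
 (.cons 1 (nat_lit 0x10000044450004000040000055050110)
 (.cons 2 (nat_lit 0x2200002000000000000000220)
 (.cons 4 (nat_lit 0x400000c0c0000080c040000000a0000)
 (.cons 8 (nat_lit 0x60004000060004001c000000d00008)
 (.cons 16 (nat_lit 0x51080000020a0000cc0000008948)
 (.cons 32 (nat_lit 0x8cc8d000000000006d002400)
 (.cons 64 (nat_lit 0xc828458cfb940180)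
 .nil)))))))))))))
noncomputable def ns0 : List Net := [a0, a1, a2]
noncomputable def ws : List (List ℕ) :=
  [W (nat_lit 0x20080300c0201001),
  W (nat_lit 0x30040300803),
  W (nat_lit 0x7028080240802009),
  W (nat_lit 0x240701c0a02008),
  W (nat_lit 0x2c0b02c0d0300c),
  W (nat_lit 0xe0380c),
  W (nat_lit 0x3c0f03c11),
  W (nat_lit 0x4810),
  W (nat_lit 0x5014),
  W (nat_lit 0x30040300803),
  W (nat_lit 0x181a014190640606405068050641906405068050640506805),
  W (nat_lit 0x6805014190181a06806064050680506805),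
  W (nat_lit 0x741b06c1b0781c),
  W (nat_lit 0x781b0781b0781c),
  W (nat_lit 0x7c1f07c1f08822),
  W (nat_lit 0x1f08822),
  W (nat_lit 0x9025),
  W (nat_lit 0x9c27),
  W (nat_lit 0x2008),
  W (nat_lit 0x300c),
  W (nat_lit 0x300d02c0e02c0e),
  W (nat_lit 0xd0340c0380c),
  W (nat_lit 0x800802),
  W (nat_lit 0xa01c0a0200a02008),
  W (nat_lit 0x20080200802807),
  W (nat_lit 0x380d8370d4380e0360dc36),
  W (nat_lit 0x1a07005),
  W (nat_lit 0x701d0741d0701c0741b0781c),
  W (nat_lit 0x1d06c1b0741c0701e),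
  W (nat_lit 0x301803),
  W (nat_lit 0x181a0681a068060681a01819014050640506805),
  W (nat_lit 0x506405068050640506805),
  W (nat_lit 0x681a0141a),
  W (nat_lit 0x120451204811048),
  W (nat_lit 0x471184310c4312046),
  W (nat_lit 0x10040040300404),
  W (nat_lit 0x14030040101004),
  W (nat_lit 0x4d1344d),
  W (nat_lit 0x13c4d1405013850),
  W (nat_lit 0x138501344d),
  W (nat_lit 0x144531445114c56),
  W (nat_lit 0x541445614c55),
  W (nat_lit 0x5c130540c01c0a00c09),
  W (nat_lit 0x4c110200a01004),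
  W (nat_lit 0x1704c0f0300702c010280c),
  W (nat_lit 0x5f16c5e1805b),
  W (nat_lit 0x5c1805b18060),
  W (nat_lit 0x6318864),
  W (nat_lit 0x6618466),
  W (nat_lit 0x19c67),
  W (nat_lit 0x1a461),
  W (nat_lit 0x1a4671945b),
  W (nat_lit 0x6918c5f),
  W (nat_lit 0x6919c61),
  W (nat_lit 0x130440d01c0e00412),
  W (nat_lit 0x1002008020100401801),
  W (nat_lit 0x6008040100600c0301801),
  W (nat_lit 0x1d8781d8781d4771d8771dc75),
  W (nat_lit 0x751dc751d477),
  W (nat_lit 0x7c1f0791f0791ec7b),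
  W (nat_lit 0x791f07c1e87c),
  W (nat_lit 0xa42708c2107c1b074190800106803),
  W (nat_lit 0x2909c230841b074060880100c1a),
  W (nat_lit 0x2908c1b0742206406070010101f),
  W (nat_lit 0x8c1b07422064220041f),
  W (nat_lit 0x9c230841b0181a08403),
  W (nat_lit 0x230841b074060700100c20),
  W (nat_lit 0xa42708c1d080190181b00805),
  W (nat_lit 0x9c2107c1d07c190181f00403),
  W (nat_lit 0x86220902148f22c83218892348b21c852348a2348b20c8e2188321884),
  W (nat_lit 0x8f2248321c852288522c8422882210882288d23484),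
  W (nat_lit 0x84204872408520c89210872048a2108221084238822288f2148a2409023084),
  W (nat_lit 0x9124496),
  W (nat_lit 0x922549324894),
  W (nat_lit 0x9424494),
  W (nat_lit 0x26c9926c98),
  W (nat_lit 0x26c99),
  W (nat_lit 0x2749d),
  W (nat_lit 0x9c2107c1d07c190181f00403),
  W (nat_lit 0x9c230841f06c1d088060881a01005),
  W (nat_lit 0xa423074210642100c19),
  W (nat_lit 0x1704c150440e0200a0040a),
  W (nat_lit 0x5c130541102c070500100401),
  W (nat_lit 0x2b0ac2a8aa2acaa),
  W (nat_lit 0xab2aca92b0aa2a8aa),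
  W (nat_lit 0xb02c0b0),
  W (nat_lit 0x2c8ad2c8ae),
  W (nat_lit 0x2c8b22b4b22b4b2),
  W (nat_lit 0x2d0b5),
  W (nat_lit 0x380c0380b),
  W (nat_lit 0xb72c4b02a4b1),
  W (nat_lit 0x2dcb12c0ab),
  W (nat_lit 0x2f4bc2f4bd2ecbe),
  W (nat_lit 0x2ecbd2f0bd2ecbb2f4bc),
  W (nat_lit 0x304c1),
  W (nat_lit 0x300c2),
  W (nat_lit 0x318c6),
  W (nat_lit 0x310c6310c5),
  W (nat_lit 0x2acaa2b0ac2aca9),
  W (nat_lit 0x2b0aa2a8aa2a4ab2a4a9),
  W (nat_lit 0xce32ccb338cb),
  W (nat_lit 0xce32cce32cce),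
  W (nat_lit 0xcf348cf344d0),
  W (nat_lit 0x350d4),
  W (nat_lit 0x344d1),
  W (nat_lit 0x314bf304c0),
  W (nat_lit 0xc72ecbb),
  W (nat_lit 0x324c3314bf304c02ecbb),
  W (nat_lit 0x324c3),
  W (nat_lit 0xdf374e0364e0364de364d936cdb),
  W (nat_lit 0xd936cdd368de378d9374dc),
  W (nat_lit 0x380dc370de378da370da370d9378dc),
  W (nat_lit 0x388e2),
  W (nat_lit 0xe1398e2),
  W (nat_lit 0xe939ce138cdb),
  W (nat_lit 0xbf308c0308bf),
  W (nat_lit 0x304c0308c0),
  W (nat_lit 0xee3bcef),
  W (nat_lit 0xa01c010280b),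
  W (nat_lit 0x130440c0200900c08),
  W (nat_lit 0x4c0f02c0b01c0901c0103004),
  W (nat_lit 0x3d4f83ccf33e0f3),
  W (nat_lit 0x3dcf43e0f63d0f4),
  W (nat_lit 0x200802008),
  W (nat_lit 0x701c090200a0200a),
  W (nat_lit 0xfe400fe3f8ff),
  W (nat_lit 0xff3f9003f8ff),
  W (nat_lit 0x3ecf33ccfa),
  W (nat_lit 0xfb3e0f8),
  W (nat_lit 0x41d0741d06),
  W (nat_lit 0x4190741d07),
  W (nat_lit 0x3d4f73ccf83e0f63dcf4),
  W (nat_lit 0x3e0f83d0f73dcf3),
  W (nat_lit 0x4390f4390f),
  W (nat_lit 0x10e4410e4410e),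
  W (nat_lit 0x1114511244912),
  W (nat_lit 0x10941d05),
  W (nat_lit 0x4250b41906),
  W (nat_lit 0x4651846918),
  W (nat_lit 0x119465174691a),
  W (nat_lit 0x150440b02c0702c0900807),
  W (nat_lit 0x41d05),
  W (nat_lit 0xfa3d0f4),
  W (nat_lit 0x150440b02c0702c0900807),
  W (nat_lit 0x3c0d01c1100807),
  W (nat_lit 0x12247d21),
  W (nat_lit 0x4250b42506),
  W (nat_lit 0x1502c1701c1500c0a),
  W (nat_lit 0x540f02c0b0240102c04),
  W (nat_lit 0x4bd2f),
  W (nat_lit 0x1304c12e),
  W (nat_lit 0x4c5334c533),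
  W (nat_lit 0x4c534),
  W (nat_lit 0x1374d937),
  W (nat_lit 0x1394d53a),
  W (nat_lit 0x100c0101001),
  W (nat_lit 0x8020100200c02),
  W (nat_lit 0x13d4f53f4f53d501404f540),
  W (nat_lit 0x5013e4f93e4f93f),
  W (nat_lit 0x143509445054450544),
  W (nat_lit 0x14150d4250d43),
  W (nat_lit 0x1384c535),
  W (nat_lit 0x1354dd32),
  W (nat_lit 0x5314a5294a),
  W (nat_lit 0x52d495314a),
  W (nat_lit 0x5354d),
  W (nat_lit 0x14e5414d),
  W (nat_lit 0x54d53),
  W (nat_lit 0x55151),
  W (nat_lit 0x55958),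
  W (nat_lit 0x4b9304b52f4bd2d4c12e),
  W (nat_lit 0x4b92f4bd2d4c130),
  W (nat_lit 0x15b56d5e56d5d5755c),
  W (nat_lit 0x15d56d5e),
  W (nat_lit 0x16157d62),
  W (nat_lit 0x58160),
  W (nat_lit 0x5956359964),
  W (nat_lit 0x58d66),
  W (nat_lit 0x59d6759d675a568),
  W (nat_lit 0x1555454d),
  W (nat_lit 0x5655153d4b),
  W (nat_lit 0x16f5b570),
  W (nat_lit 0x1705c1705b5705c170),
  W (nat_lit 0x5b5735c973),
  W (nat_lit 0x1735c5715c56e),
  W (nat_lit 0x1755dd76),
  W (nat_lit 0x170240700411),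
  W (nat_lit 0x52549),
  W (nat_lit 0x4ed37),
  W (nat_lit 0x15153d49),
  W (nat_lit 0x440c01c0100c02),
  W (nat_lit 0x440c01c0100c02),
  W (nat_lit 0x17e5ed7d),
  W (nat_lit 0x5554d),
  W (nat_lit 0x1595555153549),
  W (nat_lit 0x1555454d),
  W (nat_lit 0x130540b05c0702c010280b),
  W (nat_lit 0x440b05c0701c0101007),
  W (nat_lit 0x5c1503c0e0200e),
  W (nat_lit 0x1503c0b05c0700408),
  W (nat_lit 0x1946559163d95655916559463d9465992),
  W (nat_lit 0x65990655916459164d8f64d9065192),
  W (nat_lit 0x19866997),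
  W (nat_lit 0x6659766998),
  W (nat_lit 0x19e66d9b6759c),
  W (nat_lit 0x6759d6759c6799c),
  W (nat_lit 0x685a167da2689a2),
  W (nat_lit 0x685a0685a0),
  W (nat_lit 0x68da3)]
noncomputable def ns : List Net := [a0, a1, a2, a3, a4, a5, a6, a7, a8, a9, a10, a11, a12, a13, a14, a15, a16, a17, a18, a19, a20, a21, a22, a23, a24, a25, a26, a27, a28, a29, a30, a31, a32, a33, a34, a35, a36, a37, a38, a39, a40, a41, a42, a43, a44, a45, a46, a47, a48, a49, a50, a51, a52, a53, a54, a55, a56, a57, a58, a59, a60, a61, a62, a63, a64, a65, a66, a67, a68, a69, a70, a71, a72, a73, a74, a75, a76, a77, a78, a79, a80, a81, a82, a83, a84, a85, a86, a87, a88, a89, a90, a91, a92, a93, a94, a95, a96, a97, a98, a99, a100, a101, a102, a103, a104, a105, a106, a107, a108, a109, a110, a111, a112, a113, a114, a115, a116, a117, a118, a119, a120, a121, a122, a123, a124, a125, a126, a127, a128, a129, a130, a131, a132, a133, a134, a135, a136, a137, a138, a139, a140, a141, a142, a143, a144, a145, a146,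 a147, a148, a149, a150, a151, a152, a153, a154, a155, a156, a157, a158, a159, a160, a161, a162, a163, a164, a165, a166, a167, a168, a169, a170, a171, a172, a173, a174, a175, a176, a177, a178, a179, a180, a181, a182, a183, a184, a185, a186, a187, a188, a189, a190, a191, a192, a193, a194, a195, a196, a197, a198, a199, a200, a201, a202, a203, a204, a205, a206, a207, a208, a209, a210, a211]
noncomputable def D : List (ℕ × List ℕ) := app [] (mkDefs ws 3)
noncomputable def chk : List (List ℕ × List ℕ) → Bool := P.relsB ns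
noncomputable def zt0 : List ℕ :=
  []
noncomputable def zcj1 : List (List ℕ) :=
  []
noncomputable def zt4 : List ℕ :=
  [22]
noncomputable def zcj5 : List (List ℕ) :=
  [[22]]
noncomputable def zt8 : List ℕ :=
  []
noncomputable def zcj9 : List (List ℕ) :=
  [W (nat_lit 0x5c13)]
noncomputable def zus12 : List (List ℕ) :=
  [[14],
  [16]]
noncomputable def zF13 : List (List (ℕ × List ℕ)) :=
  [[(1, []),
   (0, W (nat_lit 0x4c15)),
   (2, [18])],
  [(2, []),
   (0, [20]),
   (1, [20])]]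
noncomputable def zus16 : List (List ℕ) :=
  [[10],
  [11],
  [12],
  [13],
  W (nat_lit 0x2c0b),
  W (nat_lit 0x2c17)]
noncomputable def zF17 : List (List (ℕ × List ℕ)) :=
  [[(1, []),
   (5, []),
   (0, []),
   (6, W (nat_lit 0x1705411)),
   (4, W (nat_lit 0x5411)),
   (2, []),
   (3, W (nat_lit 0x1704c15))],
  [(3, []),
   (4, W (nat_lit 0x540f)),
   (5, [14]),
   (1, [16]),
   (0, []),
   (2, W (nat_lit 0x5c1305411)),
   (6, W (nat_lit 0x130540f))]]
noncomputable def zrs20 : List (ℕ × List ℕ) :=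
  [(72, W (nat_lit 0x2b0ac10)),
  (40, [43]),
  (7, W (nat_lit 0x2b02c0e))]
noncomputable def GM_w1_1_v0 : Lev :=
  ⟨72, 21, sg (W (nat_lit 0xb0340b0340b0340b)), [[44], [46]], 19, 2⟩
noncomputable def GM_w1_1_v1 : Lev :=
  ⟨1, 8, sg (W (nat_lit 0xbc2d0bc2d)), [], 21, 0⟩
noncomputable def GM_w1_1_vs2 : List Lev :=
  []
noncomputable def GM_w1_1_vs1 : List Lev :=
  GM_w1_1_v1 :: GM_w1_1_vs2
noncomputable def GM_w1_1_vs : List Lev :=
  GM_w1_1_v0 :: GM_w1_1_vs1
noncomputable def zcj22 : List (List ℕ) :=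
  [W (nat_lit 0x5c150440d),
  [13]]
noncomputable def GM_w1_2_v0 : Lev :=
  ⟨40, 7, sg (W (nat_lit 0xb0340d02c0b)), [[12], [48]], 21, 1⟩
noncomputable def GM_w1_2_v1 : Lev :=
  ⟨1, 24, sg (W (nat_lit 0x3431034310340d0c40d)), [], 22, 0⟩
noncomputable def GM_w1_2_vs2 : List Lev :=
  []
noncomputable def GM_w1_2_vs1 : List Lev :=
  GM_w1_2_v1 :: GM_w1_2_vs2
noncomputable def GM_w1_2_vs : List Lev :=
  GM_w1_2_v0 :: GM_w1_2_vs1
noncomputable def zcj26 : List (List ℕ) :=
  [[12],
  W (nat_lit 0x4c1503c0c)]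
noncomputable def GM_v0 : Lev :=
  ⟨0, 100, sg (W (nat_lit 0x4030040100c0100c0100c0100c0100c01)), [[6], [8]], 0, 2⟩
noncomputable def GM_v1 : Lev :=
  ⟨5, 36, sg (W (nat_lit 0x901c0901c070240702407)), [[10], [12]], 2, 2⟩
noncomputable def GM_v2 : Lev :=
  ⟨7, 7, sg (W (nat_lit 0xb0340b0340b)), [[14], [16]], 4, 2⟩
noncomputable def GM_v3 : Lev :=
  ⟨9, 3, sg (W (nat_lit 0x440f)), [[18], [20]], 6, 2⟩
noncomputable def GM_v4 : Lev :=
  ⟨1, 2, sg [20], [[18]], 8, 0⟩
noncomputable def GM_v5 : Lev :=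
  ⟨28, 2, sg [18], [[22]], 8, 1⟩
noncomputable def GM_v6 : Lev :=
  ⟨2, 2, sg [22], [], 9, 0⟩
noncomputable def GM_vs7 : List Lev :=
  []
noncomputable def GM_vs6 : List Lev :=
  GM_v6 :: GM_vs7
noncomputable def GM_vs5 : List Lev :=
  GM_v5 :: GM_vs6
noncomputable def GM_vs4 : List Lev :=
  GM_v4 :: GM_vs5
noncomputable def GM_vs3 : List Lev :=
  GM_v3 :: GM_vs4
noncomputable def GM_vs2 : List Lev :=
  GM_v2 :: GM_vs3
noncomputable def GM_vs1 : List Lev :=
  GM_v1 :: GM_vs2
noncomputable def GM_vs : List Lev :=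
  GM_v0 :: GM_vs1
noncomputable def zcj30 : List (List ℕ) :=
  [[12],
  W (nat_lit 0x540e)]
noncomputable def zB33 : List BG :=
  [⟨[42], [([12], [12]), ([48], W (nat_lit 0x4c1503c0c))],
  [([⟨[], W (nat_lit 0x2c17), 3, W (nat_lit 0x5c150440d)⟩], []),
   ([⟨[], W (nat_lit 0x2c15), 1, W (nat_lit 0x1502c0b)⟩,
    ⟨[10], [11], 3, W (nat_lit 0x5c0b)⟩,
    ⟨[14], [], 2, []⟩], W (nat_lit 0x4010080200402)),
   ([⟨[], [], 0, []⟩,
    ⟨[10], [], 1, W (nat_lit 0x541102c0b)⟩], W (nat_lit 0x40200401)),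
   ([⟨[], [14], 2, W (nat_lit 0x1503c0b)⟩,
    ⟨[11], [10], 1, W (nat_lit 0x170440e)⟩], W (nat_lit 0x100801))]⟩]
noncomputable def zE34 : List (ℕ × List ℕ) :=
  [(6, W (nat_lit 0x130342b0ac10)),
  (8, W (nat_lit 0x3c0b02c2b0ac17))]
noncomputable def zrs39 : List (ℕ × List ℕ) :=
  [(59, W (nat_lit 0xcc0d0d034)),
  (5, [51])]
noncomputable def GM_w0_1_v0 : Lev :=
  ⟨59, 63, sg (W (nat_lit 0x240702407024070240702407)), [[52], [54]], 23, 2⟩
noncomputable def GM_w0_1_v1 : Lev :=
  ⟨3, 32, sg (W (nat_lit 0xd4370dc350dc350dc35)), [[56]], 25, 1⟩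
noncomputable def GM_w0_1_v2 : Lev :=
  ⟨1, 3, sg (W (nat_lit 0xe439)), [], 26, 0⟩
noncomputable def GM_w0_1_vs3 : List Lev :=
  []
noncomputable def GM_w0_1_vs2 : List Lev :=
  GM_w0_1_v2 :: GM_w0_1_vs3
noncomputable def GM_w0_1_vs1 : List Lev :=
  GM_w0_1_v1 :: GM_w0_1_vs2
noncomputable def GM_w0_1_vs : List Lev :=
  GM_w0_1_v0 :: GM_w0_1_vs1
noncomputable def zcj41 : List (List ℕ) :=
  [W (nat_lit 0x1703c0c02808),
  W (nat_lit 0x2c0b02807)]
noncomputable def zcj44 : List (List ℕ) :=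
  [W (nat_lit 0x5c150380a),
  W (nat_lit 0x5c1503c0d01c0a)]
noncomputable def zB47 : List BG :=
  [⟨[50], [([10], W (nat_lit 0x5c150380a)), ([12], W (nat_lit 0x5c1503c0d01c0a))],
  [([⟨[], W (nat_lit 0x2009), 2, W (nat_lit 0x4c1502c0b02009)⟩], []),
   ([⟨[], W (nat_lit 0x4407), 1, W (nat_lit 0x1704c0f02c0b02808)⟩,
    ⟨[9], W (nat_lit 0x2008), 2, W (nat_lit 0x541101c0a)⟩], W (nat_lit 0x10080100801008010080100801)),
   ([⟨[], [], 0, []⟩,
    ⟨[6], W (nat_lit 0x2c0d), 1, W (nat_lit 0x170540f0280b)⟩,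
    ⟨W (nat_lit 0x1c07), W (nat_lit 0x1c07), 2, W (nat_lit 0x130440c02010)⟩,
    ⟨W (nat_lit 0x2008), W (nat_lit 0x1c09), 2, W (nat_lit 0x1703c0b02407)⟩], W (nat_lit 0x1008010080100801))]⟩]
noncomputable def zE48 : List (ℕ × List ℕ) :=
  [(0, W (nat_lit 0x4c1101c130cc0d0d034)),
  (2, W (nat_lit 0x4c0f02c170283402807))]
noncomputable def zt53 : List ℕ :=
  []
noncomputable def zcj54 : List (List ℕ) :=
  []
noncomputable def zt57 : List ℕ :=
  [40]
noncomputable def zcj58 : List (List ℕ) :=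
  [[40]]
noncomputable def zE61 : List (ℕ × List ℕ) :=
  [(34, W (nat_lit 0x9c25))]
noncomputable def zt62 : List ℕ :=
  []
noncomputable def zcj63 : List (List ℕ) :=
  [W (nat_lit 0xa427)]
noncomputable def zus67 : List (List ℕ) :=
  [[32],
  W (nat_lit 0x841f)]
noncomputable def zF68 : List (List (ℕ × List ℕ)) :=
  [[(0, W (nat_lit 0xa427)),
   (2, []),
   (1, W (nat_lit 0xa423))],
  [(1, []),
   (0, [34]),
   (2, W (nat_lit 0xa427))]]
noncomputable def zus71 : List (List ℕ) :=
  [[26],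
  [28],
  W (nat_lit 0x6c1d),
  W (nat_lit 0x741b),
  W (nat_lit 0x741c),
  W (nat_lit 0x7420),
  W (nat_lit 0x741f),
  W (nat_lit 0x7421),
  W (nat_lit 0x1b07422),
  W (nat_lit 0x1b07c1b),
  W (nat_lit 0x6c1f),
  W (nat_lit 0x1b07c21),
  W (nat_lit 0x1b07c1c)]
noncomputable def zF72 : List (List (ℕ × List ℕ)) :=
  [[(1, []),
   (0, W (nat_lit 0x8c21)),
   (4, []),
   (6, W (nat_lit 0xa42708c21)),
   (7, W (nat_lit 0x2909c21)),
   (2, []),
   (9, W (nat_lit 0xa4230841f)),
   (3, W (nat_lit 0x8c21)),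
   (5, []),
   (8, [38]),
   (12, W (nat_lit 0x2908c21)),
   (10, []),
   (13, []),
   (11, [])],
  [(2, []),
   (3, []),
   (0, []),
   (1, []),
   (7, [34]),
   (6, W (nat_lit 0xa42708c21)),
   (5, W (nat_lit 0xa4230841f)),
   (4, [34]),
   (10, W (nat_lit 0xa427)),
   (11, W (nat_lit 0xa427)),
   (8, [38]),
   (9, [38]),
   (13, W (nat_lit 0xa4230841f)),
   (12, W (nat_lit 0xa42708c21))]]
noncomputable def zrs75 : List (ℕ × List ℕ) :=
  [(30, W (nat_lit 0xec1b0ec23)),
  (7, [59])]
noncomputable def GA_w1_1_v0 : Lev :=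
  ⟨30, 21, sg (W (nat_lit 0x1b06c1d06c1b0741b)), [[60], [62]], 27, 2⟩
noncomputable def GA_w1_1_v1 : Lev :=
  ⟨1, 16, sg (W (nat_lit 0xfc3d0fc3d0fc3d0fc3d)), [], 29, 0⟩
noncomputable def GA_w1_1_vs2 : List Lev :=
  []
noncomputable def GA_w1_1_vs1 : List Lev :=
  GA_w1_1_v1 :: GA_w1_1_vs2
noncomputable def GA_w1_1_vs : List Lev :=
  GA_w1_1_v0 :: GA_w1_1_vs1
noncomputable def zcj77 : List (List ℕ) :=
  [W (nat_lit 0xa4230841b07c1c),
  W (nat_lit 0x9c2107421)]
noncomputable def GA_v0 : Lev :=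
  ⟨0, 100, sg (W (nat_lit 0x140100c05004030140100c01)), [[5], [24]], 9, 1⟩
noncomputable def GA_v1 : Lev :=
  ⟨5, 36, sg (W (nat_lit 0x6064060640606406064060640606406)), [[26], [28]], 10, 2⟩
noncomputable def GA_v2 : Lev :=
  ⟨7, 14, sg (W (nat_lit 0x6c1b06c1d06c1b0741b)), [[30], [32]], 12, 2⟩
noncomputable def GA_v3 : Lev :=
  ⟨9, 3, sg (W (nat_lit 0x7c21)), [[34], [36]], 14, 2⟩
noncomputable def GA_v4 : Lev :=
  ⟨1, 2, sg [34], [[38]], 16, 1⟩
noncomputable def GA_v5 : Lev :=
  ⟨28, 2, sg [38], [[40]], 17, 1⟩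
noncomputable def GA_v6 : Lev :=
  ⟨2, 2, sg [40], [], 18, 0⟩
noncomputable def GA_vs7 : List Lev :=
  []
noncomputable def GA_vs6 : List Lev :=
  GA_v6 :: GA_vs7
noncomputable def GA_vs5 : List Lev :=
  GA_v5 :: GA_vs6
noncomputable def GA_vs4 : List Lev :=
  GA_v4 :: GA_vs5
noncomputable def GA_vs3 : List Lev :=
  GA_v3 :: GA_vs4
noncomputable def GA_vs2 : List Lev :=
  GA_v2 :: GA_vs3
noncomputable def GA_vs1 : List Lev :=
  GA_v1 :: GA_vs2
noncomputable def GA_vs : List Lev :=
  GA_v0 :: GA_vs1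
noncomputable def zcj81 : List (List ℕ) :=
  [W (nat_lit 0xa42708c210741b),
  W (nat_lit 0xa4230841f0741c)]
noncomputable def zB84 : List BG :=
  [⟨[58], [([30], W (nat_lit 0xa42708c210741b)), ([32], W (nat_lit 0xa4230841f0741c))],
  [([⟨[], [28], 2, [28]⟩], []),
   ([⟨[], W (nat_lit 0x6c1f), 2, W (nat_lit 0x9c2107c1b07c1b)⟩,
    ⟨[26], W (nat_lit 0x7422), 1, W (nat_lit 0xa42708c210741c)⟩,
    ⟨W (nat_lit 0x701d), W (nat_lit 0x6c1d), 2, W (nat_lit 0x9c230841b)⟩], W (nat_lit 0x20080200402)),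
   ([⟨[], [], 0, []⟩,
    ⟨[26], [27], 1, W (nat_lit 0x2306c1f)⟩,
    ⟨[28], [], 2, [28]⟩,
    ⟨W (nat_lit 0x6c1d), W (nat_lit 0x741b), 1, W (nat_lit 0x7421)⟩], W (nat_lit 0x100801))]⟩]
noncomputable def zE85 : List (ℕ × List ℕ) :=
  [(5, W (nat_lit 0x9c1b07c1c0ec1b0ec23)),
  (24, W (nat_lit 0x2909c21074200f01b07c3b))]
noncomputable def zrs90 : List (ℕ × List ℕ) :=
  [(59, W (nat_lit 0x1040606441)),
  (5, [65])]
noncomputable def GA_w0_1_v0 : Lev :=
  ⟨59, 63, sg (W (nat_lit 0x60640606419018190640606406064060640606406)), [[66], [68], [70]], 30, 3⟩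
noncomputable def GA_w0_1_v1 : Lev :=
  ⟨3, 32, sg (W (nat_lit 0x10c4310c4710c4711443)), [[72], [74]], 33, 2⟩
noncomputable def GA_w0_1_v2 : Lev :=
  ⟨5, 6, sg (W (nat_lit 0x4912c49)), [], 35, 0⟩
noncomputable def GA_w0_1_vs3 : List Lev :=
  []
noncomputable def GA_w0_1_vs2 : List Lev :=
  GA_w0_1_v2 :: GA_w0_1_vs3
noncomputable def GA_w0_1_vs1 : List Lev :=
  GA_w0_1_v1 :: GA_w0_1_vs2
noncomputable def GA_w0_1_vs : List Lev :=
  GA_w0_1_v0 :: GA_w0_1_vs1
noncomputable def zcj92 : List (List ℕ) :=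
  [W (nat_lit 0x9c2306c1d088060681f),
  W (nat_lit 0xa42707420),
  W (nat_lit 0x2908c2107c1b07c060681d)]
noncomputable def zcj95 : List (List ℕ) :=
  [W (nat_lit 0x230841d07c190181c),
  W (nat_lit 0x2908c2107c1d0181c)]
noncomputable def zB98 : List BG :=
  [⟨[64], [([26], W (nat_lit 0x230841d07c190181c)), ([28], W (nat_lit 0x2908c2107c1d0181c))],
  [([⟨[], W (nat_lit 0x606821), 2, W (nat_lit 0x2909c2106c1f06c0606821)⟩], []),
   ([⟨[], W (nat_lit 0x741f), 1, W (nat_lit 0x2909c2107c1b07c1c)⟩,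
    ⟨[25], W (nat_lit 0x190181b), 2, W (nat_lit 0xa4230841b07c1c01819)⟩], W (nat_lit 0x401008010040100801004020040100801)),
   ([⟨[], [], 0, []⟩,
    ⟨[5], W (nat_lit 0x681c), 1, W (nat_lit 0x23074060681d)⟩,
    ⟨W (nat_lit 0x181a), W (nat_lit 0x190181c), 2, W (nat_lit 0x9c230741b06420)⟩], W (nat_lit 0x2004020040100801))]⟩]
noncomputable def zE99 : List (ℕ × List ℕ) :=
  [(0, W (nat_lit 0xa4230841f074210181c1040606441)),
  (2, W (nat_lit 0xa4270841d06c060681d1041b))]
noncomputable def zm104 : ℕ :=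
  (nat_lit 0xc140800a0400210508120c824)
noncomputable def zm105 : ℕ :=
  (nat_lit 0x1001080000200)
noncomputable def cL_F : List (List ℕ × ℕ × ℕ) :=
  [(W (nat_lit 0x10040100401), zm104, zm104),
  (W (nat_lit 0xc03), zm105, zm105)]
noncomputable def cLG_v0 : Lev :=
  ⟨5, 100, sg (W (nat_lit 0x40101403004030040500c01)), [[76], [78]], 35, 2⟩
noncomputable def cLG_v1 : Lev :=
  ⟨1, 63, sg (W (nat_lit 0x1344f1344f1344f1344f1344f13c4d)), [[80], [82], [84]], 37, 3⟩
noncomputable def cLG_v2 : Lev :=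
  ⟨4, 32, sg (W (nat_lit 0x51154531445514c51)), [[86], [88]], 40, 2⟩
noncomputable def cLG_v3 : Lev :=
  ⟨0, 6, sg (W (nat_lit 0x5716457)), [], 42, 0⟩
noncomputable def cLG_vs4 : List Lev :=
  []
noncomputable def cLG_vs3 : List Lev :=
  cLG_v3 :: cLG_vs4
noncomputable def cLG_vs2 : List Lev :=
  cLG_v2 :: cLG_vs3
noncomputable def cLG_vs1 : List Lev :=
  cLG_v1 :: cLG_vs2
noncomputable def cLG_vs : List Lev :=
  cLG_v0 :: cLG_vs1
noncomputable def cL_x : List (ℕ × List ℕ) :=
  [((nat_lit 0), []),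
  ((nat_lit 0), [(nat_lit 0x256b3f78cfbb5a6ab76ff745e)]),
  ((nat_lit 0), []),
  ((nat_lit 0), [(nat_lit 0x800000000010001000181),
   (nat_lit 0x100200000880000012000000)])]
noncomputable def cL_G : Gl :=
  ⟨P, ns, (app D []), (diag [[0], [2]]), [], [], memM (app D []) [], true⟩
noncomputable def cL_s : St :=
  ⟨(mkS P.n cLG_vs cL_x), [[0], [2], [4]], [], mapL Prod.snd cL_F, memM (app D []) [], []⟩
noncomputable def zt109 : ST :=
  (.img [0] 1 (.img (W (nat_lit 0xc03)) 1 (.and 1 0 (.br 0 [] [] [(5, [])] (.cons (.img (W (nat_lit 0x1001)) 5 (.orb 0 (.img (W (nat_lit 0xc01)) 0 (.and 2 0 (.br 0 [] [] [(1, [])] (.cons (.img (W (nat_lit 0x401)) 1 (.br 0 [] [] [(4, [])] (.cons (.orb 0 (.orb 1 (.img [0] 0 (.and 2 0 (.br 0 [] [] [(0, [])] (.cons .fnd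
 .nil))))))
 .nil)))
 .nil))))))
 .nil)))))
noncomputable def S_ps : List PcG :=
  [⟨[94], 2, [], [W (nat_lit 0x1a4711bc5b1b46b), W (nat_lit 0x691bc6d), W (nat_lit 0x711bc5b), [110], [104], [112]]⟩,
  ⟨[106], 2, [104], [[90], W (nat_lit 0x691c46d), W (nat_lit 0x1c46f), [112], [104]]⟩,
  ⟨[108], 2, W (nat_lit 0x1c46f), [W (nat_lit 0x1a45b), W (nat_lit 0x691c46f), [104], [112]]⟩,
  ⟨[90], 2, [110], [[110], [104], [112]]⟩,
  ⟨[110], 2, W (nat_lit 0x1a471), [[112], [104]]⟩,
  ⟨[112], 2, [], [[104]]⟩,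
  ⟨[104], 2, [], []⟩]
noncomputable def zE113 : List (ℕ × List ℕ) :=
  [(92, [106])]
noncomputable def S_v0 : Lev :=
  ⟨29, 4, sg (W (nat_lit 0x5b16c5b)), [[96], [98]], 45, 2⟩
noncomputable def S_v1 : Lev :=
  ⟨53, 2, sg [98], [[96], [100]], 47, 1⟩
noncomputable def S_v2 : Lev :=
  ⟨11, 4, sg (W (nat_lit 0x19461)), [[102]], 48, 1⟩
noncomputable def S_v3 : Lev :=
  ⟨24, 2, sg [102], [[104]], 49, 1⟩
noncomputable def S_v4 : Lev :=
  ⟨0, 2, sg [104], [], 50, 0⟩
noncomputable def S_vs5 : List Lev :=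
  []
noncomputable def S_vs4 : List Lev :=
  S_v4 :: S_vs5
noncomputable def S_vs3 : List Lev :=
  S_v3 :: S_vs4
noncomputable def S_vs2 : List Lev :=
  S_v2 :: S_vs3
noncomputable def S_vs1 : List Lev :=
  S_v1 :: S_vs2
noncomputable def S_vs : List Lev :=
  S_v0 :: S_vs1
noncomputable def zts118 : List (List ℕ) :=
  [W (nat_lit 0x5c130540c01c0a00c09),
  W (nat_lit 0x4c110200a01004),
  W (nat_lit 0x1704c0f0300702c010280c)]
noncomputable def zm121 : ℕ :=
  (nat_lit 0x3415000003264428038090000)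
noncomputable def zm122 : ℕ :=
  (nat_lit 0x1440100000020000221000000)
noncomputable def zm123 : ℕ :=
  (nat_lit 0x145030200322442c221000800)
noncomputable def zm124 : ℕ :=
  (nat_lit 0x1014c00000260c190980900a0)
noncomputable def cS_F : List (List ℕ × ℕ × ℕ) :=
  [(W (nat_lit 0x40100401), zm121, zm121),
  ([2], zm122, zm122),
  (W (nat_lit 0xc03), zm123, zm123),
  ([4], zm124, zm124)]
noncomputable def cSG_v0 : Lev :=
  ⟨11, 100, sg (W (nat_lit 0xc0101403004030040500c01)), [[116], [118]], 55, 2⟩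
noncomputable def cSG_v1 : Lev :=
  ⟨0, 63, sg (W (nat_lit 0x771d4771dc751dc751dc751dc75)), [[120], [122]], 57, 2⟩
noncomputable def cSG_v2 : Lev :=
  ⟨1, 32, sg (W (nat_lit 0x1ec791ec791ec791ec79)), [[124], [126]], 59, 2⟩
noncomputable def cSG_v3 : Lev :=
  ⟨2, 6, sg (W (nat_lit 0x7d1fc7d)), [], 61, 0⟩
noncomputable def cSG_vs4 : List Lev :=
  []
noncomputable def cSG_vs3 : List Lev :=
  cSG_v3 :: cSG_vs4
noncomputable def cSG_vs2 : List Lev :=
  cSG_v2 :: cSG_vs3
noncomputable def cSG_vs1 : List Lev :=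
  cSG_v1 :: cSG_vs2
noncomputable def cSG_vs : List Lev :=
  cSG_v0 :: cSG_vs1
noncomputable def cS_x : List (ℕ × List ℕ) :=
  [((nat_lit 0x400000000000001), []),
  ((nat_lit 0), [(nat_lit 0x9962741ae201242d721224320)]),
  ((nat_lit 0), [(nat_lit 0x1002201022012000001000320),
   (nat_lit 0x8960540ac000042d720224000)]),
  ((nat_lit 0), [(nat_lit 0x80008100900000000000004)])]
noncomputable def cS_G : Gl :=
  ⟨P, ns, (app D []), (diag [[90], [92], [94]]), [], [], memM (app D []) [[114]], true⟩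
noncomputable def cS_s : St :=
  ⟨(mkS P.n cSG_vs cS_x), [[0], [2], [4]], [], mapL Prod.snd cS_F, memM (app D []) [[114]], []⟩
noncomputable def zt128 : ST :=
  (.dif 2 0 (.dif 0 2 (.br 0 [[114]] [0] [(38, W (nat_lit 0x875)), (11, [])] (.cons (.img (W (nat_lit 0x1401)) 0 (.dif 1 0 (.mis 0)))
 (.cons (.img [3] 6 (.dif 0 4 (.orb 0 (.img [2] 0 (.and 2 0 (.img [4] 2 (.and 1 0 (.br 0 [] [] [(0, [])] (.cons (.orb 0 (.img [4] 0 (.orb 1 (.img [3] 0 (.and 2 0 (.br 0 [] [] [(1, [])] (.cons (.orb 0 (.img [0] 21 (.and 1 0 (.br 0 [] [] [(2, [])] (.cons .fnd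
 .nil)))))
 .nil)))))))
 .nil)))))))))
 .nil)))))
noncomputable def zts132 : List (List ℕ) :=
  [W (nat_lit 0x130440d01c0e00412)]
noncomputable def T_v0 : Lev :=
  ⟨18, 4, sg (W (nat_lit 0x21483)), [[144], [146], [148]], 69, 3⟩
noncomputable def T_v1 : Lev :=
  ⟨74, 2, sg [146], [[150], [152], [154]], 72, 3⟩
noncomputable def T_v2 : Lev :=
  ⟨2, 4, sg (W (nat_lit 0x9726c97)), [[156], [158]], 75, 2⟩
noncomputable def T_v3 : Lev :=
  ⟨14, 2, sg [158], [[156]], 77, 0⟩
noncomputable def T_v4 : Lev :=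
  ⟨13, 2, sg [156], [[160]], 77, 1⟩
noncomputable def T_v5 : Lev :=
  ⟨0, 2, sg [160], [], 78, 0⟩
noncomputable def T_vs6 : List Lev :=
  []
noncomputable def T_vs5 : List Lev :=
  T_v5 :: T_vs6
noncomputable def T_vs4 : List Lev :=
  T_v4 :: T_vs5
noncomputable def T_vs3 : List Lev :=
  T_v3 :: T_vs4
noncomputable def T_vs2 : List Lev :=
  T_v2 :: T_vs3
noncomputable def T_vs1 : List Lev :=
  T_v1 :: T_vs2
noncomputable def T_vs : List Lev :=
  T_v0 :: T_vs1
noncomputable def T_ps : List PcG :=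
  [⟨[128], 2, [], [[130], W (nat_lit 0x23c8d21c85), [134], W (nat_lit 0x23c8d22c89), [138], W (nat_lit 0x23c8d), [142]]⟩,
  ⟨[130], 2, W (nat_lit 0x23c8b), [W (nat_lit 0x23c8b22485), W (nat_lit 0x22c87), W (nat_lit 0x23c89), [138], [140], [142]]⟩,
  ⟨[132], 2, [], [W (nat_lit 0x23c87), W (nat_lit 0x23c89), W (nat_lit 0x8f2348b), [140], [142]]⟩,
  ⟨[134], 2, [142], [W (nat_lit 0x23489), W (nat_lit 0x23c8b), [140], [142]]⟩,
  ⟨[136], 2, W (nat_lit 0x23c8d), [[138], [140], [142]]⟩,
  ⟨[138], 2, [142], [[140], [142]]⟩,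
  ⟨[140], 2, [], [[142]]⟩,
  ⟨[142], 2, [], []⟩]
noncomputable def v0_E : List (ℕ × List CE) :=
  [(3, [])]
noncomputable def v0_R : List (List ℕ) :=
  [[],
  [128]]
noncomputable def zts141 : List (List ℕ) :=
  [W (nat_lit 0xa42708c2107c1b074190800106803),
  W (nat_lit 0x2909c230841b074060880100c1a),
  W (nat_lit 0x2908c1b0742206406070010101f),
  W (nat_lit 0x8c1b07422064220041f),
  W (nat_lit 0x9c230841b0181a08403),
  W (nat_lit 0x230841b074060700100c20),
  W (nat_lit 0xa42708c1d080190181b00805),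
  W (nat_lit 0x9c2107c1d07c190181f00403)]
noncomputable def zcj144 : List (List (List ℕ)) :=
  [[[130], W (nat_lit 0x23c8d21c85), [134], W (nat_lit 0x23c8d22c89), [138], W (nat_lit 0x23c8d), [142]],
  [[130], W (nat_lit 0x23c8b22485), W (nat_lit 0x22c87), W (nat_lit 0x23c89), [138], [140], [142]],
  [W (nat_lit 0x8f2348b22483), [132], W (nat_lit 0x23c87), W (nat_lit 0x23c89), W (nat_lit 0x8f2348b), [140], [142]],
  [W (nat_lit 0x8f22c83), W (nat_lit 0x23c85), [134], W (nat_lit 0x23489), W (nat_lit 0x23c8b), [140], [142]],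
  [W (nat_lit 0x23c83), W (nat_lit 0x23c85), W (nat_lit 0x23487), [136], [138], [140], [142]],
  [[130], W (nat_lit 0x8f23485), W (nat_lit 0x23c87), [136], [138], [140], [142]],
  [[130], [132], [134], [136], [138], [140], [142]],
  [[130], [132], [134], [136], [138], [140], [142]]]
noncomputable def v1_E : List (ℕ × List CE) :=
  [(3, []),
  (3, [])]
noncomputable def v1_R : List (List ℕ) :=
  [[],
  [130],
  [128],
  W (nat_lit 0x20c81)]
noncomputable def zcj151 : List (List (List ℕ)) :=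
  [[W (nat_lit 0x23c8d21c85), [134], W (nat_lit 0x23c8d22c89), [138], W (nat_lit 0x23c8d), [142]],
  [W (nat_lit 0x23c8b22485), W (nat_lit 0x22c87), W (nat_lit 0x23c89), [138], [140], [142]],
  [[132], W (nat_lit 0x23c87), W (nat_lit 0x23c89), W (nat_lit 0x8f2348b), [140], [142]],
  [W (nat_lit 0x23c85), [134], W (nat_lit 0x23489), W (nat_lit 0x23c8b), [140], [142]],
  [W (nat_lit 0x23c85), W (nat_lit 0x23487), [136], [138], [140], [142]],
  [W (nat_lit 0x8f23485), W (nat_lit 0x23c87), [136], [138], [140], [142]],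
  [[132], [134], [136], [138], [140], [142]],
  [[132], [134], [136], [138], [140], [142]]]
noncomputable def v2_E : List (ℕ × List CE) :=
  [(3, []),
  (3, []),
  (3, []),
  (3, [])]
noncomputable def v2_R : List (List ℕ) :=
  [[],
  [132],
  [130],
  W (nat_lit 0x21483),
  [128],
  W (nat_lit 0x21481),
  W (nat_lit 0x20c81),
  W (nat_lit 0x8520c81)]
noncomputable def zcj158 : List (List (List ℕ)) :=
  [[[134], W (nat_lit 0x23c8d22c89), [138], W (nat_lit 0x23c8d), [142]],
  [W (nat_lit 0x22c87), W (nat_lit 0x23c89), [138], [140], [142]],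
  [W (nat_lit 0x23c87), W (nat_lit 0x23c89), W (nat_lit 0x8f2348b), [140], [142]],
  [[134], W (nat_lit 0x23489), W (nat_lit 0x23c8b), [140], [142]],
  [W (nat_lit 0x23487), [136], [138], [140], [142]],
  [W (nat_lit 0x23c87), [136], [138], [140], [142]],
  [[134], [136], [138], [140], [142]],
  [[134], [136], [138], [140], [142]]]
noncomputable def v3_E : List (ℕ × List CE) :=
  [(3, []),
  (1, [ceD, ⟨false, [128], 0, [140]⟩]),
  (3, []),
  (1, [ceD, ⟨false, [128], 0, [140]⟩]),
  (1, [ceD, ⟨false, [132], 0, [140]⟩]),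
  (0, [⟨true, [], 1, [140]⟩, ⟨true, [], 1, [140]⟩]),
  (1, [ceD, ⟨false, [132], 0, W (nat_lit 0x23489)⟩]),
  (0, [⟨true, [], 1, W (nat_lit 0x22c89)⟩, ⟨true, [], 1, W (nat_lit 0x8f23489)⟩])]
noncomputable def v3_R : List (List ℕ) :=
  [[],
  [134],
  [132],
  [130],
  W (nat_lit 0x21c83),
  W (nat_lit 0x21483),
  [128],
  W (nat_lit 0x20c81)]
noncomputable def zcj165 : List (List (List ℕ)) :=
  [[W (nat_lit 0x23c8d22c89), [138], W (nat_lit 0x23c8d), [142]],
  [W (nat_lit 0x23c89), [138], [140], [142]],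
  [W (nat_lit 0x23c89), W (nat_lit 0x8f2348b), [140], [142]],
  [W (nat_lit 0x23489), W (nat_lit 0x23c8b), [140], [142]],
  [[136], [138], [140], [142]],
  [[136], [138], [140], [142]],
  [[136], [138], [140], [142]],
  [[136], [138], [140], [142]]]
noncomputable def v4_E : List (ℕ × List CE) :=
  [(3, []),
  (3, []),
  (1, [ceD, ⟨false, [130], 0, [138]⟩]),
  (1, [ceD, ⟨false, [132], 0, W (nat_lit 0x23c8b)⟩]),
  (1, [ceD, ⟨false, [132], 0, W (nat_lit 0x8f2348b)⟩]),
  (0, [⟨true, [], 1, W (nat_lit 0x23c8d)⟩, ⟨true, [], 1, []⟩]),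
  (3, []),
  (3, [])]
noncomputable def v4_R : List (List ℕ) :=
  [[],
  [136],
  [134],
  W (nat_lit 0x22487),
  [132],
  [130],
  W (nat_lit 0x21c83),
  [128],
  W (nat_lit 0x22481),
  W (nat_lit 0x20c81),
  W (nat_lit 0x8920c81)]
noncomputable def zcj172 : List (List (List ℕ)) :=
  [[[138], W (nat_lit 0x23c8d), [142]],
  [[138], [140], [142]],
  [W (nat_lit 0x8f2348b), [140], [142]],
  [W (nat_lit 0x23c8b), [140], [142]],
  [[138], [140], [142]],
  [[138], [140], [142]],
  [[138], [140], [142]],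
  [[138], [140], [142]]]
noncomputable def v5_E : List (ℕ × List CE) :=
  [(3, []),
  (1, [ceD, ⟨false, [128], 0, [140]⟩]),
  (1, [ceD, ⟨false, [130], 0, []⟩]),
  (1, [ceD, ⟨false, [128], 0, [140]⟩]),
  (3, []),
  (0, [⟨true, [], 1, [142]⟩, ⟨true, [], 1, []⟩]),
  (1, [ceD, ⟨false, [130], 0, []⟩]),
  (1, [ceD, ⟨false, [136], 0, [140]⟩]),
  (0, [⟨true, [], 1, []⟩, ⟨true, [], 1, [142]⟩]),
  (0, [⟨true, [], 1, [142]⟩, ⟨true, [], 1, []⟩]),
  (1, [ceD, ⟨false, [128], 0, [140]⟩])]
noncomputable def v5_R : List (List ℕ) :=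
  [[],
  [138],
  [136],
  [134],
  W (nat_lit 0x22487),
  [132],
  W (nat_lit 0x22c85),
  W (nat_lit 0x21c83),
  [128],
  W (nat_lit 0x8920c81)]
noncomputable def zcj179 : List (List (List ℕ)) :=
  [[W (nat_lit 0x23c8d), [142]],
  [[140], [142]],
  [[140], [142]],
  [[140], [142]],
  [[140], [142]],
  [[140], [142]],
  [[140], [142]],
  [[140], [142]]]
noncomputable def v6_E : List (ℕ × List CE) :=
  [(3, []),
  (1, [ceD, ⟨false, [132], 0, [142]⟩]),
  (0, [⟨true, [], 1, [142]⟩, ⟨true, [], 1, [142]⟩]),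
  (1, [ceD, ⟨false, [136], 0, []⟩]),
  (1, [ceD, ⟨false, [134], 0, []⟩]),
  (1, [ceD, ⟨false, [138], 0, [142]⟩]),
  (0, [⟨true, [], 1, []⟩, ⟨true, [], 1, []⟩]),
  (1, [ceD, ⟨false, [136], 0, [142]⟩]),
  (3, []),
  (3, [])]
noncomputable def v6_R : List (List ℕ) :=
  [[],
  [140],
  [138],
  [134],
  W (nat_lit 0x22487),
  [132],
  W (nat_lit 0x21c83),
  [128],
  W (nat_lit 0x23481),
  W (nat_lit 0x8920c81),
  W (nat_lit 0x2348920c81)]
noncomputable def zcj186 : List (List (List ℕ)) :=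
  [[[142]],
  [[142]],
  [[142]],
  [[142]],
  [[142]],
  [[142]],
  [[142]],
  [[142]]]
noncomputable def v7_E : List (ℕ × List CE) :=
  [(3, []),
  (1, [ceD, ⟨false, [128], 0, []⟩]),
  (0, [⟨true, [], 1, []⟩, ⟨true, [], 1, []⟩]),
  (0, [⟨true, [], 1, []⟩, ⟨true, [], 1, []⟩]),
  (1, [ceD, ⟨false, [138], 0, []⟩]),
  (1, [ceD, ⟨false, [134], 0, []⟩]),
  (1, [ceD, ⟨false, [138], 0, []⟩]),
  (1, [ceD, ⟨false, [140], 0, []⟩]),
  (0, [⟨true, [], 1, []⟩, ⟨true, [], 1, []⟩]),
  (0, [⟨true, [], 1, []⟩, ⟨true, [], 1, []⟩]),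
  (1, [ceD, ⟨false, [130], 0, []⟩])]
noncomputable def v7_R : List (List ℕ) :=
  [[],
  [142],
  [140],
  W (nat_lit 0x22487),
  [132],
  W (nat_lit 0x21c83),
  [128],
  W (nat_lit 0x2348920c81)]
noncomputable def v8_F : List (List ℕ × ℕ × List ℕ) :=
  [([], 0, []),
  ([], 1, []),
  (W (nat_lit 0x841f06c1d064060700101002), 1, []),
  ([], 2, []),
  (W (nat_lit 0x2306c1f06420068010681b), 2, []),
  (W (nat_lit 0x2106c1f084190101f), 3, []),
  (W (nat_lit 0x841f06c1f0181a0800101422), 1, []),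
  (W (nat_lit 0x841f0182200c1a), 3, [])]
noncomputable def v8_R : List (List ℕ) :=
  [[], [162], [164], [166]]
noncomputable def zts196 : List (List ℕ) :=
  [W (nat_lit 0xa42708c2107c1b074190800106803),
  W (nat_lit 0x2909c230841b074060880100c1a),
  W (nat_lit 0x2908c1b0742206406070010101f),
  W (nat_lit 0x8c1b07422064220041f),
  W (nat_lit 0x9c230841b0181a08403),
  W (nat_lit 0x230841b074060700100c20),
  W (nat_lit 0xa42708c1d080190181b00805),
  W (nat_lit 0x9c2107c1d07c190181f00403)]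
noncomputable def zm199 : ℕ :=
  (nat_lit 0x41081d040000c009410c6084)
noncomputable def cC0_F : List (List ℕ × ℕ × ℕ) :=
  [([0], zm199, zm199)]
noncomputable def cC0G_v0 : Lev :=
  ⟨0, 100, sg (W (nat_lit 0x4030040100c0100c0100c0100c0100c01)), [[6], [8]], 0, 2⟩
noncomputable def cC0G_v1 : Lev :=
  ⟨5, 36, sg (W (nat_lit 0x901c0901c070240702407)), [[10], [12]], 2, 2⟩
noncomputable def cC0G_v2 : Lev :=
  ⟨53, 42, sg (W (nat_lit 0xb0340b0340b0340b0340b)), [[184]], 89, 1⟩
noncomputable def cC0G_v3 : Lev :=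
  ⟨1, 4, sg (W (nat_lit 0xb92e4b9)), [], 90, 0⟩
noncomputable def cC0G_vs4 : List Lev :=
  []
noncomputable def cC0G_vs3 : List Lev :=
  cC0G_v3 :: cC0G_vs4
noncomputable def cC0G_vs2 : List Lev :=
  cC0G_v2 :: cC0G_vs3
noncomputable def cC0G_vs1 : List Lev :=
  cC0G_v1 :: cC0G_vs2
noncomputable def cC0G_vs : List Lev :=
  cC0G_v0 :: cC0G_vs1
noncomputable def cC0_x : List (ℕ × List ℕ) :=
  [((nat_lit 0), [(nat_lit 0xfffffffffffffffffffffffff)]),
  ((nat_lit 0), [(nat_lit 0x720e22703e0963908518007e0),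
   (nat_lit 0x8df1dd8fc1f69c6f7ae7ff81e)]),
  ((nat_lit 0), []),
  ((nat_lit 0), [(nat_lit 0x100021002),
   (nat_lit 0x20000000000040020002000)])]
noncomputable def cC0_G : Gl :=
  ⟨P, ns, (app D []), (diag [[162]]), [], [], memM (app D []) [[168], [170]], true⟩
noncomputable def cC0_s : St :=
  ⟨(mkS P.n cC0G_vs cC0_x), [[0], [2]], [], mapL Prod.snd cC0_F, memM (app D []) [[168], [170]], []⟩
noncomputable def zt203 : ST :=
  (.orb 0 (.dif 0 1 (.br 0 [W (nat_lit 0x2dcaf2a8ab), W (nat_lit 0x2b4b12bcb52acab)] (W (nat_lit 0x100c0100c0100c0100c0100c01)) [(0, [])] (.cons (.orb 0 (.orb 1 (.img [0] 0 (.and 2 0 (.br 0 [W (nat_lit 0x2dcb32c4b02aca9), W (nat_lit 0x2ccad2bcae2bcaa)] (W (nat_lit 0x4010040100c0100c01)) [(5, [])] (.cons (.img [0] 0 (.br 0 [] [] [(53, [])] (.cons (.orb 0 (.orb 1 (.img [0] 0 (.and 2 0 (.br 0 [] [] [(1, [])] (.cons .fnd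
 .nil))))))
 .nil)))
 .nil))))))
 .nil))))
noncomputable def zt207 : List ℕ :=
  []
noncomputable def zcj208 : List (List ℕ) :=
  []
noncomputable def zt211 : List ℕ :=
  []
noncomputable def zcj212 : List (List ℕ) :=
  [[198]]
noncomputable def zus215 : List (List ℕ) :=
  [[194],
  [196],
  W (nat_lit 0x30cc5)]
noncomputable def zF216 : List (List (ℕ × List ℕ)) :=
  [[(1, []),
   (0, [200]),
   (3, []),
   (2, [200])],
  [(2, []),
   (3, []),
   (0, [198]),
   (1, [198])]]
noncomputable def zus219 : List (List ℕ) :=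
  [[190],
  [191],
  W (nat_lit 0x2fcc1),
  W (nat_lit 0x2fcc6),
  W (nat_lit 0xbf304c0)]
noncomputable def zF220 : List (List (ℕ × List ℕ)) :=
  [[(1, []),
   (2, []),
   (0, []),
   (4, []),
   (5, []),
   (3, [])],
  [(2, W (nat_lit 0x31cc5)),
   (3, []),
   (0, W (nat_lit 0x30cc5)),
   (1, [194]),
   (5, W (nat_lit 0xc7324c5)),
   (4, W (nat_lit 0xc930cc5))]]
noncomputable def zus223 : List (List ℕ) :=
  [[186],
  [187],
  [188],
  [189],
  W (nat_lit 0x2ecbb),
  W (nat_lit 0x2ecbd),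
  W (nat_lit 0x2ecbe),
  W (nat_lit 0x2f0bd),
  W (nat_lit 0x2f0be),
  W (nat_lit 0x2f4bb),
  W (nat_lit 0x2f4bc),
  W (nat_lit 0x2ecc0),
  W (nat_lit 0x2ecc1),
  W (nat_lit 0x2f0bf),
  W (nat_lit 0x2ecc5),
  W (nat_lit 0x2f0c5),
  W (nat_lit 0xbb2f8bf),
  W (nat_lit 0x2f0c0),
  W (nat_lit 0xbb2f8c6)]
noncomputable def zF224 : List (List (ℕ × List ℕ)) :=
  [[(1, []),
   (5, []),
   (0, []),
   (10, []),
   (12, W (nat_lit 0xc7314bf)),
   (2, [200]),
   (6, W (nat_lit 0xc7324c32fcc6)),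
   (15, W (nat_lit 0xc7314bf)),
   (8, W (nat_lit 0xc7324c3314c0)),
   (16, W (nat_lit 0xc7324c3314bf)),
   (13, W (nat_lit 0x31cc52fcc6)),
   (3, []),
   (4, W (nat_lit 0xc72fcc1)),
   (11, W (nat_lit 0x30cc52fcc1)),
   (18, W (nat_lit 0x31cc0)),
   (9, W (nat_lit 0x314bf)),
   (7, W (nat_lit 0xc3314bf)),
   (19, W (nat_lit 0xc7324c52fcc6)),
   (14, W (nat_lit 0x30cc52fcc1)),
   (17, W (nat_lit 0x30cbf))],
  [(3, []),
   (6, []),
   (8, []),
   (4, W (nat_lit 0xc7314bf304c0)),
   (0, []),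
   (13, W (nat_lit 0xc730cc52fcc6)),
   (9, W (nat_lit 0xc7314bf304c0)),
   (1, []),
   (7, W (nat_lit 0xc7314bf304c0)),
   (2, []),
   (11, W (nat_lit 0x31cc52fcc6)),
   (10, W (nat_lit 0xc7324c0)),
   (15, W (nat_lit 0xc52fcc6)),
   (14, W (nat_lit 0x314bf)),
   (5, W (nat_lit 0xc9314c0)),
   (17, W (nat_lit 0x30cbf304c0)),
   (19, [198]),
   (12, W (nat_lit 0x324c32fcc1)),
   (16, [191]),
   (18, [190])]]
noncomputable def D0_v0 : Lev :=
  ⟨2, 20, sg (W (nat_lit 0x2f4bb2f4bb2f4bb)), [[190], [192]], 92, 2⟩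
noncomputable def D0_v1 : Lev :=
  ⟨13, 6, sg (W (nat_lit 0xbf2fcc12fcbf)), [[194], [196]], 94, 2⟩
noncomputable def D0_v2 : Lev :=
  ⟨14, 4, sg (W (nat_lit 0x314c3)), [[198], [200]], 96, 2⟩
noncomputable def D0_v3 : Lev :=
  ⟨17, 2, sg [200], [[198]], 98, 0⟩
noncomputable def D0_v4 : Lev :=
  ⟨0, 2, sg [198], [], 98, 0⟩
noncomputable def D0_vs5 : List Lev :=
  []
noncomputable def D0_vs4 : List Lev :=
  D0_v4 :: D0_vs5
noncomputable def D0_vs3 : List Lev :=
  D0_v3 :: D0_vs4
noncomputable def D0_vs2 : List Lev :=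
  D0_v2 :: D0_vs3
noncomputable def D0_vs1 : List Lev :=
  D0_v1 :: D0_vs2
noncomputable def D0_vs : List Lev :=
  D0_v0 :: D0_vs1
noncomputable def zps228 : List (List ℕ × List ℕ) :=
  [(W (nat_lit 0x2aca9), [171]), (W (nat_lit 0x2a4a9), W (nat_lit 0x2a4ab))]
noncomputable def zts231 : List (List ℕ) :=
  [W (nat_lit 0xd233cd132cd0),
  W (nat_lit 0x354d734ccf348cc)]
noncomputable def zts234 : List (List ℕ) :=
  [[],
  W (nat_lit 0x324c32fcbc),
  W (nat_lit 0x324c32f0c0),
  []]
noncomputable def zcj237 : List (List (List ℕ)) :=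
  [[W (nat_lit 0x31cc9314be), W (nat_lit 0xc7324c32fcc12ecc1)],
  [W (nat_lit 0x31cc930cc52fcc62ecbe), W (nat_lit 0xc7324c52fcc12ecc5)]]
noncomputable def zcj240 : List (List (List ℕ)) :=
  [[W (nat_lit 0x31cc9314be), W (nat_lit 0xc7324c32fcc12ecc1)],
  [W (nat_lit 0x31cc930cc52fcc62ecbe), W (nat_lit 0xc7324c52fcc12ecc5)]]
noncomputable def Q0_ps : List PcG :=
  [⟨[224], 2, [230], [W (nat_lit 0x39ceb), W (nat_lit 0x39cdb), [226], [230]]⟩,
  ⟨[234], 2, [230], [W (nat_lit 0x39cdb), W (nat_lit 0x39ce3), [230]]⟩,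
  ⟨[218], 2, [230], [[226], [230]]⟩,
  ⟨[226], 2, [230], [[230]]⟩,
  ⟨[230], 2, [], []⟩]
noncomputable def zE243 : List (ℕ × List ℕ) :=
  [(216, [226]),
  (220, [234]),
  (222, [224])]
noncomputable def Q0_v0 : Lev :=
  ⟨2, 2, sg [218], [[224], [226], [228]], 109, 3⟩
noncomputable def Q0_v1 : Lev :=
  ⟨13, 2, sg [226], [[224], [228]], 112, 0⟩
noncomputable def Q0_v2 : Lev :=
  ⟨14, 2, sg [224], [[230], [232]], 112, 2⟩
noncomputable def Q0_v3 : Lev :=
  ⟨17, 2, sg [230], [[232]], 114, 0⟩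
noncomputable def Q0_v4 : Lev :=
  ⟨0, 2, sg [232], [], 114, 0⟩
noncomputable def Q0_vs5 : List Lev :=
  []
noncomputable def Q0_vs4 : List Lev :=
  Q0_v4 :: Q0_vs5
noncomputable def Q0_vs3 : List Lev :=
  Q0_v3 :: Q0_vs4
noncomputable def Q0_vs2 : List Lev :=
  Q0_v2 :: Q0_vs3
noncomputable def Q0_vs1 : List Lev :=
  Q0_v1 :: Q0_vs2
noncomputable def Q0_vs : List Lev :=
  Q0_v0 :: Q0_vs1
noncomputable def zts248 : List (List ℕ) :=
  [W (nat_lit 0x314bf304c0),
  W (nat_lit 0xc72ecbb),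
  W (nat_lit 0x324c3314bf304c02ecbb),
  W (nat_lit 0x324c3)]
noncomputable def zcj251 : List (List (List ℕ)) :=
  [[W (nat_lit 0xe7384db), W (nat_lit 0xe939ce138cdb), [218], W (nat_lit 0xe9384db)],
  [W (nat_lit 0x3a4db), W (nat_lit 0x3a4e7384e3), W (nat_lit 0x3a4e738cdb), W (nat_lit 0xe939ce138cdb)]]
noncomputable def Z0_ps : List PcG :=
  [⟨[200], 2, [], []⟩]
noncomputable def Z0_v0 : Lev :=
  ⟨0, 2, sg [200], [], 115, 0⟩
noncomputable def Z0_vs1 : List Lev :=
  []
noncomputable def Z0_vs : List Lev :=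
  Z0_v0 :: Z0_vs1
noncomputable def zm257 : ℕ :=
  (nat_lit 0x400809040000800000000084)
noncomputable def zm258 : ℕ :=
  (nat_lit 0x400009000000800041084000)
noncomputable def zm259 : ℕ :=
  (nat_lit 0x10800040000000940006000)
noncomputable def cQ0_F : List (List ℕ × ℕ × ℕ) :=
  [([0], zm257, zm257),
  ([2], zm258, zm258),
  ([4], zm259, zm259)]
noncomputable def cQ0G_v0 : Lev :=
  ⟨2, 20, sg (W (nat_lit 0x2f4bb2f4bb2f4bb)), [[190], [192]], 92, 2⟩
noncomputable def cQ0G_v1 : Lev :=
  ⟨14, 12, sg (W (nat_lit 0xbf304bf304bf)), [[236], [238]], 115, 2⟩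
noncomputable def cQ0G_v2 : Lev :=
  ⟨0, 4, sg (W (nat_lit 0x3bced)), [[240]], 117, 1⟩
noncomputable def cQ0G_v3 : Lev :=
  ⟨1, 2, sg [240], [], 118, 0⟩
noncomputable def cQ0G_vs4 : List Lev :=
  []
noncomputable def cQ0G_vs3 : List Lev :=
  cQ0G_v3 :: cQ0G_vs4
noncomputable def cQ0G_vs2 : List Lev :=
  cQ0G_v2 :: cQ0G_vs3
noncomputable def cQ0G_vs1 : List Lev :=
  cQ0G_v1 :: cQ0G_vs2
noncomputable def cQ0G_vs : List Lev :=
  cQ0G_v0 :: cQ0G_vs1
noncomputable def cQ0_x : List (ℕ × List ℕ) :=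
  [((nat_lit 0x200000000000000000000000), []),
  ((nat_lit 0x1000000000000000000000000), []),
  ((nat_lit 0xc00000000000000000000000000000), [(nat_lit 0x40100200000000000001)]),
  ((nat_lit 0), [(nat_lit 0x80000002),
   (nat_lit 0x4020000000000000000000),
   (nat_lit 0x20000000000000000),
   (nat_lit 0x400),
   (nat_lit 0x10000000)])]
noncomputable def cQ0_G : Gl :=
  ⟨P, ns, (app D []), (diag [[216], [218], [220], [222]]), [], [], memM (app D []) [[200]], true⟩
noncomputable def cQ0_s : St :=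
  ⟨(mkS P.n cQ0G_vs cQ0_x), [[186], [188]], [], mapL Prod.snd cQ0_F, memM (app D []) [[200]], []⟩
noncomputable def zt263 : ST :=
  (.dif 0 1 (.dif 0 3 (.br 0 [] [] [(7, W (nat_lit 0x2ecbb)), (2, [])] (.cons (.and 4 5 (.br 0 [] [] [(14, []), (30, W (nat_lit 0x304c1))] (.cons (.orb 0 (.br 0 [[200]] [0] [(10, []), (37, [238])] (.cons (.img [1] 0 (.orb 4 (.and 1 0 (.mis 0))))
 (.cons (.img [1] 0 (.img [6] 1 (.and 1 0 (.mis 0))))
 .nil))))
 (.cons (.orb 0 (.br 0 [[200]] [0] [(3, [239]), (44, [])] (.cons (.img [1] 0 (.img [6] 1 (.and 1 0 (.mis 0))))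
 (.cons (.orb 2 (.img [0] 0 (.and 2 0 (.mis 0))))
 .nil))))
 .nil))))
 (.cons (.and 4 5 (.br 0 [] [] [(30, W (nat_lit 0x304c1)), (14, [])] (.cons (.orb 0 (.br 0 [[200]] [0] [(15, [239]), (28, [236])] (.cons (.img [1] 0 (.img [6] 1 (.and 1 0 (.mis 0))))
 (.cons (.img [5] 0 (.orb 3 (.and 1 0 (.mis 0))))
 .nil))))
 (.cons (.orb 0 (.br 0 [[200]] [0] [(57, [239]), (0, [])] (.cons (.orb 2 (.img [0] 0 (.and 2 0 (.mis 0))))
 (.cons (.orb 0 (.orb 1 (.img [2] 0 (.and 2 0 (.br 0 [] [] [(1, [])] (.cons .fnd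
 .nil))))))
 .nil))))
 .nil))))
 .nil)))))
noncomputable def cC1_F : List (List ℕ × ℕ × ℕ) :=
  []
noncomputable def cC1G_v0 : Lev :=
  ⟨0, 100, sg (W (nat_lit 0x4030040100c0100c0100c0100c0100c01)), [[6], [8]], 0, 2⟩
noncomputable def cC1G_v1 : Lev :=
  ⟨45, 36, sg (W (nat_lit 0x901c07024070240702407)), [[252], [254]], 123, 2⟩
noncomputable def cC1G_v2 : Lev :=
  ⟨2, 42, sg (W (nat_lit 0xfd3fcfd3fcff3f4ff3f4ff3f4ff)), [[256], [258]], 125, 2⟩
noncomputable def cC1G_v3 : Lev :=
  ⟨3, 4, sg (W (nat_lit 0x40d01)), [], 127, 0⟩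
noncomputable def cC1G_vs4 : List Lev :=
  []
noncomputable def cC1G_vs3 : List Lev :=
  cC1G_v3 :: cC1G_vs4
noncomputable def cC1G_vs2 : List Lev :=
  cC1G_v2 :: cC1G_vs3
noncomputable def cC1G_vs1 : List Lev :=
  cC1G_v1 :: cC1G_vs2
noncomputable def cC1G_vs : List Lev :=
  cC1G_v0 :: cC1G_vs1
noncomputable def cC1_x : List (ℕ × List ℕ) :=
  [((nat_lit 0xb), [(nat_lit 0xfffffffffffffffffffffffff)]),
  ((nat_lit 0), [(nat_lit 0x720e22703e0963908518007e0)]),
  ((nat_lit 0x2c0000000000000000000000000000000), [(nat_lit 0x8d909c0e80f48c2c4ac5e781c)]),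
  ((nat_lit 0), [(nat_lit 0x808000000004008),
   (nat_lit 0x800200000004080000000),
   (nat_lit 0x110000000000800020000000),
   (nat_lit 0x8000400000000a0000)])]
noncomputable def cC1_G : Gl :=
  ⟨P, ns, (app D []), (diag [[164]]), [], [], memM (app D []) [[242], [244], [246]], true⟩
noncomputable def cC1_s : St :=
  ⟨(mkS P.n cC1G_vs cC1_x), [[0], [2]], [], mapL Prod.snd cC1_F, memM (app D []) [[242], [244], [246]], []⟩
noncomputable def zt270 : ST :=
  (.orb 0 (.br 0 [W (nat_lit 0x3ecf7), W (nat_lit 0x3ecf93ccfa)] (W (nat_lit 0x40100c01004030040100c01)) [(1, W (nat_lit 0x101007)), (0, [])] (.cons (.img [0] 0 (.orb 0 (.and 1 0 (.mis 0))))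
 (.cons (.img [0] 0 (.br 0 [] [] [(45, [])] (.cons (.orb 0 (.br 0 [W (nat_lit 0x3ecf9), W (nat_lit 0x3ecfa)] (W (nat_lit 0x100c01)) [(3, W (nat_lit 0x3fcff)), (4, W (nat_lit 0x3fcfd)), (11, W (nat_lit 0x3fcff40d00)), (12, W (nat_lit 0x4010040103)), (13, W (nat_lit 0x3fcfd3fcff3f4ff)), (14, W (nat_lit 0xff3fd03)), (57, W (nat_lit 0x3fcff3f4ff)), (2, [])] (.cons (.img [0] 0 (.orb 0 (.and 1 0 (.mis 0))))
 (.cons (.orb 3 (.img [0] 1 (.dif 1 0 (.mis 0))))
 (.cons (.orb 0 (.img [0] 0 (.and 2 0 (.mis 0))))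
 (.cons (.orb 0 (.img [0] 0 (.and 2 0 (.mis 0))))
 (.cons (.img [0] 0 (.orb 0 (.and 1 0 (.mis 0))))
 (.cons (.img [0] 0 (.orb 2 (.and 1 0 (.mis 0))))
 (.cons (.orb 0 (.img [0] 0 (.and 2 0 (.mis 0))))
 (.cons (.orb 0 (.orb 1 (.img [0] 0 (.and 2 0 (.br 0 [] [] [(3, [])] (.cons .fnd
 .nil))))))
 .nil))))))))))
 .nil)))
 .nil))))
noncomputable def zt274 : List ℕ :=
  []
noncomputable def zcj275 : List (List ℕ) :=
  []
noncomputable def zus278 : List (List ℕ) :=
  [[266],
  W (nat_lit 0x42d09)]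
noncomputable def zF279 : List (List (ℕ × List ℕ)) :=
  [[(0, [264]),
   (2, []),
   (1, [])],
  [(1, []),
   (0, []),
   (2, [264])]]
noncomputable def zus282 : List (List ℕ) :=
  [[260],
  [261],
  [262],
  [263],
  W (nat_lit 0x41505),
  W (nat_lit 0x41906),
  W (nat_lit 0x41d05),
  W (nat_lit 0x41509),
  W (nat_lit 0x41d09)]
noncomputable def zF283 : List (List (ℕ × List ℕ)) :=
  [[(1, []),
   (5, []),
   (0, []),
   (7, []),
   (8, W (nat_lit 0x10942d09)),
   (6, []),
   (2, []),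
   (9, W (nat_lit 0x42d09)),
   (3, [264]),
   (4, [])],
  [(3, []),
   (4, [264]),
   (1, W (nat_lit 0x42d09)),
   (2, [266]),
   (0, []),
   (7, W (nat_lit 0x4250b)),
   (5, W (nat_lit 0x4250b)),
   (8, W (nat_lit 0x42d09)),
   (9, W (nat_lit 0x4250b)),
   (6, W (nat_lit 0x4250b))]]
noncomputable def D1_v0 : Lev :=
  ⟨0, 10, sg (W (nat_lit 0x1054150541d05)), [[264], [266]], 129, 2⟩
noncomputable def D1_v1 : Lev :=
  ⟨1, 3, sg (W (nat_lit 0x4250b)), [[264]], 131, 0⟩
noncomputable def D1_v2 : Lev :=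
  ⟨2, 2, sg [264], [], 131, 0⟩
noncomputable def D1_vs3 : List Lev :=
  []
noncomputable def D1_vs2 : List Lev :=
  D1_v2 :: D1_vs3
noncomputable def D1_vs1 : List Lev :=
  D1_v1 :: D1_vs2
noncomputable def D1_vs : List Lev :=
  D1_v0 :: D1_vs1
noncomputable def zps287 : List (List ℕ × List ℕ) :=
  [(W (nat_lit 0x3dcf4), W (nat_lit 0x3e0f6)), ([242], W (nat_lit 0x3dcf7))]
noncomputable def zts290 : List (List ℕ) :=
  [W (nat_lit 0x4450e),
  W (nat_lit 0x11243510)]
noncomputable def zts293 : List (List ℕ) :=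
  [[],
  [],
  W (nat_lit 0x10b42505),
  [],
  [],
  [],
  W (nat_lit 0x10942d0941509),
  [],
  []]
noncomputable def zcj296 : List (List (List ℕ)) :=
  [[W (nat_lit 0x10942d0941509), [260]],
  [[260], [262]],
  [W (nat_lit 0x10b41d05), W (nat_lit 0x10941d09)]]
noncomputable def zcj299 : List (List (List ℕ)) :=
  [[W (nat_lit 0x10942d0941509), [260]],
  [[260], [262]],
  [W (nat_lit 0x10b41d05), W (nat_lit 0x10941d09)]]
noncomputable def zE302 : Net :=
  (.cons 64 (nat_lit 0xfffffaf2d96b5e74)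
 (.cons 32 (nat_lit 0xfb7244400000000007faad99)
 (.cons 16 (nat_lit 0xfd980000fed5000004fc00005220)
 (.cons 8 (nat_lit 0x6800ac00e200f50090000100520045)
 (.cons 4 (nat_lit 0x20700080b0b0c0f0700060800060400)
 (.cons 2 (nat_lit 0x20030230200332002002002200110001)
 (.cons 1 (nat_lit 0x50551110404041005000414100100004)
 (.cons 2 (nat_lit 0x20200022000000020200000002)
 (.cons 4 (nat_lit 0x600080c0008020006000e0000000000)
 (.cons 8 (nat_lit 0x5a006600c000500094000800720040)
 (.cons 16 (nat_lit 0x69080000af10000005e400005220)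
 (.cons 32 (nat_lit 0xb64824000000000007faa990)
 (.cons 64 (nat_lit 0xfffffaf2daed7740)
 .nil)))))))))))))
noncomputable def zK303 : Lk :=
  ⟨zE302, 3, 2, 1⟩
noncomputable def zts306 : List (List ℕ) :=
  [W (nat_lit 0x11b46517),
  W (nat_lit 0x11e45d1e)]
noncomputable def zts309 : List (List ℕ) :=
  [W (nat_lit 0x10941d05),
  W (nat_lit 0x4250b41906)]
noncomputable def P1_v0 : Lev :=
  ⟨0, 2, sg [298], [[264]], 147, 0⟩
noncomputable def P1_v1 : Lev :=
  ⟨2, 2, sg [264], [], 131, 0⟩
noncomputable def P1_vs2 : List Lev :=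
  []
noncomputable def P1_vs1 : List Lev :=
  P1_v1 :: P1_vs2
noncomputable def P1_vs : List Lev :=
  P1_v0 :: P1_vs1
noncomputable def P1_ps : List PcG :=
  [⟨[264], 2, [], [[298]]⟩,
  ⟨[298], 2, [], []⟩]
noncomputable def w1_0_E : List (ℕ × List CE) :=
  [(3, [])]
noncomputable def w1_0_R : List (List ℕ) :=
  [[],
  [264]]
noncomputable def zts328 : List (List ℕ) :=
  [[264],
  W (nat_lit 0x4250b42506)]
noncomputable def zcj331 : List (List (List ℕ)) :=
  [[[298]],
  [[298]]]
noncomputable def w1_1_E : List (ℕ × List CE) :=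
  [(3, []),
  (3, [])]
noncomputable def w1_1_R : List (List ℕ) :=
  [[],
  [298],
  [264],
  W (nat_lit 0x4ad09)]
noncomputable def w1_2_F : List (List ℕ × ℕ × List ℕ) :=
  [([], 0, []),
  (W (nat_lit 0x10942d07), 1, []),
  ([], 1, []),
  (W (nat_lit 0x41d05), 1, [])]
noncomputable def w1_2_R : List (List ℕ) :=
  [[], [264]]
noncomputable def zts341 : List (List ℕ) :=
  [[264],
  W (nat_lit 0x4250b42506)]
noncomputable def zm349 : ℕ :=
  (nat_lit 0x94010090400040454a00)
noncomputable def cC2_F : List (List ℕ × ℕ × ℕ) :=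
  [([0], zm349, zm349)]
noncomputable def cC2G_v0 : Lev :=
  ⟨9, 100, sg (W (nat_lit 0x401004030040300403004030040100c01)), [[316], [318]], 155, 2⟩
noncomputable def cC2G_v1 : Lev :=
  ⟨11, 36, sg (W (nat_lit 0x13d4f53d4fd3d4fd3d4fd3d)), [[320], [322]], 157, 2⟩
noncomputable def cC2G_v2 : Lev :=
  ⟨14, 21, sg (W (nat_lit 0x50d415054150d4150d41)), [[324], [326]], 159, 2⟩
noncomputable def cC2G_v3 : Lev :=
  ⟨18, 8, sg (W (nat_lit 0x5154551d45)), [], 161, 0⟩
noncomputable def cC2G_vs4 : List Lev :=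
  []
noncomputable def cC2G_vs3 : List Lev :=
  cC2G_v3 :: cC2G_vs4
noncomputable def cC2G_vs2 : List Lev :=
  cC2G_v2 :: cC2G_vs3
noncomputable def cC2G_vs1 : List Lev :=
  cC2G_v1 :: cC2G_vs2
noncomputable def cC2G_vs : List Lev :=
  cC2G_v0 :: cC2G_vs1
noncomputable def cC2_x : List (ℕ × List ℕ) :=
  [((nat_lit 0), []),
  ((nat_lit 0), [(nat_lit 0x83922d992c032833b8040971)]),
  ((nat_lit 0), [(nat_lit 0x914254026001042c401224000)]),
  ((nat_lit 0), [(nat_lit 0x20010000282088040000)])]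
noncomputable def cC2_G : Gl :=
  ⟨P, ns, (app D []), (diag [[166]]), [], [], memM (app D []) [[300], [302]], true⟩
noncomputable def cC2_s : St :=
  ⟨(mkS P.n cC2G_vs cC2_x), [[0], [2]], [], mapL Prod.snd cC2_F, memM (app D []) [[300], [302]], []⟩
noncomputable def zt353 : ST :=
  (.br 0 [W (nat_lit 0x4d5394dd31), W (nat_lit 0x1354ed314c52f)] (W (nat_lit 0xc010040300c0100c01)) [(9, [])] (.cons (.orb 0 (.and 2 0 (.br 0 [W (nat_lit 0x13b4e537), W (nat_lit 0x1354ed39)] (W (nat_lit 0xc01)) [(11, [])] (.cons (.orb 0 (.and 5 0 (.br 0 [W (nat_lit 0x1354ed38)] (W (nat_lit 0x401)) [(14, [])] (.cons (.orb 0 (.and 5 0 (.br 0 [[308]] [0] [(18, [])] (.cons .fnd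
 .nil))))
 .nil))))
 .nil))))
 .nil))
noncomputable def zt357 : List ℕ :=
  []
noncomputable def zcj358 : List (List ℕ) :=
  []
noncomputable def zE361 : List (ℕ × List ℕ) :=
  [(340, W (nat_lit 0x56557))]
noncomputable def zt362 : List ℕ :=
  []
noncomputable def zcj363 : List (List ℕ) :=
  [[344]]
noncomputable def zE367 : List (ℕ × List ℕ) :=
  [(336, W (nat_lit 0x56553))]
noncomputable def zt368 : List ℕ :=
  [340]
noncomputable def zcj369 : List (List ℕ) :=
  [[340],
  [344]]
noncomputable def zus373 : List (List ℕ) :=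
  [[332],
  [334]]
noncomputable def zF374 : List (List (ℕ × List ℕ)) :=
  [[(1, []),
   (0, [336]),
   (2, W (nat_lit 0x15955551))],
  [(2, []),
   (1, W (nat_lit 0x56551)),
   (0, W (nat_lit 0x55551))]]
noncomputable def zus377 : List (List ℕ) :=
  [[328],
  [329],
  [330],
  W (nat_lit 0x52549),
  W (nat_lit 0x5254b),
  W (nat_lit 0x52553)]
noncomputable def zF378 : List (List (ℕ × List ℕ)) :=
  [[(1, []),
   (4, []),
   (0, []),
   (5, [334]),
   (2, []),
   (3, W (nat_lit 0x565555454f)),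
   (6, W (nat_lit 0x1555454f))],
  [(3, []),
   (5, []),
   (0, W (nat_lit 0x5454d)),
   (6, W (nat_lit 0x5554d)),
   (4, W (nat_lit 0x15955551)),
   (1, W (nat_lit 0x5554d)),
   (2, W (nat_lit 0x55551))]]
noncomputable def D2_v0 : Lev :=
  ⟨9, 7, sg (W (nat_lit 0x14952d4952549)), [[332], [334]], 163, 2⟩
noncomputable def D2_v1 : Lev :=
  ⟨16, 3, sg (W (nat_lit 0x53d4d)), [[336], [338]], 165, 2⟩
noncomputable def D2_v2 : Lev :=
  ⟨14, 2, sg [336], [[340], [342]], 167, 2⟩
noncomputable def D2_v3 : Lev :=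
  ⟨11, 2, sg [340], [[344]], 169, 1⟩
noncomputable def D2_v4 : Lev :=
  ⟨0, 2, sg [344], [], 170, 0⟩
noncomputable def D2_vs5 : List Lev :=
  []
noncomputable def D2_vs4 : List Lev :=
  D2_v4 :: D2_vs5
noncomputable def D2_vs3 : List Lev :=
  D2_v3 :: D2_vs4
noncomputable def D2_vs2 : List Lev :=
  D2_v2 :: D2_vs3
noncomputable def D2_vs1 : List Lev :=
  D2_v1 :: D2_vs2
noncomputable def D2_vs : List Lev :=
  D2_v0 :: D2_vs1
noncomputable def zps382 : List (List ℕ × List ℕ) :=
  [(W (nat_lit 0x4c12e), W (nat_lit 0x4bd2d)), (W (nat_lit 0x4c130), [300])]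
noncomputable def zts385 : List (List ℕ) :=
  [W (nat_lit 0x5ad6356d5f),
  W (nat_lit 0x5ad675855d)]
noncomputable def zts388 : List (List ℕ) :=
  [[],
  W (nat_lit 0x5654f52553),
  W (nat_lit 0x1555454f52549),
  []]
noncomputable def zcj391 : List (List (List ℕ)) :=
  [[W (nat_lit 0x565555454a), [329]],
  [W (nat_lit 0x5555153d4a), W (nat_lit 0x565555454f52553)]]
noncomputable def zcj394 : List (List (List ℕ)) :=
  [[W (nat_lit 0x565555454a), [329]],
  [W (nat_lit 0x5555153d4a), W (nat_lit 0x565555454f52553)]]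
noncomputable def zE397 : Net :=
  (.cons 64 (nat_lit 0xffea92491108228a)
 (.cons 32 (nat_lit 0xf000000000000000663152ae)
 (.cons 16 (nat_lit 0x90000000a0f000003fbc0000e4d0)
 (.cons 8 (nat_lit 0x800012008800fa00b5007400cc002c)
 (.cons 4 (nat_lit 0x808000b03000008090b040208020a0f)
 (.cons 2 (nat_lit 0x22220010022000220321302020310101)
 (.cons 1 (nat_lit 0x15400050415005555511404044500510)
 (.cons 2 (nat_lit 0x20000000000000000020202020000020)
 (.cons 4 (nat_lit 0xa02000000080a0604080a0a06)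
 (.cons 8 (nat_lit 0x12000800f000a800500088002c)
 (.cons 16 (nat_lit 0x8000000040f000007f9800006c02)
 (.cons 32 (nat_lit 0xe0000000000000006624173c)
 (.cons 64 (nat_lit 0xffea924911084514)
 .nil)))))))))))))
noncomputable def zK398 : Lk :=
  ⟨zE397, 1, 2, 1⟩
noncomputable def zts401 : List (List ℕ) :=
  [W (nat_lit 0x16d5bd71),
  W (nat_lit 0x1775b56f)]
noncomputable def zts404 : List (List ℕ) :=
  [W (nat_lit 0x1555454d),
  W (nat_lit 0x5655153d4b)]
noncomputable def P2_v0 : Lev :=
  ⟨3, 2, sg [392], [[394], [396]], 196, 0⟩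
noncomputable def P2_v1 : Lev :=
  ⟨8, 2, sg [394], [[396]], 196, 0⟩
noncomputable def P2_v2 : Lev :=
  ⟨1, 2, sg [396], [], 196, 0⟩
noncomputable def P2_vs3 : List Lev :=
  []
noncomputable def P2_vs2 : List Lev :=
  P2_v2 :: P2_vs3
noncomputable def P2_vs1 : List Lev :=
  P2_v1 :: P2_vs2
noncomputable def P2_vs : List Lev :=
  P2_v0 :: P2_vs1
noncomputable def P2_ps : List PcG :=
  [⟨[392], 2, [], [W (nat_lit 0x6358b), [396]]⟩,
  ⟨[394], 2, [], [[396]]⟩,
  ⟨[396], 2, [], []⟩]
noncomputable def w2_0_E : List (ℕ × List CE) :=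
  [(3, [])]
noncomputable def w2_0_R : List (List ℕ) :=
  [[],
  [392]]
noncomputable def zts423 : List (List ℕ) :=
  [W (nat_lit 0x5554d),
  W (nat_lit 0x1595555153549),
  W (nat_lit 0x1555454d)]
noncomputable def zcj426 : List (List (List ℕ)) :=
  [[W (nat_lit 0x6358b), [396]],
  [[394], [396]],
  [[394], [396]]]
noncomputable def w2_1_E : List (ℕ × List CE) :=
  [(3, []),
  (3, [])]
noncomputable def w2_1_R : List (List ℕ) :=
  [[],
  [394],
  [392],
  W (nat_lit 0x62d89)]
noncomputable def zcj433 : List (List (List ℕ)) :=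
  [[[396]],
  [[396]],
  [[396]]]
noncomputable def w2_2_E : List (ℕ × List CE) :=
  [(3, []),
  (1, [ceD, ⟨false, [392], 0, []⟩]),
  (1, [ceD, ⟨false, [394], 0, []⟩]),
  (0, [⟨true, [], 1, []⟩, ⟨true, [], 1, []⟩])]
noncomputable def w2_2_R : List (List ℕ) :=
  [[],
  [396],
  [394],
  [392]]
noncomputable def w2_3_F : List (List ℕ × ℕ × List ℕ) :=
  [([], 0, []),
  (W (nat_lit 0x1555454f5254b), 1, []),
  (W (nat_lit 0x5554d), 1, []),
  (W (nat_lit 0x5654d5254b), 1, [])]
noncomputable def w2_3_R : List (List ℕ) :=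
  [[], [384]]
noncomputable def zts443 : List (List ℕ) :=
  [W (nat_lit 0x5554d),
  W (nat_lit 0x1595555153549),
  W (nat_lit 0x1555454d)]
noncomputable def zE452 : Net :=
  (.cons 64 (nat_lit 0x1340229a37363540)
 (.cons 32 (nat_lit 0xaba04c2b00000000d3e08dc1)
 (.cons 16 (nat_lit 0xeab20000374e0000ce6a0000ac27)
 (.cons 8 (nat_lit 0xd0002c006a00150037004f00e40096)
 (.cons 4 (nat_lit 0xe02000a0a0705070f0e020e0404010d)
 (.cons 2 (nat_lit 0x1202002201330002013100200301200)
 (.cons 1 (nat_lit 0x10400405500410145005504540450455)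
 (.cons 2 (nat_lit 0x20200200000220200000000020200000)
 (.cons 4 (nat_lit 0x40000020a00040a020e0a0404000000)
 (.cons 8 (nat_lit 0x8000000068009000c2004800e000a0)
 (.cons 16 (nat_lit 0xe23200003458000016c40000a814)
 (.cons 32 (nat_lit 0xaae04e3a0000000017c1c9ae)
 (.cons 64 (nat_lit 0x13402298855267c2)
 .nil)))))))))))))
noncomputable def zK453 : Lk :=
  ⟨zE452, 1, 3, 1⟩
noncomputable def zts456 : List (List ℕ) :=
  [W (nat_lit 0x1a7695a1679976919965597),
  W (nat_lit 0x1a166d9e65d9963d9764597)]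
noncomputable def zts459 : List (List ℕ) :=
  [W (nat_lit 0x130540b05c0702c010280b),
  W (nat_lit 0x440b05c0701c0101007),
  W (nat_lit 0x5c1503c0e0200e),
  W (nat_lit 0x1503c0b05c0700408)]

theorem zb2 : bnd (pcB D [] 2 zt0 zcj1) (leB (app D []) [[22]] ([22] :: [])) = true := by decide +kernel
theorem zr3 : chk (pcR [] [22] 2 zt0 zcj1) = true := by decide +kernel
theorem zb6 : bnd (pcB D [[22]] 2 zt4 zcj5) (leB (app D []) [[18]] ([18] :: [[22]])) = true := by decide +kernel
theorem zr7 : chk (pcR [[22]] [18] 2 zt4 zcj5) = true := by decide +kernel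
theorem zb10 : bnd (pcB D [[18]] 2 zt8 zcj9) (leB (app D []) [[18], [20]] ([20] :: [[18]])) = true := by decide +kernel
theorem zr11 : chk (pcR [[18]] [20] 2 zt8 zcj9) = true := by decide +kernel
theorem zb14 : schB D [[14], [16]] [[18], [20]] zus12 zF13 3 = true := by decide +kernel
theorem zr15 : chk (schR [[14], [16]] zus12 zF13) = true := by decide +kernel
theorem zb18 : schB D [[10], [12]] [[14], [16]] zus16 zF17 7 = true := by decide +kernel
theorem zr19 : chk (schR [[10], [12]] zus16 zF17) = true := by decide +kernel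
theorem zc21 : P.chainB ns D GM_w1_1_vs [[10], [12]] = true := by decide +kernel
theorem zb23 : wdB D [[10], [12]] GM_w1_1_v0.nx zcj22 = true := by decide +kernel
theorem zr24 : chk (wdR GM_w1_1_v0.nx (W (nat_lit 0x2b0ac10)) zcj22) = true := by decide +kernel
theorem zc25 : P.chainB ns D GM_w1_2_vs [[10], [12]] = true := by decide +kernel
theorem zb27 : wdB D [[10], [12]] GM_w1_2_v0.nx zcj26 = true := by decide +kernel
theorem zr28 : chk (wdR GM_w1_2_v0.nx [43] zcj26) = true := by decide +kernel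
theorem zc29 : P.chainB ns D GM_vs [[0], [2]] = true := by decide +kernel
theorem zb31 : wdB D [[10], [12]] GM_v2.nx zcj30 = true := by decide +kernel
theorem zr32 : chk (wdR GM_v2.nx (W (nat_lit 0x2b02c0e)) zcj30) = true := by decide +kernel
theorem zb35 : bB P.n P.N ns (app D zE34) [[6], [8]] [[10], [12]] 5 zrs20 zB33 = true := by decide +kernel
theorem zb36 : P.invSz ns [[6], [8]] 5 (orbM P.N ns GM_v1) 36 = true := by decide +kernel
theorem zr37 : chk (bR 5 zrs20 zB33) = true := by decide +kernel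
theorem zr38 : chk (defRels zE34) = true := by decide +kernel
theorem zc40 : P.chainB ns D GM_w0_1_vs [[6], [8]] = true := by decide +kernel
theorem zb42 : wdB D [[6], [8]] GM_w0_1_v0.nx zcj41 = true := by decide +kernel
theorem zr43 : chk (wdR GM_w0_1_v0.nx (W (nat_lit 0xcc0d0d034)) zcj41) = true := by decide +kernel
theorem zb45 : wdB D [[6], [8]] GM_v1.nx zcj44 = true := by decide +kernel
theorem zr46 : chk (wdR GM_v1.nx [51] zcj44) = true := by decide +kernel
theorem zb49 : bB P.n P.N ns (app D zE48) [[0], [2]] [[6], [8]] 0 zrs39 zB47 = true := by decide +kernel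
theorem zb50 : P.invSz ns [[0], [2]] 0 (orbM P.N ns GM_v0) 100 = true := by decide +kernel
theorem zr51 : chk (bR 0 zrs39 zB47) = true := by decide +kernel
theorem zr52 : chk (defRels zE48) = true := by decide +kernel
theorem zb55 : bnd (pcB D [] 2 zt53 zcj54) (leB (app D []) [[40]] ([40] :: [])) = true := by decide +kernel
theorem zr56 : chk (pcR [] [40] 2 zt53 zcj54) = true := by decide +kernel
theorem zb59 : bnd (pcB D [[40]] 2 zt57 zcj58) (leB (app D []) [[38]] ([38] :: [[40]])) = true := by decide +kernel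
theorem zr60 : chk (pcR [[40]] [38] 2 zt57 zcj58) = true := by decide +kernel
theorem zb64 : bnd (pcB D [[38]] 2 zt62 zcj63) (leB (app D zE61) [[34], [36]] ([36] :: [[38]])) = true := by decide +kernel
theorem zr65 : chk (pcR [[38]] [36] 2 zt62 zcj63) = true := by decide +kernel
theorem zr66 : chk (defRels zE61) = true := by decide +kernel
theorem zb69 : schB D [[30], [32]] [[34], [36]] zus67 zF68 3 = true := by decide +kernel
theorem zr70 : chk (schR [[30], [32]] zus67 zF68) = true := by decide +kernel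
theorem zb73 : schB D [[26], [28]] [[30], [32]] zus71 zF72 14 = true := by decide +kernel
theorem zr74 : chk (schR [[26], [28]] zus71 zF72) = true := by decide +kernel
theorem zc76 : P.chainB ns D GA_w1_1_vs [[26], [28]] = true := by decide +kernel
theorem zb78 : wdB D [[26], [28]] GA_w1_1_v0.nx zcj77 = true := by decide +kernel
theorem zr79 : chk (wdR GA_w1_1_v0.nx (W (nat_lit 0xec1b0ec23)) zcj77) = true := by decide +kernel
theorem zc80 : P.chainB ns D GA_vs [[0], [2], [4]] = true := by decide +kernel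
theorem zb82 : wdB D [[26], [28]] GA_v2.nx zcj81 = true := by decide +kernel
theorem zr83 : chk (wdR GA_v2.nx [59] zcj81) = true := by decide +kernel
theorem zb86 : bB P.n P.N ns (app D zE85) [[5], [24]] [[26], [28]] 5 zrs75 zB84 = true := by decide +kernel
theorem zb87 : P.invSz ns [[5], [24]] 5 (orbM P.N ns GA_v1) 36 = true := by decide +kernel
theorem zr88 : chk (bR 5 zrs75 zB84) = true := by decide +kernel
theorem zr89 : chk (defRels zE85) = true := by decide +kernel
theorem zc91 : P.chainB ns D GA_w0_1_vs [[5], [24]] = true := by decide +kernel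
theorem zb93 : wdB D [[5], [24]] GA_w0_1_v0.nx zcj92 = true := by decide +kernel
theorem zr94 : chk (wdR GA_w0_1_v0.nx (W (nat_lit 0x1040606441)) zcj92) = true := by decide +kernel
theorem zb96 : wdB D [[5], [24]] GA_v1.nx zcj95 = true := by decide +kernel
theorem zr97 : chk (wdR GA_v1.nx [65] zcj95) = true := by decide +kernel
theorem zb100 : bB P.n P.N ns (app D zE99) [[0], [2], [4]] [[5], [24]] 0 zrs90 zB98 = true := by decide +kernel
theorem zb101 : P.invSz ns [[0], [2], [4]] 0 (orbM P.N ns GA_v0) 100 = true := by decide +kernel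
theorem zr102 : chk (bR 0 zrs90 zB98) = true := by decide +kernel
theorem zr103 : chk (defRels zE99) = true := by decide +kernel
theorem zf106 : P.fixXB ns (diag [[0], [2]]) cL_F = true := by decide +kernel
theorem zc107 : P.chainB ns D cLG_vs [[0], [2], [4]] = true := by decide +kernel
theorem zs108 : ssB P.N ns D (mkS P.n cLG_vs cL_x) [[0], [2], [4]] = true := by decide +kernel
theorem zs110 : cL_G.chk zt109 cL_s none = true := by decide +kernel
theorem zr111 : chk (comR [] (mapL Prod.snd (diag [[0], [2]]))) = true := by decide +kernel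
theorem zm112 : leB D [] [[0], [2], [4]] = true := by decide +kernel
theorem zr114 : chk (pcsR S_ps []) = true := by decide +kernel
theorem zr115 : chk (defRels zE113) = true := by decide +kernel
theorem zb116 : bnd (pcsB D S_ps []) (leB (app D zE113) [[90], [92], [94]] (pcGens S_ps [])) = true := by decide +kernel
theorem zc117 : P.chainB ns D S_vs [[90], [92], [94]] = true := by decide +kernel
theorem zm119 : leB D zts118 [[0], [2]] = true := by decide +kernel
theorem zr120 : chk (zp [] [[90], [92], [94]] zts118) = true := by decide +kernel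
theorem zf125 : P.fixXB ns (diag [[90], [92], [94]]) cS_F = true := by decide +kernel
theorem zc126 : P.chainB ns D cSG_vs [[0], [2], [4]] = true := by decide +kernel
theorem zs127 : ssB P.N ns D (mkS P.n cSG_vs cS_x) [[0], [2], [4]] = true := by decide +kernel
theorem zs129 : cS_G.chk zt128 cS_s none = true := by decide +kernel
theorem zr130 : chk (comR [[114]] (mapL Prod.snd (diag [[90], [92], [94]]))) = true := by decide +kernel
theorem zm131 : leB D [[114]] [[0], [2], [4]] = true := by decide +kernel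
theorem zm133 : leB D zts132 [[0], [2]] = true := by decide +kernel
theorem zr134 : chk (zp [] [[114]] zts132) = true := by decide +kernel
theorem zc135 : P.chainB ns D T_vs [[128], [130], [132], [134], [136], [138], [140], [142]] = true := by decide +kernel
theorem zr136 : chk (pcsR T_ps []) = true := by decide +kernel
theorem zb137 : bnd (pcsB D T_ps []) (leB (app D []) [[128], [130], [132], [134], [136], [138], [140], [142]] (pcGens T_ps [])) = true := by decide +kernel
theorem zq138 : cvN 2 [128] [[]] v0_E = v0_R := by decide +kernel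
theorem zr139 : chk (cvR 2 2 [128] [[]] v0_E) = true := by decide +kernel
theorem zb140 : cvB D [[128], [130], [132], [134], [136], [138], [140], [142]] [[130], [132], [134], [136], [138], [140], [142]] 2 [128] [[]] v0_E = true := by decide +kernel
theorem zm142 : leB D zts141 [[0], [2], [4]] = true := by decide +kernel
theorem zr143 : chk (zp [] [[128], [130], [132], [134], [136], [138], [140], [142]] zts141) = true := by decide +kernel
theorem zm145 : nrmB D [[128], [130], [132], [134], [136], [138], [140], [142]] [[130], [132], [134], [136], [138], [140], [142]] zcj144 = true := by decide +kernel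
theorem zr146 : chk (nrmR [[128], [130], [132], [134], [136], [138], [140], [142]] [[130], [132], [134], [136], [138], [140], [142]] zcj144) = true := by decide +kernel
theorem zm147 : leB D [[130], [132], [134], [136], [138], [140], [142]] [[128], [130], [132], [134], [136], [138], [140], [142]] = true := by decide +kernel
theorem zq148 : cvN 2 [130] v0_R v1_E = v1_R := by decide +kernel
theorem zr149 : chk (cvR 2 2 [130] v0_R v1_E) = true := by decide +kernel
theorem zb150 : cvB D [[128], [130], [132], [134], [136], [138], [140], [142]] [[132], [134], [136], [138], [140], [142]] 2 [130] v0_R v1_E = true := by decide +kernel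
theorem zm152 : nrmB D [[128], [130], [132], [134], [136], [138], [140], [142]] [[132], [134], [136], [138], [140], [142]] zcj151 = true := by decide +kernel
theorem zr153 : chk (nrmR [[128], [130], [132], [134], [136], [138], [140], [142]] [[132], [134], [136], [138], [140], [142]] zcj151) = true := by decide +kernel
theorem zm154 : leB D [[132], [134], [136], [138], [140], [142]] [[128], [130], [132], [134], [136], [138], [140], [142]] = true := by decide +kernel
theorem zq155 : cvN 2 [132] v1_R v2_E = v2_R := by decide +kernel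
theorem zr156 : chk (cvR 2 2 [132] v1_R v2_E) = true := by decide +kernel
theorem zb157 : cvB D [[128], [130], [132], [134], [136], [138], [140], [142]] [[134], [136], [138], [140], [142]] 2 [132] v1_R v2_E = true := by decide +kernel
theorem zm159 : nrmB D [[128], [130], [132], [134], [136], [138], [140], [142]] [[134], [136], [138], [140], [142]] zcj158 = true := by decide +kernel
theorem zr160 : chk (nrmR [[128], [130], [132], [134], [136], [138], [140], [142]] [[134], [136], [138], [140], [142]] zcj158) = true := by decide +kernel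
theorem zm161 : leB D [[134], [136], [138], [140], [142]] [[128], [130], [132], [134], [136], [138], [140], [142]] = true := by decide +kernel
theorem zq162 : cvN 2 [134] v2_R v3_E = v3_R := by decide +kernel
theorem zr163 : chk (cvR 2 2 [134] v2_R v3_E) = true := by decide +kernel
theorem zb164 : cvB D [[128], [130], [132], [134], [136], [138], [140], [142]] [[136], [138], [140], [142]] 2 [134] v2_R v3_E = true := by decide +kernel
theorem zm166 : nrmB D [[128], [130], [132], [134], [136], [138], [140], [142]] [[136], [138], [140], [142]] zcj165 = true := by decide +kernel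
theorem zr167 : chk (nrmR [[128], [130], [132], [134], [136], [138], [140], [142]] [[136], [138], [140], [142]] zcj165) = true := by decide +kernel
theorem zm168 : leB D [[136], [138], [140], [142]] [[128], [130], [132], [134], [136], [138], [140], [142]] = true := by decide +kernel
theorem zq169 : cvN 2 [136] v3_R v4_E = v4_R := by decide +kernel
theorem zr170 : chk (cvR 2 2 [136] v3_R v4_E) = true := by decide +kernel
theorem zb171 : cvB D [[128], [130], [132], [134], [136], [138], [140], [142]] [[138], [140], [142]] 2 [136] v3_R v4_E = true := by decide +kernel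
theorem zm173 : nrmB D [[128], [130], [132], [134], [136], [138], [140], [142]] [[138], [140], [142]] zcj172 = true := by decide +kernel
theorem zr174 : chk (nrmR [[128], [130], [132], [134], [136], [138], [140], [142]] [[138], [140], [142]] zcj172) = true := by decide +kernel
theorem zm175 : leB D [[138], [140], [142]] [[128], [130], [132], [134], [136], [138], [140], [142]] = true := by decide +kernel
theorem zq176 : cvN 2 [138] v4_R v5_E = v5_R := by decide +kernel
theorem zr177 : chk (cvR 2 2 [138] v4_R v5_E) = true := by decide +kernel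
theorem zb178 : cvB D [[128], [130], [132], [134], [136], [138], [140], [142]] [[140], [142]] 2 [138] v4_R v5_E = true := by decide +kernel
theorem zm180 : nrmB D [[128], [130], [132], [134], [136], [138], [140], [142]] [[140], [142]] zcj179 = true := by decide +kernel
theorem zr181 : chk (nrmR [[128], [130], [132], [134], [136], [138], [140], [142]] [[140], [142]] zcj179) = true := by decide +kernel
theorem zm182 : leB D [[140], [142]] [[128], [130], [132], [134], [136], [138], [140], [142]] = true := by decide +kernel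
theorem zq183 : cvN 2 [140] v5_R v6_E = v6_R := by decide +kernel
theorem zr184 : chk (cvR 2 2 [140] v5_R v6_E) = true := by decide +kernel
theorem zb185 : cvB D [[128], [130], [132], [134], [136], [138], [140], [142]] [[142]] 2 [140] v5_R v6_E = true := by decide +kernel
theorem zm187 : nrmB D [[128], [130], [132], [134], [136], [138], [140], [142]] [[142]] zcj186 = true := by decide +kernel
theorem zr188 : chk (nrmR [[128], [130], [132], [134], [136], [138], [140], [142]] [[142]] zcj186) = true := by decide +kernel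
theorem zm189 : leB D [[142]] [[128], [130], [132], [134], [136], [138], [140], [142]] = true := by decide +kernel
theorem zq190 : cvN 2 [142] v6_R v7_E = v7_R := by decide +kernel
theorem zr191 : chk (cvR 2 2 [142] v6_R v7_E) = true := by decide +kernel
theorem zb192 : cvB D [[128], [130], [132], [134], [136], [138], [140], [142]] [] 2 [142] v6_R v7_E = true := by decide +kernel
theorem zr193 : chk (fuR v7_R v8_R v8_F) = true := by decide +kernel
theorem zb194 : fuB D [[0], [2], [4]] [] v7_R v8_R v8_F = true := by decide +kernel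
theorem zm195 : leB D [[0], [2], [4]] [[0], [2], [4]] = true := by decide +kernel
theorem zm197 : leB D zts196 [[0], [2], [4]] = true := by decide +kernel
theorem zr198 : chk (zp [] [[128], [130], [132], [134], [136], [138], [140], [142]] zts196) = true := by decide +kernel
theorem zf200 : P.fixXB ns (diag [[162]]) cC0_F = true := by decide +kernel
theorem zc201 : P.chainB ns D cC0G_vs [[0], [2]] = true := by decide +kernel
theorem zs202 : ssB P.N ns D (mkS P.n cC0G_vs cC0_x) [[0], [2]] = true := by decide +kernel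
theorem zs204 : cC0_G.chk zt203 cC0_s none = true := by decide +kernel
theorem zr205 : chk (comR [[168], [170]] (mapL Prod.snd (diag [[162]]))) = true := by decide +kernel
theorem zm206 : leB D [[168], [170]] [[0], [2]] = true := by decide +kernel
theorem zb209 : bnd (pcB D [] 2 zt207 zcj208) (leB (app D []) [[198]] ([198] :: [])) = true := by decide +kernel
theorem zr210 : chk (pcR [] [198] 2 zt207 zcj208) = true := by decide +kernel
theorem zb213 : bnd (pcB D [[198]] 2 zt211 zcj212) (leB (app D []) [[198], [200]] ([200] :: [[198]])) = true := by decide +kernel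
theorem zr214 : chk (pcR [[198]] [200] 2 zt211 zcj212) = true := by decide +kernel
theorem zb217 : schB D [[194], [196]] [[198], [200]] zus215 zF216 4 = true := by decide +kernel
theorem zr218 : chk (schR [[194], [196]] zus215 zF216) = true := by decide +kernel
theorem zb221 : schB D [[190], [192]] [[194], [196]] zus219 zF220 6 = true := by decide +kernel
theorem zr222 : chk (schR [[190], [192]] zus219 zF220) = true := by decide +kernel
theorem zb225 : schB D [[186], [188]] [[190], [192]] zus223 zF224 20 = true := by decide +kernel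
theorem zr226 : chk (schR [[186], [188]] zus223 zF224) = true := by decide +kernel
theorem zc227 : P.chainB ns D D0_vs [[186], [188]] = true := by decide +kernel
theorem zm229 : bnd (leB D (mapL Prod.fst zps228) [[168], [170]]) (leB D (mapL Prod.snd zps228) [[168], [170]]) = true := by decide +kernel
theorem zr230 : chk (zp [] [[202], [204]] (mapL comW zps228)) = true := by decide +kernel
theorem zm232 : leB D zts231 [[202], [204]] = true := by decide +kernel
theorem zr233 : chk (zp [] [[186], [188]] zts231) = true := by decide +kernel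
theorem zm235 : leB D zts234 [[186], [188]] = true := by decide +kernel
theorem zr236 : chk (zp [] (comWs [[168], [170]] [[168], [170]]) zts234) = true := by decide +kernel
theorem zm238 : nrmB D [[168], [170]] [[186], [188]] zcj237 = true := by decide +kernel
theorem zr239 : chk (nrmR [[168], [170]] [[186], [188]] zcj237) = true := by decide +kernel
theorem zm241 : nrmB D [[168], [170]] [[186], [188]] zcj240 = true := by decide +kernel
theorem zr242 : chk (nrmR [[168], [170]] [[186], [188]] zcj240) = true := by decide +kernel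
theorem zr244 : chk (pcsR Q0_ps []) = true := by decide +kernel
theorem zr245 : chk (defRels zE243) = true := by decide +kernel
theorem zb246 : bnd (pcsB D Q0_ps []) (leB (app D zE243) [[216], [218], [220], [222]] (pcGens Q0_ps [])) = true := by decide +kernel
theorem zc247 : P.chainB ns D Q0_vs [[216], [218], [220], [222]] = true := by decide +kernel
theorem zm249 : leB D zts248 [[186], [188]] = true := by decide +kernel
theorem zr250 : chk (zp [] [[216], [218], [220], [222]] zts248) = true := by decide +kernel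
theorem zm252 : nrmB D [[186], [188]] [[216], [218], [220], [222]] zcj251 = true := by decide +kernel
theorem zr253 : chk (nrmR [[186], [188]] [[216], [218], [220], [222]] zcj251) = true := by decide +kernel
theorem zr254 : chk (pcsR Z0_ps []) = true := by decide +kernel
theorem zb255 : bnd (pcsB D Z0_ps []) (leB (app D []) [[200]] (pcGens Z0_ps [])) = true := by decide +kernel
theorem zc256 : P.chainB ns D Z0_vs [[200]] = true := by decide +kernel
theorem zf260 : P.fixXB ns (diag [[216], [218], [220], [222]]) cQ0_F = true := by decide +kernel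
theorem zc261 : P.chainB ns D cQ0G_vs [[186], [188]] = true := by decide +kernel
theorem zs262 : ssB P.N ns D (mkS P.n cQ0G_vs cQ0_x) [[186], [188]] = true := by decide +kernel
theorem zs264 : cQ0_G.chk zt263 cQ0_s none = true := by decide +kernel
theorem zr265 : chk (comR [[200]] (mapL Prod.snd (diag [[216], [218], [220], [222]]))) = true := by decide +kernel
theorem zm266 : leB D [[200]] [[186], [188]] = true := by decide +kernel
theorem zf267 : P.fixXB ns (diag [[164]]) cC1_F = true := by decide +kernel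
theorem zc268 : P.chainB ns D cC1G_vs [[0], [2]] = true := by decide +kernel
theorem zs269 : ssB P.N ns D (mkS P.n cC1G_vs cC1_x) [[0], [2]] = true := by decide +kernel
theorem zs271 : cC1_G.chk zt270 cC1_s none = true := by decide +kernel
theorem zr272 : chk (comR [[242], [244], [246]] (mapL Prod.snd (diag [[164]]))) = true := by decide +kernel
theorem zm273 : leB D [[242], [244], [246]] [[0], [2]] = true := by decide +kernel
theorem zb276 : bnd (pcB D [] 2 zt274 zcj275) (leB (app D []) [[264]] ([264] :: [])) = true := by decide +kernel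
theorem zr277 : chk (pcR [] [264] 2 zt274 zcj275) = true := by decide +kernel
theorem zb280 : schB D [[264], [266]] [[264]] zus278 zF279 3 = true := by decide +kernel
theorem zr281 : chk (schR [[264], [266]] zus278 zF279) = true := by decide +kernel
theorem zb284 : schB D [[260], [262]] [[264], [266]] zus282 zF283 10 = true := by decide +kernel
theorem zr285 : chk (schR [[260], [262]] zus282 zF283) = true := by decide +kernel
theorem zc286 : P.chainB ns D D1_vs [[260], [262]] = true := by decide +kernel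
theorem zm288 : bnd (leB D (mapL Prod.fst zps287) [[242], [244], [246]]) (leB D (mapL Prod.snd zps287) [[242], [244], [246]]) = true := by decide +kernel
theorem zr289 : chk (zp [] [[268], [270]] (mapL comW zps287)) = true := by decide +kernel
theorem zm291 : leB D zts290 [[268], [270]] = true := by decide +kernel
theorem zr292 : chk (zp [] [[260], [262]] zts290) = true := by decide +kernel
theorem zm294 : leB D zts293 [[260], [262]] = true := by decide +kernel
theorem zr295 : chk (zp [] (comWs [[242], [244], [246]] [[242], [244], [246]]) zts293) = true := by decide +kernel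
theorem zm297 : nrmB D [[242], [244], [246]] [[260], [262]] zcj296 = true := by decide +kernel
theorem zr298 : chk (nrmR [[242], [244], [246]] [[260], [262]] zcj296) = true := by decide +kernel
theorem zm300 : nrmB D [[242], [244], [246]] [[260], [262]] zcj299 = true := by decide +kernel
theorem zr301 : chk (nrmR [[242], [244], [246]] [[260], [262]] zcj299) = true := by decide +kernel
theorem zl304 : zK303.relB CL.Q49M.J2.P CL.Std.A5.P CL.Q49M.J2.ns [[278], [280]] [[0], [2]] = true := by decide +kernel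
theorem zl305 : allL (zK303.pl CL.Q49M.J2.P CL.Std.A5.P CL.Q49M.J2.ns CL.Std.A5.ns 0) (zp [] [[278], [280]] [[0], [2]]) = true := by decide +kernel
theorem zm307 : leB D zts306 [[278], [280]] = true := by decide +kernel
theorem zr308 : chk (zp [] [[260], [262]] zts306) = true := by decide +kernel
theorem zm310 : leB D zts309 [[260], [262]] = true := by decide +kernel
theorem zr311 : chk (zp [] [[278], [280]] zts309) = true := by decide +kernel
theorem zr312 : chk [([286, 164], [164, 290, 286])] = true := by decide +kernel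
theorem zr313 : chk [([290, 164], [164, 290])] = true := by decide +kernel
theorem zr314 : chk [([288, 290], [290, 264, 288])] = true := by decide +kernel
theorem zr315 : chk [([292, 292], [264])] = true := by decide +kernel
theorem zr316 : chk [([294, 294], [264])] = true := by decide +kernel
theorem zr317 : chk [([292, 286], [286, 292])] = true := by decide +kernel
theorem zr318 : chk [([296, 288], [288, 286])] = true := by decide +kernel
theorem zr319 : chk [([294, 296], [296, 294])] = true := by decide +kernel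
theorem zr320 : chk [([264, 264], [])] = true := by decide +kernel
theorem zn321 : movB P.n P.N ns [264] 2 = true := by decide +kernel
theorem zc322 : P.chainB ns D P1_vs [[264], [298]] = true := by decide +kernel
theorem zr323 : chk (pcsR P1_ps []) = true := by decide +kernel
theorem zb324 : bnd (pcsB D P1_ps []) (leB (app D []) [[264], [298]] (pcGens P1_ps [])) = true := by decide +kernel
theorem zq325 : cvN 2 [264] [[]] w1_0_E = w1_0_R := by decide +kernel
theorem zr326 : chk (cvR 2 2 [264] [[]] w1_0_E) = true := by decide +kernel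
theorem zb327 : cvB D [[264], [298]] [[298]] 2 [264] [[]] w1_0_E = true := by decide +kernel
theorem zm329 : leB D zts328 [[260], [262]] = true := by decide +kernel
theorem zr330 : chk (zp [] [[264], [298]] zts328) = true := by decide +kernel
theorem zm332 : nrmB D [[264], [298]] [[298]] zcj331 = true := by decide +kernel
theorem zr333 : chk (nrmR [[264], [298]] [[298]] zcj331) = true := by decide +kernel
theorem zm334 : leB D [[298]] [[264], [298]] = true := by decide +kernel
theorem zq335 : cvN 2 [298] w1_0_R w1_1_E = w1_1_R := by decide +kernel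
theorem zr336 : chk (cvR 2 2 [298] w1_0_R w1_1_E) = true := by decide +kernel
theorem zb337 : cvB D [[264], [298]] [] 2 [298] w1_0_R w1_1_E = true := by decide +kernel
theorem zr338 : chk (fuR w1_1_R w1_2_R w1_2_F) = true := by decide +kernel
theorem zb339 : fuB D [[260], [262]] [] w1_1_R w1_2_R w1_2_F = true := by decide +kernel
theorem zm340 : leB D [[260], [262]] [[260], [262]] = true := by decide +kernel
theorem zm342 : leB D zts341 [[260], [262]] = true := by decide +kernel
theorem zr343 : chk (zp [] [[264], [298]] zts341) = true := by decide +kernel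
theorem zm344 : leB D [[294]] [[0], [2]] = true := by decide +kernel
theorem zm345 : leB D [[292]] [[0], [2]] = true := by decide +kernel
theorem zm346 : leB D [[290]] [[0], [2]] = true := by decide +kernel
theorem zm347 : leB D [[288]] [[260], [262]] = true := by decide +kernel
theorem zm348 : leB D [[286]] [[0], [2]] = true := by decide +kernel
theorem zf350 : P.fixXB ns (diag [[166]]) cC2_F = true := by decide +kernel
theorem zc351 : P.chainB ns D cC2G_vs [[0], [2]] = true := by decide +kernel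
theorem zs352 : ssB P.N ns D (mkS P.n cC2G_vs cC2_x) [[0], [2]] = true := by decide +kernel
theorem zs354 : cC2_G.chk zt353 cC2_s none = true := by decide +kernel
theorem zr355 : chk (comR [[300], [302]] (mapL Prod.snd (diag [[166]]))) = true := by decide +kernel
theorem zm356 : leB D [[300], [302]] [[0], [2]] = true := by decide +kernel
theorem zb359 : bnd (pcB D [] 2 zt357 zcj358) (leB (app D []) [[344]] ([344] :: [])) = true := by decide +kernel
theorem zr360 : chk (pcR [] [344] 2 zt357 zcj358) = true := by decide +kernel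
theorem zb364 : bnd (pcB D [[344]] 2 zt362 zcj363) (leB (app D zE361) [[340], [342]] ([342] :: [[344]])) = true := by decide +kernel
theorem zr365 : chk (pcR [[344]] [342] 2 zt362 zcj363) = true := by decide +kernel
theorem zr366 : chk (defRels zE361) = true := by decide +kernel
theorem zb370 : bnd (pcB D [[340], [342]] 2 zt368 zcj369) (leB (app D zE367) [[336], [338]] ([338] :: [[340], [342]])) = true := by decide +kernel
theorem zr371 : chk (pcR [[340], [342]] [338] 2 zt368 zcj369) = true := by decide +kernel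
theorem zr372 : chk (defRels zE367) = true := by decide +kernel
theorem zb375 : schB D [[332], [334]] [[336], [338]] zus373 zF374 3 = true := by decide +kernel
theorem zr376 : chk (schR [[332], [334]] zus373 zF374) = true := by decide +kernel
theorem zb379 : schB D [[328], [330]] [[332], [334]] zus377 zF378 7 = true := by decide +kernel
theorem zr380 : chk (schR [[328], [330]] zus377 zF378) = true := by decide +kernel
theorem zc381 : P.chainB ns D D2_vs [[328], [330]] = true := by decide +kernel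
theorem zm383 : bnd (leB D (mapL Prod.fst zps382) [[300], [302]]) (leB D (mapL Prod.snd zps382) [[300], [302]]) = true := by decide +kernel
theorem zr384 : chk (zp [] [[346], [348]] (mapL comW zps382)) = true := by decide +kernel
theorem zm386 : leB D zts385 [[346], [348]] = true := by decide +kernel
theorem zr387 : chk (zp [] [[328], [330]] zts385) = true := by decide +kernel
theorem zm389 : leB D zts388 [[328], [330]] = true := by decide +kernel
theorem zr390 : chk (zp [] (comWs [[300], [302]] [[300], [302]]) zts388) = true := by decide +kernel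
theorem zm392 : nrmB D [[300], [302]] [[328], [330]] zcj391 = true := by decide +kernel
theorem zr393 : chk (nrmR [[300], [302]] [[328], [330]] zcj391) = true := by decide +kernel
theorem zm395 : nrmB D [[300], [302]] [[328], [330]] zcj394 = true := by decide +kernel
theorem zr396 : chk (nrmR [[300], [302]] [[328], [330]] zcj394) = true := by decide +kernel
theorem zl399 : zK398.relB CL.Q49M.J2.P CL.Std.L32.P CL.Q49M.J2.ns [[364], [366]] [[0], [2]] = true := by decide +kernel
theorem zl400 : allL (zK398.pl CL.Q49M.J2.P CL.Std.L32.P CL.Q49M.J2.ns CL.Std.L32.ns 0) (zp [] [[364], [366]] [[0], [2]]) = true := by decide +kernel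
theorem zm402 : leB D zts401 [[364], [366]] = true := by decide +kernel
theorem zr403 : chk (zp [] [[328], [330]] zts401) = true := by decide +kernel
theorem zm405 : leB D zts404 [[328], [330]] = true := by decide +kernel
theorem zr406 : chk (zp [] [[364], [366]] zts404) = true := by decide +kernel
theorem zr407 : chk [([378, 166], [166, 382, 378])] = true := by decide +kernel
theorem zr408 : chk [([382, 166], [166, 382])] = true := by decide +kernel
theorem zr409 : chk [([380, 382], [382, 384, 380])] = true := by decide +kernel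
theorem zr410 : chk [([386, 386], [384])] = true := by decide +kernel
theorem zr411 : chk [([388, 388], [384])] = true := by decide +kernel
theorem zr412 : chk [([386, 378], [378, 386])] = true := by decide +kernel
theorem zr413 : chk [([390, 380], [380, 378])] = true := by decide +kernel
theorem zr414 : chk [([388, 390], [390, 388])] = true := by decide +kernel
theorem zr415 : chk [([384, 384], [])] = true := by decide +kernel
theorem zn416 : movB P.n P.N ns [384] 1 = true := by decide +kernel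
theorem zc417 : P.chainB ns D P2_vs [[392], [394], [396]] = true := by decide +kernel
theorem zr418 : chk (pcsR P2_ps []) = true := by decide +kernel
theorem zb419 : bnd (pcsB D P2_ps []) (leB (app D []) [[392], [394], [396]] (pcGens P2_ps [])) = true := by decide +kernel
theorem zq420 : cvN 2 [392] [[]] w2_0_E = w2_0_R := by decide +kernel
theorem zr421 : chk (cvR 2 2 [392] [[]] w2_0_E) = true := by decide +kernel
theorem zb422 : cvB D [[392], [394], [396]] [[394], [396]] 2 [392] [[]] w2_0_E = true := by decide +kernel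
theorem zm424 : leB D zts423 [[328], [330]] = true := by decide +kernel
theorem zr425 : chk (zp [] [[392], [394], [396]] zts423) = true := by decide +kernel
theorem zm427 : nrmB D [[392], [394], [396]] [[394], [396]] zcj426 = true := by decide +kernel
theorem zr428 : chk (nrmR [[392], [394], [396]] [[394], [396]] zcj426) = true := by decide +kernel
theorem zm429 : leB D [[394], [396]] [[392], [394], [396]] = true := by decide +kernel
theorem zq430 : cvN 2 [394] w2_0_R w2_1_E = w2_1_R := by decide +kernel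
theorem zr431 : chk (cvR 2 2 [394] w2_0_R w2_1_E) = true := by decide +kernel
theorem zb432 : cvB D [[392], [394], [396]] [[396]] 2 [394] w2_0_R w2_1_E = true := by decide +kernel
theorem zm434 : nrmB D [[392], [394], [396]] [[396]] zcj433 = true := by decide +kernel
theorem zr435 : chk (nrmR [[392], [394], [396]] [[396]] zcj433) = true := by decide +kernel
theorem zm436 : leB D [[396]] [[392], [394], [396]] = true := by decide +kernel
theorem zq437 : cvN 2 [396] w2_1_R w2_2_E = w2_2_R := by decide +kernel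
theorem zr438 : chk (cvR 2 2 [396] w2_1_R w2_2_E) = true := by decide +kernel
theorem zb439 : cvB D [[392], [394], [396]] [] 2 [396] w2_1_R w2_2_E = true := by decide +kernel
theorem zr440 : chk (fuR w2_2_R w2_3_R w2_3_F) = true := by decide +kernel
theorem zb441 : fuB D [[328], [330]] [] w2_2_R w2_3_R w2_3_F = true := by decide +kernel
theorem zm442 : leB D [[328], [330]] [[328], [330]] = true := by decide +kernel
theorem zm444 : leB D zts443 [[328], [330]] = true := by decide +kernel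
theorem zr445 : chk (zp [] [[392], [394], [396]] zts443) = true := by decide +kernel
theorem zm446 : leB D [[388]] [[0], [2]] = true := by decide +kernel
theorem zm447 : leB D [[386]] [[0], [2]] = true := by decide +kernel
theorem zm448 : leB D [[382]] [[0], [2]] = true := by decide +kernel
theorem zm449 : leB D [[380]] [[328], [330]] = true := by decide +kernel
theorem zm450 : leB D [[378]] [[0], [2]] = true := by decide +kernel
theorem zm451 : leB D [[0], [2]] [[0], [2], [4]] = true := by decide +kernel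
theorem zl454 : zK453.relB CL.Q49M.J2.P CL.Std.J2.P CL.Q49M.J2.ns [[398], [400], [402], [404]] [[0], [2], [4], [6]] = true := by decide +kernel
theorem zl455 : allL (zK453.pl CL.Q49M.J2.P CL.Std.J2.P CL.Q49M.J2.ns CL.Std.J2.ns 0) (zp [] [[398], [400], [402], [404]] [[0], [2], [4], [6]]) = true := by decide +kernel
theorem zm457 : leB D zts456 [[398], [400], [402], [404]] = true := by decide +kernel
theorem zr458 : chk (zp [] [[0], [2]] zts456) = true := by decide +kernel
theorem zm460 : leB D zts459 [[0], [2]] = true := by decide +kernel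
theorem zr461 : chk (zp [] [[398], [400], [402], [404]] zts459) = true := by decide +kernel
theorem zk462 : allL (keepB P.n P.N) ns0 = true := by decide +kernel
theorem ze463 : extB ns0 ns 3 ws [] = true := by decide +kernel
theorem zn464 : P.netsB ns (mkDefs ws 3) = true := by decide +kernel

variable {G X : Type*} [Group G] [MulAction G X] {e : ℕ → X} {gs : List G}

theorem keep0 : allL (keepB P.n P.N) ns0 = true := zk462

theorem len {k} (c : Ctx P e gs ns0 [] k) : gs.length = 3 := c.len ze463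

theorem ctx0 {k} (c : Ctx P e gs ns0 [] k) : Ctx P e (ext gs ws) ns D chk0 :=
  c.ext rfl ze463 zn464

theorem ctx {k} (c : Ctx P e gs ns0 [] k) {H : Subgroup G} (hF : Faithful e P.n H) (hH : ∀ g ∈ gs, g ∈ H) :
    Ctx P e (ext gs ws) ns D chk :=
  (ctx0 c).withB hF (mem_of_mem_ext hH _)

instance instNe : NeZero P.n := ⟨by decide⟩
noncomputable def gs0 : List (Equiv.Perm (Fin P.n)) := permsOf P.n P.N ns0
noncomputable def gs1 : List (Equiv.Perm (Fin P.n)) := ext gs0 ws
theorem c1 : Ctx P (eF P.n) gs1 ns D chk :=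
  ctx (ctx_permsOf hP keep0) (faithful_eF _) fun _ _ => trivial

theorem GM_u6 (c : Ctx P e gs ns D chk) :
    UB (subW gs [[22]]) 2 :=
  (c.pc_step (UB.nil gs) (Rels.nil _)
    (c.rels _ zr3) zb2).le (by decide)

theorem GM_u5 (c : Ctx P e gs ns D chk) :
    UB (subW gs [[18]]) 4 :=
  (c.pc_step (GM_u6 c) (Rels.nil _)
    (c.rels _ zr7) zb6).le (by decide)

theorem GM_u4 (c : Ctx P e gs ns D chk) :
    UB (subW gs [[18], [20]]) 8 :=
  (c.pc_step (GM_u5 c) (Rels.nil _)
    (c.rels _ zr11) zb10).le (by decide)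

theorem GM_u3 (c : Ctx P e gs ns D chk) :
    UB (subW gs [[14], [16]]) 24 :=
  (c.sch_step (GM_u4 c)
    (c.rels _ zr15) zb14).le (by decide)

theorem GM_u2 (c : Ctx P e gs ns D chk) :
    UB (subW gs [[10], [12]]) 168 :=
  (c.sch_step (GM_u3 c)
    (c.rels _ zr19) zb18).le (by decide)

theorem GM_w1_1_c : P.chainB ns D GM_w1_1_vs [[10], [12]] = true :=
  zc21

theorem GM_w1_1_o : prodL GM_w1_1_vs 1 = 168 := by decide +kernel

theorem GM_w1_2_c : P.chainB ns D GM_w1_2_vs [[10], [12]] = true :=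
  zc25

theorem GM_w1_2_o : prodL GM_w1_2_vs 1 = 168 := by decide +kernel

theorem GM_c : P.chainB ns D GM_vs [[0], [2]] = true :=
  zc29

theorem GM_o : prodL GM_vs 1 = 604800 := by decide +kernel

theorem GM_u1w (c : Ctx P e gs ns D chk) :
    AllWd e gs [[10], [12]] zrs20 :=
  ⟨c.wd (v := GM_w1_1_v0) (vs := GM_w1_1_vs1) (GM_u2 c) GM_w1_1_c GM_w1_1_o
      (c.rels _ zr24) zb23,
    ⟨c.wd (v := GM_w1_2_v0) (vs := GM_w1_2_vs1) (GM_u2 c) GM_w1_2_c GM_w1_2_o
      (c.rels _ zr28) zb27,
    ⟨c.wd (v := GM_v2) (vs := GM_vs3) (GM_u2 c) (Par.chainB_tail (Par.chainB_tail GM_c)) (by decide +kernel)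
      (c.rels _ zr32) zb31,
    trivial⟩⟩⟩

theorem GM_u1 (c : Ctx P e gs ns D chk) :
    UB (subW gs [[6], [8]]) 6048 :=
  (c.b_step (GM_u2 c) (GM_u1w c) (c.rels _ zr38)
    (c.rels _ zr37) zb35 zb36).le (by decide)

theorem GM_w0_1_c : P.chainB ns D GM_w0_1_vs [[6], [8]] = true :=
  zc40

theorem GM_w0_1_o : prodL GM_w0_1_vs 1 = 6048 := by decide +kernel

theorem GM_u0w (c : Ctx P e gs ns D chk) :
    AllWd e gs [[6], [8]] zrs39 :=
  ⟨c.wd (v := GM_w0_1_v0) (vs := GM_w0_1_vs1) (GM_u1 c) GM_w0_1_c GM_w0_1_o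
      (c.rels _ zr43) zb42,
    ⟨c.wd (v := GM_v1) (vs := GM_vs2) (GM_u1 c) (Par.chainB_tail GM_c) (by decide +kernel)
      (c.rels _ zr46) zb45,
    trivial⟩⟩

theorem GM_u0 (c : Ctx P e gs ns D chk) :
    UB (subW gs [[0], [2]]) 604800 :=
  (c.b_step (GM_u1 c) (GM_u0w c) (c.rels _ zr52)
    (c.rels _ zr51) zb49 zb50).le (by decide)

theorem GM_ub (c : Ctx P e gs ns D chk) :
    UB (subW gs [[0], [2]]) 604800 :=
  (GM_u0 c)

theorem GM_ex (c : Ctx P e gs ns D chk) :
    Exact e P.n P.N gs ns 1 GM_vs [[0], [2]] :=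
  c.exact GM_c GM_o (GM_ub c)

theorem GM_card (c : Ctx P e gs ns D chk) :
    Nat.card (subW gs [[0], [2]]) = 604800 :=
  (GM_ex c).card.trans GM_o

theorem GA_u6 (c : Ctx P e gs ns D chk) :
    UB (subW gs [[40]]) 2 :=
  (c.pc_step (UB.nil gs) (Rels.nil _)
    (c.rels _ zr56) zb55).le (by decide)

theorem GA_u5 (c : Ctx P e gs ns D chk) :
    UB (subW gs [[38]]) 4 :=
  (c.pc_step (GA_u6 c) (Rels.nil _)
    (c.rels _ zr60) zb59).le (by decide)

theorem GA_u4 (c : Ctx P e gs ns D chk) :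
    UB (subW gs [[34], [36]]) 8 :=
  (c.pc_step (GA_u5 c) (c.rels _ zr66)
    (c.rels _ zr65) zb64).le (by decide)

theorem GA_u3 (c : Ctx P e gs ns D chk) :
    UB (subW gs [[30], [32]]) 24 :=
  (c.sch_step (GA_u4 c)
    (c.rels _ zr70) zb69).le (by decide)

theorem GA_u2 (c : Ctx P e gs ns D chk) :
    UB (subW gs [[26], [28]]) 336 :=
  (c.sch_step (GA_u3 c)
    (c.rels _ zr74) zb73).le (by decide)

theorem GA_w1_1_c : P.chainB ns D GA_w1_1_vs [[26], [28]] = true :=
  zc76

theorem GA_w1_1_o : prodL GA_w1_1_vs 1 = 336 := by decide +kernel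

theorem GA_c : P.chainB ns D GA_vs [[0], [2], [4]] = true :=
  zc80

theorem GA_o : prodL GA_vs 1 = 1209600 := by decide +kernel

theorem GA_u1w (c : Ctx P e gs ns D chk) :
    AllWd e gs [[26], [28]] zrs75 :=
  ⟨c.wd (v := GA_w1_1_v0) (vs := GA_w1_1_vs1) (GA_u2 c) GA_w1_1_c GA_w1_1_o
      (c.rels _ zr79) zb78,
    ⟨c.wd (v := GA_v2) (vs := GA_vs3) (GA_u2 c) (Par.chainB_tail (Par.chainB_tail GA_c)) (by decide +kernel)
      (c.rels _ zr83) zb82,
    trivial⟩⟩

theorem GA_u1 (c : Ctx P e gs ns D chk) :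
    UB (subW gs [[5], [24]]) 12096 :=
  (c.b_step (GA_u2 c) (GA_u1w c) (c.rels _ zr89)
    (c.rels _ zr88) zb86 zb87).le (by decide)

theorem GA_w0_1_c : P.chainB ns D GA_w0_1_vs [[5], [24]] = true :=
  zc91

theorem GA_w0_1_o : prodL GA_w0_1_vs 1 = 12096 := by decide +kernel

theorem GA_u0w (c : Ctx P e gs ns D chk) :
    AllWd e gs [[5], [24]] zrs90 :=
  ⟨c.wd (v := GA_w0_1_v0) (vs := GA_w0_1_vs1) (GA_u1 c) GA_w0_1_c GA_w0_1_o
      (c.rels _ zr94) zb93,
    ⟨c.wd (v := GA_v1) (vs := GA_vs2) (GA_u1 c) (Par.chainB_tail GA_c) (by decide +kernel)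
      (c.rels _ zr97) zb96,
    trivial⟩⟩

theorem GA_u0 (c : Ctx P e gs ns D chk) :
    UB (subW gs [[0], [2], [4]]) 1209600 :=
  (c.b_step (GA_u1 c) (GA_u0w c) (c.rels _ zr103)
    (c.rels _ zr102) zb100 zb101).le (by decide)

theorem GA_ub (c : Ctx P e gs ns D chk) :
    UB (subW gs [[0], [2], [4]]) 1209600 :=
  (GA_u0 c)

theorem GA_ex (c : Ctx P e gs ns D chk) :
    Exact e P.n P.N gs ns 1 GA_vs [[0], [2], [4]] :=
  c.exact GA_c GA_o (GA_ub c)

theorem GA_card (c : Ctx P e gs ns D chk) :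
    Nat.card (subW gs [[0], [2], [4]]) = 1209600 :=
  (GA_ex c).card.trans GA_o

theorem cLG_c : P.chainB ns D cLG_vs [[0], [2], [4]] = true :=
  zc107

theorem cLG_o : prodL cLG_vs 1 = 1209600 := by decide +kernel

theorem cL (c : Ctx P e gs ns D chk) :
    (subW gs [[0], [2], [4]]) ⊓ Subgroup.centralizer (subW gs [[0], [2]] : Set G) = (subW gs []) :=
  c.cent (lx := [[0], [2]]) (Rels.nil _) (c.sOk (c.exact cLG_c cLG_o (GA_ub c)) zs108) (fun _ h => by cases h)
    (c.fixX zf106) (c.rels _ zr111) zm112 zs110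

theorem S_pr (c : Ctx P e gs ns D chk) :
    Rels gs (pcsR S_ps []) :=
  (c.rels _ zr114)

theorem S_pe (c : Ctx P e gs ns D chk) :
    Rels gs (defRels zE113) :=
  (c.rels _ zr115)

theorem S_pb : bnd (pcsB D S_ps []) (leB (app D zE113) [[90], [92], [94]] (pcGens S_ps [])) = true := zb116

theorem S_ub (c : Ctx P e gs ns D chk) :
    UB (subW gs [[90], [92], [94]]) 128 :=
  c.pcs (UB.nil gs) (S_pe c) (S_pr c) S_pb (by decide +kernel)

theorem S_c : P.chainB ns D S_vs [[90], [92], [94]] = true :=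
  zc117

theorem S_o : prodL S_vs 1 = 128 := by decide +kernel

theorem S_lb (c : Ctx P e gs ns D chk) :
    LB (subW gs [[90], [92], [94]]) 128 :=
  c.lb S_c S_o

theorem S_card (c : Ctx P e gs ns D chk) :
    Nat.card (subW gs [[90], [92], [94]]) = 128 :=
  (S_ub c).card_eq (S_lb c)

theorem S_le (c : Ctx P e gs ns D chk) :
    (subW gs [[90], [92], [94]]) ≤ (subW gs [[0], [2]]) :=
  (c.le_of_rels (ws := [[90], [92], [94]]) (l := [[0], [2]]) (c.rels _ zr120) zm119)

theorem cSG_c : P.chainB ns D cSG_vs [[0], [2], [4]] = true :=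
  zc126

theorem cSG_o : prodL cSG_vs 1 = 1209600 := by decide +kernel

theorem cS (c : Ctx P e gs ns D chk) :
    (subW gs [[0], [2], [4]]) ⊓ Subgroup.centralizer (subW gs [[90], [92], [94]] : Set G) = (subW gs [[114]]) :=
  c.cent (lx := [[90], [92], [94]]) (Rels.nil _) (c.sOk (c.exact cSG_c cSG_o (GA_ub c)) zs127) (fun _ h => by cases h)
    (c.fixX zf125) (c.rels _ zr130) zm131 zs129

theorem SZ_le (c : Ctx P e gs ns D chk) :
    (subW gs [[114]]) ≤ (subW gs [[0], [2]]) :=
  (c.le_of_rels (ws := [[114]]) (l := [[0], [2]]) (c.rels _ zr134) zm133)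

theorem gam (c : Ctx P e gs ns D chk) :
    Gam (subW gs [[0], [2], [4]]) (subW gs [[0], [2]]) :=
  ⟨_, S_le c, 7, 4725, (S_card c).trans (by norm_num), (GM_card c).trans (by norm_num), by norm_num, (cS c).le.trans (SZ_le c)⟩

theorem T_c : P.chainB ns D T_vs [[128], [130], [132], [134], [136], [138], [140], [142]] = true :=
  zc135

theorem T_o : prodL T_vs 1 = 256 := by decide +kernel

theorem T_lb (c : Ctx P e gs ns D chk) :
    LB (subW gs [[128], [130], [132], [134], [136], [138], [140], [142]]) 256 :=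
  c.lb T_c T_o

theorem T_pr (c : Ctx P e gs ns D chk) :
    Rels gs (pcsR T_ps []) :=
  (c.rels _ zr136)

theorem T_pe (c : Ctx P e gs ns D chk) :
    Rels gs (defRels []) :=
  (Rels.nil _)

theorem T_pb : bnd (pcsB D T_ps []) (leB (app D []) [[128], [130], [132], [134], [136], [138], [140], [142]] (pcGens T_ps [])) = true := zb137

theorem T_ub (c : Ctx P e gs ns D chk) :
    UB (subW gs [[128], [130], [132], [134], [136], [138], [140], [142]]) 256 :=
  c.pcs (UB.nil gs) (T_pe c) (T_pr c) T_pb (by decide +kernel)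

theorem T_card (c : Ctx P e gs ns D chk) :
    Nat.card (subW gs [[128], [130], [132], [134], [136], [138], [140], [142]]) = 256 :=
  (T_ub c).card_eq (T_lb c)

theorem v_le0 (c : Ctx P e gs ns D chk) :
    (subW gs [[128], [130], [132], [134], [136], [138], [140], [142]]) ≤ (subW gs [[0], [2], [4]]) :=
  (c.le_of_rels (ws := [[128], [130], [132], [134], [136], [138], [140], [142]]) (l := [[0], [2], [4]]) (c.rels _ zr143) zm142)

theorem v0 (c : Ctx P e gs ns D chk) :
    Cov 2 (subW gs [[128], [130], [132], [134], [136], [138], [140], [142]]) (subW gs [[0], [2], [4]]) gs v0_R (subW gs [[130], [132], [134], [136], [138], [140], [142]]) :=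
  Cov.step' (q := 2) (g := [128]) c.defs (by norm_num) (Cov.init 2 (subW gs [[128], [130], [132], [134], [136], [138], [140], [142]]) (subW gs [[0], [2], [4]]) gs)
    (pc_lvl' c.defs (T_pr c) T_pb (T_lb c) 0 (by decide +kernel))
    (c.le_normalizer (cj := zcj144) (((T_ub c).mono (c.le zm147)).1) (c.rels _ zr146) zm145) (v_le0 c)
    (c.rels _ zr139) zb140 zq138

theorem v1 (c : Ctx P e gs ns D chk) :
    Cov 2 (subW gs [[128], [130], [132], [134], [136], [138], [140], [142]]) (subW gs [[0], [2], [4]]) gs v1_R (subW gs [[132], [134], [136], [138], [140], [142]]) :=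
  Cov.step' (q := 2) (g := [130]) c.defs (by norm_num) (v0 c)
    (pc_lvl' c.defs (T_pr c) T_pb (T_lb c) 1 (by decide +kernel))
    (c.le_normalizer (cj := zcj151) (((T_ub c).mono (c.le zm154)).1) (c.rels _ zr153) zm152) (v_le0 c)
    (c.rels _ zr149) zb150 zq148

theorem v2 (c : Ctx P e gs ns D chk) :
    Cov 2 (subW gs [[128], [130], [132], [134], [136], [138], [140], [142]]) (subW gs [[0], [2], [4]]) gs v2_R (subW gs [[134], [136], [138], [140], [142]]) :=
  Cov.step' (q := 2) (g := [132]) c.defs (by norm_num) (v1 c)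
    (pc_lvl' c.defs (T_pr c) T_pb (T_lb c) 2 (by decide +kernel))
    (c.le_normalizer (cj := zcj158) (((T_ub c).mono (c.le zm161)).1) (c.rels _ zr160) zm159) (v_le0 c)
    (c.rels _ zr156) zb157 zq155

theorem v3 (c : Ctx P e gs ns D chk) :
    Cov 2 (subW gs [[128], [130], [132], [134], [136], [138], [140], [142]]) (subW gs [[0], [2], [4]]) gs v3_R (subW gs [[136], [138], [140], [142]]) :=
  Cov.step' (q := 2) (g := [134]) c.defs (by norm_num) (v2 c)
    (pc_lvl' c.defs (T_pr c) T_pb (T_lb c) 3 (by decide +kernel))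
    (c.le_normalizer (cj := zcj165) (((T_ub c).mono (c.le zm168)).1) (c.rels _ zr167) zm166) (v_le0 c)
    (c.rels _ zr163) zb164 zq162

theorem v4 (c : Ctx P e gs ns D chk) :
    Cov 2 (subW gs [[128], [130], [132], [134], [136], [138], [140], [142]]) (subW gs [[0], [2], [4]]) gs v4_R (subW gs [[138], [140], [142]]) :=
  Cov.step' (q := 2) (g := [136]) c.defs (by norm_num) (v3 c)
    (pc_lvl' c.defs (T_pr c) T_pb (T_lb c) 4 (by decide +kernel))
    (c.le_normalizer (cj := zcj172) (((T_ub c).mono (c.le zm175)).1) (c.rels _ zr174) zm173) (v_le0 c)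
    (c.rels _ zr170) zb171 zq169

theorem v5 (c : Ctx P e gs ns D chk) :
    Cov 2 (subW gs [[128], [130], [132], [134], [136], [138], [140], [142]]) (subW gs [[0], [2], [4]]) gs v5_R (subW gs [[140], [142]]) :=
  Cov.step' (q := 2) (g := [138]) c.defs (by norm_num) (v4 c)
    (pc_lvl' c.defs (T_pr c) T_pb (T_lb c) 5 (by decide +kernel))
    (c.le_normalizer (cj := zcj179) (((T_ub c).mono (c.le zm182)).1) (c.rels _ zr181) zm180) (v_le0 c)
    (c.rels _ zr177) zb178 zq176

theorem v6 (c : Ctx P e gs ns D chk) :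
    Cov 2 (subW gs [[128], [130], [132], [134], [136], [138], [140], [142]]) (subW gs [[0], [2], [4]]) gs v6_R (subW gs [[142]]) :=
  Cov.step' (q := 2) (g := [140]) c.defs (by norm_num) (v5 c)
    (pc_lvl' c.defs (T_pr c) T_pb (T_lb c) 6 (by decide +kernel))
    (c.le_normalizer (cj := zcj186) (((T_ub c).mono (c.le zm189)).1) (c.rels _ zr188) zm187) (v_le0 c)
    (c.rels _ zr184) zb185 zq183

theorem v7 (c : Ctx P e gs ns D chk) :
    Cov 2 (subW gs [[128], [130], [132], [134], [136], [138], [140], [142]]) (subW gs [[0], [2], [4]]) gs v7_R (subW gs []) :=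
  Cov.step' (q := 2) (g := [142]) c.defs (by norm_num) (v6 c)
    (pc_lvl' c.defs (T_pr c) T_pb (T_lb c) 7 (by decide +kernel))
    (le_normalizer_nil gs _) (v_le0 c)
    (c.rels _ zr191) zb192 zq190

theorem v8 (c : Ctx P e gs ns D chk) :
    Cov 2 (subW gs [[128], [130], [132], [134], [136], [138], [140], [142]]) (subW gs [[0], [2], [4]]) gs v8_R (subW gs []) :=
  Cov.fuse c.defs (v7 c) (le_normalizer_nil gs _) (c.le zm195)
    (c.rels _ zr193) zb194

theorem v_cls (c : Ctx P e gs ns D chk) :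
    Cls 2 (subW gs [[128], [130], [132], [134], [136], [138], [140], [142]]) (subW gs [[0], [2], [4]]) gs [[], [162], [164], [166]] :=
  (v8 c).cls

theorem T_le (c : Ctx P e gs ns D chk) :
    (subW gs [[128], [130], [132], [134], [136], [138], [140], [142]]) ≤ (subW gs [[0], [2], [4]]) :=
  (c.le_of_rels (ws := [[128], [130], [132], [134], [136], [138], [140], [142]]) (l := [[0], [2], [4]]) (c.rels _ zr198) zm197)

theorem cC0G_c : P.chainB ns D cC0G_vs [[0], [2]] = true :=
  zc201

theorem cC0G_o : prodL cC0G_vs 1 = 604800 := by decide +kernel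

theorem cC0 (c : Ctx P e gs ns D chk) :
    (subW gs [[0], [2]]) ⊓ Subgroup.centralizer (subW gs [[162]] : Set G) = (subW gs [[168], [170]]) :=
  c.cent (lx := [[162]]) (Rels.nil _) (c.sOk (c.exact cC0G_c cC0G_o (GM_ub c)) zs202) (fun _ h => by cases h)
    (c.fixX zf200) (c.rels _ zr205) zm206 zs204

theorem D0_u4 (c : Ctx P e gs ns D chk) :
    UB (subW gs [[198]]) 2 :=
  (c.pc_step (UB.nil gs) (Rels.nil _)
    (c.rels _ zr210) zb209).le (by decide)

theorem D0_u3 (c : Ctx P e gs ns D chk) :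
    UB (subW gs [[198], [200]]) 4 :=
  (c.pc_step (D0_u4 c) (Rels.nil _)
    (c.rels _ zr214) zb213).le (by decide)

theorem D0_u2 (c : Ctx P e gs ns D chk) :
    UB (subW gs [[194], [196]]) 16 :=
  (c.sch_step (D0_u3 c)
    (c.rels _ zr218) zb217).le (by decide)

theorem D0_u1 (c : Ctx P e gs ns D chk) :
    UB (subW gs [[190], [192]]) 96 :=
  (c.sch_step (D0_u2 c)
    (c.rels _ zr222) zb221).le (by decide)

theorem D0_u0 (c : Ctx P e gs ns D chk) :
    UB (subW gs [[186], [188]]) 1920 :=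
  (c.sch_step (D0_u1 c)
    (c.rels _ zr226) zb225).le (by decide)

theorem D0_ub (c : Ctx P e gs ns D chk) :
    UB (subW gs [[186], [188]]) 1920 :=
  (D0_u0 c)

theorem D0_c : P.chainB ns D D0_vs [[186], [188]] = true :=
  zc227

theorem D0_o : prodL D0_vs 1 = 1920 := by decide +kernel

theorem D0_ex (c : Ctx P e gs ns D chk) :
    Exact e P.n P.N gs ns 1 D0_vs [[186], [188]] :=
  c.exact D0_c D0_o (D0_ub c)

theorem D0_card (c : Ctx P e gs ns D chk) :
    Nat.card (subW gs [[186], [188]]) = 1920 :=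
  (D0_ex c).card.trans D0_o

theorem cm0_c_le (c : Ctx P e gs ns D chk) :
    (subW gs [[202], [204]]) ≤ ⁅(subW gs [[168], [170]]), (subW gs [[168], [170]])⁆ :=
  c.le_commutator (ps := zps228) (c.rels _ zr230) zm229

theorem cm0 (c : Ctx P e gs ns D chk) :
    ⁅(subW gs [[168], [170]]), (subW gs [[168], [170]])⁆ = (subW gs [[186], [188]]) :=
  have hfin : Finite (subW gs [[186], [188]]) := (D0_ub c).1
  le_antisymm (commutator_subW_le (c.le_normalizer (cj := zcj240) hfin (c.rels _ zr242) zm241) (c.le_normalizer (cj := zcj237) hfin (c.rels _ zr239) zm238)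
    (c.le_of_rels (ws := (comWs [[168], [170]] [[168], [170]])) (l := [[186], [188]]) (c.rels _ zr236) zm235)) ((c.le_of_rels (ws := [[186], [188]]) (l := [[202], [204]]) (c.rels _ zr233) zm232).trans (cm0_c_le c))

theorem Q0_pr (c : Ctx P e gs ns D chk) :
    Rels gs (pcsR Q0_ps []) :=
  (c.rels _ zr244)

theorem Q0_pe (c : Ctx P e gs ns D chk) :
    Rels gs (defRels zE243) :=
  (c.rels _ zr245)

theorem Q0_pb : bnd (pcsB D Q0_ps []) (leB (app D zE243) [[216], [218], [220], [222]] (pcGens Q0_ps [])) = true := zb246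

theorem Q0_ub (c : Ctx P e gs ns D chk) :
    UB (subW gs [[216], [218], [220], [222]]) 32 :=
  c.pcs (UB.nil gs) (Q0_pe c) (Q0_pr c) Q0_pb (by decide +kernel)

theorem Q0_c : P.chainB ns D Q0_vs [[216], [218], [220], [222]] = true :=
  zc247

theorem Q0_o : prodL Q0_vs 1 = 32 := by decide +kernel

theorem Q0_lb (c : Ctx P e gs ns D chk) :
    LB (subW gs [[216], [218], [220], [222]]) 32 :=
  c.lb Q0_c Q0_o

theorem Q0_card (c : Ctx P e gs ns D chk) :
    Nat.card (subW gs [[216], [218], [220], [222]]) = 32 :=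
  (Q0_ub c).card_eq (Q0_lb c)

theorem Q0_le (c : Ctx P e gs ns D chk) :
    (subW gs [[216], [218], [220], [222]]) ≤ (subW gs [[186], [188]]) :=
  (c.le_of_rels (ws := [[216], [218], [220], [222]]) (l := [[186], [188]]) (c.rels _ zr250) zm249)

theorem nQ0 (c : Ctx P e gs ns D chk) :
    (subW gs [[186], [188]]) ≤ Subgroup.normalizer (subW gs [[216], [218], [220], [222]] : Set G) :=
  have hfin : Finite (subW gs [[216], [218], [220], [222]]) := (Q0_ub c).1
  (c.le_normalizer (cj := zcj251) hfin (c.rels _ zr253) zm252)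

theorem Z0_pr (c : Ctx P e gs ns D chk) :
    Rels gs (pcsR Z0_ps []) :=
  (c.rels _ zr254)

theorem Z0_pe (c : Ctx P e gs ns D chk) :
    Rels gs (defRels []) :=
  (Rels.nil _)

theorem Z0_pb : bnd (pcsB D Z0_ps []) (leB (app D []) [[200]] (pcGens Z0_ps [])) = true := zb255

theorem Z0_ub (c : Ctx P e gs ns D chk) :
    UB (subW gs [[200]]) 2 :=
  c.pcs (UB.nil gs) (Z0_pe c) (Z0_pr c) Z0_pb (by decide +kernel)

theorem Z0_c : P.chainB ns D Z0_vs [[200]] = true :=
  zc256

theorem Z0_o : prodL Z0_vs 1 = 2 := by decide +kernel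

theorem Z0_lb (c : Ctx P e gs ns D chk) :
    LB (subW gs [[200]]) 2 :=
  c.lb Z0_c Z0_o

theorem Z0_card (c : Ctx P e gs ns D chk) :
    Nat.card (subW gs [[200]]) = 2 :=
  (Z0_ub c).card_eq (Z0_lb c)

theorem cQ0G_c : P.chainB ns D cQ0G_vs [[186], [188]] = true :=
  zc261

theorem cQ0G_o : prodL cQ0G_vs 1 = 1920 := by decide +kernel

theorem cQ0 (c : Ctx P e gs ns D chk) :
    (subW gs [[186], [188]]) ⊓ Subgroup.centralizer (subW gs [[216], [218], [220], [222]] : Set G) = (subW gs [[200]]) :=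
  c.cent (lx := [[216], [218], [220], [222]]) (Rels.nil _) (c.sOk (c.exact cQ0G_c cQ0G_o (D0_ub c)) zs262) (fun _ h => by cases h)
    (c.fixX zf260) (c.rels _ zr265) zm266 zs264

theorem row0 (c : Ctx P e gs ns D chk) :
    Row True (subW gs [[0], [2]]) (wordG gs [162]) :=
  row_con (dd (cC0 c) (cm0 c)) (Q0_le c) (nQ0 c) (isPGroup_of_card (Q0_card c) 5 (by norm_num)) (cQ0 c)
    (isPGroup_of_card (Z0_card c) 1 (by norm_num))

theorem cC1G_c : P.chainB ns D cC1G_vs [[0], [2]] = true :=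
  zc268

theorem cC1G_o : prodL cC1G_vs 1 = 604800 := by decide +kernel

theorem cC1 (c : Ctx P e gs ns D chk) :
    (subW gs [[0], [2]]) ⊓ Subgroup.centralizer (subW gs [[164]] : Set G) = (subW gs [[242], [244], [246]]) :=
  c.cent (lx := [[164]]) (Rels.nil _) (c.sOk (c.exact cC1G_c cC1G_o (GM_ub c)) zs269) (fun _ h => by cases h)
    (c.fixX zf267) (c.rels _ zr272) zm273 zs271

theorem D1_u2 (c : Ctx P e gs ns D chk) :
    UB (subW gs [[264]]) 2 :=
  (c.pc_step (UB.nil gs) (Rels.nil _)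
    (c.rels _ zr277) zb276).le (by decide)

theorem D1_u1 (c : Ctx P e gs ns D chk) :
    UB (subW gs [[264], [266]]) 6 :=
  (c.sch_step (D1_u2 c)
    (c.rels _ zr281) zb280).le (by decide)

theorem D1_u0 (c : Ctx P e gs ns D chk) :
    UB (subW gs [[260], [262]]) 60 :=
  (c.sch_step (D1_u1 c)
    (c.rels _ zr285) zb284).le (by decide)

theorem D1_ub (c : Ctx P e gs ns D chk) :
    UB (subW gs [[260], [262]]) 60 :=
  (D1_u0 c)

theorem D1_c : P.chainB ns D D1_vs [[260], [262]] = true :=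
  zc286

theorem D1_o : prodL D1_vs 1 = 60 := by decide +kernel

theorem D1_ex (c : Ctx P e gs ns D chk) :
    Exact e P.n P.N gs ns 1 D1_vs [[260], [262]] :=
  c.exact D1_c D1_o (D1_ub c)

theorem D1_card (c : Ctx P e gs ns D chk) :
    Nat.card (subW gs [[260], [262]]) = 60 :=
  (D1_ex c).card.trans D1_o

theorem cm1_c_le (c : Ctx P e gs ns D chk) :
    (subW gs [[268], [270]]) ≤ ⁅(subW gs [[242], [244], [246]]), (subW gs [[242], [244], [246]])⁆ :=
  c.le_commutator (ps := zps287) (c.rels _ zr289) zm288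

theorem cm1 (c : Ctx P e gs ns D chk) :
    ⁅(subW gs [[242], [244], [246]]), (subW gs [[242], [244], [246]])⁆ = (subW gs [[260], [262]]) :=
  have hfin : Finite (subW gs [[260], [262]]) := (D1_ub c).1
  le_antisymm (commutator_subW_le (c.le_normalizer (cj := zcj299) hfin (c.rels _ zr301) zm300) (c.le_normalizer (cj := zcj296) hfin (c.rels _ zr298) zm297)
    (c.le_of_rels (ws := (comWs [[242], [244], [246]] [[242], [244], [246]])) (l := [[260], [262]]) (c.rels _ zr295) zm294)) ((c.le_of_rels (ws := [[260], [262]]) (l := [[268], [270]]) (c.rels _ zr292) zm291).trans (cm1_c_le c))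

theorem iso1_r {Γ Y : Type*} [Group Γ] [MulAction Γ Y] {e' : ℕ → Y} {cs : List Γ} {D₁ D₂ : List (ℕ × List ℕ)}
    {k₁ k₂ : List (List ℕ × List ℕ) → Bool} (c : Ctx CL.Q49M.J2.P e gs CL.Q49M.J2.ns D₁ k₁) (c' : Ctx CL.Std.A5.P e' cs CL.Std.A5.ns D₂ k₂)
    (hF : Faithful e' CL.Std.A5.P.n (subW cs [[0], [2]])) :
    RelLe gs [[278], [280]] cs [[0], [2]] :=
  c.relLe (K := zK303) c' hF zl304 (fun (t : ℕ) (ht : t < 1) => match t, ht with
    | 0, _ => zl305
    | t + 1, h => absurd h (by omega))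

theorem iso1_e (c : Ctx P e gs ns D chk) :
    subW gs (app [[278], [280]] []) = (subW gs [[260], [262]]) :=
  le_antisymm (c.le_of_rels (ws := [[278], [280]]) (l := [[260], [262]]) (c.rels _ zr311) zm310) (c.le_of_rels (ws := [[260], [262]]) (l := [[278], [280]]) (c.rels _ zr308) zm307)

theorem iso1 (c : Ctx P e gs ns D chk) :
    Nonempty ((subW gs [[260], [262]]) ≃* (subW CL.Std.A5.gs1 [[0], [2]])) :=
  (RelLe.quo' (l := [[278], [280]]) (lQ := []) (iso1_r c CL.Std.A5.c1 ((faithful_eF _).mono le_top)) (by decide) (iso1_e c) (a := 1) (b := 60) (D1_ub c)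
    (LB.one _) (LB.of_card CL.Std.A5.card)).equiv_nil

theorem e1_1 (c : Ctx P e gs ns D chk) :
    wordG gs [286, 164] = wordG gs [164, 290, 286] :=
  c.eq zr312

theorem e0_1 (c : Ctx P e gs ns D chk) :
    wordG gs [290, 164] = wordG gs [164, 290] :=
  c.eq zr313

theorem e2_1 (c : Ctx P e gs ns D chk) :
    wordG gs [288, 290] = wordG gs [290, 264, 288] :=
  c.eq zr314

theorem e3_1 (c : Ctx P e gs ns D chk) :
    wordG gs [292, 292] = wordG gs [264] :=
  c.eq zr315

theorem e4_1 (c : Ctx P e gs ns D chk) :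
    wordG gs [294, 294] = wordG gs [264] :=
  c.eq zr316

theorem e5_1 (c : Ctx P e gs ns D chk) :
    wordG gs [292, 286] = wordG gs [286, 292] :=
  c.eq zr317

theorem e6_1 (c : Ctx P e gs ns D chk) :
    wordG gs [296, 288] = wordG gs [288, 286] :=
  c.eq zr318

theorem e8_1 (c : Ctx P e gs ns D chk) :
    wordG gs [294, 296] = wordG gs [296, 294] :=
  c.eq zr319

theorem e9_1 (c : Ctx P e gs ns D chk) :
    wordG gs [264, 264] = wordG gs [] :=
  c.eq zr320

theorem e7_1 (c : Ctx P e gs ns D chk) :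
    (wordG gs [264]) ≠ 1 :=
  c.ne_one zn321

theorem P1_c : P.chainB ns D P1_vs [[264], [298]] = true :=
  zc322

theorem P1_o : prodL P1_vs 1 = 4 := by decide +kernel

theorem P1_lb (c : Ctx P e gs ns D chk) :
    LB (subW gs [[264], [298]]) 4 :=
  c.lb P1_c P1_o

theorem P1_pr (c : Ctx P e gs ns D chk) :
    Rels gs (pcsR P1_ps []) :=
  (c.rels _ zr323)

theorem P1_pe (c : Ctx P e gs ns D chk) :
    Rels gs (defRels []) :=
  (Rels.nil _)

theorem P1_pb : bnd (pcsB D P1_ps []) (leB (app D []) [[264], [298]] (pcGens P1_ps [])) = true := zb324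

theorem P1_ub (c : Ctx P e gs ns D chk) :
    UB (subW gs [[264], [298]]) 4 :=
  c.pcs (UB.nil gs) (P1_pe c) (P1_pr c) P1_pb (by decide +kernel)

theorem P1_card (c : Ctx P e gs ns D chk) :
    Nat.card (subW gs [[264], [298]]) = 4 :=
  (P1_ub c).card_eq (P1_lb c)

theorem w1__le0 (c : Ctx P e gs ns D chk) :
    (subW gs [[264], [298]]) ≤ (subW gs [[260], [262]]) :=
  (c.le_of_rels (ws := [[264], [298]]) (l := [[260], [262]]) (c.rels _ zr330) zm329)

theorem w1_0 (c : Ctx P e gs ns D chk) :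
    Cov 2 (subW gs [[264], [298]]) (subW gs [[260], [262]]) gs w1_0_R (subW gs [[298]]) :=
  Cov.step' (q := 2) (g := [264]) c.defs (by norm_num) (Cov.init 2 (subW gs [[264], [298]]) (subW gs [[260], [262]]) gs)
    (pc_lvl' c.defs (P1_pr c) P1_pb (P1_lb c) 0 (by decide +kernel))
    (c.le_normalizer (cj := zcj331) (((P1_ub c).mono (c.le zm334)).1) (c.rels _ zr333) zm332) (w1__le0 c)
    (c.rels _ zr326) zb327 zq325

theorem w1_1 (c : Ctx P e gs ns D chk) :
    Cov 2 (subW gs [[264], [298]]) (subW gs [[260], [262]]) gs w1_1_R (subW gs []) :=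
  Cov.step' (q := 2) (g := [298]) c.defs (by norm_num) (w1_0 c)
    (pc_lvl' c.defs (P1_pr c) P1_pb (P1_lb c) 1 (by decide +kernel))
    (le_normalizer_nil gs _) (w1__le0 c)
    (c.rels _ zr336) zb337 zq335

theorem w1_2 (c : Ctx P e gs ns D chk) :
    Cov 2 (subW gs [[264], [298]]) (subW gs [[260], [262]]) gs w1_2_R (subW gs []) :=
  Cov.fuse c.defs (w1_1 c) (le_normalizer_nil gs _) (c.le zm340)
    (c.rels _ zr338) zb339

theorem w1__cls (c : Ctx P e gs ns D chk) :
    Cls 2 (subW gs [[264], [298]]) (subW gs [[260], [262]]) gs [[], [264]] :=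
  (w1_2 c).cls

theorem P1_le (c : Ctx P e gs ns D chk) :
    (subW gs [[264], [298]]) ≤ (subW gs [[260], [262]]) :=
  (c.le_of_rels (ws := [[264], [298]]) (l := [[260], [262]]) (c.rels _ zr343) zm342)

theorem row1 (c : Ctx P e gs ns D chk) :
    Row True (subW gs [[0], [2]]) (wordG gs [164]) :=
  have := (D1_ub c).1
  have := CL.Std.A5.simple
  row_cmp (dd (cC1 c) (cm1 c)) (iso1 c).some.isSimpleGroup
    (w_of (c.mem zm348) (c.mem zm347) (c.mem zm346) (c.mem zm345) (c.mem zm344)
      (e1_1 c) (e0_1 c) (e2_1 c) (e3_1 c) (e4_1 c) (e5_1 c) (e6_1 c) (e8_1 c) (e7_1 c) (st_one (e7_1 c) (e9_1 c) ((w1__cls c).up (by norm_num) (k := 2) (D1_card c) (by decide +kernel) (P1_card c) (P1_le c))))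

theorem cC2G_c : P.chainB ns D cC2G_vs [[0], [2]] = true :=
  zc351

theorem cC2G_o : prodL cC2G_vs 1 = 604800 := by decide +kernel

theorem cC2 (c : Ctx P e gs ns D chk) :
    (subW gs [[0], [2]]) ⊓ Subgroup.centralizer (subW gs [[166]] : Set G) = (subW gs [[300], [302]]) :=
  c.cent (lx := [[166]]) (Rels.nil _) (c.sOk (c.exact cC2G_c cC2G_o (GM_ub c)) zs352) (fun _ h => by cases h)
    (c.fixX zf350) (c.rels _ zr355) zm356 zs354

theorem D2_u4 (c : Ctx P e gs ns D chk) :
    UB (subW gs [[344]]) 2 :=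
  (c.pc_step (UB.nil gs) (Rels.nil _)
    (c.rels _ zr360) zb359).le (by decide)

theorem D2_u3 (c : Ctx P e gs ns D chk) :
    UB (subW gs [[340], [342]]) 4 :=
  (c.pc_step (D2_u4 c) (c.rels _ zr366)
    (c.rels _ zr365) zb364).le (by decide)

theorem D2_u2 (c : Ctx P e gs ns D chk) :
    UB (subW gs [[336], [338]]) 8 :=
  (c.pc_step (D2_u3 c) (c.rels _ zr372)
    (c.rels _ zr371) zb370).le (by decide)

theorem D2_u1 (c : Ctx P e gs ns D chk) :
    UB (subW gs [[332], [334]]) 24 :=
  (c.sch_step (D2_u2 c)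
    (c.rels _ zr376) zb375).le (by decide)

theorem D2_u0 (c : Ctx P e gs ns D chk) :
    UB (subW gs [[328], [330]]) 168 :=
  (c.sch_step (D2_u1 c)
    (c.rels _ zr380) zb379).le (by decide)

theorem D2_ub (c : Ctx P e gs ns D chk) :
    UB (subW gs [[328], [330]]) 168 :=
  (D2_u0 c)

theorem D2_c : P.chainB ns D D2_vs [[328], [330]] = true :=
  zc381

theorem D2_o : prodL D2_vs 1 = 168 := by decide +kernel

theorem D2_ex (c : Ctx P e gs ns D chk) :
    Exact e P.n P.N gs ns 1 D2_vs [[328], [330]] :=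
  c.exact D2_c D2_o (D2_ub c)

theorem D2_card (c : Ctx P e gs ns D chk) :
    Nat.card (subW gs [[328], [330]]) = 168 :=
  (D2_ex c).card.trans D2_o

theorem cm2_c_le (c : Ctx P e gs ns D chk) :
    (subW gs [[346], [348]]) ≤ ⁅(subW gs [[300], [302]]), (subW gs [[300], [302]])⁆ :=
  c.le_commutator (ps := zps382) (c.rels _ zr384) zm383

theorem cm2 (c : Ctx P e gs ns D chk) :
    ⁅(subW gs [[300], [302]]), (subW gs [[300], [302]])⁆ = (subW gs [[328], [330]]) :=
  have hfin : Finite (subW gs [[328], [330]]) := (D2_ub c).1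
  le_antisymm (commutator_subW_le (c.le_normalizer (cj := zcj394) hfin (c.rels _ zr396) zm395) (c.le_normalizer (cj := zcj391) hfin (c.rels _ zr393) zm392)
    (c.le_of_rels (ws := (comWs [[300], [302]] [[300], [302]])) (l := [[328], [330]]) (c.rels _ zr390) zm389)) ((c.le_of_rels (ws := [[328], [330]]) (l := [[346], [348]]) (c.rels _ zr387) zm386).trans (cm2_c_le c))

theorem iso2_r {Γ Y : Type*} [Group Γ] [MulAction Γ Y] {e' : ℕ → Y} {cs : List Γ} {D₁ D₂ : List (ℕ × List ℕ)}
    {k₁ k₂ : List (List ℕ × List ℕ) → Bool} (c : Ctx CL.Q49M.J2.P e gs CL.Q49M.J2.ns D₁ k₁) (c' : Ctx CL.Std.L32.P e' cs CL.Std.L32.ns D₂ k₂)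
    (hF : Faithful e' CL.Std.L32.P.n (subW cs [[0], [2]])) :
    RelLe gs [[364], [366]] cs [[0], [2]] :=
  c.relLe (K := zK398) c' hF zl399 (fun (t : ℕ) (ht : t < 1) => match t, ht with
    | 0, _ => zl400
    | t + 1, h => absurd h (by omega))

theorem iso2_e (c : Ctx P e gs ns D chk) :
    subW gs (app [[364], [366]] []) = (subW gs [[328], [330]]) :=
  le_antisymm (c.le_of_rels (ws := [[364], [366]]) (l := [[328], [330]]) (c.rels _ zr406) zm405) (c.le_of_rels (ws := [[328], [330]]) (l := [[364], [366]]) (c.rels _ zr403) zm402)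

theorem iso2 (c : Ctx P e gs ns D chk) :
    Nonempty ((subW gs [[328], [330]]) ≃* (subW CL.Std.L32.gs1 [[0], [2]])) :=
  (RelLe.quo' (l := [[364], [366]]) (lQ := []) (iso2_r c CL.Std.L32.c1 ((faithful_eF _).mono le_top)) (by decide) (iso2_e c) (a := 1) (b := 168) (D2_ub c)
    (LB.one _) (LB.of_card CL.Std.L32.card)).equiv_nil

theorem e1_2 (c : Ctx P e gs ns D chk) :
    wordG gs [378, 166] = wordG gs [166, 382, 378] :=
  c.eq zr407

theorem e0_2 (c : Ctx P e gs ns D chk) :
    wordG gs [382, 166] = wordG gs [166, 382] :=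
  c.eq zr408

theorem e2_2 (c : Ctx P e gs ns D chk) :
    wordG gs [380, 382] = wordG gs [382, 384, 380] :=
  c.eq zr409

theorem e3_2 (c : Ctx P e gs ns D chk) :
    wordG gs [386, 386] = wordG gs [384] :=
  c.eq zr410

theorem e4_2 (c : Ctx P e gs ns D chk) :
    wordG gs [388, 388] = wordG gs [384] :=
  c.eq zr411

theorem e5_2 (c : Ctx P e gs ns D chk) :
    wordG gs [386, 378] = wordG gs [378, 386] :=
  c.eq zr412

theorem e6_2 (c : Ctx P e gs ns D chk) :
    wordG gs [390, 380] = wordG gs [380, 378] :=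
  c.eq zr413

theorem e8_2 (c : Ctx P e gs ns D chk) :
    wordG gs [388, 390] = wordG gs [390, 388] :=
  c.eq zr414

theorem e9_2 (c : Ctx P e gs ns D chk) :
    wordG gs [384, 384] = wordG gs [] :=
  c.eq zr415

theorem e7_2 (c : Ctx P e gs ns D chk) :
    (wordG gs [384]) ≠ 1 :=
  c.ne_one zn416

theorem P2_c : P.chainB ns D P2_vs [[392], [394], [396]] = true :=
  zc417

theorem P2_o : prodL P2_vs 1 = 8 := by decide +kernel

theorem P2_lb (c : Ctx P e gs ns D chk) :
    LB (subW gs [[392], [394], [396]]) 8 :=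
  c.lb P2_c P2_o

theorem P2_pr (c : Ctx P e gs ns D chk) :
    Rels gs (pcsR P2_ps []) :=
  (c.rels _ zr418)

theorem P2_pe (c : Ctx P e gs ns D chk) :
    Rels gs (defRels []) :=
  (Rels.nil _)

theorem P2_pb : bnd (pcsB D P2_ps []) (leB (app D []) [[392], [394], [396]] (pcGens P2_ps [])) = true := zb419

theorem P2_ub (c : Ctx P e gs ns D chk) :
    UB (subW gs [[392], [394], [396]]) 8 :=
  c.pcs (UB.nil gs) (P2_pe c) (P2_pr c) P2_pb (by decide +kernel)

theorem P2_card (c : Ctx P e gs ns D chk) :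
    Nat.card (subW gs [[392], [394], [396]]) = 8 :=
  (P2_ub c).card_eq (P2_lb c)

theorem w2__le0 (c : Ctx P e gs ns D chk) :
    (subW gs [[392], [394], [396]]) ≤ (subW gs [[328], [330]]) :=
  (c.le_of_rels (ws := [[392], [394], [396]]) (l := [[328], [330]]) (c.rels _ zr425) zm424)

theorem w2_0 (c : Ctx P e gs ns D chk) :
    Cov 2 (subW gs [[392], [394], [396]]) (subW gs [[328], [330]]) gs w2_0_R (subW gs [[394], [396]]) :=
  Cov.step' (q := 2) (g := [392]) c.defs (by norm_num) (Cov.init 2 (subW gs [[392], [394], [396]]) (subW gs [[328], [330]]) gs)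
    (pc_lvl' c.defs (P2_pr c) P2_pb (P2_lb c) 0 (by decide +kernel))
    (c.le_normalizer (cj := zcj426) (((P2_ub c).mono (c.le zm429)).1) (c.rels _ zr428) zm427) (w2__le0 c)
    (c.rels _ zr421) zb422 zq420

theorem w2_1 (c : Ctx P e gs ns D chk) :
    Cov 2 (subW gs [[392], [394], [396]]) (subW gs [[328], [330]]) gs w2_1_R (subW gs [[396]]) :=
  Cov.step' (q := 2) (g := [394]) c.defs (by norm_num) (w2_0 c)
    (pc_lvl' c.defs (P2_pr c) P2_pb (P2_lb c) 1 (by decide +kernel))
    (c.le_normalizer (cj := zcj433) (((P2_ub c).mono (c.le zm436)).1) (c.rels _ zr435) zm434) (w2__le0 c)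
    (c.rels _ zr431) zb432 zq430

theorem w2_2 (c : Ctx P e gs ns D chk) :
    Cov 2 (subW gs [[392], [394], [396]]) (subW gs [[328], [330]]) gs w2_2_R (subW gs []) :=
  Cov.step' (q := 2) (g := [396]) c.defs (by norm_num) (w2_1 c)
    (pc_lvl' c.defs (P2_pr c) P2_pb (P2_lb c) 2 (by decide +kernel))
    (le_normalizer_nil gs _) (w2__le0 c)
    (c.rels _ zr438) zb439 zq437

theorem w2_3 (c : Ctx P e gs ns D chk) :
    Cov 2 (subW gs [[392], [394], [396]]) (subW gs [[328], [330]]) gs w2_3_R (subW gs []) :=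
  Cov.fuse c.defs (w2_2 c) (le_normalizer_nil gs _) (c.le zm442)
    (c.rels _ zr440) zb441

theorem w2__cls (c : Ctx P e gs ns D chk) :
    Cls 2 (subW gs [[392], [394], [396]]) (subW gs [[328], [330]]) gs [[], [384]] :=
  (w2_3 c).cls

theorem P2_le (c : Ctx P e gs ns D chk) :
    (subW gs [[392], [394], [396]]) ≤ (subW gs [[328], [330]]) :=
  (c.le_of_rels (ws := [[392], [394], [396]]) (l := [[328], [330]]) (c.rels _ zr445) zm444)

theorem row2 (c : Ctx P e gs ns D chk) :
    Row True (subW gs [[0], [2]]) (wordG gs [166]) :=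
  have := (D2_ub c).1
  have := CL.Std.L32.simple
  row_cmp (dd (cC2 c) (cm2 c)) (iso2 c).some.isSimpleGroup
    (w_of (c.mem zm450) (c.mem zm449) (c.mem zm448) (c.mem zm447) (c.mem zm446)
      (e1_2 c) (e0_2 c) (e2_2 c) (e3_2 c) (e4_2 c) (e5_2 c) (e6_2 c) (e8_2 c) (e7_2 c) (st_one (e7_2 c) (e9_2 c) ((w2__cls c).up (by norm_num) (k := 3) (D2_card c) (by decide +kernel) (P2_card c) (P2_le c))))

theorem tb (c : Ctx P e gs ns D chk) :
    Tb True (subW gs [[0], [2], [4]]) (subW gs [[0], [2]]) :=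
  have := (GA_ub c).1
  tb_of ((v_cls c).up (by norm_num) (k := 8) (GA_card c) (by decide +kernel) (T_card c) (T_le c))
    (List.forall_mem_cons.2 ⟨row0 c, (List.forall_mem_cons.2 ⟨row1 c, (List.forall_mem_cons.2 ⟨row2 c, fun _ h => by cases h⟩)⟩)⟩)

theorem md (c : Ctx P e gs ns D chk) :
    Md True (subW gs [[0], [2], [4]]) (subW gs [[0], [2]]) 604800 :=
  ⟨(c.le zm451), GM_card c, (GA_card c).trans (by norm_num), by norm_num, (cL c).trans (subW_nil _), tb c, gam c⟩

theorem isoM_r {Γ Y : Type*} [Group Γ] [MulAction Γ Y] {e' : ℕ → Y} {cs : List Γ} {D₁ D₂ : List (ℕ × List ℕ)}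
    {k₁ k₂ : List (List ℕ × List ℕ) → Bool} (c : Ctx CL.Q49M.J2.P e gs CL.Q49M.J2.ns D₁ k₁) (c' : Ctx CL.Std.J2.P e' cs CL.Std.J2.ns D₂ k₂)
    (hF : Faithful e' CL.Std.J2.P.n (subW cs [[0], [2], [4], [6]])) :
    RelLe gs [[398], [400], [402], [404]] cs [[0], [2], [4], [6]] :=
  c.relLe (K := zK453) c' hF zl454 (fun (t : ℕ) (ht : t < 1) => match t, ht with
    | 0, _ => zl455
    | t + 1, h => absurd h (by omega))

theorem isoM_e (c : Ctx P e gs ns D chk) :
    subW gs (app [[398], [400], [402], [404]] []) = (subW gs [[0], [2]]) :=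
  le_antisymm (c.le_of_rels (ws := [[398], [400], [402], [404]]) (l := [[0], [2]]) (c.rels _ zr461) zm460) (c.le_of_rels (ws := [[0], [2]]) (l := [[398], [400], [402], [404]]) (c.rels _ zr458) zm457)

theorem isoM (c : Ctx P e gs ns D chk) :
    Nonempty ((subW gs [[0], [2]]) ≃* (subW CL.Std.J2.gs1 [[0], [2], [4], [6]])) :=
  (RelLe.quo' (l := [[398], [400], [402], [404]]) (lQ := []) (isoM_r c CL.Std.J2.c1 ((faithful_eF _).mono le_top)) (by decide) (isoM_e c) (a := 1) (b := 604800) (GM_ub c)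
    (LB.one _) (LB.of_card CL.Std.J2.card)).equiv_nil


end CL.Q49M.J2
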