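/-
Auxiliary models.
Generated by tools/pg.
-/
import Cfsg.Agent.Spor.PGCtx
import Cfsg.Agent.Spor.PGSub
import Cfsg.Agent.Spor.StdSym

set_option autoImplicit false
set_option maxRecDepth 200000
set_option Elab.async false
set_option linter.unusedVariables false

namespace CL.Q49M.M12Aux1.T
open CL.PG

def P : Par := ⟨6, 6, 3, 2⟩
theorem hP : P.Ok := by decide
noncomputable def a0 : Net := (.cons 3 (nat_lit 0x1)
 (.cons 1 (nat_lit 0x10)
 (.cons 1 (nat_lit 0x1)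
 (.cons 3 (nat_lit 0x4)
 .nil))))
noncomputable def a1 : Net := (.cons 3 (nat_lit 0x1)
 (.cons 1 (nat_lit 0x1)
 (.cons 1 (nat_lit 0x2)
 (.cons 1 (nat_lit 0x9)
 (.cons 3 (nat_lit 0x4)
 .nil)))))
noncomputable def a2 : Net := (.cons 1 (nat_lit 0x2)
 (.cons 1 (nat_lit 0x8)
 .nil))
noncomputable def a3 : Net := (.cons 3 (nat_lit 0x4)
 (.cons 1 (nat_lit 0x8)
 (.cons 1 (nat_lit 0x12)
 (.cons 1 (nat_lit 0x8)
 (.cons 3 (nat_lit 0x2)
 .nil)))))
noncomputable def a4 : Net := (.cons 3 (nat_lit 0x2)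
 (.cons 1 (nat_lit 0x8)
 (.cons 1 (nat_lit 0x12)
 (.cons 1 (nat_lit 0x8)
 (.cons 3 (nat_lit 0x2)
 .nil)))))
noncomputable def ns0 : List Net := [a0, a1]
noncomputable def ws : List (List ℕ) :=
  [W (nat_lit 0x80300804),
  W (nat_lit 0xc0200c01),
  W (nat_lit 0x2006)]
noncomputable def ns : List Net := [a0, a1, a2, a3, a4]
noncomputable def D : List (ℕ × List ℕ) := app [] (mkDefs ws 2)
noncomputable def chk : List (List ℕ × List ℕ) → Bool := P.relsB ns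
noncomputable def G_v0 : Lev :=
  ⟨0, 6, sg (W (nat_lit 0x100c01)), [[4], [6]], 0, 2⟩
noncomputable def G_v1 : Lev :=
  ⟨1, 5, sg (W (nat_lit 0x1c0501c05)), [[8]], 2, 1⟩
noncomputable def G_v2 : Lev :=
  ⟨2, 2, sg [8], [], 3, 0⟩
noncomputable def G_vs3 : List Lev :=
  []
noncomputable def G_vs2 : List Lev :=
  G_v2 :: G_vs3
noncomputable def G_vs1 : List Lev :=
  G_v1 :: G_vs2
noncomputable def G_vs : List Lev :=
  G_v0 :: G_vs1

theorem zc0 : P.chainB ns D G_vs [[0], [2]] = true := by decide +kernel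
theorem zk1 : allL (keepB P.n P.N) ns0 = true := by decide +kernel
theorem ze2 : extB ns0 ns 2 ws [] = true := by decide +kernel
theorem zn3 : P.netsB ns (mkDefs ws 2) = true := by decide +kernel

section
variable {G X : Type*} [Group G] [MulAction G X] {e : ℕ → X} {gs : List G}

theorem keep0 : allL (keepB P.n P.N) ns0 = true := zk1

theorem len {k} (c : Ctx P e gs ns0 [] k) : gs.length = 2 := c.len ze2

theorem ctx0 {k} (c : Ctx P e gs ns0 [] k) : Ctx P e (ext gs ws) ns D chk0 :=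
  c.ext rfl ze2 zn3

theorem ctx {k} (c : Ctx P e gs ns0 [] k) {H : Subgroup G} (hF : Faithful e P.n H) (hH : ∀ g ∈ gs, g ∈ H) :
    Ctx P e (ext gs ws) ns D chk :=
  (ctx0 c).withB hF (mem_of_mem_ext hH _)

instance instNe : NeZero P.n := ⟨by decide⟩
noncomputable def gs0 : List (Equiv.Perm (Fin P.n)) := permsOf P.n P.N ns0
noncomputable def gs1 : List (Equiv.Perm (Fin P.n)) := ext gs0 ws
theorem c1 : Ctx P (eF P.n) gs1 ns D chk :=
  ctx (ctx_permsOf hP keep0) (faithful_eF _) fun _ _ => trivial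

theorem G_c : P.chainB ns D G_vs [[0], [2]] = true :=
  zc0

theorem G_o : prodL G_vs 1 = 60 := by decide +kernel

theorem G_lb (c : Ctx P e gs ns D chk) :
    LB (subW gs [[0], [2]]) 60 :=
  c.lb G_c G_o

end
end CL.Q49M.M12Aux1.T

namespace CL.Q49M.M12Aux1.S
open CL.PG

def P : Par := ⟨11, 12, 4, 2⟩
theorem hP : P.Ok := by decide
noncomputable def a0 : Net := (.cons 3 (nat_lit 0x1)
 (.cons 1 (nat_lit 0x40)
 (.cons 1 (nat_lit 0x90)
 (.cons 1 (nat_lit 0x1)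
 (.cons 3 (nat_lit 0x4)
 .nil)))))
noncomputable def a1 : Net := (.cons 3 (nat_lit 0x41)
 (.cons 1 (nat_lit 0x41)
 (.cons 1 (nat_lit 0x82)
 (.cons 1 (nat_lit 0x209)
 (.cons 3 (nat_lit 0x4)
 .nil)))))
noncomputable def a2 : Net := (.cons 3 (nat_lit 0x104)
 (.cons 1 (nat_lit 0x208)
 (.cons 1 (nat_lit 0x412)
 (.cons 1 (nat_lit 0x248)
 (.cons 3 (nat_lit 0x104)
 .nil)))))
noncomputable def a3 : Net := (.cons 3 (nat_lit 0x142)
 (.cons 1 (nat_lit 0x208)
 (.cons 1 (nat_lit 0x412)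
 (.cons 1 (nat_lit 0x48)
 (.cons 3 (nat_lit 0x104)
 .nil)))))
noncomputable def a4 : Net := (.cons 3 (nat_lit 0xc2)
 (.cons 1 (nat_lit 0x8)
 (.cons 1 (nat_lit 0x12)
 (.cons 1 (nat_lit 0x248)
 (.cons 3 (nat_lit 0x2)
 .nil)))))
noncomputable def ns0 : List Net := [a0, a1]
noncomputable def ws : List (List ℕ) :=
  [W (nat_lit 0x100100c01),
  W (nat_lit 0x100c02),
  W (nat_lit 0x1c0701408)]
noncomputable def ns : List Net := [a0, a1, a2, a3, a4]
noncomputable def D : List (ℕ × List ℕ) := app [] (mkDefs ws 2)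
noncomputable def chk : List (List ℕ × List ℕ) → Bool := P.relsB ns
noncomputable def zt0 : List ℕ :=
  []
noncomputable def zcj1 : List (List ℕ) :=
  []
noncomputable def zus4 : List (List ℕ) :=
  [[4],
  [6],
  [7],
  W (nat_lit 0x1408)]
noncomputable def zF5 : List (List (ℕ × List ℕ)) :=
  [[(1, []),
   (0, []),
   (4, []),
   (3, [8]),
   (2, [])],
  [(2, []),
   (3, [8]),
   (4, [8]),
   (0, []),
   (1, [])]]
noncomputable def zus8 : List (List ℕ) :=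
  [[0],
  [1],
  [2],
  [3],
  W (nat_lit 0x405)]
noncomputable def zF9 : List (List (ℕ × List ℕ)) :=
  [[(1, []),
   (2, []),
   (0, []),
   (4, W (nat_lit 0x2408)),
   (5, W (nat_lit 0x2405)),
   (3, W (nat_lit 0x1408))],
  [(3, []),
   (1, [6]),
   (4, W (nat_lit 0x2405)),
   (5, W (nat_lit 0x2408)),
   (0, []),
   (2, W (nat_lit 0x2407))]]
noncomputable def zE12 : Net :=
  .nil
noncomputable def zK13 : Lk :=
  ⟨zE12, 1, 2, 1⟩
noncomputable def zE16 : Net :=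
  (.cons 6 (nat_lit 0x3f)
 (.cons 3 (nat_lit 0x40)
 (.cons 1 (nat_lit 0x240)
 (.cons 1 (nat_lit 0x480)
 (.cons 6 (nat_lit 0x20)
 .nil)))))
noncomputable def zK17 : Lk :=
  ⟨zE16, 1, 2, 1⟩

theorem zb2 : bnd (pcB D [] 2 zt0 zcj1) (leB (app D []) [[8]] ([8] :: [])) = true := by decide +kernel
theorem zr3 : chk (pcR [] [8] 2 zt0 zcj1) = true := by decide +kernel
theorem zb6 : schB D [[4], [6]] [[8]] zus4 zF5 5 = true := by decide +kernel
theorem zr7 : chk (schR [[4], [6]] zus4 zF5) = true := by decide +kernel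
theorem zb10 : schB D [[0], [2]] [[4], [6]] zus8 zF9 6 = true := by decide +kernel
theorem zr11 : chk (schR [[0], [2]] zus8 zF9) = true := by decide +kernel
theorem zl14 : zK13.relB CL.Q49M.M12Aux1.S.P CL.Q49M.M12Aux1.T.P CL.Q49M.M12Aux1.S.ns [[0], [2]] [[0], [2]] = true := by decide +kernel
theorem zl15 : allL (zK13.pl CL.Q49M.M12Aux1.S.P CL.Q49M.M12Aux1.T.P CL.Q49M.M12Aux1.S.ns CL.Q49M.M12Aux1.T.ns 0) (zp [] [[0], [2]] [[0], [2]]) = true := by decide +kernel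
theorem zl18 : zK17.relB CL.Q49M.M12Aux1.S.P CL.Std.A5.P CL.Q49M.M12Aux1.S.ns [[0], [2]] [[0], [2]] = true := by decide +kernel
theorem zl19 : allL (zK17.pl CL.Q49M.M12Aux1.S.P CL.Std.A5.P CL.Q49M.M12Aux1.S.ns CL.Std.A5.ns 0) (zp [] [[0], [2]] [[0], [2]]) = true := by decide +kernel
theorem zk20 : allL (keepB P.n P.N) ns0 = true := by decide +kernel
theorem ze21 : extB ns0 ns 2 ws [] = true := by decide +kernel
theorem zn22 : P.netsB ns (mkDefs ws 2) = true := by decide +kernel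

section
variable {G X : Type*} [Group G] [MulAction G X] {e : ℕ → X} {gs : List G}

theorem keep0 : allL (keepB P.n P.N) ns0 = true := zk20

theorem len {k} (c : Ctx P e gs ns0 [] k) : gs.length = 2 := c.len ze21

theorem ctx0 {k} (c : Ctx P e gs ns0 [] k) : Ctx P e (ext gs ws) ns D chk0 :=
  c.ext rfl ze21 zn22

theorem ctx {k} (c : Ctx P e gs ns0 [] k) {H : Subgroup G} (hF : Faithful e P.n H) (hH : ∀ g ∈ gs, g ∈ H) :
    Ctx P e (ext gs ws) ns D chk :=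
  (ctx0 c).withB hF (mem_of_mem_ext hH _)

instance instNe : NeZero P.n := ⟨by decide⟩
noncomputable def gs0 : List (Equiv.Perm (Fin P.n)) := permsOf P.n P.N ns0
noncomputable def gs1 : List (Equiv.Perm (Fin P.n)) := ext gs0 ws
theorem c1 : Ctx P (eF P.n) gs1 ns D chk :=
  ctx (ctx_permsOf hP keep0) (faithful_eF _) fun _ _ => trivial

theorem G_u2 (c : Ctx P e gs ns D chk) :
    UB (subW gs [[8]]) 2 :=
  (c.pc_step (UB.nil gs) (Rels.nil _)
    (c.rels _ zr3) zb2).le (by decide)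

theorem G_u1 (c : Ctx P e gs ns D chk) :
    UB (subW gs [[4], [6]]) 10 :=
  (c.sch_step (G_u2 c)
    (c.rels _ zr7) zb6).le (by decide)

theorem G_u0 (c : Ctx P e gs ns D chk) :
    UB (subW gs [[0], [2]]) 60 :=
  (c.sch_step (G_u1 c)
    (c.rels _ zr11) zb10).le (by decide)

theorem G_ub (c : Ctx P e gs ns D chk) :
    UB (subW gs [[0], [2]]) 60 :=
  (G_u0 c)

theorem toT {Γ Y : Type*} [Group Γ] [MulAction Γ Y] {e' : ℕ → Y} {cs : List Γ} {D₁ D₂ : List (ℕ × List ℕ)}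
    {k₁ k₂ : List (List ℕ × List ℕ) → Bool} (c : Ctx CL.Q49M.M12Aux1.S.P e gs CL.Q49M.M12Aux1.S.ns D₁ k₁) (c' : Ctx CL.Q49M.M12Aux1.T.P e' cs CL.Q49M.M12Aux1.T.ns D₂ k₂)
    (hF : Faithful e' CL.Q49M.M12Aux1.T.P.n (subW cs [[0], [2]])) :
    RelLe gs [[0], [2]] cs [[0], [2]] :=
  c.relLe (K := zK13) c' hF zl14 (fun (t : ℕ) (ht : t < 1) => match t, ht with
    | 0, _ => zl15
    | t + 1, h => absurd h (by omega))

theorem toB {Γ Y : Type*} [Group Γ] [MulAction Γ Y] {e' : ℕ → Y} {cs : List Γ} {D₁ D₂ : List (ℕ × List ℕ)}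
    {k₁ k₂ : List (List ℕ × List ℕ) → Bool} (c : Ctx CL.Q49M.M12Aux1.S.P e gs CL.Q49M.M12Aux1.S.ns D₁ k₁) (c' : Ctx CL.Std.A5.P e' cs CL.Std.A5.ns D₂ k₂)
    (hF : Faithful e' CL.Std.A5.P.n (subW cs [[0], [2]])) :
    RelLe gs [[0], [2]] cs [[0], [2]] :=
  c.relLe (K := zK17) c' hF zl18 (fun (t : ℕ) (ht : t < 1) => match t, ht with
    | 0, _ => zl19
    | t + 1, h => absurd h (by omega))

theorem rel {Γ Y : Type*} [Group Γ] [MulAction Γ Y] {e' : ℕ → Y} {cs : List Γ} {D₂ : List (ℕ × List ℕ)}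
    {k₂ : List (List ℕ × List ℕ) → Bool} (c' : Ctx CL.Std.A5.P e' cs CL.Std.A5.ns D₂ k₂) (hF : Faithful e' CL.Std.A5.P.n (subW cs [[0], [2]])) :
    RelLe CL.Q49M.M12Aux1.T.gs1 [[0], [2]] cs [[0], [2]] :=
  ((toT c1 CL.Q49M.M12Aux1.T.c1 ((faithful_eF _).mono le_top)).symm_of_card (G_ub c1) (CL.Q49M.M12Aux1.T.G_lb CL.Q49M.M12Aux1.T.c1)).trans (toB c1 c' hF)

end
end CL.Q49M.M12Aux1.S

namespace CL.Q49M.M12Aux2.T
open CL.PG

def P : Par := ⟨6, 6, 3, 2⟩
theorem hP : P.Ok := by decide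
noncomputable def a0 : Net := (.cons 3 (nat_lit 0x1)
 (.cons 1 (nat_lit 0x10)
 (.cons 1 (nat_lit 0x1)
 (.cons 3 (nat_lit 0x4)
 .nil))))
noncomputable def a1 : Net := (.cons 3 (nat_lit 0x1)
 (.cons 1 (nat_lit 0x1)
 (.cons 1 (nat_lit 0x2)
 (.cons 1 (nat_lit 0x9)
 (.cons 3 (nat_lit 0x2)
 .nil)))))
noncomputable def a2 : Net := (.cons 1 (nat_lit 0x2)
 (.cons 1 (nat_lit 0x8)
 .nil))
noncomputable def a3 : Net := (.cons 3 (nat_lit 0x4)
 (.cons 1 (nat_lit 0x8)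
 (.cons 1 (nat_lit 0x12)
 (.cons 1 (nat_lit 0x8)
 (.cons 3 (nat_lit 0x2)
 .nil)))))
noncomputable def a4 : Net := (.cons 3 (nat_lit 0x2)
 (.cons 1 (nat_lit 0x8)
 (.cons 1 (nat_lit 0x12)
 (.cons 1 (nat_lit 0x8)
 (.cons 3 (nat_lit 0x2)
 .nil)))))
noncomputable def ns0 : List Net := [a0, a1]
noncomputable def ws : List (List ℕ) :=
  [W (nat_lit 0x8030040300404),
  W (nat_lit 0x403),
  W (nat_lit 0x2006)]
noncomputable def ns : List Net := [a0, a1, a2, a3, a4]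
noncomputable def D : List (ℕ × List ℕ) := app [] (mkDefs ws 2)
noncomputable def chk : List (List ℕ × List ℕ) → Bool := P.relsB ns
noncomputable def G_v0 : Lev :=
  ⟨0, 6, sg (W (nat_lit 0x40100c01)), [[4], [6]], 0, 2⟩
noncomputable def G_v1 : Lev :=
  ⟨1, 5, sg (W (nat_lit 0x1c0501c05)), [[8]], 2, 1⟩
noncomputable def G_v2 : Lev :=
  ⟨2, 2, sg [8], [], 3, 0⟩
noncomputable def G_vs3 : List Lev :=
  []
noncomputable def G_vs2 : List Lev :=
  G_v2 :: G_vs3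
noncomputable def G_vs1 : List Lev :=
  G_v1 :: G_vs2
noncomputable def G_vs : List Lev :=
  G_v0 :: G_vs1

theorem zc0 : P.chainB ns D G_vs [[0], [2]] = true := by decide +kernel
theorem zk1 : allL (keepB P.n P.N) ns0 = true := by decide +kernel
theorem ze2 : extB ns0 ns 2 ws [] = true := by decide +kernel
theorem zn3 : P.netsB ns (mkDefs ws 2) = true := by decide +kernel

section
variable {G X : Type*} [Group G] [MulAction G X] {e : ℕ → X} {gs : List G}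

theorem keep0 : allL (keepB P.n P.N) ns0 = true := zk1

theorem len {k} (c : Ctx P e gs ns0 [] k) : gs.length = 2 := c.len ze2

theorem ctx0 {k} (c : Ctx P e gs ns0 [] k) : Ctx P e (ext gs ws) ns D chk0 :=
  c.ext rfl ze2 zn3

theorem ctx {k} (c : Ctx P e gs ns0 [] k) {H : Subgroup G} (hF : Faithful e P.n H) (hH : ∀ g ∈ gs, g ∈ H) :
    Ctx P e (ext gs ws) ns D chk :=
  (ctx0 c).withB hF (mem_of_mem_ext hH _)

instance instNe : NeZero P.n := ⟨by decide⟩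
noncomputable def gs0 : List (Equiv.Perm (Fin P.n)) := permsOf P.n P.N ns0
noncomputable def gs1 : List (Equiv.Perm (Fin P.n)) := ext gs0 ws
theorem c1 : Ctx P (eF P.n) gs1 ns D chk :=
  ctx (ctx_permsOf hP keep0) (faithful_eF _) fun _ _ => trivial

theorem G_c : P.chainB ns D G_vs [[0], [2]] = true :=
  zc0

theorem G_o : prodL G_vs 1 = 60 := by decide +kernel

theorem G_lb (c : Ctx P e gs ns D chk) :
    LB (subW gs [[0], [2]]) 60 :=
  c.lb G_c G_o

end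
end CL.Q49M.M12Aux2.T

namespace CL.Q49M.M12Aux2.S
open CL.PG

def P : Par := ⟨11, 12, 4, 2⟩
theorem hP : P.Ok := by decide
noncomputable def a0 : Net := (.cons 3 (nat_lit 0x1)
 (.cons 1 (nat_lit 0x40)
 (.cons 1 (nat_lit 0x90)
 (.cons 1 (nat_lit 0x1)
 (.cons 3 (nat_lit 0x4)
 .nil)))))
noncomputable def a1 : Net := (.cons 3 (nat_lit 0x41)
 (.cons 1 (nat_lit 0x41)
 (.cons 1 (nat_lit 0x82)
 (.cons 1 (nat_lit 0x209)
 (.cons 3 (nat_lit 0x2)
 .nil)))))
noncomputable def a2 : Net := (.cons 3 (nat_lit 0x84)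
 (.cons 1 (nat_lit 0x48)
 (.cons 1 (nat_lit 0x92)
 (.cons 1 (nat_lit 0x48)
 (.cons 3 (nat_lit 0x4)
 .nil)))))
noncomputable def a3 : Net := (.cons 3 (nat_lit 0x140)
 (.cons 1 (nat_lit 0x402)
 (.cons 1 (nat_lit 0x208)
 (.cons 3 (nat_lit 0x186)
 .nil))))
noncomputable def a4 : Net := (.cons 3 (nat_lit 0x182)
 (.cons 1 (nat_lit 0x208)
 (.cons 1 (nat_lit 0x412)
 (.cons 1 (nat_lit 0x248)
 (.cons 3 (nat_lit 0x182)
 .nil)))))
noncomputable def ns0 : List Net := [a0, a1]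
noncomputable def ws : List (List ℕ) :=
  [W (nat_lit 0xc0101001),
  W (nat_lit 0x100201002),
  W (nat_lit 0x50200802008)]
noncomputable def ns : List Net := [a0, a1, a2, a3, a4]
noncomputable def D : List (ℕ × List ℕ) := app [] (mkDefs ws 2)
noncomputable def chk : List (List ℕ × List ℕ) → Bool := P.relsB ns
noncomputable def zt0 : List ℕ :=
  []
noncomputable def zcj1 : List (List ℕ) :=
  []
noncomputable def zus4 : List (List ℕ) :=
  [[4],
  [6],
  W (nat_lit 0x1408),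
  W (nat_lit 0x1c07)]
noncomputable def zF5 : List (List (ℕ × List ℕ)) :=
  [[(1, []),
   (0, []),
   (3, []),
   (2, []),
   (4, [8])],
  [(2, []),
   (0, [8]),
   (4, []),
   (1, []),
   (3, [8])]]
noncomputable def zus8 : List (List ℕ) :=
  [[0],
  [1],
  [2],
  W (nat_lit 0x404),
  W (nat_lit 0x405)]
noncomputable def zF9 : List (List (ℕ × List ℕ)) :=
  [[(1, []),
   (2, []),
   (0, []),
   (4, [6]),
   (5, W (nat_lit 0x901408)),
   (3, [6])],
  [(3, []),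
   (0, W (nat_lit 0x1c07)),
   (4, [8]),
   (2, W (nat_lit 0x901c07)),
   (1, []),
   (5, W (nat_lit 0x2405))]]
noncomputable def zE12 : Net :=
  .nil
noncomputable def zK13 : Lk :=
  ⟨zE12, 1, 2, 1⟩
noncomputable def zE16 : Net :=
  (.cons 6 (nat_lit 0x3f)
 (.cons 3 (nat_lit 0x40)
 (.cons 1 (nat_lit 0x240)
 (.cons 1 (nat_lit 0x480)
 (.cons 6 (nat_lit 0x20)
 .nil)))))
noncomputable def zK17 : Lk :=
  ⟨zE16, 1, 2, 1⟩

theorem zb2 : bnd (pcB D [] 2 zt0 zcj1) (leB (app D []) [[8]] ([8] :: [])) = true := by decide +kernel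
theorem zr3 : chk (pcR [] [8] 2 zt0 zcj1) = true := by decide +kernel
theorem zb6 : schB D [[4], [6]] [[8]] zus4 zF5 5 = true := by decide +kernel
theorem zr7 : chk (schR [[4], [6]] zus4 zF5) = true := by decide +kernel
theorem zb10 : schB D [[0], [2]] [[4], [6]] zus8 zF9 6 = true := by decide +kernel
theorem zr11 : chk (schR [[0], [2]] zus8 zF9) = true := by decide +kernel
theorem zl14 : zK13.relB CL.Q49M.M12Aux2.S.P CL.Q49M.M12Aux2.T.P CL.Q49M.M12Aux2.S.ns [[0], [2]] [[0], [2]] = true := by decide +kernel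
theorem zl15 : allL (zK13.pl CL.Q49M.M12Aux2.S.P CL.Q49M.M12Aux2.T.P CL.Q49M.M12Aux2.S.ns CL.Q49M.M12Aux2.T.ns 0) (zp [] [[0], [2]] [[0], [2]]) = true := by decide +kernel
theorem zl18 : zK17.relB CL.Q49M.M12Aux2.S.P CL.Std.A5.P CL.Q49M.M12Aux2.S.ns [[0], [2]] [[0], [2]] = true := by decide +kernel
theorem zl19 : allL (zK17.pl CL.Q49M.M12Aux2.S.P CL.Std.A5.P CL.Q49M.M12Aux2.S.ns CL.Std.A5.ns 0) (zp [] [[0], [2]] [[0], [2]]) = true := by decide +kernel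
theorem zk20 : allL (keepB P.n P.N) ns0 = true := by decide +kernel
theorem ze21 : extB ns0 ns 2 ws [] = true := by decide +kernel
theorem zn22 : P.netsB ns (mkDefs ws 2) = true := by decide +kernel

section
variable {G X : Type*} [Group G] [MulAction G X] {e : ℕ → X} {gs : List G}

theorem keep0 : allL (keepB P.n P.N) ns0 = true := zk20

theorem len {k} (c : Ctx P e gs ns0 [] k) : gs.length = 2 := c.len ze21

theorem ctx0 {k} (c : Ctx P e gs ns0 [] k) : Ctx P e (ext gs ws) ns D chk0 :=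
  c.ext rfl ze21 zn22

theorem ctx {k} (c : Ctx P e gs ns0 [] k) {H : Subgroup G} (hF : Faithful e P.n H) (hH : ∀ g ∈ gs, g ∈ H) :
    Ctx P e (ext gs ws) ns D chk :=
  (ctx0 c).withB hF (mem_of_mem_ext hH _)

instance instNe : NeZero P.n := ⟨by decide⟩
noncomputable def gs0 : List (Equiv.Perm (Fin P.n)) := permsOf P.n P.N ns0
noncomputable def gs1 : List (Equiv.Perm (Fin P.n)) := ext gs0 ws
theorem c1 : Ctx P (eF P.n) gs1 ns D chk :=
  ctx (ctx_permsOf hP keep0) (faithful_eF _) fun _ _ => trivial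

theorem G_u2 (c : Ctx P e gs ns D chk) :
    UB (subW gs [[8]]) 2 :=
  (c.pc_step (UB.nil gs) (Rels.nil _)
    (c.rels _ zr3) zb2).le (by decide)

theorem G_u1 (c : Ctx P e gs ns D chk) :
    UB (subW gs [[4], [6]]) 10 :=
  (c.sch_step (G_u2 c)
    (c.rels _ zr7) zb6).le (by decide)

theorem G_u0 (c : Ctx P e gs ns D chk) :
    UB (subW gs [[0], [2]]) 60 :=
  (c.sch_step (G_u1 c)
    (c.rels _ zr11) zb10).le (by decide)

theorem G_ub (c : Ctx P e gs ns D chk) :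
    UB (subW gs [[0], [2]]) 60 :=
  (G_u0 c)

theorem toT {Γ Y : Type*} [Group Γ] [MulAction Γ Y] {e' : ℕ → Y} {cs : List Γ} {D₁ D₂ : List (ℕ × List ℕ)}
    {k₁ k₂ : List (List ℕ × List ℕ) → Bool} (c : Ctx CL.Q49M.M12Aux2.S.P e gs CL.Q49M.M12Aux2.S.ns D₁ k₁) (c' : Ctx CL.Q49M.M12Aux2.T.P e' cs CL.Q49M.M12Aux2.T.ns D₂ k₂)
    (hF : Faithful e' CL.Q49M.M12Aux2.T.P.n (subW cs [[0], [2]])) :
    RelLe gs [[0], [2]] cs [[0], [2]] :=
  c.relLe (K := zK13) c' hF zl14 (fun (t : ℕ) (ht : t < 1) => match t, ht with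
    | 0, _ => zl15
    | t + 1, h => absurd h (by omega))

theorem toB {Γ Y : Type*} [Group Γ] [MulAction Γ Y] {e' : ℕ → Y} {cs : List Γ} {D₁ D₂ : List (ℕ × List ℕ)}
    {k₁ k₂ : List (List ℕ × List ℕ) → Bool} (c : Ctx CL.Q49M.M12Aux2.S.P e gs CL.Q49M.M12Aux2.S.ns D₁ k₁) (c' : Ctx CL.Std.A5.P e' cs CL.Std.A5.ns D₂ k₂)
    (hF : Faithful e' CL.Std.A5.P.n (subW cs [[0], [2]])) :
    RelLe gs [[0], [2]] cs [[0], [2]] :=
  c.relLe (K := zK17) c' hF zl18 (fun (t : ℕ) (ht : t < 1) => match t, ht with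
    | 0, _ => zl19
    | t + 1, h => absurd h (by omega))

theorem rel {Γ Y : Type*} [Group Γ] [MulAction Γ Y] {e' : ℕ → Y} {cs : List Γ} {D₂ : List (ℕ × List ℕ)}
    {k₂ : List (List ℕ × List ℕ) → Bool} (c' : Ctx CL.Std.A5.P e' cs CL.Std.A5.ns D₂ k₂) (hF : Faithful e' CL.Std.A5.P.n (subW cs [[0], [2]])) :
    RelLe CL.Q49M.M12Aux2.T.gs1 [[0], [2]] cs [[0], [2]] :=
  ((toT c1 CL.Q49M.M12Aux2.T.c1 ((faithful_eF _).mono le_top)).symm_of_card (G_ub c1) (CL.Q49M.M12Aux2.T.G_lb CL.Q49M.M12Aux2.T.c1)).trans (toB c1 c' hF)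

end
end CL.Q49M.M12Aux2.S

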