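/-
Involutions of Aut(M12) and their centralisers.
Generated by tools/pg.
-/
import Cfsg.Agent.Q49.TbA
import Cfsg.Agent.Spor.StdSym
import Cfsg.Agent.Spor.StdCore
import Cfsg.Agent.Fus.SimpleM24Base
import Cfsg.Agent.Q49.MM12A
import Cfsg.Agent.Spor.PGCtx

set_option autoImplicit false
set_option maxRecDepth 200000
set_option Elab.async false
set_option linter.unusedVariables false

namespace CL.Q49M.M12
open CL.PG

def P : Par := ⟨24, 24, 5, 3⟩
theorem hP : P.Ok := by decide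
noncomputable def a0 : Net := (.cons 12 (nat_lit 0x82c)
 (.cons 6 (nat_lit 0x2900c)
 (.cons 3 (nat_lit 0x141182)
 (.cons 1 (nat_lit 0x1000)
 (.cons 1 (nat_lit 0x92402)
 (.cons 1 (nat_lit 0x8008)
 (.cons 3 (nat_lit 0x4000)
 (.cons 6 (nat_lit 0x4)
 (.cons 12 (nat_lit 0x2b4)
 .nil)))))))))
noncomputable def a1 : Net := (.cons 12 (nat_lit 0x7d3)
 (.cons 6 (nat_lit 0x36022)
 (.cons 3 (nat_lit 0x82001)
 (.cons 1 (nat_lit 0x48000)
 (.cons 1 (nat_lit 0x92082)
 (.cons 1 (nat_lit 0x209)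
 (.cons 3 (nat_lit 0x4)
 (.cons 6 (nat_lit 0x14020)
 (.cons 12 (nat_lit 0x604)
 .nil)))))))))
noncomputable def a2 : Net := (.cons 12 (nat_lit 0x60b)
 (.cons 6 (nat_lit 0x19022)
 (.cons 3 (nat_lit 0x106100)
 (.cons 1 (nat_lit 0x201041)
 (.cons 1 (nat_lit 0x482092)
 (.cons 1 (nat_lit 0x49248)
 (.cons 3 (nat_lit 0x4184)
 (.cons 6 (nat_lit 0x1c006)
 (.cons 12 (nat_lit 0x9f4)
 .nil)))))))))
noncomputable def a3 : Net := (.cons 12 (nat_lit 0xc6)
 (.cons 6 (nat_lit 0x1d024)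
 (.cons 3 (nat_lit 0x44146)
 (.cons 1 (nat_lit 0x200008)
 (.cons 1 (nat_lit 0x490490)
 (.cons 1 (nat_lit 0x241008)
 (.cons 3 (nat_lit 0x104004)
 (.cons 6 (nat_lit 0x1c00c)
 (.cons 12 (nat_lit 0xcb4)
 .nil)))))))))
noncomputable def a4 : Net := (.cons 12 (nat_lit 0xc2e)
 (.cons 6 (nat_lit 0x102e)
 (.cons 3 (nat_lit 0x84046)
 (.cons 1 (nat_lit 0x8200)
 (.cons 1 (nat_lit 0x490410)
 (.cons 1 (nat_lit 0x200240)
 (.cons 3 (nat_lit 0x84180)
 (.cons 6 (nat_lit 0xc004)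
 (.cons 12 (nat_lit 0xb82)
 .nil)))))))))
noncomputable def a5 : Net := (.cons 12 (nat_lit 0x960)
 (.cons 6 (nat_lit 0x803e)
 (.cons 3 (nat_lit 0x46086)
 (.cons 1 (nat_lit 0x8008)
 (.cons 1 (nat_lit 0x90092)
 (.cons 1 (nat_lit 0x49048)
 (.cons 3 (nat_lit 0x84)
 (.cons 6 (nat_lit 0x403a)
 (.cons 12 (nat_lit 0xa20)
 .nil)))))))))
noncomputable def a6 : Net := (.cons 12 (nat_lit 0xc0c)
 (.cons 6 (nat_lit 0x13034)
 (.cons 3 (nat_lit 0x107184)
 (.cons 1 (nat_lit 0x40008)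
 (.cons 1 (nat_lit 0x82410)
 (.cons 1 (nat_lit 0x8048)
 (.cons 3 (nat_lit 0x6084)
 (.cons 6 (nat_lit 0x38018)
 (.cons 12 (nat_lit 0x1e4)
 .nil)))))))))
noncomputable def a7 : Net := (.cons 12 (nat_lit 0x93c)
 (.cons 6 (nat_lit 0x27010)
 (.cons 3 (nat_lit 0x801c2)
 (.cons 1 (nat_lit 0x208008)
 (.cons 1 (nat_lit 0x412412)
 (.cons 1 (nat_lit 0x9048)
 (.cons 3 (nat_lit 0x4182)
 (.cons 6 (nat_lit 0x2403c)
 (.cons 12 (nat_lit 0x354)
 .nil)))))))))
noncomputable def a8 : Net := (.cons 12 (nat_lit 0xb50)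
 (.cons 6 (nat_lit 0x3903e)
 (.cons 3 (nat_lit 0x184082)
 (.cons 1 (nat_lit 0x201000)
 (.cons 1 (nat_lit 0x402002)
 (.cons 1 (nat_lit 0x208048)
 (.cons 3 (nat_lit 0x80)
 (.cons 6 (nat_lit 0x601e)
 (.cons 12 (nat_lit 0xb00)
 .nil)))))))))
noncomputable def a9 : Net := (.cons 12 (nat_lit 0x14c)
 (.cons 6 (nat_lit 0x3701c)
 (.cons 3 (nat_lit 0xc0184)
 (.cons 1 (nat_lit 0x40)
 (.cons 1 (nat_lit 0x2090)
 (.cons 1 (nat_lit 0x40008)
 (.cons 6 (nat_lit 0x14020)
 (.cons 12 (nat_lit 0x60c)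
 .nil))))))))
noncomputable def a10 : Net := (.cons 12 (nat_lit 0x810)
 (.cons 6 (nat_lit 0x2004)
 (.cons 3 (nat_lit 0x1430c4)
 (.cons 1 (nat_lit 0x40000)
 (.cons 1 (nat_lit 0x480010)
 (.cons 1 (nat_lit 0x209000)
 (.cons 3 (nat_lit 0x80004)
 (.cons 6 (nat_lit 0x2004)
 (.cons 12 (nat_lit 0x810)
 .nil)))))))))
noncomputable def a11 : Net := (.cons 12 (nat_lit 0xd36)
 (.cons 6 (nat_lit 0x28018)
 (.cons 3 (nat_lit 0x82044)
 (.cons 1 (nat_lit 0x49000)
 (.cons 1 (nat_lit 0x92010)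
 (.cons 1 (nat_lit 0x248200)
 (.cons 3 (nat_lit 0x2000)
 (.cons 6 (nat_lit 0x801c)
 (.cons 12 (nat_lit 0x1e4)
 .nil)))))))))
noncomputable def a12 : Net := (.cons 12 (nat_lit 0x8e8)
 (.cons 6 (nat_lit 0x3e)
 (.cons 3 (nat_lit 0x1070c0)
 (.cons 1 (nat_lit 0x208040)
 (.cons 1 (nat_lit 0x410090)
 (.cons 1 (nat_lit 0x209240)
 (.cons 3 (nat_lit 0x6000)
 (.cons 6 (nat_lit 0x20016)
 (.cons 12 (nat_lit 0x454)
 .nil)))))))))
noncomputable def a13 : Net := (.cons 12 (nat_lit 0x6a6)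
 (.cons 6 (nat_lit 0x1102c)
 (.cons 3 (nat_lit 0x146142)
 (.cons 1 (nat_lit 0x8208)
 (.cons 1 (nat_lit 0x12410)
 (.cons 1 (nat_lit 0x208008)
 (.cons 3 (nat_lit 0x2180)
 (.cons 6 (nat_lit 0x3c028)
 (.cons 12 (nat_lit 0xe0a)
 .nil)))))))))
noncomputable def a14 : Net := (.cons 12 (nat_lit 0xc62)
 (.cons 6 (nat_lit 0x1d026)
 (.cons 3 (nat_lit 0x180106)
 (.cons 1 (nat_lit 0x208040)
 (.cons 1 (nat_lit 0x410492)
 (.cons 1 (nat_lit 0x248008)
 (.cons 3 (nat_lit 0x180002)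
 (.cons 6 (nat_lit 0x10038)
 (.cons 12 (nat_lit 0x872)
 .nil)))))))))
noncomputable def a15 : Net := (.cons 12 (nat_lit 0x85c)
 (.cons 6 (nat_lit 0x36006)
 (.cons 3 (nat_lit 0x1c2146)
 (.cons 1 (nat_lit 0x40000)
 (.cons 1 (nat_lit 0x92012)
 (.cons 1 (nat_lit 0x8208)
 (.cons 3 (nat_lit 0x102002)
 (.cons 6 (nat_lit 0x1c01e)
 (.cons 12 (nat_lit 0x5c)
 .nil)))))))))
noncomputable def a16 : Net := (.cons 12 (nat_lit 0x14c)
 (.cons 6 (nat_lit 0x3701c)
 (.cons 3 (nat_lit 0xc0184)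
 (.cons 1 (nat_lit 0x40)
 (.cons 1 (nat_lit 0x2090)
 (.cons 1 (nat_lit 0x40008)
 (.cons 6 (nat_lit 0x14020)
 (.cons 12 (nat_lit 0x60c)
 .nil))))))))
noncomputable def a17 : Net := (.cons 12 (nat_lit 0xb00)
 (.cons 6 (nat_lit 0x3903e)
 (.cons 3 (nat_lit 0x2080)
 (.cons 1 (nat_lit 0x8000)
 (.cons 1 (nat_lit 0x90002)
 (.cons 1 (nat_lit 0x248048)
 (.cons 3 (nat_lit 0x104082)
 (.cons 6 (nat_lit 0x601e)
 (.cons 12 (nat_lit 0xb50)
 .nil)))))))))
noncomputable def a18 : Net := (.cons 12 (nat_lit 0x60c)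
 (.cons 6 (nat_lit 0x2b020)
 (.cons 3 (nat_lit 0x3000)
 (.cons 1 (nat_lit 0x8)
 (.cons 1 (nat_lit 0x80090)
 (.cons 1 (nat_lit 0x8040)
 (.cons 3 (nat_lit 0x184)
 (.cons 6 (nat_lit 0x801c)
 (.cons 12 (nat_lit 0x14c)
 .nil)))))))))
noncomputable def a19 : Net := (.cons 12 (nat_lit 0x810)
 (.cons 6 (nat_lit 0x2004)
 (.cons 3 (nat_lit 0x1430c4)
 (.cons 1 (nat_lit 0x40000)
 (.cons 1 (nat_lit 0x480010)
 (.cons 1 (nat_lit 0x209000)
 (.cons 3 (nat_lit 0x80004)
 (.cons 6 (nat_lit 0x2004)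
 (.cons 12 (nat_lit 0x810)
 .nil)))))))))
noncomputable def a20 : Net := (.cons 12 (nat_lit 0x510)
 (.cons 6 (nat_lit 0x13012)
 (.cons 3 (nat_lit 0x4044)
 (.cons 1 (nat_lit 0x248200)
 (.cons 1 (nat_lit 0x490410)
 (.cons 1 (nat_lit 0x240040)
 (.cons 3 (nat_lit 0x6100)
 (.cons 6 (nat_lit 0x3600a)
 (.cons 12 (nat_lit 0xc06)
 .nil)))))))))
noncomputable def a21 : Net := (.cons 12 (nat_lit 0x2cc)
 (.cons 6 (nat_lit 0x3026)
 (.cons 3 (nat_lit 0x1180)
 (.cons 1 (nat_lit 0x8)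
 (.cons 1 (nat_lit 0x480092)
 (.cons 1 (nat_lit 0x208208)
 (.cons 3 (nat_lit 0x80084)
 (.cons 6 (nat_lit 0x6004)
 (.cons 12 (nat_lit 0x58c)
 .nil)))))))))
noncomputable def a22 : Net := (.cons 12 (nat_lit 0x804)
 (.cons 6 (nat_lit 0x28000)
 (.cons 3 (nat_lit 0x2044)
 (.cons 1 (nat_lit 0x1000)
 (.cons 1 (nat_lit 0x402000)
 (.cons 1 (nat_lit 0x1008)
 (.cons 6 (nat_lit 0x20000)
 (.cons 12 (nat_lit 0x4)
 .nil))))))))
noncomputable def a23 : Net := (.cons 12 (nat_lit 0x17e)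
 (.cons 6 (nat_lit 0x1e026)
 (.cons 3 (nat_lit 0x143140)
 (.cons 1 (nat_lit 0x201000)
 (.cons 1 (nat_lit 0x412480)
 (.cons 1 (nat_lit 0x1200)
 (.cons 3 (nat_lit 0x106080)
 (.cons 6 (nat_lit 0x16002)
 (.cons 12 (nat_lit 0xe2e)
 .nil)))))))))
noncomputable def a24 : Net := (.cons 12 (nat_lit 0xe54)
 (.cons 6 (nat_lit 0x2800c)
 (.cons 3 (nat_lit 0x183184)
 (.cons 1 (nat_lit 0x208)
 (.cons 1 (nat_lit 0x80490)
 (.cons 1 (nat_lit 0x200208)
 (.cons 3 (nat_lit 0x180184)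
 (.cons 6 (nat_lit 0x28000)
 (.cons 12 (nat_lit 0xe14)
 .nil)))))))))
noncomputable def a25 : Net := (.cons 12 (nat_lit 0xa98)
 (.cons 6 (nat_lit 0x603c)
 (.cons 3 (nat_lit 0x1030c4)
 (.cons 1 (nat_lit 0x8)
 (.cons 1 (nat_lit 0x480410)
 (.cons 1 (nat_lit 0x201248)
 (.cons 3 (nat_lit 0x82004)
 (.cons 6 (nat_lit 0x203c)
 (.cons 12 (nat_lit 0x1d8)
 .nil)))))))))
noncomputable def a26 : Net := (.cons 12 (nat_lit 0xddd)
 (.cons 6 (nat_lit 0xd029)
 (.cons 3 (nat_lit 0x100102)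
 (.cons 1 (nat_lit 0x200000)
 (.cons 1 (nat_lit 0x402080)
 (.cons 1 (nat_lit 0x9208)
 (.cons 3 (nat_lit 0x100102)
 (.cons 6 (nat_lit 0x14008)
 (.cons 12 (nat_lit 0x90c)
 .nil)))))))))
noncomputable def a27 : Net := (.cons 12 (nat_lit 0xcef)
 (.cons 6 (nat_lit 0x26018)
 (.cons 3 (nat_lit 0x47087)
 (.cons 1 (nat_lit 0x200)
 (.cons 1 (nat_lit 0x400400)
 (.cons 1 (nat_lit 0x240040)
 (.cons 6 (nat_lit 0x18026)
 (.cons 12 (nat_lit 0x310)
 .nil))))))))
noncomputable def a28 : Net := (.cons 12 (nat_lit 0xfd4)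
 (.cons 6 (nat_lit 0xd026)
 (.cons 3 (nat_lit 0x42002)
 (.cons 1 (nat_lit 0x8)
 (.cons 1 (nat_lit 0x82410)
 (.cons 1 (nat_lit 0x41240)
 (.cons 3 (nat_lit 0x180006)
 (.cons 6 (nat_lit 0x2c00a)
 (.cons 12 (nat_lit 0xbe8)
 .nil)))))))))
noncomputable def a29 : Net := (.cons 12 (nat_lit 0xac0)
 (.cons 6 (nat_lit 0x18006)
 (.cons 3 (nat_lit 0x1c0004)
 (.cons 1 (nat_lit 0x208)
 (.cons 1 (nat_lit 0x412)
 (.cons 1 (nat_lit 0x241248)
 (.cons 3 (nat_lit 0x4)
 (.cons 6 (nat_lit 0x18006)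
 (.cons 12 (nat_lit 0xac0)
 .nil)))))))))
noncomputable def a30 : Net := (.cons 12 (nat_lit 0x8a8)
 (.cons 6 (nat_lit 0x24036)
 (.cons 3 (nat_lit 0x3082)
 (.cons 1 (nat_lit 0x8)
 (.cons 1 (nat_lit 0x400090)
 (.cons 1 (nat_lit 0x208040)
 (.cons 3 (nat_lit 0x80080)
 (.cons 6 (nat_lit 0x12)
 (.cons 12 (nat_lit 0x8)
 .nil)))))))))
noncomputable def a31 : Net := (.cons 12 (nat_lit 0xa46)
 (.cons 6 (nat_lit 0x1802c)
 (.cons 3 (nat_lit 0x1c2080)
 (.cons 1 (nat_lit 0x208)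
 (.cons 1 (nat_lit 0x2412)
 (.cons 1 (nat_lit 0x41008)
 (.cons 3 (nat_lit 0x6102)
 (.cons 6 (nat_lit 0x8020)
 (.cons 12 (nat_lit 0xafa)
 .nil)))))))))
noncomputable def a32 : Net := (.cons 12 (nat_lit 0x688)
 (.cons 6 (nat_lit 0x28)
 (.cons 3 (nat_lit 0x100084)
 (.cons 1 (nat_lit 0x40)
 (.cons 1 (nat_lit 0x80490)
 (.cons 1 (nat_lit 0x9040)
 (.cons 3 (nat_lit 0x100084)
 (.cons 6 (nat_lit 0x20)
 (.cons 12 (nat_lit 0x288)
 .nil)))))))))
noncomputable def a33 : Net := (.cons 12 (nat_lit 0xd6b)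
 (.cons 6 (nat_lit 0x602a)
 (.cons 3 (nat_lit 0x3005)
 (.cons 1 (nat_lit 0x8)
 (.cons 1 (nat_lit 0x12012)
 (.cons 1 (nat_lit 0x241240)
 (.cons 3 (nat_lit 0x2004)
 (.cons 6 (nat_lit 0x2a006)
 (.cons 12 (nat_lit 0x294)
 .nil)))))))))
noncomputable def a34 : Net := (.cons 12 (nat_lit 0xa88)
 (.cons 6 (nat_lit 0x1d)
 (.cons 3 (nat_lit 0xc3081)
 (.cons 1 (nat_lit 0x200)
 (.cons 1 (nat_lit 0x490)
 (.cons 1 (nat_lit 0x1049)
 (.cons 6 (nat_lit 0x2a)
 (.cons 12 (nat_lit 0xe88)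
 .nil))))))))
noncomputable def a35 : Net := (.cons 12 (nat_lit 0x688)
 (.cons 6 (nat_lit 0x28)
 (.cons 3 (nat_lit 0x100084)
 (.cons 1 (nat_lit 0x40)
 (.cons 1 (nat_lit 0x80490)
 (.cons 1 (nat_lit 0x9040)
 (.cons 3 (nat_lit 0x100084)
 (.cons 6 (nat_lit 0x20)
 (.cons 12 (nat_lit 0x288)
 .nil)))))))))
noncomputable def a36 : Net := (.cons 12 (nat_lit 0x708)
 (.cons 6 (nat_lit 0x16020)
 (.cons 3 (nat_lit 0x87104)
 (.cons 1 (nat_lit 0x8008)
 (.cons 1 (nat_lit 0x410410)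
 (.cons 1 (nat_lit 0x40200)
 (.cons 3 (nat_lit 0x104084)
 (.cons 6 (nat_lit 0x22024)
 (.cons 12 (nat_lit 0xba4)
 .nil)))))))))
noncomputable def a37 : Net := (.cons 12 (nat_lit 0xdb4)
 (.cons 6 (nat_lit 0x20038)
 (.cons 3 (nat_lit 0x21c4)
 (.cons 1 (nat_lit 0x48000)
 (.cons 1 (nat_lit 0x92010)
 (.cons 1 (nat_lit 0x248040)
 (.cons 3 (nat_lit 0x84)
 (.cons 6 (nat_lit 0x24018)
 (.cons 12 (nat_lit 0x944)
 .nil)))))))))
noncomputable def a38 : Net := (.cons 12 (nat_lit 0xafa)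
 (.cons 6 (nat_lit 0x8020)
 (.cons 3 (nat_lit 0x1c6102)
 (.cons 1 (nat_lit 0x1008)
 (.cons 1 (nat_lit 0x2412)
 (.cons 1 (nat_lit 0x200208)
 (.cons 3 (nat_lit 0x2080)
 (.cons 6 (nat_lit 0x1802c)
 (.cons 12 (nat_lit 0xa46)
 .nil)))))))))
noncomputable def a39 : Net := (.cons 12 (nat_lit 0xa88)
 (.cons 6 (nat_lit 0x24032)
 (.cons 3 (nat_lit 0x83086)
 (.cons 1 (nat_lit 0x240)
 (.cons 1 (nat_lit 0x482)
 (.cons 1 (nat_lit 0x1208)
 (.cons 3 (nat_lit 0x86)
 (.cons 6 (nat_lit 0x3e)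
 (.cons 12 (nat_lit 0xe88)
 .nil)))))))))
noncomputable def a40 : Net := (.cons 12 (nat_lit 0xce6)
 (.cons 6 (nat_lit 0xc01e)
 (.cons 3 (nat_lit 0x61c4)
 (.cons 1 (nat_lit 0x8000)
 (.cons 1 (nat_lit 0x10090)
 (.cons 1 (nat_lit 0x209200)
 (.cons 3 (nat_lit 0x86084)
 (.cons 6 (nat_lit 0xc00a)
 (.cons 12 (nat_lit 0x454)
 .nil)))))))))
noncomputable def a41 : Net := (.cons 12 (nat_lit 0xf81)
 (.cons 6 (nat_lit 0x2b03b)
 (.cons 3 (nat_lit 0xc2185)
 (.cons 1 (nat_lit 0x208040)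
 (.cons 1 (nat_lit 0x412080)
 (.cons 1 (nat_lit 0x241240)
 (.cons 3 (nat_lit 0x4180)
 (.cons 6 (nat_lit 0x2600c)
 (.cons 12 (nat_lit 0xe2a)
 .nil)))))))))
noncomputable def a42 : Net := (.cons 12 (nat_lit 0xe08)
 (.cons 6 (nat_lit 0x33008)
 (.cons 3 (nat_lit 0xc20c1)
 (.cons 1 (nat_lit 0x201)
 (.cons 1 (nat_lit 0x412482)
 (.cons 1 (nat_lit 0x200041)
 (.cons 3 (nat_lit 0x180100)
 (.cons 6 (nat_lit 0x3200c)
 (.cons 12 (nat_lit 0x168)
 .nil)))))))))
noncomputable def a43 : Net := (.cons 12 (nat_lit 0x3f0)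
 (.cons 6 (nat_lit 0x6000)
 (.cons 3 (nat_lit 0x42180)
 (.cons 1 (nat_lit 0x1201)
 (.cons 1 (nat_lit 0x2402)
 (.cons 1 (nat_lit 0x9201)
 (.cons 3 (nat_lit 0x2100)
 (.cons 6 (nat_lit 0x6000)
 (.cons 12 (nat_lit 0x3c0)
 .nil)))))))))
noncomputable def a44 : Net := (.cons 12 (nat_lit 0x518)
 (.cons 6 (nat_lit 0x3b009)
 (.cons 3 (nat_lit 0x4086)
 (.cons 1 (nat_lit 0x8)
 (.cons 1 (nat_lit 0x92410)
 (.cons 1 (nat_lit 0x240208)
 (.cons 3 (nat_lit 0x4)
 (.cons 6 (nat_lit 0x3a008)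
 (.cons 12 (nat_lit 0x508)
 .nil)))))))))
noncomputable def a45 : Net := (.cons 12 (nat_lit 0x9b0)
 (.cons 6 (nat_lit 0x8005)
 (.cons 3 (nat_lit 0x180106)
 (.cons 1 (nat_lit 0x8200)
 (.cons 1 (nat_lit 0x90400)
 (.cons 1 (nat_lit 0x208208)
 (.cons 3 (nat_lit 0x180102)
 (.cons 6 (nat_lit 0x8004)
 (.cons 12 (nat_lit 0x9a0)
 .nil)))))))))
noncomputable def a46 : Net := (.cons 12 (nat_lit 0x994)
 (.cons 6 (nat_lit 0x6020)
 (.cons 3 (nat_lit 0x2086)
 (.cons 1 (nat_lit 0x1000)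
 (.cons 1 (nat_lit 0x402000)
 (.cons 1 (nat_lit 0x49008)
 (.cons 3 (nat_lit 0x2002)
 (.cons 6 (nat_lit 0x6020)
 (.cons 12 (nat_lit 0x984)
 .nil)))))))))
noncomputable def a47 : Net := (.cons 12 (nat_lit 0x65a)
 (.cons 6 (nat_lit 0x4014)
 (.cons 3 (nat_lit 0x1031c6)
 (.cons 1 (nat_lit 0x200048)
 (.cons 1 (nat_lit 0x410490)
 (.cons 1 (nat_lit 0x8200)
 (.cons 3 (nat_lit 0x104084)
 (.cons 6 (nat_lit 0xc002)
 (.cons 12 (nat_lit 0x9e4)
 .nil)))))))))
noncomputable def a48 : Net := (.cons 12 (nat_lit 0x498)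
 (.cons 6 (nat_lit 0x3a008)
 (.cons 3 (nat_lit 0x102086)
 (.cons 1 (nat_lit 0x208)
 (.cons 1 (nat_lit 0x410)
 (.cons 1 (nat_lit 0x240208)
 (.cons 3 (nat_lit 0x4)
 (.cons 6 (nat_lit 0x3a008)
 (.cons 12 (nat_lit 0x18)
 .nil)))))))))
noncomputable def a49 : Net := (.cons 12 (nat_lit 0x528)
 (.cons 6 (nat_lit 0x2b00c)
 (.cons 3 (nat_lit 0x4006)
 (.cons 1 (nat_lit 0x8200)
 (.cons 1 (nat_lit 0x492400)
 (.cons 1 (nat_lit 0x240000)
 (.cons 3 (nat_lit 0x80)
 (.cons 6 (nat_lit 0x1200c)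
 (.cons 12 (nat_lit 0x538)
 .nil)))))))))
noncomputable def a50 : Net := (.cons 12 (nat_lit 0xce6)
 (.cons 6 (nat_lit 0xc01e)
 (.cons 3 (nat_lit 0x61c4)
 (.cons 1 (nat_lit 0x8000)
 (.cons 1 (nat_lit 0x10090)
 (.cons 1 (nat_lit 0x209200)
 (.cons 3 (nat_lit 0x86084)
 (.cons 6 (nat_lit 0xc00a)
 (.cons 12 (nat_lit 0x454)
 .nil)))))))))
noncomputable def a51 : Net := (.cons 12 (nat_lit 0x994)
 (.cons 6 (nat_lit 0x6020)
 (.cons 3 (nat_lit 0x2086)
 (.cons 1 (nat_lit 0x1000)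
 (.cons 1 (nat_lit 0x402000)
 (.cons 1 (nat_lit 0x49008)
 (.cons 3 (nat_lit 0x2002)
 (.cons 6 (nat_lit 0x6020)
 (.cons 12 (nat_lit 0x984)
 .nil)))))))))
noncomputable def a52 : Net := (.cons 12 (nat_lit 0x994)
 (.cons 6 (nat_lit 0x6020)
 (.cons 3 (nat_lit 0x2086)
 (.cons 1 (nat_lit 0x1000)
 (.cons 1 (nat_lit 0x402000)
 (.cons 1 (nat_lit 0x49008)
 (.cons 3 (nat_lit 0x2002)
 (.cons 6 (nat_lit 0x6020)
 (.cons 12 (nat_lit 0x984)
 .nil)))))))))
noncomputable def a53 : Net := (.cons 12 (nat_lit 0xff9)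
 (.cons 6 (nat_lit 0x102d)
 (.cons 3 (nat_lit 0x180100)
 (.cons 1 (nat_lit 0x41040)
 (.cons 1 (nat_lit 0x82082)
 (.cons 1 (nat_lit 0x9241)
 (.cons 3 (nat_lit 0x4006)
 (.cons 6 (nat_lit 0x1203e)
 (.cons 12 (nat_lit 0x6)
 .nil)))))))))
noncomputable def a54 : Net := (.cons 12 (nat_lit 0x568)
 (.cons 6 (nat_lit 0x11020)
 (.cons 3 (nat_lit 0x50c2)
 (.cons 1 (nat_lit 0x200209)
 (.cons 1 (nat_lit 0x490412)
 (.cons 1 (nat_lit 0x41209)
 (.cons 3 (nat_lit 0x2100)
 (.cons 6 (nat_lit 0x2e020)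
 (.cons 12 (nat_lit 0x608)
 .nil)))))))))
noncomputable def a55 : Net := (.cons 12 (nat_lit 0xd9)
 (.cons 6 (nat_lit 0x5039)
 (.cons 3 (nat_lit 0x1050c7)
 (.cons 1 (nat_lit 0x208048)
 (.cons 1 (nat_lit 0x490092)
 (.cons 1 (nat_lit 0x9008)
 (.cons 3 (nat_lit 0x106004)
 (.cons 6 (nat_lit 0x802e)
 (.cons 12 (nat_lit 0x444)
 .nil)))))))))
noncomputable def a56 : Net := (.cons 12 (nat_lit 0x866)
 (.cons 6 (nat_lit 0x2039)
 (.cons 3 (nat_lit 0x20c1)
 (.cons 1 (nat_lit 0x200000)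
 (.cons 1 (nat_lit 0x410090)
 (.cons 1 (nat_lit 0x9040)
 (.cons 3 (nat_lit 0x180084)
 (.cons 6 (nat_lit 0x38030)
 (.cons 12 (nat_lit 0x4d4)
 .nil)))))))))
noncomputable def a57 : Net := (.cons 12 (nat_lit 0x138)
 (.cons 6 (nat_lit 0x3c006)
 (.cons 3 (nat_lit 0x41042)
 (.cons 1 (nat_lit 0x201040)
 (.cons 1 (nat_lit 0x492080)
 (.cons 1 (nat_lit 0x200048)
 (.cons 3 (nat_lit 0x104002)
 (.cons 6 (nat_lit 0x10006)
 (.cons 12 (nat_lit 0xd0a)
 .nil)))))))))
noncomputable def a58 : Net := (.cons 12 (nat_lit 0x9a6)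
 (.cons 6 (nat_lit 0xb000)
 (.cons 3 (nat_lit 0x146184)
 (.cons 1 (nat_lit 0x8200)
 (.cons 1 (nat_lit 0x410490)
 (.cons 1 (nat_lit 0x49208)
 (.cons 3 (nat_lit 0x182106)
 (.cons 6 (nat_lit 0xe004)
 (.cons 12 (nat_lit 0x60a)
 .nil)))))))))
noncomputable def a59 : Net := (.cons 12 (nat_lit 0x480)
 (.cons 6 (nat_lit 0xc010)
 (.cons 3 (nat_lit 0x106142)
 (.cons 1 (nat_lit 0x8000)
 (.cons 1 (nat_lit 0x10400)
 (.cons 1 (nat_lit 0x209008)
 (.cons 3 (nat_lit 0x6102)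
 (.cons 6 (nat_lit 0xc010)
 (.cons 12 (nat_lit 0x400)
 .nil)))))))))
noncomputable def a60 : Net := (.cons 12 (nat_lit 0x528)
 (.cons 6 (nat_lit 0x2b00c)
 (.cons 3 (nat_lit 0x4006)
 (.cons 1 (nat_lit 0x8200)
 (.cons 1 (nat_lit 0x492400)
 (.cons 1 (nat_lit 0x240000)
 (.cons 3 (nat_lit 0x80)
 (.cons 6 (nat_lit 0x1200c)
 (.cons 12 (nat_lit 0x538)
 .nil)))))))))
noncomputable def a61 : Net := (.cons 12 (nat_lit 0x8ba)
 (.cons 6 (nat_lit 0xb00c)
 (.cons 3 (nat_lit 0x143084)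
 (.cons 1 (nat_lit 0x1000)
 (.cons 1 (nat_lit 0x402010)
 (.cons 1 (nat_lit 0x240200)
 (.cons 3 (nat_lit 0x2004)
 (.cons 6 (nat_lit 0x1600c)
 (.cons 12 (nat_lit 0x8)
 .nil)))))))))
noncomputable def a62 : Net := (.cons 12 (nat_lit 0x994)
 (.cons 6 (nat_lit 0x6020)
 (.cons 3 (nat_lit 0x2086)
 (.cons 1 (nat_lit 0x1000)
 (.cons 1 (nat_lit 0x402000)
 (.cons 1 (nat_lit 0x49008)
 (.cons 3 (nat_lit 0x2002)
 (.cons 6 (nat_lit 0x6020)
 (.cons 12 (nat_lit 0x984)
 .nil)))))))))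
noncomputable def a63 : Net := (.cons 12 (nat_lit 0x568)
 (.cons 6 (nat_lit 0x11020)
 (.cons 3 (nat_lit 0x50c2)
 (.cons 1 (nat_lit 0x200209)
 (.cons 1 (nat_lit 0x490412)
 (.cons 1 (nat_lit 0x41209)
 (.cons 3 (nat_lit 0x2100)
 (.cons 6 (nat_lit 0x2e020)
 (.cons 12 (nat_lit 0x608)
 .nil)))))))))
noncomputable def a64 : Net := (.cons 12 (nat_lit 0x528)
 (.cons 6 (nat_lit 0x2b00c)
 (.cons 3 (nat_lit 0x4006)
 (.cons 1 (nat_lit 0x8200)
 (.cons 1 (nat_lit 0x492400)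
 (.cons 1 (nat_lit 0x240000)
 (.cons 3 (nat_lit 0x80)
 (.cons 6 (nat_lit 0x1200c)
 (.cons 12 (nat_lit 0x538)
 .nil)))))))))
noncomputable def a65 : Net := (.cons 12 (nat_lit 0xd33)
 (.cons 6 (nat_lit 0x28017)
 (.cons 3 (nat_lit 0x105046)
 (.cons 1 (nat_lit 0x201008)
 (.cons 1 (nat_lit 0x402010)
 (.cons 1 (nat_lit 0x208)
 (.cons 3 (nat_lit 0x6004)
 (.cons 6 (nat_lit 0x1801e)
 (.cons 12 (nat_lit 0xea2)
 .nil)))))))))
noncomputable def a66 : Net := (.cons 12 (nat_lit 0xf76)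
 (.cons 6 (nat_lit 0x2403a)
 (.cons 3 (nat_lit 0x421c6)
 (.cons 1 (nat_lit 0x48000)
 (.cons 1 (nat_lit 0x90010)
 (.cons 1 (nat_lit 0x48040)
 (.cons 3 (nat_lit 0x84)
 (.cons 6 (nat_lit 0x2403a)
 (.cons 12 (nat_lit 0x754)
 .nil)))))))))
noncomputable def a67 : Net := (.cons 12 (nat_lit 0x90e)
 (.cons 6 (nat_lit 0x38000)
 (.cons 3 (nat_lit 0xc5106)
 (.cons 1 (nat_lit 0x41008)
 (.cons 1 (nat_lit 0x482090)
 (.cons 1 (nat_lit 0x200008)
 (.cons 3 (nat_lit 0x6000)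
 (.cons 6 (nat_lit 0x12024)
 (.cons 12 (nat_lit 0xd1e)
 .nil)))))))))
noncomputable def a68 : Net := (.cons 12 (nat_lit 0x994)
 (.cons 6 (nat_lit 0x6020)
 (.cons 3 (nat_lit 0x2086)
 (.cons 1 (nat_lit 0x1000)
 (.cons 1 (nat_lit 0x402000)
 (.cons 1 (nat_lit 0x49008)
 (.cons 3 (nat_lit 0x2002)
 (.cons 6 (nat_lit 0x6020)
 (.cons 12 (nat_lit 0x984)
 .nil)))))))))
noncomputable def a69 : Net := (.cons 12 (nat_lit 0xce6)
 (.cons 6 (nat_lit 0xc01e)
 (.cons 3 (nat_lit 0x61c4)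
 (.cons 1 (nat_lit 0x8000)
 (.cons 1 (nat_lit 0x10090)
 (.cons 1 (nat_lit 0x209200)
 (.cons 3 (nat_lit 0x86084)
 (.cons 6 (nat_lit 0xc00a)
 (.cons 12 (nat_lit 0x454)
 .nil)))))))))
noncomputable def a70 : Net := (.cons 12 (nat_lit 0x99b)
 (.cons 6 (nat_lit 0xd00c)
 (.cons 3 (nat_lit 0x143001)
 (.cons 1 (nat_lit 0x1040)
 (.cons 1 (nat_lit 0x402090)
 (.cons 1 (nat_lit 0x248)
 (.cons 3 (nat_lit 0x106004)
 (.cons 6 (nat_lit 0x400c)
 (.cons 12 (nat_lit 0x228)
 .nil)))))))))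
noncomputable def a71 : Net := (.cons 12 (nat_lit 0x518)
 (.cons 6 (nat_lit 0x17003)
 (.cons 3 (nat_lit 0x102041)
 (.cons 1 (nat_lit 0x200200)
 (.cons 1 (nat_lit 0x492402)
 (.cons 1 (nat_lit 0x8001)
 (.cons 3 (nat_lit 0x186)
 (.cons 6 (nat_lit 0x2803c)
 (.cons 12 (nat_lit 0x518)
 .nil)))))))))
noncomputable def a72 : Net := (.cons 12 (nat_lit 0xd33)
 (.cons 6 (nat_lit 0x28017)
 (.cons 3 (nat_lit 0x105046)
 (.cons 1 (nat_lit 0x201008)
 (.cons 1 (nat_lit 0x402010)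
 (.cons 1 (nat_lit 0x208)
 (.cons 3 (nat_lit 0x6004)
 (.cons 6 (nat_lit 0x1801e)
 (.cons 12 (nat_lit 0xea2)
 .nil)))))))))
noncomputable def a73 : Net := (.cons 12 (nat_lit 0x538)
 (.cons 6 (nat_lit 0x2d022)
 (.cons 3 (nat_lit 0x80182)
 (.cons 1 (nat_lit 0x9000)
 (.cons 1 (nat_lit 0x492010)
 (.cons 1 (nat_lit 0x200008)
 (.cons 6 (nat_lit 0x14030)
 (.cons 12 (nat_lit 0x528)
 .nil))))))))
noncomputable def a74 : Net := (.cons 12 (nat_lit 0xc50)
 (.cons 6 (nat_lit 0x2803a)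
 (.cons 3 (nat_lit 0x106041)
 (.cons 1 (nat_lit 0x208001)
 (.cons 1 (nat_lit 0x410012)
 (.cons 1 (nat_lit 0x208241)
 (.cons 3 (nat_lit 0x2)
 (.cons 6 (nat_lit 0x3a)
 (.cons 12 (nat_lit 0xc42)
 .nil)))))))))
noncomputable def a75 : Net := (.cons 12 (nat_lit 0x898)
 (.cons 6 (nat_lit 0x2201e)
 (.cons 3 (nat_lit 0x5044)
 (.cons 1 (nat_lit 0x200008)
 (.cons 1 (nat_lit 0x402090)
 (.cons 1 (nat_lit 0x208040)
 (.cons 3 (nat_lit 0x104084)
 (.cons 6 (nat_lit 0x22002)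
 (.cons 12 (nat_lit 0xc18)
 .nil)))))))))
noncomputable def a76 : Net := (.cons 12 (nat_lit 0x35c)
 (.cons 6 (nat_lit 0x5022)
 (.cons 3 (nat_lit 0x1c0106)
 (.cons 1 (nat_lit 0x201000)
 (.cons 1 (nat_lit 0x482010)
 (.cons 1 (nat_lit 0x209048)
 (.cons 3 (nat_lit 0x102080)
 (.cons 6 (nat_lit 0x30)
 (.cons 12 (nat_lit 0x7ec)
 .nil)))))))))
noncomputable def a77 : Net := (.cons 12 (nat_lit 0x8ba)
 (.cons 6 (nat_lit 0xb00c)
 (.cons 3 (nat_lit 0x143084)
 (.cons 1 (nat_lit 0x1000)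
 (.cons 1 (nat_lit 0x402010)
 (.cons 1 (nat_lit 0x240200)
 (.cons 3 (nat_lit 0x2004)
 (.cons 6 (nat_lit 0x1600c)
 (.cons 12 (nat_lit 0x8)
 .nil)))))))))
noncomputable def a78 : Net := (.cons 12 (nat_lit 0x90e)
 (.cons 6 (nat_lit 0x38000)
 (.cons 3 (nat_lit 0xc5106)
 (.cons 1 (nat_lit 0x41008)
 (.cons 1 (nat_lit 0x482090)
 (.cons 1 (nat_lit 0x200008)
 (.cons 3 (nat_lit 0x6000)
 (.cons 6 (nat_lit 0x12024)
 (.cons 12 (nat_lit 0xd1e)
 .nil)))))))))
noncomputable def a79 : Net := (.cons 12 (nat_lit 0x994)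
 (.cons 6 (nat_lit 0x6020)
 (.cons 3 (nat_lit 0x2086)
 (.cons 1 (nat_lit 0x1000)
 (.cons 1 (nat_lit 0x402000)
 (.cons 1 (nat_lit 0x49008)
 (.cons 3 (nat_lit 0x2002)
 (.cons 6 (nat_lit 0x6020)
 (.cons 12 (nat_lit 0x984)
 .nil)))))))))
noncomputable def a80 : Net := (.cons 12 (nat_lit 0xaab)
 (.cons 6 (nat_lit 0x5031)
 (.cons 3 (nat_lit 0x140181)
 (.cons 1 (nat_lit 0x208201)
 (.cons 1 (nat_lit 0x490412)
 (.cons 1 (nat_lit 0x209241)
 (.cons 3 (nat_lit 0x186002)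
 (.cons 6 (nat_lit 0xc02a)
 (.cons 12 (nat_lit 0x554)
 .nil)))))))))
noncomputable def a81 : Net := (.cons 12 (nat_lit 0x520)
 (.cons 6 (nat_lit 0x1e029)
 (.cons 3 (nat_lit 0x102104)
 (.cons 1 (nat_lit 0x9008)
 (.cons 1 (nat_lit 0x12010)
 (.cons 1 (nat_lit 0x49008)
 (.cons 3 (nat_lit 0x4)
 (.cons 6 (nat_lit 0x1e028)
 (.cons 12 (nat_lit 0x520)
 .nil)))))))))
noncomputable def a82 : Net := (.cons 12 (nat_lit 0x98)
 (.cons 6 (nat_lit 0xe001)
 (.cons 3 (nat_lit 0x1c21c3)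
 (.cons 1 (nat_lit 0x200)
 (.cons 1 (nat_lit 0x80402)
 (.cons 1 (nat_lit 0x201001)
 (.cons 3 (nat_lit 0x82102)
 (.cons 6 (nat_lit 0xe01c)
 (.cons 12 (nat_lit 0x80a)
 .nil)))))))))
noncomputable def a83 : Net := (.cons 12 (nat_lit 0x420)
 (.cons 6 (nat_lit 0x22000)
 (.cons 3 (nat_lit 0x104042)
 (.cons 1 (nat_lit 0x200001)
 (.cons 1 (nat_lit 0x400402)
 (.cons 1 (nat_lit 0x240009)
 (.cons 3 (nat_lit 0x100002)
 (.cons 6 (nat_lit 0x22000)
 (.cons 12 (nat_lit 0x400)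
 .nil)))))))))
noncomputable def a84 : Net := (.cons 12 (nat_lit 0xd1e)
 (.cons 6 (nat_lit 0x12024)
 (.cons 3 (nat_lit 0x1c1002)
 (.cons 1 (nat_lit 0x40008)
 (.cons 1 (nat_lit 0x490090)
 (.cons 1 (nat_lit 0x208008)
 (.cons 3 (nat_lit 0x102104)
 (.cons 6 (nat_lit 0x38000)
 (.cons 12 (nat_lit 0x90e)
 .nil)))))))))
noncomputable def a85 : Net := (.cons 12 (nat_lit 0xce6)
 (.cons 6 (nat_lit 0xc01e)
 (.cons 3 (nat_lit 0x61c4)
 (.cons 1 (nat_lit 0x8000)
 (.cons 1 (nat_lit 0x10090)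
 (.cons 1 (nat_lit 0x209200)
 (.cons 3 (nat_lit 0x86084)
 (.cons 6 (nat_lit 0xc00a)
 (.cons 12 (nat_lit 0x454)
 .nil)))))))))
noncomputable def a86 : Net := (.cons 12 (nat_lit 0x994)
 (.cons 6 (nat_lit 0x6020)
 (.cons 3 (nat_lit 0x2086)
 (.cons 1 (nat_lit 0x1000)
 (.cons 1 (nat_lit 0x402000)
 (.cons 1 (nat_lit 0x49008)
 (.cons 3 (nat_lit 0x2002)
 (.cons 6 (nat_lit 0x6020)
 (.cons 12 (nat_lit 0x984)
 .nil)))))))))
noncomputable def a87 : Net := (.cons 12 (nat_lit 0x420)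
 (.cons 6 (nat_lit 0x22000)
 (.cons 3 (nat_lit 0x104042)
 (.cons 1 (nat_lit 0x200001)
 (.cons 1 (nat_lit 0x400402)
 (.cons 1 (nat_lit 0x240009)
 (.cons 3 (nat_lit 0x100002)
 (.cons 6 (nat_lit 0x22000)
 (.cons 12 (nat_lit 0x400)
 .nil)))))))))
noncomputable def a88 : Net := (.cons 12 (nat_lit 0x98)
 (.cons 6 (nat_lit 0xe001)
 (.cons 3 (nat_lit 0x1c21c3)
 (.cons 1 (nat_lit 0x200)
 (.cons 1 (nat_lit 0x80402)
 (.cons 1 (nat_lit 0x201001)
 (.cons 3 (nat_lit 0x82102)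
 (.cons 6 (nat_lit 0xe01c)
 (.cons 12 (nat_lit 0x80a)
 .nil)))))))))
noncomputable def a89 : Net := (.cons 12 (nat_lit 0x63b)
 (.cons 6 (nat_lit 0x2503a)
 (.cons 3 (nat_lit 0x430c3)
 (.cons 1 (nat_lit 0x200041)
 (.cons 1 (nat_lit 0x490092)
 (.cons 1 (nat_lit 0x208001)
 (.cons 3 (nat_lit 0x104106)
 (.cons 6 (nat_lit 0x4012)
 (.cons 12 (nat_lit 0x9c4)
 .nil)))))))))
noncomputable def a90 : Net := .nil
noncomputable def a91 : Net := (.cons 12 (nat_lit 0xc8a)
 (.cons 6 (nat_lit 0xd033)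
 (.cons 3 (nat_lit 0x820c2)
 (.cons 1 (nat_lit 0x8000)
 (.cons 1 (nat_lit 0x90090)
 (.cons 1 (nat_lit 0x9008)
 (.cons 3 (nat_lit 0x6002)
 (.cons 6 (nat_lit 0xc032)
 (.cons 12 (nat_lit 0xc8a)
 .nil)))))))))
noncomputable def a92 : Net := (.cons 12 (nat_lit 0x18d)
 (.cons 6 (nat_lit 0x5031)
 (.cons 3 (nat_lit 0x86184)
 (.cons 1 (nat_lit 0x40008)
 (.cons 1 (nat_lit 0x490010)
 (.cons 1 (nat_lit 0x40040)
 (.cons 3 (nat_lit 0x84084)
 (.cons 6 (nat_lit 0x4030)
 (.cons 12 (nat_lit 0x16c)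
 .nil)))))))))
noncomputable def a93 : Net := (.cons 12 (nat_lit 0x520)
 (.cons 6 (nat_lit 0x1e029)
 (.cons 3 (nat_lit 0x102104)
 (.cons 1 (nat_lit 0x9008)
 (.cons 1 (nat_lit 0x12010)
 (.cons 1 (nat_lit 0x49008)
 (.cons 3 (nat_lit 0x4)
 (.cons 6 (nat_lit 0x1e028)
 (.cons 12 (nat_lit 0x520)
 .nil)))))))))
noncomputable def a94 : Net := (.cons 12 (nat_lit 0xbe6)
 (.cons 6 (nat_lit 0x2803c)
 (.cons 3 (nat_lit 0x5084)
 (.cons 1 (nat_lit 0x208008)
 (.cons 1 (nat_lit 0x410410)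
 (.cons 1 (nat_lit 0x8049)
 (.cons 3 (nat_lit 0x4106)
 (.cons 6 (nat_lit 0x24002)
 (.cons 12 (nat_lit 0x98e)
 .nil)))))))))
noncomputable def a95 : Net := (.cons 12 (nat_lit 0xfd9)
 (.cons 6 (nat_lit 0x29023)
 (.cons 3 (nat_lit 0xc5100)
 (.cons 1 (nat_lit 0x200008)
 (.cons 1 (nat_lit 0x490012)
 (.cons 1 (nat_lit 0x41041)
 (.cons 3 (nat_lit 0x106080)
 (.cons 6 (nat_lit 0x6038)
 (.cons 12 (nat_lit 0x99c)
 .nil)))))))))
noncomputable def a96 : Net := (.cons 12 (nat_lit 0x994)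
 (.cons 6 (nat_lit 0x6020)
 (.cons 3 (nat_lit 0x2086)
 (.cons 1 (nat_lit 0x1000)
 (.cons 1 (nat_lit 0x402000)
 (.cons 1 (nat_lit 0x49008)
 (.cons 3 (nat_lit 0x2002)
 (.cons 6 (nat_lit 0x6020)
 (.cons 12 (nat_lit 0x984)
 .nil)))))))))
noncomputable def a97 : Net := (.cons 12 (nat_lit 0x204)
 (.cons 6 (nat_lit 0xa010)
 (.cons 3 (nat_lit 0x43100)
 (.cons 1 (nat_lit 0x200)
 (.cons 1 (nat_lit 0x410402)
 (.cons 1 (nat_lit 0x240208)
 (.cons 3 (nat_lit 0x102)
 (.cons 6 (nat_lit 0x10014)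
 (.cons 12 (nat_lit 0xcdc)
 .nil)))))))))
noncomputable def a98 : Net := (.cons 12 (nat_lit 0xe54)
 (.cons 6 (nat_lit 0x2800c)
 (.cons 3 (nat_lit 0x183184)
 (.cons 1 (nat_lit 0x208)
 (.cons 1 (nat_lit 0x80490)
 (.cons 1 (nat_lit 0x200208)
 (.cons 3 (nat_lit 0x180184)
 (.cons 6 (nat_lit 0x28000)
 (.cons 12 (nat_lit 0xe14)
 .nil)))))))))
noncomputable def a99 : Net := (.cons 12 (nat_lit 0xf06)
 (.cons 6 (nat_lit 0x15038)
 (.cons 3 (nat_lit 0x1c0006)
 (.cons 1 (nat_lit 0x49008)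
 (.cons 1 (nat_lit 0x492012)
 (.cons 1 (nat_lit 0x8008)
 (.cons 3 (nat_lit 0x2)
 (.cons 6 (nat_lit 0x38030)
 (.cons 12 (nat_lit 0x1de)
 .nil)))))))))
noncomputable def a100 : Net := (.cons 12 (nat_lit 0x852)
 (.cons 6 (nat_lit 0x8034)
 (.cons 3 (nat_lit 0x6040)
 (.cons 1 (nat_lit 0x200200)
 (.cons 1 (nat_lit 0x400490)
 (.cons 1 (nat_lit 0x201040)
 (.cons 3 (nat_lit 0x2180)
 (.cons 6 (nat_lit 0x8034)
 (.cons 12 (nat_lit 0x850)
 .nil)))))))))
noncomputable def a101 : Net := (.cons 12 (nat_lit 0x330)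
 (.cons 6 (nat_lit 0xf024)
 (.cons 3 (nat_lit 0x1040)
 (.cons 1 (nat_lit 0x8040)
 (.cons 1 (nat_lit 0x492480)
 (.cons 1 (nat_lit 0x8048)
 (.cons 3 (nat_lit 0x6000)
 (.cons 6 (nat_lit 0x4)
 (.cons 12 (nat_lit 0x524)
 .nil)))))))))
noncomputable def a102 : Net := (.cons 12 (nat_lit 0x688)
 (.cons 6 (nat_lit 0x28)
 (.cons 3 (nat_lit 0x100084)
 (.cons 1 (nat_lit 0x40)
 (.cons 1 (nat_lit 0x80490)
 (.cons 1 (nat_lit 0x9040)
 (.cons 3 (nat_lit 0x100084)
 (.cons 6 (nat_lit 0x20)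
 (.cons 12 (nat_lit 0x288)
 .nil)))))))))
noncomputable def a103 : Net := (.cons 12 (nat_lit 0x3dc)
 (.cons 6 (nat_lit 0x2803c)
 (.cons 3 (nat_lit 0x1c10c0)
 (.cons 1 (nat_lit 0x201000)
 (.cons 1 (nat_lit 0x482400)
 (.cons 1 (nat_lit 0x209240)
 (.cons 3 (nat_lit 0x102100)
 (.cons 6 (nat_lit 0x8034)
 (.cons 12 (nat_lit 0x79c)
 .nil)))))))))
noncomputable def a104 : Net := (.cons 12 (nat_lit 0x9e4)
 (.cons 6 (nat_lit 0x202c)
 (.cons 3 (nat_lit 0x182040)
 (.cons 1 (nat_lit 0x8000)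
 (.cons 1 (nat_lit 0x412080)
 (.cons 1 (nat_lit 0x8008)
 (.cons 3 (nat_lit 0x100000)
 (.cons 6 (nat_lit 0x1400c)
 (.cons 12 (nat_lit 0x9e4)
 .nil)))))))))
noncomputable def a105 : Net := (.cons 12 (nat_lit 0xe54)
 (.cons 6 (nat_lit 0x2800c)
 (.cons 3 (nat_lit 0x183184)
 (.cons 1 (nat_lit 0x208)
 (.cons 1 (nat_lit 0x80490)
 (.cons 1 (nat_lit 0x200208)
 (.cons 3 (nat_lit 0x180184)
 (.cons 6 (nat_lit 0x28000)
 (.cons 12 (nat_lit 0xe14)
 .nil)))))))))
noncomputable def a106 : Net := (.cons 12 (nat_lit 0x3a3)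
 (.cons 6 (nat_lit 0x9028)
 (.cons 3 (nat_lit 0x3084)
 (.cons 1 (nat_lit 0x8)
 (.cons 1 (nat_lit 0x10410)
 (.cons 1 (nat_lit 0x8009)
 (.cons 3 (nat_lit 0x4104)
 (.cons 6 (nat_lit 0x2c028)
 (.cons 12 (nat_lit 0x964)
 .nil)))))))))
noncomputable def a107 : Net := (.cons 12 (nat_lit 0x49e)
 (.cons 6 (nat_lit 0x1502d)
 (.cons 3 (nat_lit 0x183002)
 (.cons 1 (nat_lit 0x410400)
 (.cons 1 (nat_lit 0x248201)
 (.cons 3 (nat_lit 0x104102)
 (.cons 6 (nat_lit 0x2004)
 (.cons 12 (nat_lit 0x286)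
 .nil))))))))
noncomputable def a108 : Net := (.cons 12 (nat_lit 0xb02)
 (.cons 6 (nat_lit 0x30012)
 (.cons 3 (nat_lit 0x1c4002)
 (.cons 1 (nat_lit 0x40200)
 (.cons 1 (nat_lit 0x480400)
 (.cons 1 (nat_lit 0x201240)
 (.cons 6 (nat_lit 0x30012)
 (.cons 12 (nat_lit 0xb02)
 .nil))))))))
noncomputable def a109 : Net := (.cons 12 (nat_lit 0xe54)
 (.cons 6 (nat_lit 0x2800c)
 (.cons 3 (nat_lit 0x183184)
 (.cons 1 (nat_lit 0x208)
 (.cons 1 (nat_lit 0x80490)
 (.cons 1 (nat_lit 0x200208)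
 (.cons 3 (nat_lit 0x180184)
 (.cons 6 (nat_lit 0x28000)
 (.cons 12 (nat_lit 0xe14)
 .nil)))))))))
noncomputable def a110 : Net := (.cons 12 (nat_lit 0x37)
 (.cons 6 (nat_lit 0x2b00c)
 (.cons 3 (nat_lit 0x80080)
 (.cons 1 (nat_lit 0x200)
 (.cons 1 (nat_lit 0x82400)
 (.cons 1 (nat_lit 0x201001)
 (.cons 3 (nat_lit 0x182100)
 (.cons 6 (nat_lit 0xc008)
 (.cons 12 (nat_lit 0x428)
 .nil)))))))))
noncomputable def a111 : Net := (.cons 12 (nat_lit 0x906)
 (.cons 6 (nat_lit 0x32031)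
 (.cons 3 (nat_lit 0x800c0)
 (.cons 1 (nat_lit 0x208040)
 (.cons 1 (nat_lit 0x412080)
 (.cons 1 (nat_lit 0x201)
 (.cons 3 (nat_lit 0x80000)
 (.cons 6 (nat_lit 0x1c018)
 (.cons 12 (nat_lit 0x1e)
 .nil)))))))))
noncomputable def a112 : Net := (.cons 12 (nat_lit 0xb02)
 (.cons 6 (nat_lit 0x30012)
 (.cons 3 (nat_lit 0x1c4002)
 (.cons 1 (nat_lit 0x40200)
 (.cons 1 (nat_lit 0x480400)
 (.cons 1 (nat_lit 0x201240)
 (.cons 6 (nat_lit 0x30012)
 (.cons 12 (nat_lit 0xb02)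
 .nil))))))))
noncomputable def a113 : Net := (.cons 12 (nat_lit 0xbc2)
 (.cons 6 (nat_lit 0x3903a)
 (.cons 3 (nat_lit 0x185082)
 (.cons 1 (nat_lit 0x240008)
 (.cons 1 (nat_lit 0x480010)
 (.cons 1 (nat_lit 0x209040)
 (.cons 6 (nat_lit 0x28032)
 (.cons 12 (nat_lit 0x58a)
 .nil))))))))
noncomputable def a114 : Net := (.cons 12 (nat_lit 0xe54)
 (.cons 6 (nat_lit 0x2800c)
 (.cons 3 (nat_lit 0x183184)
 (.cons 1 (nat_lit 0x208)
 (.cons 1 (nat_lit 0x80490)
 (.cons 1 (nat_lit 0x200208)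
 (.cons 3 (nat_lit 0x180184)
 (.cons 6 (nat_lit 0x28000)
 (.cons 12 (nat_lit 0xe14)
 .nil)))))))))
noncomputable def a115 : Net := (.cons 12 (nat_lit 0x14e)
 (.cons 6 (nat_lit 0x1502d)
 (.cons 3 (nat_lit 0x1c1086)
 (.cons 1 (nat_lit 0x201200)
 (.cons 1 (nat_lit 0x412400)
 (.cons 1 (nat_lit 0x248201)
 (.cons 3 (nat_lit 0x180100)
 (.cons 12 (nat_lit 0xbb6)
 .nil))))))))
noncomputable def a116 : Net := (.cons 12 (nat_lit 0x543)
 (.cons 6 (nat_lit 0x1c02b)
 (.cons 3 (nat_lit 0x182000)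
 (.cons 1 (nat_lit 0x8048)
 (.cons 1 (nat_lit 0x12092)
 (.cons 1 (nat_lit 0x41008)
 (.cons 3 (nat_lit 0x2004)
 (.cons 6 (nat_lit 0x2e00c)
 (.cons 12 (nat_lit 0x660)
 .nil)))))))))
noncomputable def a117 : Net := (.cons 12 (nat_lit 0x8d8)
 (.cons 6 (nat_lit 0x12012)
 (.cons 3 (nat_lit 0x870c0)
 (.cons 1 (nat_lit 0x200000)
 (.cons 1 (nat_lit 0x412000)
 (.cons 1 (nat_lit 0x240248)
 (.cons 3 (nat_lit 0x80000)
 (.cons 6 (nat_lit 0x12012)
 (.cons 12 (nat_lit 0x888)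
 .nil)))))))))
noncomputable def a118 : Net := (.cons 12 (nat_lit 0x204)
 (.cons 6 (nat_lit 0xa010)
 (.cons 3 (nat_lit 0x43100)
 (.cons 1 (nat_lit 0x200)
 (.cons 1 (nat_lit 0x410402)
 (.cons 1 (nat_lit 0x240208)
 (.cons 3 (nat_lit 0x102)
 (.cons 6 (nat_lit 0x10014)
 (.cons 12 (nat_lit 0xcdc)
 .nil)))))))))
noncomputable def a119 : Net := (.cons 12 (nat_lit 0xe54)
 (.cons 6 (nat_lit 0x2800c)
 (.cons 3 (nat_lit 0x183184)
 (.cons 1 (nat_lit 0x208)
 (.cons 1 (nat_lit 0x80490)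
 (.cons 1 (nat_lit 0x200208)
 (.cons 3 (nat_lit 0x180184)
 (.cons 6 (nat_lit 0x28000)
 (.cons 12 (nat_lit 0xe14)
 .nil)))))))))
noncomputable def a120 : Net := (.cons 12 (nat_lit 0x26a)
 (.cons 6 (nat_lit 0x2200a)
 (.cons 3 (nat_lit 0x46001)
 (.cons 1 (nat_lit 0x8)
 (.cons 1 (nat_lit 0x410092)
 (.cons 1 (nat_lit 0x40209)
 (.cons 3 (nat_lit 0x180004)
 (.cons 6 (nat_lit 0x3402e)
 (.cons 12 (nat_lit 0x26a)
 .nil)))))))))
noncomputable def a121 : Net := (.cons 12 (nat_lit 0x4e)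
 (.cons 6 (nat_lit 0x1802b)
 (.cons 3 (nat_lit 0xc0146)
 (.cons 1 (nat_lit 0x41000)
 (.cons 1 (nat_lit 0x492400)
 (.cons 1 (nat_lit 0x208240)
 (.cons 3 (nat_lit 0x100)
 (.cons 6 (nat_lit 0x30010)
 (.cons 12 (nat_lit 0x196)
 .nil)))))))))
noncomputable def a122 : Net := (.cons 12 (nat_lit 0x84a)
 (.cons 6 (nat_lit 0x10034)
 (.cons 3 (nat_lit 0x5080)
 (.cons 1 (nat_lit 0x90000)
 (.cons 1 (nat_lit 0x49)
 (.cons 3 (nat_lit 0x4080)
 (.cons 6 (nat_lit 0x10010)
 (.cons 12 (nat_lit 0x84a)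
 .nil))))))))
noncomputable def a123 : Net := (.cons 12 (nat_lit 0x262)
 (.cons 6 (nat_lit 0x3802c)
 (.cons 3 (nat_lit 0x182100)
 (.cons 1 (nat_lit 0x8)
 (.cons 1 (nat_lit 0x400090)
 (.cons 1 (nat_lit 0x48009)
 (.cons 3 (nat_lit 0x182100)
 (.cons 6 (nat_lit 0x18028)
 (.cons 12 (nat_lit 0x262)
 .nil)))))))))
noncomputable def a124 : Net := (.cons 12 (nat_lit 0x26a)
 (.cons 6 (nat_lit 0x2200a)
 (.cons 3 (nat_lit 0x46001)
 (.cons 1 (nat_lit 0x8)
 (.cons 1 (nat_lit 0x410092)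
 (.cons 1 (nat_lit 0x40209)
 (.cons 3 (nat_lit 0x180004)
 (.cons 6 (nat_lit 0x3402e)
 (.cons 12 (nat_lit 0x26a)
 .nil)))))))))
noncomputable def a125 : Net := (.cons 12 (nat_lit 0x26a)
 (.cons 6 (nat_lit 0x2200a)
 (.cons 3 (nat_lit 0x46001)
 (.cons 1 (nat_lit 0x8)
 (.cons 1 (nat_lit 0x410092)
 (.cons 1 (nat_lit 0x40209)
 (.cons 3 (nat_lit 0x180004)
 (.cons 6 (nat_lit 0x3402e)
 (.cons 12 (nat_lit 0x26a)
 .nil)))))))))
noncomputable def a126 : Net := (.cons 12 (nat_lit 0x27b)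
 (.cons 6 (nat_lit 0x2017)
 (.cons 3 (nat_lit 0x106003)
 (.cons 1 (nat_lit 0x1200)
 (.cons 1 (nat_lit 0x12492)
 (.cons 1 (nat_lit 0x8201)
 (.cons 3 (nat_lit 0x2)
 (.cons 6 (nat_lit 0x22012)
 (.cons 12 (nat_lit 0x676)
 .nil)))))))))
noncomputable def a127 : Net := (.cons 12 (nat_lit 0x262)
 (.cons 6 (nat_lit 0x3802c)
 (.cons 3 (nat_lit 0x182100)
 (.cons 1 (nat_lit 0x8)
 (.cons 1 (nat_lit 0x400090)
 (.cons 1 (nat_lit 0x48009)
 (.cons 3 (nat_lit 0x182100)
 (.cons 6 (nat_lit 0x18028)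
 (.cons 12 (nat_lit 0x262)
 .nil)))))))))
noncomputable def a128 : Net := (.cons 12 (nat_lit 0x84a)
 (.cons 6 (nat_lit 0x10034)
 (.cons 3 (nat_lit 0x5080)
 (.cons 1 (nat_lit 0x90000)
 (.cons 1 (nat_lit 0x49)
 (.cons 3 (nat_lit 0x4080)
 (.cons 6 (nat_lit 0x10010)
 (.cons 12 (nat_lit 0x84a)
 .nil))))))))
noncomputable def a129 : Net := (.cons 12 (nat_lit 0x8d8)
 (.cons 6 (nat_lit 0x12012)
 (.cons 3 (nat_lit 0x870c0)
 (.cons 1 (nat_lit 0x200000)
 (.cons 1 (nat_lit 0x412000)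
 (.cons 1 (nat_lit 0x240248)
 (.cons 3 (nat_lit 0x80000)
 (.cons 6 (nat_lit 0x12012)
 (.cons 12 (nat_lit 0x888)
 .nil)))))))))
noncomputable def a130 : Net := (.cons 12 (nat_lit 0xa5f)
 (.cons 6 (nat_lit 0x2)
 (.cons 3 (nat_lit 0x41003)
 (.cons 1 (nat_lit 0x1040)
 (.cons 1 (nat_lit 0x402080)
 (.cons 1 (nat_lit 0x9249)
 (.cons 3 (nat_lit 0x2000)
 (.cons 6 (nat_lit 0x2000a)
 (.cons 12 (nat_lit 0x24c)
 .nil)))))))))
noncomputable def a131 : Net := (.cons 12 (nat_lit 0x95a)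
 (.cons 6 (nat_lit 0x2c020)
 (.cons 3 (nat_lit 0xc6001)
 (.cons 1 (nat_lit 0x9001)
 (.cons 1 (nat_lit 0x412492)
 (.cons 1 (nat_lit 0x208008)
 (.cons 3 (nat_lit 0x102004)
 (.cons 6 (nat_lit 0x3802c)
 (.cons 12 (nat_lit 0xe24)
 .nil)))))))))
noncomputable def a132 : Net := (.cons 12 (nat_lit 0x9de)
 (.cons 6 (nat_lit 0x302e)
 (.cons 3 (nat_lit 0x83086)
 (.cons 1 (nat_lit 0x200000)
 (.cons 1 (nat_lit 0x410090)
 (.cons 1 (nat_lit 0x8208)
 (.cons 3 (nat_lit 0x82004)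
 (.cons 6 (nat_lit 0x28000)
 (.cons 12 (nat_lit 0x5ce)
 .nil)))))))))
noncomputable def a133 : Net := (.cons 12 (nat_lit 0x7ba)
 (.cons 6 (nat_lit 0x3903e)
 (.cons 3 (nat_lit 0x81004)
 (.cons 1 (nat_lit 0x40208)
 (.cons 1 (nat_lit 0x90412)
 (.cons 1 (nat_lit 0x41248)
 (.cons 3 (nat_lit 0x6002)
 (.cons 6 (nat_lit 0xa016)
 (.cons 12 (nat_lit 0xb78)
 .nil)))))))))
noncomputable def a134 : Net := (.cons 12 (nat_lit 0x244)
 (.cons 6 (nat_lit 0xb014)
 (.cons 3 (nat_lit 0x182180)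
 (.cons 1 (nat_lit 0x12)
 (.cons 1 (nat_lit 0x208040)
 (.cons 3 (nat_lit 0x82080)
 (.cons 6 (nat_lit 0x14)
 (.cons 12 (nat_lit 0x244)
 .nil))))))))
noncomputable def a135 : Net := (.cons 12 (nat_lit 0xe88)
 (.cons 6 (nat_lit 0x4030)
 (.cons 3 (nat_lit 0xc3080)
 (.cons 1 (nat_lit 0x40)
 (.cons 1 (nat_lit 0x490)
 (.cons 1 (nat_lit 0x40)
 (.cons 3 (nat_lit 0x80)
 (.cons 6 (nat_lit 0x30)
 (.cons 12 (nat_lit 0xe88)
 .nil)))))))))
noncomputable def a136 : Net := (.cons 12 (nat_lit 0x93c)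
 (.cons 6 (nat_lit 0x27010)
 (.cons 3 (nat_lit 0x801c2)
 (.cons 1 (nat_lit 0x208008)
 (.cons 1 (nat_lit 0x412412)
 (.cons 1 (nat_lit 0x9048)
 (.cons 3 (nat_lit 0x4182)
 (.cons 6 (nat_lit 0x2403c)
 (.cons 12 (nat_lit 0x354)
 .nil)))))))))
noncomputable def a137 : Net := (.cons 12 (nat_lit 0xb90)
 (.cons 6 (nat_lit 0xa022)
 (.cons 3 (nat_lit 0x106042)
 (.cons 1 (nat_lit 0x40040)
 (.cons 1 (nat_lit 0x490490)
 (.cons 1 (nat_lit 0x208200)
 (.cons 3 (nat_lit 0x2100)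
 (.cons 6 (nat_lit 0x20030)
 (.cons 12 (nat_lit 0x300)
 .nil)))))))))
noncomputable def a138 : Net := (.cons 12 (nat_lit 0xe56)
 (.cons 6 (nat_lit 0x2d030)
 (.cons 3 (nat_lit 0x100040)
 (.cons 1 (nat_lit 0x40)
 (.cons 1 (nat_lit 0x90090)
 (.cons 1 (nat_lit 0x9240)
 (.cons 3 (nat_lit 0x104004)
 (.cons 6 (nat_lit 0x2c038)
 (.cons 12 (nat_lit 0xdc6)
 .nil)))))))))
noncomputable def a139 : Net := (.cons 12 (nat_lit 0xb22)
 (.cons 6 (nat_lit 0x302c)
 (.cons 3 (nat_lit 0x83004)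
 (.cons 1 (nat_lit 0x8)
 (.cons 1 (nat_lit 0x80412)
 (.cons 1 (nat_lit 0x201208)
 (.cons 3 (nat_lit 0x2)
 (.cons 6 (nat_lit 0x1e03c)
 (.cons 12 (nat_lit 0xeea)
 .nil)))))))))
noncomputable def a140 : Net := (.cons 12 (nat_lit 0x58a)
 (.cons 6 (nat_lit 0x1700a)
 (.cons 3 (nat_lit 0x183042)
 (.cons 1 (nat_lit 0x1000)
 (.cons 1 (nat_lit 0x12400)
 (.cons 1 (nat_lit 0x249240)
 (.cons 6 (nat_lit 0x6010)
 (.cons 12 (nat_lit 0xbc2)
 .nil))))))))
noncomputable def a141 : Net := (.cons 12 (nat_lit 0xb02)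
 (.cons 6 (nat_lit 0x30012)
 (.cons 3 (nat_lit 0x1c4002)
 (.cons 1 (nat_lit 0x40200)
 (.cons 1 (nat_lit 0x480400)
 (.cons 1 (nat_lit 0x201240)
 (.cons 6 (nat_lit 0x30012)
 (.cons 12 (nat_lit 0xb02)
 .nil))))))))
noncomputable def a142 : Net := (.cons 12 (nat_lit 0xe54)
 (.cons 6 (nat_lit 0x2800c)
 (.cons 3 (nat_lit 0x183184)
 (.cons 1 (nat_lit 0x208)
 (.cons 1 (nat_lit 0x80490)
 (.cons 1 (nat_lit 0x200208)
 (.cons 3 (nat_lit 0x180184)
 (.cons 6 (nat_lit 0x28000)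
 (.cons 12 (nat_lit 0xe14)
 .nil)))))))))
noncomputable def a143 : Net := (.cons 12 (nat_lit 0x910)
 (.cons 6 (nat_lit 0x1d01a)
 (.cons 3 (nat_lit 0x1c2142)
 (.cons 1 (nat_lit 0x2090)
 (.cons 1 (nat_lit 0x41208)
 (.cons 3 (nat_lit 0x80)
 (.cons 6 (nat_lit 0xc002)
 (.cons 12 (nat_lit 0x408)
 .nil))))))))
noncomputable def a144 : Net := (.cons 12 (nat_lit 0x8a9)
 (.cons 6 (nat_lit 0x2403b)
 (.cons 3 (nat_lit 0x7004)
 (.cons 1 (nat_lit 0x208)
 (.cons 1 (nat_lit 0x400410)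
 (.cons 1 (nat_lit 0x200040)
 (.cons 3 (nat_lit 0x80004)
 (.cons 6 (nat_lit 0x4022)
 (.cons 12 (nat_lit 0x498)
 .nil)))))))))
noncomputable def a145 : Net := (.cons 12 (nat_lit 0x8a0)
 (.cons 6 (nat_lit 0x1000a)
 (.cons 3 (nat_lit 0x182100)
 (.cons 1 (nat_lit 0x8200)
 (.cons 1 (nat_lit 0x12400)
 (.cons 1 (nat_lit 0x48248)
 (.cons 3 (nat_lit 0x82100)
 (.cons 6 (nat_lit 0x1000a)
 (.cons 12 (nat_lit 0x820)
 .nil)))))))))
noncomputable def a146 : Net := (.cons 12 (nat_lit 0x408)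
 (.cons 6 (nat_lit 0x23026)
 (.cons 3 (nat_lit 0x7044)
 (.cons 1 (nat_lit 0x40008)
 (.cons 1 (nat_lit 0x80410)
 (.cons 1 (nat_lit 0x8040)
 (.cons 3 (nat_lit 0x80082)
 (.cons 6 (nat_lit 0x2001c)
 (.cons 12 (nat_lit 0x910)
 .nil)))))))))
noncomputable def a147 : Net := (.cons 12 (nat_lit 0xe88)
 (.cons 6 (nat_lit 0x4030)
 (.cons 3 (nat_lit 0xc3080)
 (.cons 1 (nat_lit 0x40)
 (.cons 1 (nat_lit 0x490)
 (.cons 1 (nat_lit 0x40)
 (.cons 3 (nat_lit 0x80)
 (.cons 6 (nat_lit 0x30)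
 (.cons 12 (nat_lit 0xe88)
 .nil)))))))))
noncomputable def a148 : Net := (.cons 12 (nat_lit 0x8a9)
 (.cons 6 (nat_lit 0x2403b)
 (.cons 3 (nat_lit 0x7004)
 (.cons 1 (nat_lit 0x208)
 (.cons 1 (nat_lit 0x400410)
 (.cons 1 (nat_lit 0x200040)
 (.cons 3 (nat_lit 0x80004)
 (.cons 6 (nat_lit 0x4022)
 (.cons 12 (nat_lit 0x498)
 .nil)))))))))
noncomputable def a149 : Net := (.cons 12 (nat_lit 0x5db)
 (.cons 6 (nat_lit 0x24036)
 (.cons 3 (nat_lit 0x107006)
 (.cons 1 (nat_lit 0x8000)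
 (.cons 1 (nat_lit 0x10082)
 (.cons 1 (nat_lit 0x200048)
 (.cons 3 (nat_lit 0x86086)
 (.cons 6 (nat_lit 0x4036)
 (.cons 12 (nat_lit 0xd4a)
 .nil)))))))))
noncomputable def a150 : Net := (.cons 12 (nat_lit 0x8a0)
 (.cons 6 (nat_lit 0x1000a)
 (.cons 3 (nat_lit 0x182100)
 (.cons 1 (nat_lit 0x8200)
 (.cons 1 (nat_lit 0x12400)
 (.cons 1 (nat_lit 0x48248)
 (.cons 3 (nat_lit 0x82100)
 (.cons 6 (nat_lit 0x1000a)
 (.cons 12 (nat_lit 0x820)
 .nil)))))))))
noncomputable def a151 : Net := (.cons 12 (nat_lit 0x116)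
 (.cons 6 (nat_lit 0x9026)
 (.cons 3 (nat_lit 0x1001c2)
 (.cons 1 (nat_lit 0x200)
 (.cons 1 (nat_lit 0x400480)
 (.cons 1 (nat_lit 0x201008)
 (.cons 3 (nat_lit 0x2102)
 (.cons 6 (nat_lit 0x8020)
 (.cons 12 (nat_lit 0xccc)
 .nil)))))))))
noncomputable def a152 : Net := (.cons 12 (nat_lit 0xe88)
 (.cons 6 (nat_lit 0x4030)
 (.cons 3 (nat_lit 0xc3080)
 (.cons 1 (nat_lit 0x40)
 (.cons 1 (nat_lit 0x490)
 (.cons 1 (nat_lit 0x40)
 (.cons 3 (nat_lit 0x80)
 (.cons 6 (nat_lit 0x30)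
 (.cons 12 (nat_lit 0xe88)
 .nil)))))))))
noncomputable def a153 : Net := (.cons 12 (nat_lit 0x90f)
 (.cons 6 (nat_lit 0x22032)
 (.cons 3 (nat_lit 0x47080)
 (.cons 1 (nat_lit 0x490400)
 (.cons 1 (nat_lit 0x40248)
 (.cons 3 (nat_lit 0x102)
 (.cons 6 (nat_lit 0x1e)
 (.cons 12 (nat_lit 0x3e8)
 .nil))))))))
noncomputable def a154 : Net := (.cons 12 (nat_lit 0x9a9)
 (.cons 6 (nat_lit 0x22009)
 (.cons 3 (nat_lit 0x182105)
 (.cons 1 (nat_lit 0x80410)
 (.cons 1 (nat_lit 0x208001)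
 (.cons 3 (nat_lit 0x102006)
 (.cons 6 (nat_lit 0x20)
 (.cons 12 (nat_lit 0xf92)
 .nil))))))))
noncomputable def a155 : Net := (.cons 12 (nat_lit 0x994)
 (.cons 6 (nat_lit 0x6020)
 (.cons 3 (nat_lit 0x2086)
 (.cons 1 (nat_lit 0x1000)
 (.cons 1 (nat_lit 0x402000)
 (.cons 1 (nat_lit 0x49008)
 (.cons 3 (nat_lit 0x2002)
 (.cons 6 (nat_lit 0x6020)
 (.cons 12 (nat_lit 0x984)
 .nil)))))))))
noncomputable def a156 : Net := (.cons 12 (nat_lit 0x408)
 (.cons 6 (nat_lit 0x23026)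
 (.cons 3 (nat_lit 0x7044)
 (.cons 1 (nat_lit 0x40008)
 (.cons 1 (nat_lit 0x80410)
 (.cons 1 (nat_lit 0x8040)
 (.cons 3 (nat_lit 0x80082)
 (.cons 6 (nat_lit 0x2001c)
 (.cons 12 (nat_lit 0x910)
 .nil)))))))))
noncomputable def a157 : Net := (.cons 12 (nat_lit 0xe88)
 (.cons 6 (nat_lit 0x4030)
 (.cons 3 (nat_lit 0xc3080)
 (.cons 1 (nat_lit 0x40)
 (.cons 1 (nat_lit 0x490)
 (.cons 1 (nat_lit 0x40)
 (.cons 3 (nat_lit 0x80)
 (.cons 6 (nat_lit 0x30)
 (.cons 12 (nat_lit 0xe88)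
 .nil)))))))))
noncomputable def a158 : Net := (.cons 12 (nat_lit 0x530)
 (.cons 6 (nat_lit 0x15023)
 (.cons 3 (nat_lit 0x1c4141)
 (.cons 1 (nat_lit 0x40001)
 (.cons 1 (nat_lit 0x90082)
 (.cons 1 (nat_lit 0x1209)
 (.cons 3 (nat_lit 0x186002)
 (.cons 6 (nat_lit 0x24030)
 (.cons 12 (nat_lit 0x612)
 .nil)))))))))
noncomputable def a159 : Net := (.cons 12 (nat_lit 0x8f)
 (.cons 6 (nat_lit 0x5003)
 (.cons 3 (nat_lit 0xc50c2)
 (.cons 1 (nat_lit 0x200040)
 (.cons 1 (nat_lit 0x480090)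
 (.cons 1 (nat_lit 0x41048)
 (.cons 3 (nat_lit 0x100000)
 (.cons 6 (nat_lit 0x801c)
 (.cons 12 (nat_lit 0xb12)
 .nil)))))))))
noncomputable def a160 : Net := (.cons 12 (nat_lit 0x250)
 (.cons 6 (nat_lit 0x19020)
 (.cons 3 (nat_lit 0x106185)
 (.cons 1 (nat_lit 0x2090)
 (.cons 1 (nat_lit 0x8200)
 (.cons 3 (nat_lit 0x6184)
 (.cons 6 (nat_lit 0x18020)
 (.cons 12 (nat_lit 0x250)
 .nil))))))))
noncomputable def a161 : Net := (.cons 12 (nat_lit 0xa10)
 (.cons 6 (nat_lit 0x1c014)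
 (.cons 3 (nat_lit 0x1c0081)
 (.cons 1 (nat_lit 0x10082)
 (.cons 1 (nat_lit 0x240200)
 (.cons 3 (nat_lit 0x80)
 (.cons 6 (nat_lit 0x1c014)
 (.cons 12 (nat_lit 0xa10)
 .nil))))))))
noncomputable def a162 : Net := (.cons 12 (nat_lit 0xdb)
 (.cons 6 (nat_lit 0xf019)
 (.cons 3 (nat_lit 0x102102)
 (.cons 1 (nat_lit 0x200201)
 (.cons 1 (nat_lit 0x410482)
 (.cons 1 (nat_lit 0x248009)
 (.cons 3 (nat_lit 0x180002)
 (.cons 6 (nat_lit 0x1c01c)
 (.cons 12 (nat_lit 0x86)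
 .nil)))))))))
noncomputable def a163 : Net := (.cons 12 (nat_lit 0xdb)
 (.cons 6 (nat_lit 0xf019)
 (.cons 3 (nat_lit 0x102102)
 (.cons 1 (nat_lit 0x200201)
 (.cons 1 (nat_lit 0x410482)
 (.cons 1 (nat_lit 0x248009)
 (.cons 3 (nat_lit 0x180002)
 (.cons 6 (nat_lit 0x1c01c)
 (.cons 12 (nat_lit 0x86)
 .nil)))))))))
noncomputable def a164 : Net := (.cons 12 (nat_lit 0xe94)
 (.cons 6 (nat_lit 0x12)
 (.cons 3 (nat_lit 0xc1101)
 (.cons 1 (nat_lit 0x201000)
 (.cons 1 (nat_lit 0x482402)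
 (.cons 1 (nat_lit 0x200040)
 (.cons 3 (nat_lit 0x182104)
 (.cons 6 (nat_lit 0x8036)
 (.cons 12 (nat_lit 0x7c2)
 .nil)))))))))
noncomputable def a165 : Net := (.cons 12 (nat_lit 0x250)
 (.cons 6 (nat_lit 0x19020)
 (.cons 3 (nat_lit 0x106185)
 (.cons 1 (nat_lit 0x2090)
 (.cons 1 (nat_lit 0x8200)
 (.cons 3 (nat_lit 0x6184)
 (.cons 6 (nat_lit 0x18020)
 (.cons 12 (nat_lit 0x250)
 .nil))))))))
noncomputable def a166 : Net := (.cons 12 (nat_lit 0x244)
 (.cons 6 (nat_lit 0xb014)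
 (.cons 3 (nat_lit 0x182180)
 (.cons 1 (nat_lit 0x12)
 (.cons 1 (nat_lit 0x208040)
 (.cons 3 (nat_lit 0x82080)
 (.cons 6 (nat_lit 0x14)
 (.cons 12 (nat_lit 0x244)
 .nil))))))))
noncomputable def ns0 : List Net := [a0, a1, a2]
noncomputable def ws : List (List ℕ) :=
  [W (nat_lit 0x100100404),
  W (nat_lit 0x100408),
  W (nat_lit 0x70080800407),
  W (nat_lit 0x240c0280a02c0a0280a),
  W (nat_lit 0x90300c),
  W (nat_lit 0xe0380f),
  W (nat_lit 0xe04010),
  W (nat_lit 0x4812),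
  W (nat_lit 0x3008040040601006),
  W (nat_lit 0x50080200c06),
  W (nat_lit 0x1a06019),
  W (nat_lit 0x641905c1a05c1a),
  W (nat_lit 0x781b06c1e0781b),
  W (nat_lit 0x1b0781b),
  W (nat_lit 0x7c1f08820),
  W (nat_lit 0x2108421),
  W (nat_lit 0x9024),
  W (nat_lit 0x601a),
  W (nat_lit 0x641706817),
  W (nat_lit 0x290a42b),
  W (nat_lit 0x2c0a4290ac29),
  W (nat_lit 0x300b8300b82e0c02e),
  W (nat_lit 0x300b42d0c02e0bc2e),
  W (nat_lit 0x1103812024120041400c08),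
  W (nat_lit 0x5411038090080200c0b),
  W (nat_lit 0x1504413034100241200802),
  W (nat_lit 0xd4390dc36),
  W (nat_lit 0xe43c),
  W (nat_lit 0xe43b0e83c),
  W (nat_lit 0xf43f0f840),
  W (nat_lit 0xfc37),
  W (nat_lit 0x410f43f0d437),
  W (nat_lit 0x1104c0d0240e),
  W (nat_lit 0x1b06c1e),
  W (nat_lit 0x1d0741b),
  W (nat_lit 0x1244c),
  W (nat_lit 0x4a12c4b),
  W (nat_lit 0x8c1f0702105c1e),
  W (nat_lit 0x9c2507c1b0881a01423),
  W (nat_lit 0x9c250781708803),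
  W (nat_lit 0x9c23080270741708803),
  W (nat_lit 0x230941c00c03),
  W (nat_lit 0x9c250802705c2200c03),
  W (nat_lit 0x2507c240701e05c1d),
  W (nat_lit 0x521505d16455168561785e1505516c571505a17453),
  W (nat_lit 0x5316c5d154531585616c55164571705a14c5316455),
  W (nat_lit 0x18060),
  W (nat_lit 0x18860),
  W (nat_lit 0x18c6518c65),
  W (nat_lit 0x2507c240701e05c1d),
  W (nat_lit 0x9c2006c1b05c2101403),
  W (nat_lit 0x250741707803),
  W (nat_lit 0xd0400b0080f00c0b),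
  W (nat_lit 0x1104c0d0280200c0b),
  W (nat_lit 0x1c0721c0721bc6f),
  W (nat_lit 0x701c46f),
  W (nat_lit 0x751cc73),
  W (nat_lit 0x1d475),
  W (nat_lit 0x1e4781e477),
  W (nat_lit 0x1e479),
  W (nat_lit 0x1e87b1bc6f),
  W (nat_lit 0x1f47a),
  W (nat_lit 0x7d1e8771d070),
  W (nat_lit 0x7f20c80),
  W (nat_lit 0x8520886),
  W (nat_lit 0x2208222082),
  W (nat_lit 0x20487),
  W (nat_lit 0x21484),
  W (nat_lit 0x2247f),
  W (nat_lit 0x1c4721bc721c071),
  W (nat_lit 0x1c86f1c46f1c0711c072),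
  W (nat_lit 0x1c4701c06f1c86f),
  W (nat_lit 0x2549124c96),
  W (nat_lit 0x24c9125492),
  W (nat_lit 0x9826099),
  W (nat_lit 0x26497),
  W (nat_lit 0x26c9e26c9e),
  W (nat_lit 0x2248121c7f),
  W (nat_lit 0x2248721883),
  W (nat_lit 0x21c7f),
  W (nat_lit 0x892047f),
  W (nat_lit 0x288a4294a4290a6288a4294a3288a7294a3),
  W (nat_lit 0x290a42a0a328ca228ca7284a529ca3),
  W (nat_lit 0x2a8aa),
  W (nat_lit 0xad2a4a1),
  W (nat_lit 0x2b4a92aca1),
  W (nat_lit 0x2b4a1),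
  [],
  W (nat_lit 0x20c811fc8220880),
  W (nat_lit 0x8220c8320880),
  W (nat_lit 0x2e0ba2dcb9),
  W (nat_lit 0x4413038120041400c02),
  W (nat_lit 0x540d0240203c03),
  W (nat_lit 0xbd2fcbd2f4c02f8be),
  W (nat_lit 0x300c0),
  W (nat_lit 0x304c130cc2),
  W (nat_lit 0x80202008),
  W (nat_lit 0x2020080080201c01),
  W (nat_lit 0xca320c9),
  W (nat_lit 0xc7328c8),
  W (nat_lit 0x334cc334cb),
  W (nat_lit 0xcc338cb),
  W (nat_lit 0xd133ccf),
  W (nat_lit 0xc5310bd),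
  W (nat_lit 0x310c42f4c3),
  W (nat_lit 0x35cd5360d8),
  W (nat_lit 0xd6358d8358d6),
  W (nat_lit 0x2f4c02f4bf2fcbe300be),
  W (nat_lit 0x2f4c02f8be2fcbe2f4bd),
  W (nat_lit 0x37cde),
  W (nat_lit 0xde380dd),
  W (nat_lit 0xe338ce1390e4),
  W (nat_lit 0xdb364db364db354db),
  W (nat_lit 0x358d6),
  W (nat_lit 0x3a4e73a8e7),
  W (nat_lit 0xe73a4e8),
  W (nat_lit 0xec3b4ec3b8ec),
  W (nat_lit 0x13038120240e00803),
  W (nat_lit 0xdb358d6),
  W (nat_lit 0x314bd),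
  W (nat_lit 0x364d5),
  W (nat_lit 0x13038120240e00803),
  W (nat_lit 0x13038120240e00803),
  W (nat_lit 0xf43c4f3),
  W (nat_lit 0x364d5),
  W (nat_lit 0xdb364db364d5),
  W (nat_lit 0x40500),
  W (nat_lit 0x1104c090240700c01),
  W (nat_lit 0xd03c090380200c02),
  W (nat_lit 0x4150541d0741907),
  W (nat_lit 0x4190741906),
  W (nat_lit 0x4310c),
  W (nat_lit 0x4310c4310a),
  W (nat_lit 0x40800407),
  W (nat_lit 0x10200802008),
  W (nat_lit 0x4511244d11),
  W (nat_lit 0x4511144d1244912),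
  W (nat_lit 0x4551546115),
  W (nat_lit 0x1154611845918),
  W (nat_lit 0x4711a),
  W (nat_lit 0x4350f),
  W (nat_lit 0x10d43d0941507),
  W (nat_lit 0x4892248121),
  W (nat_lit 0x12247d2247d22),
  W (nat_lit 0x49924),
  W (nat_lit 0x41907421064210541507),
  W (nat_lit 0x41906421084150541d07),
  W (nat_lit 0x12a4b12c),
  W (nat_lit 0x4a92b4a52c),
  W (nat_lit 0x4bd2f4bd2e),
  W (nat_lit 0x127495254891f),
  W (nat_lit 0x12748520),
  W (nat_lit 0x1344d5334cd36),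
  W (nat_lit 0x1354d1364cd36),
  W (nat_lit 0x4e5394e13a),
  W (nat_lit 0x13034090400105003),
  W (nat_lit 0x12549521),
  W (nat_lit 0x43d0d43d0d43d0942106),
  W (nat_lit 0x49522),
  W (nat_lit 0x540e048090380200803),
  W (nat_lit 0x540e048090380200803),
  W (nat_lit 0x1404f53f),
  W (nat_lit 0x49d2549522),
  W (nat_lit 0x49d25)]
noncomputable def ns : List Net := [a0, a1, a2, a3, a4, a5, a6, a7, a8, a9, a10, a11, a12, a13, a14, a15, a16, a17, a18, a19, a20, a21, a22, a23, a24, a25, a26, a27, a28, a29, a30, a31, a32, a33, a34, a35, a36, a37, a38, a39, a40, a41, a42, a43, a44, a45, a46, a47, a48, a49, a50, a51, a52, a53, a54, a55, a56, a57, a58, a59, a60, a61, a62, a63, a64, a65, a66, a67, a68, a69, a70, a71, a72, a73, a74, a75, a76, a77, a78, a79, a80, a81, a82, a83, a84, a85, a86, a87, a88, a89, a90, a91, a92, a93, a94, a95, a96, a97, a98, a99, a100, a101, a102, a103, a104, a105, a106, a107, a108, a109, a110,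 a111, a112, a113, a114, a115, a116, a117, a118, a119, a120, a121, a122, a123, a124, a125, a126, a127, a128, a129, a130, a131, a132, a133, a134, a135, a136, a137, a138, a139, a140, a141, a142, a143, a144, a145, a146, a147, a148, a149, a150, a151, a152, a153, a154, a155, a156, a157, a158, a159, a160, a161, a162, a163, a164, a165, a166]
noncomputable def D : List (ℕ × List ℕ) := app [] (mkDefs ws 3)
noncomputable def chk : List (List ℕ × List ℕ) → Bool := P.relsB ns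
noncomputable def zt0 : List ℕ :=
  []
noncomputable def zcj1 : List (List ℕ) :=
  []
noncomputable def zus4 : List (List ℕ) :=
  [[16],
  [18],
  W (nat_lit 0x4413)]
noncomputable def zF5 : List (List (ℕ × List ℕ)) :=
  [[(1, []),
   (0, [20]),
   (3, [20]),
   (2, [])],
  [(2, []),
   (3, []),
   (0, [20]),
   (1, [20])]]
noncomputable def zus8 : List (List ℕ) :=
  [[12],
  [13],
  [14],
  [15],
  W (nat_lit 0x340f),
  W (nat_lit 0x3410),
  W (nat_lit 0x3414),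
  W (nat_lit 0x3812)]
noncomputable def zF9 : List (List (ℕ × List ℕ)) :=
  [[(1, []),
   (4, [16]),
   (0, []),
   (5, [20]),
   (2, W (nat_lit 0x5411)),
   (8, [18]),
   (6, W (nat_lit 0x5413)),
   (3, W (nat_lit 0x1504413)),
   (7, [16])],
  [(3, []),
   (5, []),
   (4, [18]),
   (2, W (nat_lit 0x5413)),
   (0, []),
   (8, W (nat_lit 0x5411)),
   (1, []),
   (7, W (nat_lit 0x5411)),
   (6, [16])]]
noncomputable def zus12 : List (List ℕ) :=
  [[8],
  [9],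
  [10],
  W (nat_lit 0x2409),
  W (nat_lit 0x240f),
  W (nat_lit 0x2410),
  W (nat_lit 0x240e),
  W (nat_lit 0x2810),
  W (nat_lit 0x2412)]
noncomputable def zF13 : List (List (ℕ × List ℕ)) :=
  [[(1, []),
   (4, []),
   (0, []),
   (2, W (nat_lit 0x441303410)),
   (7, W (nat_lit 0x1103410)),
   (8, [15]),
   (3, [14]),
   (9, W (nat_lit 0x1503414)),
   (5, W (nat_lit 0x1504c0f)),
   (6, W (nat_lit 0x3410))],
  [(3, []),
   (0, [14]),
   (4, W (nat_lit 0x1504c0f)),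
   (1, [15]),
   (5, []),
   (2, W (nat_lit 0x1503812)),
   (6, W (nat_lit 0x4c0e)),
   (8, W (nat_lit 0x54130340f)),
   (9, [18]),
   (7, W (nat_lit 0x150440e))]]
noncomputable def zus16 : List (List ℕ) :=
  [[6],
  [7],
  [1],
  [0],
  W (nat_lit 0x415),
  W (nat_lit 0x802),
  W (nat_lit 0x2008),
  W (nat_lit 0x809),
  W (nat_lit 0x414),
  W (nat_lit 0x80f)]
noncomputable def zF17 : List (List (ℕ × List ℕ)) :=
  [[(1, []),
   (5, W (nat_lit 0x440e02410)),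
   (0, []),
   (6, [8]),
   (3, W (nat_lit 0x150441303812)),
   (9, W (nat_lit 0x54130341002810)),
   (7, W (nat_lit 0x440d03c0a)),
   (2, []),
   (4, []),
   (10, W (nat_lit 0x150380a)),
   (8, W (nat_lit 0x44130340b))],
  [(3, []),
   (4, [9]),
   (8, [15]),
   (6, []),
   (0, []),
   (7, W (nat_lit 0x1503c0a)),
   (1, [8]),
   (9, W (nat_lit 0x541104c0e)),
   (5, W (nat_lit 0x1504c0f)),
   (2, W (nat_lit 0x150380a)),
   (10, W (nat_lit 0x15044130341002810))]]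
noncomputable def zus20 : List (List ℕ) :=
  [[2],
  [3],
  W (nat_lit 0xc01),
  W (nat_lit 0xc02),
  W (nat_lit 0xc03),
  W (nat_lit 0xc0b),
  W (nat_lit 0x1004),
  W (nat_lit 0x1007),
  W (nat_lit 0x100d),
  W (nat_lit 0x100e),
  W (nat_lit 0xc08)]
noncomputable def zF21 : List (List (ℕ × List ℕ)) :=
  [[(0, [0]),
   (3, []),
   (4, [6]),
   (6, W (nat_lit 0x4c0d0400b0080f)),
   (1, []),
   (5, W (nat_lit 0x440f0240f00809)),
   (2, W (nat_lit 0x340904802)),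
   (11, W (nat_lit 0x44130380b00802)),
   (10, W (nat_lit 0x4c0d03c0a0080f)),
   (8, W (nat_lit 0x150440d0400b00802)),
   (7, W (nat_lit 0x54130380a00809)),
   (9, W (nat_lit 0x15044130400902407))],
  [(1, []),
   (5, []),
   (0, []),
   (8, W (nat_lit 0x5413034100240f00414)),
   (10, W (nat_lit 0x15044130381200802)),
   (11, W (nat_lit 0x4c0d0241200802)),
   (6, W (nat_lit 0x4c0f02407)),
   (2, []),
   (9, W (nat_lit 0x1104c0d03c0a00809)),
   (3, W (nat_lit 0x440d02412)),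
   (4, W (nat_lit 0x54130281000414)),
   (7, W (nat_lit 0x541104c0e0240e00414))]]
noncomputable def GM_v0 : Lev :=
  ⟨0, 12, sg (W (nat_lit 0xc0100c0100403)), [[6], [1]], 0, 1⟩
noncomputable def GM_v1 : Lev :=
  ⟨1, 11, sg (W (nat_lit 0x701c0700807)), [[8], [10]], 1, 2⟩
noncomputable def GM_v2 : Lev :=
  ⟨2, 10, sg (W (nat_lit 0x240902c0902c09)), [[12], [14]], 3, 2⟩
noncomputable def GM_v3 : Lev :=
  ⟨3, 9, sg (W (nat_lit 0xf0340d03c0d)), [[16], [18]], 5, 2⟩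
noncomputable def GM_v4 : Lev :=
  ⟨5, 4, sg (W (nat_lit 0x4c11)), [[20]], 7, 1⟩
noncomputable def GM_v5 : Lev :=
  ⟨4, 2, sg [20], [], 8, 0⟩
noncomputable def GM_vs6 : List Lev :=
  []
noncomputable def GM_vs5 : List Lev :=
  GM_v5 :: GM_vs6
noncomputable def GM_vs4 : List Lev :=
  GM_v4 :: GM_vs5
noncomputable def GM_vs3 : List Lev :=
  GM_v3 :: GM_vs4
noncomputable def GM_vs2 : List Lev :=
  GM_v2 :: GM_vs3
noncomputable def GM_vs1 : List Lev :=
  GM_v1 :: GM_vs2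
noncomputable def GM_vs : List Lev :=
  GM_v0 :: GM_vs1
noncomputable def zt25 : List ℕ :=
  []
noncomputable def zcj26 : List (List ℕ) :=
  []
noncomputable def zus29 : List (List ℕ) :=
  [[34],
  [36],
  W (nat_lit 0x8c25)]
noncomputable def zF30 : List (List (ℕ × List ℕ)) :=
  [[(1, []),
   (0, [38]),
   (3, [38]),
   (2, [])],
  [(2, []),
   (3, []),
   (0, [38]),
   (1, [38])]]
noncomputable def zus33 : List (List ℕ) :=
  [[30],
  [31],
  W (nat_lit 0x7c1f),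
  W (nat_lit 0x7c22),
  W (nat_lit 0x7c23),
  W (nat_lit 0x7c24),
  W (nat_lit 0x7c27),
  W (nat_lit 0x8027)]
noncomputable def zF34 : List (List (ℕ × List ℕ)) :=
  [[(1, []),
   (3, []),
   (0, []),
   (2, []),
   (4, W (nat_lit 0x2708c25)),
   (6, W (nat_lit 0x8c25)),
   (8, W (nat_lit 0x9c25)),
   (5, W (nat_lit 0x9c25)),
   (7, W (nat_lit 0x2708c25))],
  [(0, W (nat_lit 0x9c25)),
   (3, W (nat_lit 0x9c23)),
   (5, W (nat_lit 0x8c25)),
   (7, [34]),
   (1, []),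
   (8, W (nat_lit 0x2708c25)),
   (2, W (nat_lit 0x2708c25)),
   (4, []),
   (6, W (nat_lit 0x8c25))]]
noncomputable def zus37 : List (List ℕ) :=
  [[26],
  [27],
  [28],
  [29],
  W (nat_lit 0x6c1b),
  W (nat_lit 0x6c1d),
  W (nat_lit 0x701e),
  W (nat_lit 0x6c22),
  W (nat_lit 0x7021)]
noncomputable def zF38 : List (List (ℕ × List ℕ)) :=
  [[(1, []),
   (5, []),
   (0, []),
   (8, W (nat_lit 0x2307c27)),
   (9, []),
   (7, W (nat_lit 0x9c2507c1f)),
   (2, W (nat_lit 0x9c1f)),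
   (4, W (nat_lit 0x2309420)),
   (3, []),
   (6, W (nat_lit 0x7c22))],
  [(3, []),
   (6, []),
   (1, [36]),
   (9, W (nat_lit 0x2708c2507c1f)),
   (0, []),
   (4, W (nat_lit 0x9c2507c24)),
   (8, W (nat_lit 0x8c2508027)),
   (2, []),
   (7, W (nat_lit 0x2707c24)),
   (5, W (nat_lit 0x8c25))]]
noncomputable def zus41 : List (List ℕ) :=
  [[22],
  [24],
  [25],
  W (nat_lit 0x6417),
  W (nat_lit 0x5c23),
  W (nat_lit 0x5c1d),
  W (nat_lit 0x5c21),
  W (nat_lit 0x641e),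
  W (nat_lit 0x5c22),
  W (nat_lit 0x5c1e)]
noncomputable def zF42 : List (List (ℕ × List ℕ)) :=
  [[(1, []),
   (0, W (nat_lit 0x9c230941f0901d)),
   (4, []),
   (3, [27]),
   (7, W (nat_lit 0x7c22)),
   (2, W (nat_lit 0x2708c1f09c1d)),
   (9, W (nat_lit 0x250801b)),
   (10, W (nat_lit 0x8c1f07c1b)),
   (5, W (nat_lit 0x9c230941f0701e)),
   (8, W (nat_lit 0x9c2307c1b)),
   (6, W (nat_lit 0x9c2507c27))],
  [(2, []),
   (1, W (nat_lit 0x7c270701e)),
   (6, W (nat_lit 0x2708c2009c1d)),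
   (0, []),
   (4, W (nat_lit 0x2708c1e)),
   (9, W (nat_lit 0x8c2507c1e)),
   (3, W (nat_lit 0x230941f06c1b)),
   (7, W (nat_lit 0x9c23)),
   (5, W (nat_lit 0x2707c2406c1d)),
   (10, W (nat_lit 0x8c2507c2306c22)),
   (8, W (nat_lit 0x701e))]]
noncomputable def zrs45 : List (ℕ × List ℕ) :=
  [(1, W (nat_lit 0x608c06)),
  (7, [5])]
noncomputable def GA_v0 : Lev :=
  ⟨0, 24, sg (W (nat_lit 0x100c050040301403)), [[22], [24]], 8, 2⟩
noncomputable def GA_v1 : Lev :=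
  ⟨1, 11, sg (W (nat_lit 0x1705c1905c1906417)), [[26], [28]], 10, 2⟩
noncomputable def GA_v2 : Lev :=
  ⟨2, 10, sg (W (nat_lit 0x1b0741b0741b)), [[30], [32]], 12, 2⟩
noncomputable def GA_v3 : Lev :=
  ⟨3, 9, sg (W (nat_lit 0x210842107c1f)), [[34], [36]], 14, 2⟩
noncomputable def GA_v4 : Lev :=
  ⟨5, 4, sg (W (nat_lit 0x9423)), [[38]], 16, 1⟩
noncomputable def GA_v5 : Lev :=
  ⟨4, 2, sg [38], [], 17, 0⟩
noncomputable def GA_vs6 : List Lev :=
  []
noncomputable def GA_vs5 : List Lev :=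
  GA_v5 :: GA_vs6
noncomputable def GA_vs4 : List Lev :=
  GA_v4 :: GA_vs5
noncomputable def GA_vs3 : List Lev :=
  GA_v3 :: GA_vs4
noncomputable def GA_vs2 : List Lev :=
  GA_v2 :: GA_vs3
noncomputable def GA_vs1 : List Lev :=
  GA_v1 :: GA_vs2
noncomputable def GA_vs : List Lev :=
  GA_v0 :: GA_vs1
noncomputable def zcj47 : List (List ℕ) :=
  [W (nat_lit 0x8c1b07417),
  W (nat_lit 0x8c1f0881d05c22)]
noncomputable def GA_w0_2_v0 : Lev :=
  ⟨7, 12, sg (W (nat_lit 0x17064170641705c17)), [[40], [42]], 17, 2⟩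
noncomputable def GA_w0_2_v1 : Lev :=
  ⟨1, 11, sg (W (nat_lit 0x290ac290ac29)), [[44], [46]], 19, 2⟩
noncomputable def GA_w0_2_v2 : Lev :=
  ⟨2, 10, sg (W (nat_lit 0x2d0bc2d0bc2d)), [[48], [50]], 21, 2⟩
noncomputable def GA_w0_2_v3 : Lev :=
  ⟨3, 6, sg (W (nat_lit 0x310cc31)), [], 23, 0⟩
noncomputable def GA_w0_2_vs4 : List Lev :=
  []
noncomputable def GA_w0_2_vs3 : List Lev :=
  GA_w0_2_v3 :: GA_w0_2_vs4
noncomputable def GA_w0_2_vs2 : List Lev :=
  GA_w0_2_v2 :: GA_w0_2_vs3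
noncomputable def GA_w0_2_vs1 : List Lev :=
  GA_w0_2_v1 :: GA_w0_2_vs2
noncomputable def GA_w0_2_vs : List Lev :=
  GA_w0_2_v0 :: GA_w0_2_vs1
noncomputable def zcj51 : List (List ℕ) :=
  [W (nat_lit 0x7c2406c1b06417),
  W (nat_lit 0x270942006c2206417)]
noncomputable def zB54 : List BG :=
  [⟨[5], [([40], W (nat_lit 0x7c2406c1b06417)), ([42], W (nat_lit 0x270942006c2206417))],
  [([⟨[], [], 2, []⟩], []),
   ([⟨[], [34], 2, []⟩], W (nat_lit 0x10080100801)),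
   ([⟨[], [], 0, []⟩,
    ⟨[22], [22], 1, W (nat_lit 0x9c2507c2706417)⟩], W (nat_lit 0x10080100801))]⟩]
noncomputable def zE55 : List (ℕ × List ℕ) :=
  [(0, W (nat_lit 0x2708c1f07c1b05c21)),
  (2, W (nat_lit 0x9c2507c2406c1905c0606006))]
noncomputable def zm60 : ℕ :=
  (nat_lit 0x420041)
noncomputable def zm61 : ℕ :=
  (nat_lit 0x220)
noncomputable def zm62 : ℕ :=
  (nat_lit 0x602320)
noncomputable def zm63 : ℕ :=
  (nat_lit 0x94a2a)
noncomputable def cL_F : List (List ℕ × ℕ × ℕ) :=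
  [([0], zm60, zm60),
  ([2], zm61, zm61),
  (W (nat_lit 0xc03), zm62, zm62),
  (W (nat_lit 0x300c03), zm63, zm63)]
noncomputable def cLG_v0 : Lev :=
  ⟨0, 24, sg (W (nat_lit 0x100c050040301403)), [[22], [24]], 8, 2⟩
noncomputable def cLG_v1 : Lev :=
  ⟨7, 12, sg (W (nat_lit 0x17064170641705c17)), [[40], [42]], 17, 2⟩
noncomputable def cLG_v2 : Lev :=
  ⟨1, 11, sg (W (nat_lit 0x290ac290ac29)), [[44], [46]], 19, 2⟩
noncomputable def cLG_v3 : Lev :=
  ⟨2, 10, sg (W (nat_lit 0x2d0bc2d0bc2d)), [[48], [50]], 21, 2⟩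
noncomputable def cLG_v4 : Lev :=
  ⟨3, 6, sg (W (nat_lit 0x310cc31)), [], 23, 0⟩
noncomputable def cLG_vs5 : List Lev :=
  []
noncomputable def cLG_vs4 : List Lev :=
  cLG_v4 :: cLG_vs5
noncomputable def cLG_vs3 : List Lev :=
  cLG_v3 :: cLG_vs4
noncomputable def cLG_vs2 : List Lev :=
  cLG_v2 :: cLG_vs3
noncomputable def cLG_vs1 : List Lev :=
  cLG_v1 :: cLG_vs2
noncomputable def cLG_vs : List Lev :=
  cLG_v0 :: cLG_vs1
noncomputable def cL_x : List (ℕ × List ℕ) :=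
  [((nat_lit 0), []),
  ((nat_lit 0), []),
  ((nat_lit 0), []),
  ((nat_lit 0), []),
  ((nat_lit 0), [])]
noncomputable def cL_G : Gl :=
  ⟨P, ns, (app D []), (diag [[0], [2]]), [], [], memM (app D []) [], true⟩
noncomputable def cL_s : St :=
  ⟨(mkS P.n cLG_vs cL_x), [[0], [2], [4]], [], mapL Prod.snd cL_F, memM (app D []) [], []⟩
noncomputable def zt67 : ST :=
  (.img (W (nat_lit 0x1001)) 2 (.and 1 0 (.br 0 [] [] [(0, [])] (.cons (.img [0] 4 (.dif 0 7 (.br 0 [] [] [(7, [])] (.cons (.img (W (nat_lit 0x1001)) 7 (.and 10 0 (.br 0 [] [] [(1, [])] (.cons (.img [3] 7 (.br 0 [] [] [(2, [])] (.cons (.img [0] 3 (.br 0 [] [] [(3, [])] (.cons .fnd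
 .nil)))
 .nil)))
 .nil))))
 .nil))))
 .nil))))
noncomputable def S_ps : List PcG :=
  [⟨[56], 2, W (nat_lit 0xdc43), [[54], W (nat_lit 0x10443), [52], [68], [64]]⟩,
  ⟨[66], 2, [], [W (nat_lit 0x10437), W (nat_lit 0x10445), W (nat_lit 0x10435), [64]]⟩,
  ⟨[54], 2, [], [W (nat_lit 0x10445), W (nat_lit 0x10435), [64]]⟩,
  ⟨[68], 2, [64], [W (nat_lit 0x10435), [64]]⟩,
  ⟨[52], 2, [64], [[64]]⟩,
  ⟨[64], 2, [], []⟩]
noncomputable def S_v0 : Lev :=
  ⟨0, 4, sg (W (nat_lit 0xdc35)), [[58], [56]], 26, 1⟩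
noncomputable def S_v1 : Lev :=
  ⟨1, 2, sg [58], [[60], [62]], 27, 2⟩
noncomputable def S_v2 : Lev :=
  ⟨11, 4, sg (W (nat_lit 0xfc3d)), [[64]], 29, 1⟩
noncomputable def S_v3 : Lev :=
  ⟨2, 2, sg [64], [], 30, 0⟩
noncomputable def S_vs4 : List Lev :=
  []
noncomputable def S_vs3 : List Lev :=
  S_v3 :: S_vs4
noncomputable def S_vs2 : List Lev :=
  S_v2 :: S_vs3
noncomputable def S_vs1 : List Lev :=
  S_v1 :: S_vs2
noncomputable def S_vs : List Lev :=
  S_v0 :: S_vs1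
noncomputable def zts74 : List (List ℕ) :=
  [W (nat_lit 0x1103812024120041400c08),
  W (nat_lit 0x5411038090080200c0b),
  W (nat_lit 0x1504413034100241200802)]
noncomputable def zm77 : ℕ :=
  (nat_lit 0x201)
noncomputable def cS_F : List (List ℕ × ℕ × ℕ) :=
  [([4], zm77, zm77)]
noncomputable def cSG_v0 : Lev :=
  ⟨0, 24, sg (W (nat_lit 0x100c050040301403)), [[22], [24]], 8, 2⟩
noncomputable def cSG_v1 : Lev :=
  ⟨1, 11, sg (W (nat_lit 0x1705c1905c1906417)), [[26], [28]], 10, 2⟩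
noncomputable def cSG_v2 : Lev :=
  ⟨9, 10, sg (W (nat_lit 0x741b0741b)), [[72], [74]], 33, 2⟩
noncomputable def cSG_v3 : Lev :=
  ⟨18, 9, sg (W (nat_lit 0x12c491244912c49)), [[76], [78]], 35, 2⟩
noncomputable def cSG_v4 : Lev :=
  ⟨2, 8, sg (W (nat_lit 0x1344d13c4d)), [], 37, 0⟩
noncomputable def cSG_vs5 : List Lev :=
  []
noncomputable def cSG_vs4 : List Lev :=
  cSG_v4 :: cSG_vs5
noncomputable def cSG_vs3 : List Lev :=
  cSG_v3 :: cSG_vs4
noncomputable def cSG_vs2 : List Lev :=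
  cSG_v2 :: cSG_vs3
noncomputable def cSG_vs1 : List Lev :=
  cSG_v1 :: cSG_vs2
noncomputable def cSG_vs : List Lev :=
  cSG_v0 :: cSG_vs1
noncomputable def cS_x : List (ℕ × List ℕ) :=
  [((nat_lit 0x2002), []),
  ((nat_lit 0x1000), []),
  ((nat_lit 0x6000), []),
  ((nat_lit 0x5000000000), []),
  ((nat_lit 0xc000000000), [(nat_lit 0x1315c)]),
  ((nat_lit 0), [(nat_lit 0x100),
   (nat_lit 0x10000)])]
noncomputable def cS_G : Gl :=
  ⟨P, ns, (app D []), (diag [[52], [54], [56]]), [], [], memM (app D []) [[70]], true⟩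
noncomputable def cS_s : St :=
  ⟨(mkS P.n cSG_vs cS_x), [[0], [2], [4]], [], mapL Prod.snd cS_F, memM (app D []) [[70]], []⟩
noncomputable def zt81 : ST :=
  (.br 0 [] [] [(9, W (nat_lit 0xc1c)), (0, [])] (.cons (.img (W (nat_lit 0xc01)) 0 (.br 0 [] [] [(18, [25])] (.cons (.img [0] 0 (.br 0 [] [] [(0, W (nat_lit 0x6c1e))] (.cons (.img [0] 4 (.br 0 [] [] [(1, W (nat_lit 0x1284e))] (.cons (.orb 0 (.br 0 [[70]] [0] [(2, W (nat_lit 0x1344d)), (3, W (nat_lit 0x13450)), (6, [78]), (12, [77])] (.cons (.img [1] 0 (.orb 1 (.and 1 0 (.mis 0))))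
 (.cons (.img [0] 0 (.img [4] 1 (.and 1 0 (.mis 0))))
 (.cons (.img [5] 0 (.img [1] 1 (.dif 1 0 (.mis 0))))
 (.cons (.img [2] 0 (.img [4] 1 (.and 1 0 (.mis 0))))
 .nil))))))
 .nil)))
 .nil)))
 .nil)))
 (.cons (.img (W (nat_lit 0xc01)) 0 (.br 0 [] [] [(1, [])] (.cons (.img [0] 0 (.br 0 [] [] [(9, [])] (.cons (.img [0] 4 (.br 0 [] [] [(18, [])] (.cons (.orb 0 (.br 0 [[70]] [0] [(3, W (nat_lit 0x13450)), (6, [78]), (12, [76]), (2, [])] (.cons (.img [0] 0 (.img [4] 1 (.and 1 0 (.mis 0))))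
 (.cons (.orb 0 (.img [2] 1 (.dif 1 0 (.mis 0))))
 (.cons (.orb 0 (.img [2] 0 (.and 2 0 (.mis 0))))
 (.cons .fnd
 .nil))))))
 .nil)))
 .nil)))
 .nil)))
 .nil)))
noncomputable def zts85 : List (List ℕ) :=
  [W (nat_lit 0x1104c0d0240e)]
noncomputable def T_v0 : Lev :=
  ⟨0, 8, sg (W (nat_lit 0x5b15453)), [[94], [96]], 44, 2⟩
noncomputable def T_v1 : Lev :=
  ⟨2, 2, sg [94], [[98], [100]], 46, 2⟩
noncomputable def T_v2 : Lev :=
  ⟨5, 4, sg (W (nat_lit 0x19463)), [[102]], 48, 1⟩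
noncomputable def T_v3 : Lev :=
  ⟨1, 2, sg [102], [], 49, 0⟩
noncomputable def T_vs4 : List Lev :=
  []
noncomputable def T_vs3 : List Lev :=
  T_v3 :: T_vs4
noncomputable def T_vs2 : List Lev :=
  T_v2 :: T_vs3
noncomputable def T_vs1 : List Lev :=
  T_v1 :: T_vs2
noncomputable def T_vs : List Lev :=
  T_v0 :: T_vs1
noncomputable def T_ps : List PcG :=
  [⟨[80], 2, [92], [W (nat_lit 0x15c53), W (nat_lit 0x1745b16455), [86], [88], W (nat_lit 0x1745b), [92]]⟩,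
  ⟨[82], 2, W (nat_lit 0x1745b), [W (nat_lit 0x16c55), W (nat_lit 0x17457), W (nat_lit 0x5d16c59), [90], [92]]⟩,
  ⟨[84], 2, W (nat_lit 0x1745b), [W (nat_lit 0x5d16c57), [88], [90], [92]]⟩,
  ⟨[86], 2, [], [W (nat_lit 0x17459), [90], [92]]⟩,
  ⟨[88], 2, [92], [[90], [92]]⟩,
  ⟨[90], 2, [], [[92]]⟩,
  ⟨[92], 2, [], []⟩]
noncomputable def v0_E : List (ℕ × List CE) :=
  [(3, [])]
noncomputable def v0_R : List (List ℕ) :=
  [[],
  [80]]
noncomputable def zts94 : List (List ℕ) :=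
  [W (nat_lit 0x8c1f0702105c1e),
  W (nat_lit 0x9c2507c1b0881a01423),
  W (nat_lit 0x9c250781708803),
  W (nat_lit 0x9c23080270741708803),
  W (nat_lit 0x230941c00c03),
  W (nat_lit 0x9c250802705c2200c03),
  W (nat_lit 0x2507c240701e05c1d)]
noncomputable def zcj97 : List (List (List ℕ)) :=
  [[W (nat_lit 0x15c53), W (nat_lit 0x1745b16455), [86], [88], W (nat_lit 0x1745b), [92]],
  [[82], W (nat_lit 0x16c55), W (nat_lit 0x17457), W (nat_lit 0x5d16c59), [90], [92]],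
  [W (nat_lit 0x16c53), [84], W (nat_lit 0x5d16c57), [88], [90], [92]],
  [W (nat_lit 0x17453), W (nat_lit 0x5d16c55), [86], W (nat_lit 0x17459), [90], [92]],
  [W (nat_lit 0x5d16c53), [84], W (nat_lit 0x17457), [88], [90], [92]],
  [[82], [84], [86], [88], [90], [92]],
  [[82], [84], [86], [88], [90], [92]]]
noncomputable def v1_E : List (ℕ × List CE) :=
  [(3, []),
  (3, [])]
noncomputable def v1_R : List (List ℕ) :=
  [[],
  [82],
  [80],
  W (nat_lit 0x14c51)]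
noncomputable def zcj104 : List (List (List ℕ)) :=
  [[W (nat_lit 0x1745b16455), [86], [88], W (nat_lit 0x1745b), [92]],
  [W (nat_lit 0x16c55), W (nat_lit 0x17457), W (nat_lit 0x5d16c59), [90], [92]],
  [[84], W (nat_lit 0x5d16c57), [88], [90], [92]],
  [W (nat_lit 0x5d16c55), [86], W (nat_lit 0x17459), [90], [92]],
  [[84], W (nat_lit 0x17457), [88], [90], [92]],
  [[84], [86], [88], [90], [92]],
  [[84], [86], [88], [90], [92]]]
noncomputable def v2_E : List (ℕ × List CE) :=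
  [(3, []),
  (3, []),
  (3, []),
  (3, [])]
noncomputable def v2_R : List (List ℕ) :=
  [[],
  [84],
  [82],
  W (nat_lit 0x15453),
  [80],
  W (nat_lit 0x15451),
  W (nat_lit 0x14c51),
  W (nat_lit 0x5514c51)]
noncomputable def zcj111 : List (List (List ℕ)) :=
  [[[86], [88], W (nat_lit 0x1745b), [92]],
  [W (nat_lit 0x17457), W (nat_lit 0x5d16c59), [90], [92]],
  [W (nat_lit 0x5d16c57), [88], [90], [92]],
  [[86], W (nat_lit 0x17459), [90], [92]],
  [W (nat_lit 0x17457), [88], [90], [92]],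
  [[86], [88], [90], [92]],
  [[86], [88], [90], [92]]]
noncomputable def v3_E : List (ℕ × List CE) :=
  [(3, []),
  (3, []),
  (1, [ceD, ⟨false, [80], 0, []⟩]),
  (1, [ceD, ⟨false, [80], 0, W (nat_lit 0x17459)⟩]),
  (1, [ceD, ⟨false, [82], 0, []⟩]),
  (1, [ceD, ⟨false, [82], 0, [92]⟩]),
  (0, [⟨true, [], 1, W (nat_lit 0x1745b)⟩, ⟨true, [], 1, [90]⟩]),
  (0, [⟨true, [], 1, W (nat_lit 0x16c59)⟩, ⟨true, [], 1, [88]⟩])]
noncomputable def v3_R : List (List ℕ) :=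
  [[],
  [86],
  [84],
  W (nat_lit 0x15c55),
  [82],
  W (nat_lit 0x15453),
  [80],
  W (nat_lit 0x15451)]
noncomputable def zcj118 : List (List (List ℕ)) :=
  [[[88], W (nat_lit 0x1745b), [92]],
  [W (nat_lit 0x5d16c59), [90], [92]],
  [[88], [90], [92]],
  [W (nat_lit 0x17459), [90], [92]],
  [[88], [90], [92]],
  [[88], [90], [92]],
  [[88], [90], [92]]]
noncomputable def v4_E : List (ℕ × List CE) :=
  [(3, []),
  (3, []),
  (1, [ceD, ⟨false, [80], 0, [90]⟩]),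
  (1, [ceD, ⟨false, [80], 0, W (nat_lit 0x1745b)⟩]),
  (3, []),
  (3, []),
  (1, [ceD, ⟨false, [84], 0, [90]⟩]),
  (0, [⟨true, [], 1, [92]⟩, ⟨true, [], 1, []⟩])]
noncomputable def v4_R : List (List ℕ) :=
  [[],
  [88],
  [86],
  W (nat_lit 0x16457),
  [84],
  W (nat_lit 0x15c55),
  [82],
  W (nat_lit 0x16453),
  W (nat_lit 0x15453),
  W (nat_lit 0x5915453),
  [80]]
noncomputable def zcj125 : List (List (List ℕ)) :=
  [[W (nat_lit 0x1745b), [92]],
  [[90], [92]],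
  [[90], [92]],
  [[90], [92]],
  [[90], [92]],
  [[90], [92]],
  [[90], [92]]]
noncomputable def v5_E : List (ℕ × List CE) :=
  [(3, []),
  (1, [ceD, ⟨false, [82], 0, [92]⟩]),
  (1, [ceD, ⟨false, [84], 0, [92]⟩]),
  (1, [ceD, ⟨false, [82], 0, []⟩]),
  (0, [⟨true, [], 1, [92]⟩, ⟨true, [], 1, [92]⟩]),
  (1, [ceD, ⟨false, [82], 0, [92]⟩]),
  (0, [⟨true, [], 1, [92]⟩, ⟨true, [], 1, [92]⟩]),
  (1, [ceD, ⟨false, [82], 0, [92]⟩]),
  (0, [⟨true, [], 1, []⟩, ⟨true, [], 1, []⟩]),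
  (1, [ceD, ⟨false, [84], 0, []⟩]),
  (3, [])]
noncomputable def v5_R : List (List ℕ) :=
  [[],
  [90],
  [88],
  [86],
  W (nat_lit 0x16457),
  W (nat_lit 0x15c55),
  W (nat_lit 0x16453),
  W (nat_lit 0x5915453),
  [80],
  W (nat_lit 0x16c51)]
noncomputable def zcj132 : List (List (List ℕ)) :=
  [[[92]],
  [[92]],
  [[92]],
  [[92]],
  [[92]],
  [[92]],
  [[92]]]
noncomputable def v6_E : List (ℕ × List CE) :=
  [(3, []),
  (1, [ceD, ⟨false, [80], 0, []⟩]),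
  (0, [⟨true, [], 1, []⟩, ⟨true, [], 1, []⟩]),
  (1, [ceD, ⟨false, [82], 0, []⟩]),
  (1, [ceD, ⟨false, [86], 0, []⟩]),
  (1, [ceD, ⟨false, [88], 0, []⟩]),
  (0, [⟨true, [], 1, []⟩, ⟨true, [], 1, []⟩]),
  (1, [ceD, ⟨false, [82], 0, []⟩]),
  (0, [⟨true, [], 1, []⟩, ⟨true, [], 1, []⟩]),
  (1, [ceD, ⟨false, [80], 0, []⟩])]
noncomputable def v6_R : List (List ℕ) :=
  [[],
  [92],
  [90],
  [86],
  W (nat_lit 0x16457),
  W (nat_lit 0x15c55),
  W (nat_lit 0x5915453),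
  W (nat_lit 0x16c51)]
noncomputable def v7_F : List (List ℕ × ℕ × List ℕ) :=
  [([], 0, []),
  ([], 1, []),
  (W (nat_lit 0x27094200701707404), 1, []),
  (W (nat_lit 0x2708c250702105c2300c01), 1, []),
  (W (nat_lit 0x941c07819), 3, []),
  (W (nat_lit 0x2708c2507c240781a00c1b), 1, []),
  (W (nat_lit 0x270941f08c1b07419), 2, []),
  (W (nat_lit 0x2708c250802707021), 3, [])]
noncomputable def v7_R : List (List ℕ) :=
  [[], [104], [106], [108]]
noncomputable def zts142 : List (List ℕ) :=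
  [W (nat_lit 0x8c1f0702105c1e),
  W (nat_lit 0x9c2507c1b0881a01423),
  W (nat_lit 0x9c250781708803),
  W (nat_lit 0x9c23080270741708803),
  W (nat_lit 0x230941c00c03),
  W (nat_lit 0x9c250802705c2200c03),
  W (nat_lit 0x2507c240701e05c1d)]
noncomputable def zm145 : ℕ :=
  (nat_lit 0x320265)
noncomputable def cC0_F : List (List ℕ × ℕ × ℕ) :=
  [([0], zm145, zm145)]
noncomputable def cC0G_v0 : Lev :=
  ⟨0, 12, sg (W (nat_lit 0xc0100c0100403)), [[6], [1]], 0, 1⟩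
noncomputable def cC0G_v1 : Lev :=
  ⟨1, 11, sg (W (nat_lit 0x701c0700807)), [[8], [10]], 1, 2⟩
noncomputable def cC0G_v2 : Lev :=
  ⟨2, 10, sg (W (nat_lit 0x240902c0902c09)), [[12], [14]], 3, 2⟩
noncomputable def cC0G_v3 : Lev :=
  ⟨3, 9, sg (W (nat_lit 0xf0340d03c0d)), [[16], [18]], 5, 2⟩
noncomputable def cC0G_v4 : Lev :=
  ⟨6, 8, sg (W (nat_lit 0x441104c11)), [], 60, 0⟩
noncomputable def cC0G_vs5 : List Lev :=
  []
noncomputable def cC0G_vs4 : List Lev :=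
  cC0G_v4 :: cC0G_vs5
noncomputable def cC0G_vs3 : List Lev :=
  cC0G_v3 :: cC0G_vs4
noncomputable def cC0G_vs2 : List Lev :=
  cC0G_v2 :: cC0G_vs3
noncomputable def cC0G_vs1 : List Lev :=
  cC0G_v1 :: cC0G_vs2
noncomputable def cC0G_vs : List Lev :=
  cC0G_v0 :: cC0G_vs1
noncomputable def cC0_x : List (ℕ × List ℕ) :=
  [((nat_lit 0), [(nat_lit 0x5335f)]),
  ((nat_lit 0), [(nat_lit 0x5335e)]),
  ((nat_lit 0), []),
  ((nat_lit 0), []),
  ((nat_lit 0), [])]
noncomputable def cC0_G : Gl :=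
  ⟨P, ns, (app D []), (diag [[104]]), [], [], memM (app D []) [[110], [112]], true⟩
noncomputable def cC0_s : St :=
  ⟨(mkS P.n cC0G_vs cC0_x), [[0], [2]], [], mapL Prod.snd cC0_F, memM (app D []) [[110], [112]], []⟩
noncomputable def zt149 : ST :=
  (.orb 0 (.and 1 0 (.br 0 [W (nat_lit 0x7a1ec77), W (nat_lit 0x7d1dc741bc6f)] (W (nat_lit 0x300403)) [(0, [])] (.cons (.orb 0 (.dif 0 4 (.br 0 [W (nat_lit 0x7a1ec77), W (nat_lit 0x1f47b1dc74)] (W (nat_lit 0x40100c01)) [(1, [])] (.cons (.dif 4 3 (.br 0 [W (nat_lit 0x1f47a1dc74), W (nat_lit 0x1f477)] (W (nat_lit 0xc01)) [(2, [])] (.cons (.img [0] 2 (.br 0 [] [] [(3, [])] (.cons (.dif 3 2 (.br 0 [W (nat_lit 0x1f477)] [0] [(6, [])] (.cons .fnd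
 .nil)))
 .nil)))
 .nil)))
 .nil))))
 .nil))))
noncomputable def D0_ps : List PcG :=
  [⟨[130], 3, [], [[128], W (nat_lit 0x1fc8f2048b), [126], W (nat_lit 0x23c8d), W (nat_lit 0x1fc8d)]⟩,
  ⟨[138], 2, W (nat_lit 0x1fc8f), [W (nat_lit 0x7f23c81), W (nat_lit 0x7f23c8d), [126], [142]]⟩,
  ⟨[128], 2, W (nat_lit 0x1fc8f), [[140], [126], [142]]⟩,
  ⟨[140], 2, [], [[142], [126]]⟩,
  ⟨[142], 2, [], [[126]]⟩,
  ⟨[126], 2, [], []⟩]
noncomputable def D0_v0 : Lev :=
  ⟨0, 4, sg (W (nat_lit 0x7f20c7f)), [[128], [132]], 63, 1⟩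
noncomputable def D0_v1 : Lev :=
  ⟨2, 3, sg (W (nat_lit 0x21485)), [[128], [134]], 64, 1⟩
noncomputable def D0_v2 : Lev :=
  ⟨5, 4, sg (W (nat_lit 0x21c81)), [[136]], 65, 1⟩
noncomputable def D0_v3 : Lev :=
  ⟨1, 2, sg [136], [], 66, 0⟩
noncomputable def D0_vs4 : List Lev :=
  []
noncomputable def D0_vs3 : List Lev :=
  D0_v3 :: D0_vs4
noncomputable def D0_vs2 : List Lev :=
  D0_v2 :: D0_vs3
noncomputable def D0_vs1 : List Lev :=
  D0_v1 :: D0_vs2
noncomputable def D0_vs : List Lev :=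
  D0_v0 :: D0_vs1
noncomputable def zps156 : List (List ℕ × List ℕ) :=
  [(W (nat_lit 0x1c071), [113]), (W (nat_lit 0x1c072), W (nat_lit 0x1c071)), ([110], W (nat_lit 0x1bc72))]
noncomputable def zts159 : List (List ℕ) :=
  [W (nat_lit 0x9d25c95),
  W (nat_lit 0x26c9d),
  [144]]
noncomputable def zts162 : List (List ℕ) :=
  [[],
  W (nat_lit 0x224872187f),
  W (nat_lit 0x2048721884),
  []]
noncomputable def zcj165 : List (List (List ℕ)) :=
  [[W (nat_lit 0x8121c7f), W (nat_lit 0x22487), W (nat_lit 0x2248121483)],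
  [W (nat_lit 0x8121883), W (nat_lit 0x8920487), W (nat_lit 0x20484)]]
noncomputable def zcj168 : List (List (List ℕ)) :=
  [[W (nat_lit 0x8121c7f), W (nat_lit 0x22487), W (nat_lit 0x2248121483)],
  [W (nat_lit 0x8121883), W (nat_lit 0x8920487), W (nat_lit 0x20484)]]
noncomputable def Q0_ps : List PcG :=
  [⟨[174], 2, [], [[176], [162], [160], [178]]⟩,
  ⟨[176], 2, W (nat_lit 0x284b3), [W (nat_lit 0xa12cca3), [178], [160]]⟩,
  ⟨[162], 2, [], [[160], [178]]⟩,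
  ⟨[178], 2, [], [[160]]⟩,
  ⟨[160], 2, [], []⟩]
noncomputable def zE171 : List (ℕ × List ℕ) :=
  [(164, [176]),
  (166, [174])]
noncomputable def Q0_v0 : Lev :=
  ⟨0, 4, sg (W (nat_lit 0x28ca1)), [[168], [170]], 81, 2⟩
noncomputable def Q0_v1 : Lev :=
  ⟨5, 4, sg (W (nat_lit 0x2aca9)), [[172]], 83, 1⟩
noncomputable def Q0_v2 : Lev :=
  ⟨1, 2, sg [172], [], 84, 0⟩
noncomputable def Q0_vs3 : List Lev :=
  []
noncomputable def Q0_vs2 : List Lev :=
  Q0_v2 :: Q0_vs3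
noncomputable def Q0_vs1 : List Lev :=
  Q0_v1 :: Q0_vs2
noncomputable def Q0_vs : List Lev :=
  Q0_v0 :: Q0_vs1
noncomputable def zts176 : List (List ℕ) :=
  [W (nat_lit 0x2248121c7f),
  W (nat_lit 0x2248721883),
  W (nat_lit 0x21c7f),
  W (nat_lit 0x892047f)]
noncomputable def zcj179 : List (List (List ℕ)) :=
  [[W (nat_lit 0x2b4a1), [162], W (nat_lit 0x2b4a92aca1), W (nat_lit 0x2a4a1)],
  [[160], [162], W (nat_lit 0x2b4a92aca1), W (nat_lit 0x2a4a1)],
  [W (nat_lit 0xad2aca3), W (nat_lit 0xa9284a3), W (nat_lit 0xa92aca3), [162]]]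
noncomputable def Z0_ps : List PcG :=
  [⟨[136], 2, [], []⟩]
noncomputable def zE182 : List (ℕ × List ℕ) :=
  [(180, [])]
noncomputable def Z0_v0 : Lev :=
  ⟨1, 2, sg [136], [], 88, 0⟩
noncomputable def Z0_vs1 : List Lev :=
  []
noncomputable def Z0_vs : List Lev :=
  Z0_v0 :: Z0_vs1
noncomputable def zm187 : ℕ :=
  (nat_lit 0x41889a)
noncomputable def zm188 : ℕ :=
  (nat_lit 0x99590)
noncomputable def cQ0_F : List (List ℕ × ℕ × ℕ) :=
  [([2], zm187, zm187),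
  ([6], zm188, zm188)]
noncomputable def cQ0G_v0 : Lev :=
  ⟨1, 8, sg (W (nat_lit 0x1fc811fc832047f)), [[182], [184]], 88, 2⟩
noncomputable def cQ0G_v1 : Lev :=
  ⟨4, 6, sg (W (nat_lit 0xb72e4b7)), [[186]], 90, 1⟩
noncomputable def cQ0G_v2 : Lev :=
  ⟨8, 2, sg [186], [], 91, 0⟩
noncomputable def cQ0G_vs3 : List Lev :=
  []
noncomputable def cQ0G_vs2 : List Lev :=
  cQ0G_v2 :: cQ0G_vs3
noncomputable def cQ0G_vs1 : List Lev :=
  cQ0G_v1 :: cQ0G_vs2
noncomputable def cQ0G_vs : List Lev :=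
  cQ0G_v0 :: cQ0G_vs1
noncomputable def cQ0_x : List (ℕ × List ℕ) :=
  [((nat_lit 0), [(nat_lit 0x5311a)]),
  ((nat_lit 0), []),
  ((nat_lit 0), [])]
noncomputable def cQ0_G : Gl :=
  ⟨P, ns, (app D []), (diag [[160], [162], [164], [166]]), [], [], memM (app D []) [[136], [180]], true⟩
noncomputable def cQ0_s : St :=
  ⟨(mkS P.n cQ0G_vs cQ0_x), [[126], [128], [130]], [], mapL Prod.snd cQ0_F, memM (app D []) [[136], [180]], []⟩
noncomputable def zt192 : ST :=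
  (.dif 0 1 (.orb 0 (.and 1 0 (.br 0 [[136]] [0] [(1, [])] (.cons (.img (W (nat_lit 0x1801)) 0 (.br 0 [] [] [(4, [])] (.cons (.img [5] 0 (.br 0 [] [] [(8, [])] (.cons .fnd
 .nil)))
 .nil)))
 .nil)))))
noncomputable def cC1_F : List (List ℕ × ℕ × ℕ) :=
  []
noncomputable def cC1G_v0 : Lev :=
  ⟨0, 12, sg (W (nat_lit 0xc0100c0100403)), [[6], [1]], 0, 1⟩
noncomputable def cC1G_v1 : Lev :=
  ⟨20, 12, sg (W (nat_lit 0x8070080701c0700807)), [[198], [200]], 96, 2⟩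
noncomputable def cC1G_v2 : Lev :=
  ⟨1, 11, sg (W (nat_lit 0x31cc731cc7324c7)), [[202], [204]], 98, 2⟩
noncomputable def cC1G_v3 : Lev :=
  ⟨11, 6, sg (W (nat_lit 0x334cb32ccb)), [[206], [208]], 100, 2⟩
noncomputable def cC1G_v4 : Lev :=
  ⟨2, 5, sg (W (nat_lit 0x33ccf33ccf)), [[210]], 102, 1⟩
noncomputable def cC1G_v5 : Lev :=
  ⟨3, 2, sg [210], [], 103, 0⟩
noncomputable def cC1G_vs6 : List Lev :=
  []
noncomputable def cC1G_vs5 : List Lev :=
  cC1G_v5 :: cC1G_vs6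
noncomputable def cC1G_vs4 : List Lev :=
  cC1G_v4 :: cC1G_vs5
noncomputable def cC1G_vs3 : List Lev :=
  cC1G_v3 :: cC1G_vs4
noncomputable def cC1G_vs2 : List Lev :=
  cC1G_v2 :: cC1G_vs3
noncomputable def cC1G_vs1 : List Lev :=
  cC1G_v1 :: cC1G_vs2
noncomputable def cC1G_vs : List Lev :=
  cC1G_v0 :: cC1G_vs1
noncomputable def cC1_x : List (ℕ × List ℕ) :=
  [((nat_lit 0), [(nat_lit 0x5335f)]),
  ((nat_lit 0), []),
  ((nat_lit 0x98000000000000000000000000), [(nat_lit 0x5335e)]),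
  ((nat_lit 0x20000000000000000000000000), [(nat_lit 0xc20c80)]),
  ((nat_lit 0x180000000000000000000000000), [(nat_lit 0x3214)]),
  ((nat_lit 0x200000000000000000000000000), [(nat_lit 0x20),
   (nat_lit 0x108)]),
  ((nat_lit 0), [(nat_lit 0x400000)])]
noncomputable def zE199 : List (ℕ × List ℕ) :=
  [(210, [196])]
noncomputable def cC1_G : Gl :=
  ⟨P, ns, (app D zE199), (diag [[106]]), [], [], memM (app D zE199) [[188], [190]], true⟩
noncomputable def cC1_s : St :=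
  ⟨(mkS P.n cC1G_vs cC1_x), [[0], [2]], [], mapL Prod.snd cC1_F, memM (app D zE199) [[188], [190]], []⟩
noncomputable def zt201 : ST :=
  (.orb 0 (.br 0 [W (nat_lit 0xc52f8c0), W (nat_lit 0x310c42f4bf)] (W (nat_lit 0x40100c0100401)) [(0, [])] (.cons (.img [0] 0 (.br 0 [] [] [(20, [])] (.cons (.orb 0 (.br 0 [[192], W (nat_lit 0x314c4)] (W (nat_lit 0x100c01)) [(2, W (nat_lit 0x320cf)), (4, W (nat_lit 0x320c9)), (1, [])] (.cons (.img [0] 0 (.br 0 [] [] [(5, [203])] (.cons (.orb 0 (.br 0 [W (nat_lit 0x314c1), W (nat_lit 0x304c3)] (W (nat_lit 0x100c01)) [(1, [208])] (.cons (.orb 1 (.br 0 [[196]] [0] [(4, [210])] (.cons (.orb 0 (.img [0] 0 (.and 2 0 (.mis 0))))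
 .nil)))
 .nil)))
 .nil)))
 (.cons (.img [0] 0 (.orb 0 (.and 1 0 (.mis 0))))
 (.cons (.img [0] 0 (.br 0 [] [] [(11, [])] (.cons (.orb 0 (.br 0 [[196]] [0] [(4, W (nat_lit 0x33ccf)), (9, [206]), (2, [])] (.cons (.img [0] 0 (.orb 0 (.and 1 0 (.mis 0))))
 (.cons (.orb 0 (.img [0] 0 (.and 2 0 (.mis 0))))
 (.cons .fnd
 .nil)))))
 .nil)))
 .nil)))))
 .nil)))
 .nil)))
noncomputable def zt205 : List ℕ :=
  []
noncomputable def zcj206 : List (List ℕ) :=
  []
noncomputable def zus209 : List (List ℕ) :=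
  [[216],
  W (nat_lit 0x364db),
  W (nat_lit 0xd936cd9),
  W (nat_lit 0x364db364db)]
noncomputable def zF210 : List (List (ℕ × List ℕ)) :=
  [[(1, []),
   (0, []),
   (3, []),
   (2, []),
   (4, [218])],
  [(0, [218]),
   (2, []),
   (1, []),
   (4, []),
   (3, [])]]
noncomputable def zus213 : List (List ℕ) :=
  [[212],
  [213],
  [214],
  W (nat_lit 0x358d6),
  W (nat_lit 0x354db)]
noncomputable def zF214 : List (List (ℕ × List ℕ)) :=
  [[(1, []),
   (3, W (nat_lit 0x364db364db)),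
   (0, []),
   (4, W (nat_lit 0x36cd936cd9)),
   (2, []),
   (5, W (nat_lit 0x364db))],
  [(3, []),
   (1, W (nat_lit 0x364db364db)),
   (0, W (nat_lit 0xd936cd9)),
   (4, W (nat_lit 0xdb364db364db)),
   (5, W (nat_lit 0x36cd936cd9)),
   (2, W (nat_lit 0x36cd936cd9))]]
noncomputable def D1_v0 : Lev :=
  ⟨0, 6, sg (W (nat_lit 0x354d7354d5)), [[216], [218]], 105, 2⟩
noncomputable def D1_v1 : Lev :=
  ⟨1, 5, sg (W (nat_lit 0x36cd936cd9)), [[218]], 107, 0⟩
noncomputable def D1_v2 : Lev :=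
  ⟨3, 2, sg [218], [], 107, 0⟩
noncomputable def D1_vs3 : List Lev :=
  []
noncomputable def D1_vs2 : List Lev :=
  D1_v2 :: D1_vs3
noncomputable def D1_vs1 : List Lev :=
  D1_v1 :: D1_vs2
noncomputable def D1_vs : List Lev :=
  D1_v0 :: D1_vs1
noncomputable def zps218 : List (List ℕ × List ℕ) :=
  [(W (nat_lit 0x300be), W (nat_lit 0x2fcbe)), (W (nat_lit 0x2f4bd), W (nat_lit 0x2fcbe))]
noncomputable def zts221 : List (List ℕ) :=
  [W (nat_lit 0x394dd),
  W (nat_lit 0x384e0)]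
noncomputable def zts224 : List (List ℕ) :=
  [[],
  W (nat_lit 0xd9354db),
  W (nat_lit 0xdb364d5),
  []]
noncomputable def zcj227 : List (List (List ℕ)) :=
  [[W (nat_lit 0x364db364d7), W (nat_lit 0x36cd936cd9)],
  [W (nat_lit 0xdb364db364db358d6), W (nat_lit 0x36cd6)]]
noncomputable def zcj230 : List (List (List ℕ)) :=
  [[W (nat_lit 0x364db364d7), W (nat_lit 0x36cd936cd9)],
  [W (nat_lit 0xdb364db364db358d6), W (nat_lit 0x36cd6)]]
noncomputable def zE233 : Net :=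
  (.cons 12 (nat_lit 0x6a6)
 (.cons 6 (nat_lit 0x3e028)
 (.cons 3 (nat_lit 0x3146)
 (.cons 1 (nat_lit 0x240040)
 (.cons 1 (nat_lit 0x480090)
 (.cons 1 (nat_lit 0x200040)
 (.cons 6 (nat_lit 0x34008)
 (.cons 12 (nat_lit 0x6d4)
 .nil))))))))
noncomputable def zK234 : Lk :=
  ⟨zE233, 1, 2, 1⟩
noncomputable def zts237 : List (List ℕ) :=
  [W (nat_lit 0x3bced39cef),
  W (nat_lit 0x3b8ea)]
noncomputable def zts240 : List (List ℕ) :=
  [W (nat_lit 0xdb364db364db354db),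
  W (nat_lit 0x358d6)]
noncomputable def P1_v0 : Lev :=
  ⟨0, 2, sg [254], [[258]], 126, 1⟩
noncomputable def P1_v1 : Lev :=
  ⟨1, 2, sg [258], [], 127, 0⟩
noncomputable def P1_vs2 : List Lev :=
  []
noncomputable def P1_vs1 : List Lev :=
  P1_v1 :: P1_vs2
noncomputable def P1_vs : List Lev :=
  P1_v0 :: P1_vs1
noncomputable def P1_ps : List PcG :=
  [⟨[254], 2, [], [[256]]⟩,
  ⟨[256], 2, [], []⟩]
noncomputable def w1_0_E : List (ℕ × List CE) :=
  [(3, [])]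
noncomputable def w1_0_R : List (List ℕ) :=
  [[],
  [254]]
noncomputable def zts259 : List (List ℕ) :=
  [W (nat_lit 0x364d5),
  W (nat_lit 0xdb364db364d5)]
noncomputable def zcj262 : List (List (List ℕ)) :=
  [[[256]],
  [[256]]]
noncomputable def w1_1_E : List (ℕ × List CE) :=
  [(3, []),
  (3, [])]
noncomputable def w1_1_R : List (List ℕ) :=
  [[],
  [256],
  [254],
  W (nat_lit 0x404ff)]
noncomputable def w1_2_F : List (List ℕ × ℕ × List ℕ) :=
  [([], 0, []),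
  (W (nat_lit 0x36cd936cd936cd6), 1, []),
  ([], 1, []),
  (W (nat_lit 0xdb358d6), 1, [])]
noncomputable def w1_2_R : List (List ℕ) :=
  [[], [246]]
noncomputable def zts272 : List (List ℕ) :=
  [W (nat_lit 0x364d5),
  W (nat_lit 0xdb364db364d5)]
noncomputable def cC2_F : List (List ℕ × ℕ × ℕ) :=
  []
noncomputable def cC2G_v0 : Lev :=
  ⟨0, 12, sg (W (nat_lit 0xc0100c0100403)), [[6], [1]], 0, 1⟩
noncomputable def cC2G_v1 : Lev :=
  ⟨2, 11, sg (W (nat_lit 0x1c0701c0700807)), [[272], [274]], 133, 2⟩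
noncomputable def cC2G_v2 : Lev :=
  ⟨5, 12, sg (W (nat_lit 0x1114451144d1144d11)), [[276], [278]], 135, 2⟩
noncomputable def cC2G_v3 : Lev :=
  ⟨20, 6, sg (W (nat_lit 0x1154551745515)), [[280], [282]], 137, 2⟩
noncomputable def cC2G_v4 : Lev :=
  ⟨1, 5, sg (W (nat_lit 0x11946d19)), [[284]], 139, 1⟩
noncomputable def cC2G_v5 : Lev :=
  ⟨3, 2, sg [284], [], 140, 0⟩
noncomputable def cC2G_vs6 : List Lev :=
  []
noncomputable def cC2G_vs5 : List Lev :=
  cC2G_v5 :: cC2G_vs6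
noncomputable def cC2G_vs4 : List Lev :=
  cC2G_v4 :: cC2G_vs5
noncomputable def cC2G_vs3 : List Lev :=
  cC2G_v3 :: cC2G_vs4
noncomputable def cC2G_vs2 : List Lev :=
  cC2G_v2 :: cC2G_vs3
noncomputable def cC2G_vs1 : List Lev :=
  cC2G_v1 :: cC2G_vs2
noncomputable def cC2G_vs : List Lev :=
  cC2G_v0 :: cC2G_vs1
noncomputable def cC2_x : List (ℕ × List ℕ) :=
  [((nat_lit 0), [(nat_lit 0x5335f)]),
  ((nat_lit 0), []),
  ((nat_lit 0x30000000000000000000000000000000000), [(nat_lit 0xfacca0)]),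
  ((nat_lit 0xc0000000000000000000000000000000000), []),
  ((nat_lit 0x100000000000000000000000000000000000), [(nat_lit 0x130a)]),
  ((nat_lit 0), [(nat_lit 0x10000),
   (nat_lit 0x2010)])]
noncomputable def cC2_G : Gl :=
  ⟨P, ns, (app D []), (diag [[108]]), [], [], memM (app D []) [[260], [262]], true⟩
noncomputable def cC2_s : St :=
  ⟨(mkS P.n cC2G_vs cC2_x), [[0], [2]], [], mapL Prod.snd cC2_F, memM (app D []) [[260], [262]], []⟩
noncomputable def zt283 : ST :=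
  (.orb 0 (.br 0 [W (nat_lit 0x4190a), W (nat_lit 0x10d43d0d4250541507)] (W (nat_lit 0x30040100c01)) [(0, [])] (.cons (.img [0] 0 (.br 0 [] [] [(2, [])] (.cons (.orb 0 (.br 0 [W (nat_lit 0x43d0d43d09), W (nat_lit 0x4350f4350f)] (W (nat_lit 0x10040100c01)) [(17, W (nat_lit 0x44914)), (5, [])] (.cons (.img [0] 0 (.br 0 [] [] [(21, W (nat_lit 0x45518))] (.cons (.orb 0 (.br 0 [W (nat_lit 0x10d43d0d), W (nat_lit 0x43d0d43d0d)] (W (nat_lit 0xc0100c01)) [(4, W (nat_lit 0x4691a))] (.cons (.img [0] 0 (.orb 0 (.and 1 0 (.mis 0))))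
 .nil)))
 .nil)))
 (.cons (.img [0] 0 (.br 0 [] [] [(20, [])] (.cons (.orb 0 (.br 0 [W (nat_lit 0x10f4350f4350f)] [0] [(8, W (nat_lit 0x46519)), (9, [281]), (1, [])] (.cons (.img [0] 0 (.orb 1 (.and 1 0 (.mis 0))))
 (.cons (.orb 1 (.img [0] 0 (.and 2 0 (.mis 0))))
 (.cons (.orb 0 (.img [0] 0 (.br 0 [] [] [(3, [])] (.cons .fnd
 .nil))))
 .nil)))))
 .nil)))
 .nil))))
 .nil)))
 .nil)))
noncomputable def zt287 : List ℕ :=
  []
noncomputable def zcj288 : List (List ℕ) :=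
  []
noncomputable def zus291 : List (List ℕ) :=
  [[290],
  [292],
  W (nat_lit 0x48d26),
  W (nat_lit 0x49525)]
noncomputable def zF292 : List (List (ℕ × List ℕ)) :=
  [[(1, []),
   (0, []),
   (3, []),
   (2, []),
   (4, [294])],
  [(2, []),
   (0, [294]),
   (4, []),
   (1, []),
   (3, [294])]]
noncomputable def zus295 : List (List ℕ) :=
  [[288],
  [289],
  W (nat_lit 0x48520),
  W (nat_lit 0x4891f),
  W (nat_lit 0x48527)]
noncomputable def zF296 : List (List (ℕ × List ℕ)) :=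
  [[(0, W (nat_lit 0x49d23)),
   (2, [292]),
   (4, []),
   (1, []),
   (5, W (nat_lit 0x12749525)),
   (3, W (nat_lit 0x49d25))],
  [(1, []),
   (3, [294]),
   (0, []),
   (4, W (nat_lit 0x49d23)),
   (2, [290]),
   (5, W (nat_lit 0x12748d26))]]
noncomputable def D2_v0 : Lev :=
  ⟨0, 6, sg (W (nat_lit 0x11f47d1f47d21)), [[290], [292]], 142, 2⟩
noncomputable def D2_v1 : Lev :=
  ⟨1, 5, sg (W (nat_lit 0x4952349523)), [[294]], 144, 1⟩
noncomputable def D2_v2 : Lev :=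
  ⟨3, 2, sg [294], [], 145, 0⟩
noncomputable def D2_vs3 : List Lev :=
  []
noncomputable def D2_vs2 : List Lev :=
  D2_v2 :: D2_vs3
noncomputable def D2_vs1 : List Lev :=
  D2_v1 :: D2_vs2
noncomputable def D2_vs : List Lev :=
  D2_v0 :: D2_vs1
noncomputable def zps300 : List (List ℕ × List ℕ) :=
  [(W (nat_lit 0x41507), W (nat_lit 0x42105)), (W (nat_lit 0x41d07), W (nat_lit 0x41505))]
noncomputable def zts303 : List (List ℕ) :=
  [W (nat_lit 0x4c52d),
  [296]]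
noncomputable def zts306 : List (List ℕ) :=
  [[],
  W (nat_lit 0x49d2549521),
  W (nat_lit 0x49d2549521),
  []]
noncomputable def zcj309 : List (List (List ℕ)) :=
  [[W (nat_lit 0x49d2348520), W (nat_lit 0x1234891f)],
  [W (nat_lit 0x48d21), W (nat_lit 0x12748527)]]
noncomputable def zcj312 : List (List (List ℕ)) :=
  [[W (nat_lit 0x49d2348520), W (nat_lit 0x1234891f)],
  [W (nat_lit 0x48d21), W (nat_lit 0x12748527)]]
noncomputable def zE315 : Net :=
  (.cons 12 (nat_lit 0xed6)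
 (.cons 6 (nat_lit 0x3e020)
 (.cons 3 (nat_lit 0x6100)
 (.cons 1 (nat_lit 0x82000)
 (.cons 1 (nat_lit 0x49000)
 (.cons 3 (nat_lit 0x84000)
 (.cons 6 (nat_lit 0x3c020)
 (.cons 12 (nat_lit 0xed6)
 .nil))))))))
noncomputable def zK316 : Lk :=
  ⟨zE315, 1, 2, 1⟩
noncomputable def zts319 : List (List ℕ) :=
  [[313],
  W (nat_lit 0x4ed374cd36)]
noncomputable def zts322 : List (List ℕ) :=
  [W (nat_lit 0x127495254891f),
  W (nat_lit 0x12748520)]
noncomputable def P2_v0 : Lev :=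
  ⟨0, 2, sg [330], [[332]], 164, 0⟩
noncomputable def P2_v1 : Lev :=
  ⟨1, 2, sg [332], [], 164, 0⟩
noncomputable def P2_vs2 : List Lev :=
  []
noncomputable def P2_vs1 : List Lev :=
  P2_v1 :: P2_vs2
noncomputable def P2_vs : List Lev :=
  P2_v0 :: P2_vs1
noncomputable def P2_ps : List PcG :=
  [⟨[330], 2, [], [[332]]⟩,
  ⟨[332], 2, [], []⟩]
noncomputable def w2_0_E : List (ℕ × List CE) :=
  [(3, [])]
noncomputable def w2_0_R : List (List ℕ) :=
  [[],
  [330]]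
noncomputable def zts341 : List (List ℕ) :=
  [W (nat_lit 0x49d2549522),
  W (nat_lit 0x49d25)]
noncomputable def zcj344 : List (List (List ℕ)) :=
  [[[332]],
  [[332]]]
noncomputable def w2_1_E : List (ℕ × List CE) :=
  [(3, []),
  (3, [])]
noncomputable def w2_1_R : List (List ℕ) :=
  [[],
  [332],
  [330],
  W (nat_lit 0x5354b)]
noncomputable def w2_2_F : List (List ℕ × ℕ × List ℕ) :=
  [([], 0, []),
  (W (nat_lit 0x12349921), 1, []),
  (W (nat_lit 0x1274952548527), 1, []),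
  ([], 1, [])]
noncomputable def w2_2_R : List (List ℕ) :=
  [[], [322]]
noncomputable def zts354 : List (List ℕ) :=
  [W (nat_lit 0x49d2549522),
  W (nat_lit 0x49d25)]

theorem zb2 : bnd (pcB D [] 2 zt0 zcj1) (leB (app D []) [[20]] ([20] :: [])) = true := by decide +kernel
theorem zr3 : chk (pcR [] [20] 2 zt0 zcj1) = true := by decide +kernel
theorem zb6 : schB D [[16], [18]] [[20]] zus4 zF5 4 = true := by decide +kernel
theorem zr7 : chk (schR [[16], [18]] zus4 zF5) = true := by decide +kernel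
theorem zb10 : schB D [[12], [14]] [[16], [18]] zus8 zF9 9 = true := by decide +kernel
theorem zr11 : chk (schR [[12], [14]] zus8 zF9) = true := by decide +kernel
theorem zb14 : schB D [[8], [10]] [[12], [14]] zus12 zF13 10 = true := by decide +kernel
theorem zr15 : chk (schR [[8], [10]] zus12 zF13) = true := by decide +kernel
theorem zb18 : schB D [[6], [1]] [[8], [10]] zus16 zF17 11 = true := by decide +kernel
theorem zr19 : chk (schR [[6], [1]] zus16 zF17) = true := by decide +kernel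
theorem zb22 : schB D [[0], [2]] [[6], [1]] zus20 zF21 12 = true := by decide +kernel
theorem zr23 : chk (schR [[0], [2]] zus20 zF21) = true := by decide +kernel
theorem zc24 : P.chainB ns D GM_vs [[0], [2]] = true := by decide +kernel
theorem zb27 : bnd (pcB D [] 2 zt25 zcj26) (leB (app D []) [[38]] ([38] :: [])) = true := by decide +kernel
theorem zr28 : chk (pcR [] [38] 2 zt25 zcj26) = true := by decide +kernel
theorem zb31 : schB D [[34], [36]] [[38]] zus29 zF30 4 = true := by decide +kernel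
theorem zr32 : chk (schR [[34], [36]] zus29 zF30) = true := by decide +kernel
theorem zb35 : schB D [[30], [32]] [[34], [36]] zus33 zF34 9 = true := by decide +kernel
theorem zr36 : chk (schR [[30], [32]] zus33 zF34) = true := by decide +kernel
theorem zb39 : schB D [[26], [28]] [[30], [32]] zus37 zF38 10 = true := by decide +kernel
theorem zr40 : chk (schR [[26], [28]] zus37 zF38) = true := by decide +kernel
theorem zb43 : schB D [[22], [24]] [[26], [28]] zus41 zF42 11 = true := by decide +kernel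
theorem zr44 : chk (schR [[22], [24]] zus41 zF42) = true := by decide +kernel
theorem zc46 : P.chainB ns D GA_vs [[0], [2], [4]] = true := by decide +kernel
theorem zb48 : wdB D [[22], [24]] GA_v1.nx zcj47 = true := by decide +kernel
theorem zr49 : chk (wdR GA_v1.nx (W (nat_lit 0x608c06)) zcj47) = true := by decide +kernel
theorem zc50 : P.chainB ns D GA_w0_2_vs [[22], [24]] = true := by decide +kernel
theorem zb52 : wdB D [[22], [24]] GA_w0_2_v0.nx zcj51 = true := by decide +kernel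
theorem zr53 : chk (wdR GA_w0_2_v0.nx [5] zcj51) = true := by decide +kernel
theorem zb56 : bB P.n P.N ns (app D zE55) [[0], [2], [4]] [[22], [24]] 0 zrs45 zB54 = true := by decide +kernel
theorem zb57 : P.invSz ns [[0], [2], [4]] 0 (orbM P.N ns GA_v0) 24 = true := by decide +kernel
theorem zr58 : chk (bR 0 zrs45 zB54) = true := by decide +kernel
theorem zr59 : chk (defRels zE55) = true := by decide +kernel
theorem zf64 : P.fixXB ns (diag [[0], [2]]) cL_F = true := by decide +kernel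
theorem zc65 : P.chainB ns D cLG_vs [[0], [2], [4]] = true := by decide +kernel
theorem zs66 : ssB P.N ns D (mkS P.n cLG_vs cL_x) [[0], [2], [4]] = true := by decide +kernel
theorem zs68 : cL_G.chk zt67 cL_s none = true := by decide +kernel
theorem zr69 : chk (comR [] (mapL Prod.snd (diag [[0], [2]]))) = true := by decide +kernel
theorem zm70 : leB D [] [[0], [2], [4]] = true := by decide +kernel
theorem zr71 : chk (pcsR S_ps []) = true := by decide +kernel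
theorem zb72 : bnd (pcsB D S_ps []) (leB (app D []) [[52], [54], [56]] (pcGens S_ps [])) = true := by decide +kernel
theorem zc73 : P.chainB ns D S_vs [[52], [54], [56]] = true := by decide +kernel
theorem zm75 : leB D zts74 [[0], [2]] = true := by decide +kernel
theorem zr76 : chk (zp [] [[52], [54], [56]] zts74) = true := by decide +kernel
theorem zf78 : P.fixXB ns (diag [[52], [54], [56]]) cS_F = true := by decide +kernel
theorem zc79 : P.chainB ns D cSG_vs [[0], [2], [4]] = true := by decide +kernel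
theorem zs80 : ssB P.N ns D (mkS P.n cSG_vs cS_x) [[0], [2], [4]] = true := by decide +kernel
theorem zs82 : cS_G.chk zt81 cS_s none = true := by decide +kernel
theorem zr83 : chk (comR [[70]] (mapL Prod.snd (diag [[52], [54], [56]]))) = true := by decide +kernel
theorem zm84 : leB D [[70]] [[0], [2], [4]] = true := by decide +kernel
theorem zm86 : leB D zts85 [[0], [2]] = true := by decide +kernel
theorem zr87 : chk (zp [] [[70]] zts85) = true := by decide +kernel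
theorem zc88 : P.chainB ns D T_vs [[80], [82], [84], [86], [88], [90], [92]] = true := by decide +kernel
theorem zr89 : chk (pcsR T_ps []) = true := by decide +kernel
theorem zb90 : bnd (pcsB D T_ps []) (leB (app D []) [[80], [82], [84], [86], [88], [90], [92]] (pcGens T_ps [])) = true := by decide +kernel
theorem zq91 : cvN 2 [80] [[]] v0_E = v0_R := by decide +kernel
theorem zr92 : chk (cvR 2 2 [80] [[]] v0_E) = true := by decide +kernel
theorem zb93 : cvB D [[80], [82], [84], [86], [88], [90], [92]] [[82], [84], [86], [88], [90], [92]] 2 [80] [[]] v0_E = true := by decide +kernel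
theorem zm95 : leB D zts94 [[0], [2], [4]] = true := by decide +kernel
theorem zr96 : chk (zp [] [[80], [82], [84], [86], [88], [90], [92]] zts94) = true := by decide +kernel
theorem zm98 : nrmB D [[80], [82], [84], [86], [88], [90], [92]] [[82], [84], [86], [88], [90], [92]] zcj97 = true := by decide +kernel
theorem zr99 : chk (nrmR [[80], [82], [84], [86], [88], [90], [92]] [[82], [84], [86], [88], [90], [92]] zcj97) = true := by decide +kernel
theorem zm100 : leB D [[82], [84], [86], [88], [90], [92]] [[80], [82], [84], [86], [88], [90], [92]] = true := by decide +kernel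
theorem zq101 : cvN 2 [82] v0_R v1_E = v1_R := by decide +kernel
theorem zr102 : chk (cvR 2 2 [82] v0_R v1_E) = true := by decide +kernel
theorem zb103 : cvB D [[80], [82], [84], [86], [88], [90], [92]] [[84], [86], [88], [90], [92]] 2 [82] v0_R v1_E = true := by decide +kernel
theorem zm105 : nrmB D [[80], [82], [84], [86], [88], [90], [92]] [[84], [86], [88], [90], [92]] zcj104 = true := by decide +kernel
theorem zr106 : chk (nrmR [[80], [82], [84], [86], [88], [90], [92]] [[84], [86], [88], [90], [92]] zcj104) = true := by decide +kernel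
theorem zm107 : leB D [[84], [86], [88], [90], [92]] [[80], [82], [84], [86], [88], [90], [92]] = true := by decide +kernel
theorem zq108 : cvN 2 [84] v1_R v2_E = v2_R := by decide +kernel
theorem zr109 : chk (cvR 2 2 [84] v1_R v2_E) = true := by decide +kernel
theorem zb110 : cvB D [[80], [82], [84], [86], [88], [90], [92]] [[86], [88], [90], [92]] 2 [84] v1_R v2_E = true := by decide +kernel
theorem zm112 : nrmB D [[80], [82], [84], [86], [88], [90], [92]] [[86], [88], [90], [92]] zcj111 = true := by decide +kernel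
theorem zr113 : chk (nrmR [[80], [82], [84], [86], [88], [90], [92]] [[86], [88], [90], [92]] zcj111) = true := by decide +kernel
theorem zm114 : leB D [[86], [88], [90], [92]] [[80], [82], [84], [86], [88], [90], [92]] = true := by decide +kernel
theorem zq115 : cvN 2 [86] v2_R v3_E = v3_R := by decide +kernel
theorem zr116 : chk (cvR 2 2 [86] v2_R v3_E) = true := by decide +kernel
theorem zb117 : cvB D [[80], [82], [84], [86], [88], [90], [92]] [[88], [90], [92]] 2 [86] v2_R v3_E = true := by decide +kernel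
theorem zm119 : nrmB D [[80], [82], [84], [86], [88], [90], [92]] [[88], [90], [92]] zcj118 = true := by decide +kernel
theorem zr120 : chk (nrmR [[80], [82], [84], [86], [88], [90], [92]] [[88], [90], [92]] zcj118) = true := by decide +kernel
theorem zm121 : leB D [[88], [90], [92]] [[80], [82], [84], [86], [88], [90], [92]] = true := by decide +kernel
theorem zq122 : cvN 2 [88] v3_R v4_E = v4_R := by decide +kernel
theorem zr123 : chk (cvR 2 2 [88] v3_R v4_E) = true := by decide +kernel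
theorem zb124 : cvB D [[80], [82], [84], [86], [88], [90], [92]] [[90], [92]] 2 [88] v3_R v4_E = true := by decide +kernel
theorem zm126 : nrmB D [[80], [82], [84], [86], [88], [90], [92]] [[90], [92]] zcj125 = true := by decide +kernel
theorem zr127 : chk (nrmR [[80], [82], [84], [86], [88], [90], [92]] [[90], [92]] zcj125) = true := by decide +kernel
theorem zm128 : leB D [[90], [92]] [[80], [82], [84], [86], [88], [90], [92]] = true := by decide +kernel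
theorem zq129 : cvN 2 [90] v4_R v5_E = v5_R := by decide +kernel
theorem zr130 : chk (cvR 2 2 [90] v4_R v5_E) = true := by decide +kernel
theorem zb131 : cvB D [[80], [82], [84], [86], [88], [90], [92]] [[92]] 2 [90] v4_R v5_E = true := by decide +kernel
theorem zm133 : nrmB D [[80], [82], [84], [86], [88], [90], [92]] [[92]] zcj132 = true := by decide +kernel
theorem zr134 : chk (nrmR [[80], [82], [84], [86], [88], [90], [92]] [[92]] zcj132) = true := by decide +kernel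
theorem zm135 : leB D [[92]] [[80], [82], [84], [86], [88], [90], [92]] = true := by decide +kernel
theorem zq136 : cvN 2 [92] v5_R v6_E = v6_R := by decide +kernel
theorem zr137 : chk (cvR 2 2 [92] v5_R v6_E) = true := by decide +kernel
theorem zb138 : cvB D [[80], [82], [84], [86], [88], [90], [92]] [] 2 [92] v5_R v6_E = true := by decide +kernel
theorem zr139 : chk (fuR v6_R v7_R v7_F) = true := by decide +kernel
theorem zb140 : fuB D [[0], [2], [4]] [] v6_R v7_R v7_F = true := by decide +kernel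
theorem zm141 : leB D [[0], [2], [4]] [[0], [2], [4]] = true := by decide +kernel
theorem zm143 : leB D zts142 [[0], [2], [4]] = true := by decide +kernel
theorem zr144 : chk (zp [] [[80], [82], [84], [86], [88], [90], [92]] zts142) = true := by decide +kernel
theorem zf146 : P.fixXB ns (diag [[104]]) cC0_F = true := by decide +kernel
theorem zc147 : P.chainB ns D cC0G_vs [[0], [2]] = true := by decide +kernel
theorem zs148 : ssB P.N ns D (mkS P.n cC0G_vs cC0_x) [[0], [2]] = true := by decide +kernel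
theorem zs150 : cC0_G.chk zt149 cC0_s none = true := by decide +kernel
theorem zr151 : chk (comR [[110], [112]] (mapL Prod.snd (diag [[104]]))) = true := by decide +kernel
theorem zm152 : leB D [[110], [112]] [[0], [2]] = true := by decide +kernel
theorem zr153 : chk (pcsR D0_ps []) = true := by decide +kernel
theorem zb154 : bnd (pcsB D D0_ps []) (leB (app D []) [[126], [128], [130]] (pcGens D0_ps [])) = true := by decide +kernel
theorem zc155 : P.chainB ns D D0_vs [[126], [128], [130]] = true := by decide +kernel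
theorem zm157 : bnd (leB D (mapL Prod.fst zps156) [[110], [112]]) (leB D (mapL Prod.snd zps156) [[110], [112]]) = true := by decide +kernel
theorem zr158 : chk (zp [] [[144], [146], [148]] (mapL comW zps156)) = true := by decide +kernel
theorem zm160 : leB D zts159 [[144], [146], [148]] = true := by decide +kernel
theorem zr161 : chk (zp [] [[126], [128], [130]] zts159) = true := by decide +kernel
theorem zm163 : leB D zts162 [[126], [128], [130]] = true := by decide +kernel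
theorem zr164 : chk (zp [] (comWs [[110], [112]] [[110], [112]]) zts162) = true := by decide +kernel
theorem zm166 : nrmB D [[110], [112]] [[126], [128], [130]] zcj165 = true := by decide +kernel
theorem zr167 : chk (nrmR [[110], [112]] [[126], [128], [130]] zcj165) = true := by decide +kernel
theorem zm169 : nrmB D [[110], [112]] [[126], [128], [130]] zcj168 = true := by decide +kernel
theorem zr170 : chk (nrmR [[110], [112]] [[126], [128], [130]] zcj168) = true := by decide +kernel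
theorem zr172 : chk (pcsR Q0_ps []) = true := by decide +kernel
theorem zr173 : chk (defRels zE171) = true := by decide +kernel
theorem zb174 : bnd (pcsB D Q0_ps []) (leB (app D zE171) [[160], [162], [164], [166]] (pcGens Q0_ps [])) = true := by decide +kernel
theorem zc175 : P.chainB ns D Q0_vs [[160], [162], [164], [166]] = true := by decide +kernel
theorem zm177 : leB D zts176 [[126], [128], [130]] = true := by decide +kernel
theorem zr178 : chk (zp [] [[160], [162], [164], [166]] zts176) = true := by decide +kernel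
theorem zm180 : nrmB D [[126], [128], [130]] [[160], [162], [164], [166]] zcj179 = true := by decide +kernel
theorem zr181 : chk (nrmR [[126], [128], [130]] [[160], [162], [164], [166]] zcj179) = true := by decide +kernel
theorem zr183 : chk (pcsR Z0_ps []) = true := by decide +kernel
theorem zr184 : chk (defRels zE182) = true := by decide +kernel
theorem zb185 : bnd (pcsB D Z0_ps []) (leB (app D zE182) [[136], [180]] (pcGens Z0_ps [])) = true := by decide +kernel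
theorem zc186 : P.chainB ns D Z0_vs [[136], [180]] = true := by decide +kernel
theorem zf189 : P.fixXB ns (diag [[160], [162], [164], [166]]) cQ0_F = true := by decide +kernel
theorem zc190 : P.chainB ns D cQ0G_vs [[126], [128], [130]] = true := by decide +kernel
theorem zs191 : ssB P.N ns D (mkS P.n cQ0G_vs cQ0_x) [[126], [128], [130]] = true := by decide +kernel
theorem zs193 : cQ0_G.chk zt192 cQ0_s none = true := by decide +kernel
theorem zr194 : chk (comR [[136], [180]] (mapL Prod.snd (diag [[160], [162], [164], [166]]))) = true := by decide +kernel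
theorem zm195 : leB D [[136], [180]] [[126], [128], [130]] = true := by decide +kernel
theorem zf196 : P.fixXB ns (diag [[106]]) cC1_F = true := by decide +kernel
theorem zc197 : P.chainB ns D cC1G_vs [[0], [2]] = true := by decide +kernel
theorem zs198 : ssB P.N ns D (mkS P.n cC1G_vs cC1_x) [[0], [2]] = true := by decide +kernel
theorem zr200 : chk (defRels zE199) = true := by decide +kernel
theorem zs202 : cC1_G.chk zt201 cC1_s none = true := by decide +kernel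
theorem zr203 : chk (comR [[188], [190]] (mapL Prod.snd (diag [[106]]))) = true := by decide +kernel
theorem zm204 : leB D [[188], [190]] [[0], [2]] = true := by decide +kernel
theorem zb207 : bnd (pcB D [] 2 zt205 zcj206) (leB (app D []) [[218]] ([218] :: [])) = true := by decide +kernel
theorem zr208 : chk (pcR [] [218] 2 zt205 zcj206) = true := by decide +kernel
theorem zb211 : schB D [[216], [218]] [[218]] zus209 zF210 5 = true := by decide +kernel
theorem zr212 : chk (schR [[216], [218]] zus209 zF210) = true := by decide +kernel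
theorem zb215 : schB D [[212], [214]] [[216], [218]] zus213 zF214 6 = true := by decide +kernel
theorem zr216 : chk (schR [[212], [214]] zus213 zF214) = true := by decide +kernel
theorem zc217 : P.chainB ns D D1_vs [[212], [214]] = true := by decide +kernel
theorem zm219 : bnd (leB D (mapL Prod.fst zps218) [[188], [190]]) (leB D (mapL Prod.snd zps218) [[188], [190]]) = true := by decide +kernel
theorem zr220 : chk (zp [] [[220], [222]] (mapL comW zps218)) = true := by decide +kernel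
theorem zm222 : leB D zts221 [[220], [222]] = true := by decide +kernel
theorem zr223 : chk (zp [] [[212], [214]] zts221) = true := by decide +kernel
theorem zm225 : leB D zts224 [[212], [214]] = true := by decide +kernel
theorem zr226 : chk (zp [] (comWs [[188], [190]] [[188], [190]]) zts224) = true := by decide +kernel
theorem zm228 : nrmB D [[188], [190]] [[212], [214]] zcj227 = true := by decide +kernel
theorem zr229 : chk (nrmR [[188], [190]] [[212], [214]] zcj227) = true := by decide +kernel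
theorem zm231 : nrmB D [[188], [190]] [[212], [214]] zcj230 = true := by decide +kernel
theorem zr232 : chk (nrmR [[188], [190]] [[212], [214]] zcj230) = true := by decide +kernel
theorem zl235 : zK234.relB CL.Q49M.M12.P CL.Q49M.M12Aux1.T.P CL.Q49M.M12.ns [[230], [232]] [[0], [2]] = true := by decide +kernel
theorem zl236 : allL (zK234.pl CL.Q49M.M12.P CL.Q49M.M12Aux1.T.P CL.Q49M.M12.ns CL.Q49M.M12Aux1.T.ns 0) (zp [] [[230], [232]] [[0], [2]]) = true := by decide +kernel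
theorem zm238 : leB D zts237 [[230], [232]] = true := by decide +kernel
theorem zr239 : chk (zp [] [[212], [214]] zts237) = true := by decide +kernel
theorem zm241 : leB D zts240 [[212], [214]] = true := by decide +kernel
theorem zr242 : chk (zp [] [[230], [232]] zts240) = true := by decide +kernel
theorem zr243 : chk [([240, 106], [106, 244, 240])] = true := by decide +kernel
theorem zr244 : chk [([244, 106], [106, 244])] = true := by decide +kernel
theorem zr245 : chk [([242, 244], [244, 246, 242])] = true := by decide +kernel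
theorem zr246 : chk [([248, 248], [246])] = true := by decide +kernel
theorem zr247 : chk [([250, 250], [246])] = true := by decide +kernel
theorem zr248 : chk [([248, 240], [240, 248])] = true := by decide +kernel
theorem zr249 : chk [([252, 242], [242, 240])] = true := by decide +kernel
theorem zr250 : chk [([250, 252], [252, 250])] = true := by decide +kernel
theorem zr251 : chk [([246, 246], [])] = true := by decide +kernel
theorem zn252 : movB P.n P.N ns [246] 0 = true := by decide +kernel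
theorem zc253 : P.chainB ns D P1_vs [[254], [256]] = true := by decide +kernel
theorem zr254 : chk (pcsR P1_ps []) = true := by decide +kernel
theorem zb255 : bnd (pcsB D P1_ps []) (leB (app D []) [[254], [256]] (pcGens P1_ps [])) = true := by decide +kernel
theorem zq256 : cvN 2 [254] [[]] w1_0_E = w1_0_R := by decide +kernel
theorem zr257 : chk (cvR 2 2 [254] [[]] w1_0_E) = true := by decide +kernel
theorem zb258 : cvB D [[254], [256]] [[256]] 2 [254] [[]] w1_0_E = true := by decide +kernel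
theorem zm260 : leB D zts259 [[212], [214]] = true := by decide +kernel
theorem zr261 : chk (zp [] [[254], [256]] zts259) = true := by decide +kernel
theorem zm263 : nrmB D [[254], [256]] [[256]] zcj262 = true := by decide +kernel
theorem zr264 : chk (nrmR [[254], [256]] [[256]] zcj262) = true := by decide +kernel
theorem zm265 : leB D [[256]] [[254], [256]] = true := by decide +kernel
theorem zq266 : cvN 2 [256] w1_0_R w1_1_E = w1_1_R := by decide +kernel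
theorem zr267 : chk (cvR 2 2 [256] w1_0_R w1_1_E) = true := by decide +kernel
theorem zb268 : cvB D [[254], [256]] [] 2 [256] w1_0_R w1_1_E = true := by decide +kernel
theorem zr269 : chk (fuR w1_1_R w1_2_R w1_2_F) = true := by decide +kernel
theorem zb270 : fuB D [[212], [214]] [] w1_1_R w1_2_R w1_2_F = true := by decide +kernel
theorem zm271 : leB D [[212], [214]] [[212], [214]] = true := by decide +kernel
theorem zm273 : leB D zts272 [[212], [214]] = true := by decide +kernel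
theorem zr274 : chk (zp [] [[254], [256]] zts272) = true := by decide +kernel
theorem zm275 : leB D [[250]] [[0], [2]] = true := by decide +kernel
theorem zm276 : leB D [[248]] [[0], [2]] = true := by decide +kernel
theorem zm277 : leB D [[244]] [[0], [2]] = true := by decide +kernel
theorem zm278 : leB D [[242]] [[212], [214]] = true := by decide +kernel
theorem zm279 : leB D [[240]] [[0], [2]] = true := by decide +kernel
theorem zf280 : P.fixXB ns (diag [[108]]) cC2_F = true := by decide +kernel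
theorem zc281 : P.chainB ns D cC2G_vs [[0], [2]] = true := by decide +kernel
theorem zs282 : ssB P.N ns D (mkS P.n cC2G_vs cC2_x) [[0], [2]] = true := by decide +kernel
theorem zs284 : cC2_G.chk zt283 cC2_s none = true := by decide +kernel
theorem zr285 : chk (comR [[260], [262]] (mapL Prod.snd (diag [[108]]))) = true := by decide +kernel
theorem zm286 : leB D [[260], [262]] [[0], [2]] = true := by decide +kernel
theorem zb289 : bnd (pcB D [] 2 zt287 zcj288) (leB (app D []) [[294]] ([294] :: [])) = true := by decide +kernel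
theorem zr290 : chk (pcR [] [294] 2 zt287 zcj288) = true := by decide +kernel
theorem zb293 : schB D [[290], [292]] [[294]] zus291 zF292 5 = true := by decide +kernel
theorem zr294 : chk (schR [[290], [292]] zus291 zF292) = true := by decide +kernel
theorem zb297 : schB D [[286], [288]] [[290], [292]] zus295 zF296 6 = true := by decide +kernel
theorem zr298 : chk (schR [[286], [288]] zus295 zF296) = true := by decide +kernel
theorem zc299 : P.chainB ns D D2_vs [[286], [288]] = true := by decide +kernel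
theorem zm301 : bnd (leB D (mapL Prod.fst zps300) [[260], [262]]) (leB D (mapL Prod.snd zps300) [[260], [262]]) = true := by decide +kernel
theorem zr302 : chk (zp [] [[296], [298]] (mapL comW zps300)) = true := by decide +kernel
theorem zm304 : leB D zts303 [[296], [298]] = true := by decide +kernel
theorem zr305 : chk (zp [] [[286], [288]] zts303) = true := by decide +kernel
theorem zm307 : leB D zts306 [[286], [288]] = true := by decide +kernel
theorem zr308 : chk (zp [] (comWs [[260], [262]] [[260], [262]]) zts306) = true := by decide +kernel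
theorem zm310 : nrmB D [[260], [262]] [[286], [288]] zcj309 = true := by decide +kernel
theorem zr311 : chk (nrmR [[260], [262]] [[286], [288]] zcj309) = true := by decide +kernel
theorem zm313 : nrmB D [[260], [262]] [[286], [288]] zcj312 = true := by decide +kernel
theorem zr314 : chk (nrmR [[260], [262]] [[286], [288]] zcj312) = true := by decide +kernel
theorem zl317 : zK316.relB CL.Q49M.M12.P CL.Q49M.M12Aux2.T.P CL.Q49M.M12.ns [[306], [308]] [[0], [2]] = true := by decide +kernel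
theorem zl318 : allL (zK316.pl CL.Q49M.M12.P CL.Q49M.M12Aux2.T.P CL.Q49M.M12.ns CL.Q49M.M12Aux2.T.ns 0) (zp [] [[306], [308]] [[0], [2]]) = true := by decide +kernel
theorem zm320 : leB D zts319 [[306], [308]] = true := by decide +kernel
theorem zr321 : chk (zp [] [[286], [288]] zts319) = true := by decide +kernel
theorem zm323 : leB D zts322 [[286], [288]] = true := by decide +kernel
theorem zr324 : chk (zp [] [[306], [308]] zts322) = true := by decide +kernel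
theorem zr325 : chk [([316, 108], [108, 320, 316])] = true := by decide +kernel
theorem zr326 : chk [([320, 108], [108, 320])] = true := by decide +kernel
theorem zr327 : chk [([318, 320], [320, 322, 318])] = true := by decide +kernel
theorem zr328 : chk [([324, 324], [322])] = true := by decide +kernel
theorem zr329 : chk [([326, 326], [322])] = true := by decide +kernel
theorem zr330 : chk [([324, 316], [316, 324])] = true := by decide +kernel
theorem zr331 : chk [([328, 318], [318, 316])] = true := by decide +kernel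
theorem zr332 : chk [([326, 328], [328, 326])] = true := by decide +kernel
theorem zr333 : chk [([322, 322], [])] = true := by decide +kernel
theorem zn334 : movB P.n P.N ns [322] 0 = true := by decide +kernel
theorem zc335 : P.chainB ns D P2_vs [[330], [332]] = true := by decide +kernel
theorem zr336 : chk (pcsR P2_ps []) = true := by decide +kernel
theorem zb337 : bnd (pcsB D P2_ps []) (leB (app D []) [[330], [332]] (pcGens P2_ps [])) = true := by decide +kernel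
theorem zq338 : cvN 2 [330] [[]] w2_0_E = w2_0_R := by decide +kernel
theorem zr339 : chk (cvR 2 2 [330] [[]] w2_0_E) = true := by decide +kernel
theorem zb340 : cvB D [[330], [332]] [[332]] 2 [330] [[]] w2_0_E = true := by decide +kernel
theorem zm342 : leB D zts341 [[286], [288]] = true := by decide +kernel
theorem zr343 : chk (zp [] [[330], [332]] zts341) = true := by decide +kernel
theorem zm345 : nrmB D [[330], [332]] [[332]] zcj344 = true := by decide +kernel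
theorem zr346 : chk (nrmR [[330], [332]] [[332]] zcj344) = true := by decide +kernel
theorem zm347 : leB D [[332]] [[330], [332]] = true := by decide +kernel
theorem zq348 : cvN 2 [332] w2_0_R w2_1_E = w2_1_R := by decide +kernel
theorem zr349 : chk (cvR 2 2 [332] w2_0_R w2_1_E) = true := by decide +kernel
theorem zb350 : cvB D [[330], [332]] [] 2 [332] w2_0_R w2_1_E = true := by decide +kernel
theorem zr351 : chk (fuR w2_1_R w2_2_R w2_2_F) = true := by decide +kernel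
theorem zb352 : fuB D [[286], [288]] [] w2_1_R w2_2_R w2_2_F = true := by decide +kernel
theorem zm353 : leB D [[286], [288]] [[286], [288]] = true := by decide +kernel
theorem zm355 : leB D zts354 [[286], [288]] = true := by decide +kernel
theorem zr356 : chk (zp [] [[330], [332]] zts354) = true := by decide +kernel
theorem zm357 : leB D [[326]] [[0], [2]] = true := by decide +kernel
theorem zm358 : leB D [[324]] [[0], [2]] = true := by decide +kernel
theorem zm359 : leB D [[320]] [[0], [2]] = true := by decide +kernel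
theorem zm360 : leB D [[318]] [[286], [288]] = true := by decide +kernel
theorem zm361 : leB D [[316]] [[0], [2]] = true := by decide +kernel
theorem zm362 : leB D [[0], [2]] [[0], [2], [4]] = true := by decide +kernel
theorem zk363 : allL (keepB P.n P.N) ns0 = true := by decide +kernel
theorem ze364 : extB ns0 ns 3 ws [] = true := by decide +kernel
theorem zn365 : P.netsB ns (mkDefs ws 3) = true := by decide +kernel

variable {G X : Type*} [Group G] [MulAction G X] {e : ℕ → X} {gs : List G}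

theorem keep0 : allL (keepB P.n P.N) ns0 = true := zk363

theorem len {k} (c : Ctx P e gs ns0 [] k) : gs.length = 3 := c.len ze364

theorem ctx0 {k} (c : Ctx P e gs ns0 [] k) : Ctx P e (ext gs ws) ns D chk0 :=
  c.ext rfl ze364 zn365

theorem ctx {k} (c : Ctx P e gs ns0 [] k) {H : Subgroup G} (hF : Faithful e P.n H) (hH : ∀ g ∈ gs, g ∈ H) :
    Ctx P e (ext gs ws) ns D chk :=
  (ctx0 c).withB hF (mem_of_mem_ext hH _)

theorem GM_u5 (c : Ctx P e gs ns D chk) :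
    UB (subW gs [[20]]) 2 :=
  (c.pc_step (UB.nil gs) (Rels.nil _)
    (c.rels _ zr3) zb2).le (by decide)

theorem GM_u4 (c : Ctx P e gs ns D chk) :
    UB (subW gs [[16], [18]]) 8 :=
  (c.sch_step (GM_u5 c)
    (c.rels _ zr7) zb6).le (by decide)

theorem GM_u3 (c : Ctx P e gs ns D chk) :
    UB (subW gs [[12], [14]]) 72 :=
  (c.sch_step (GM_u4 c)
    (c.rels _ zr11) zb10).le (by decide)

theorem GM_u2 (c : Ctx P e gs ns D chk) :
    UB (subW gs [[8], [10]]) 720 :=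
  (c.sch_step (GM_u3 c)
    (c.rels _ zr15) zb14).le (by decide)

theorem GM_u1 (c : Ctx P e gs ns D chk) :
    UB (subW gs [[6], [1]]) 7920 :=
  (c.sch_step (GM_u2 c)
    (c.rels _ zr19) zb18).le (by decide)

theorem GM_u0 (c : Ctx P e gs ns D chk) :
    UB (subW gs [[0], [2]]) 95040 :=
  (c.sch_step (GM_u1 c)
    (c.rels _ zr23) zb22).le (by decide)

theorem GM_ub (c : Ctx P e gs ns D chk) :
    UB (subW gs [[0], [2]]) 95040 :=
  (GM_u0 c)

theorem GM_c : P.chainB ns D GM_vs [[0], [2]] = true :=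
  zc24

theorem GM_o : prodL GM_vs 1 = 95040 := by decide +kernel

theorem GM_ex (c : Ctx P e gs ns D chk) :
    Exact e P.n P.N gs ns 1 GM_vs [[0], [2]] :=
  c.exact GM_c GM_o (GM_ub c)

theorem GM_card (c : Ctx P e gs ns D chk) :
    Nat.card (subW gs [[0], [2]]) = 95040 :=
  (GM_ex c).card.trans GM_o

theorem GA_u5 (c : Ctx P e gs ns D chk) :
    UB (subW gs [[38]]) 2 :=
  (c.pc_step (UB.nil gs) (Rels.nil _)
    (c.rels _ zr28) zb27).le (by decide)

theorem GA_u4 (c : Ctx P e gs ns D chk) :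
    UB (subW gs [[34], [36]]) 8 :=
  (c.sch_step (GA_u5 c)
    (c.rels _ zr32) zb31).le (by decide)

theorem GA_u3 (c : Ctx P e gs ns D chk) :
    UB (subW gs [[30], [32]]) 72 :=
  (c.sch_step (GA_u4 c)
    (c.rels _ zr36) zb35).le (by decide)

theorem GA_u2 (c : Ctx P e gs ns D chk) :
    UB (subW gs [[26], [28]]) 720 :=
  (c.sch_step (GA_u3 c)
    (c.rels _ zr40) zb39).le (by decide)

theorem GA_u1 (c : Ctx P e gs ns D chk) :
    UB (subW gs [[22], [24]]) 7920 :=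
  (c.sch_step (GA_u2 c)
    (c.rels _ zr44) zb43).le (by decide)

theorem GA_c : P.chainB ns D GA_vs [[0], [2], [4]] = true :=
  zc46

theorem GA_o : prodL GA_vs 1 = 190080 := by decide +kernel

theorem GA_w0_2_c : P.chainB ns D GA_w0_2_vs [[22], [24]] = true :=
  zc50

theorem GA_w0_2_o : prodL GA_w0_2_vs 1 = 7920 := by decide +kernel

theorem GA_u0w (c : Ctx P e gs ns D chk) :
    AllWd e gs [[22], [24]] zrs45 :=
  ⟨c.wd (v := GA_v1) (vs := GA_vs2) (GA_u1 c) (Par.chainB_tail GA_c) (by decide +kernel)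
      (c.rels _ zr49) zb48,
    ⟨c.wd (v := GA_w0_2_v0) (vs := GA_w0_2_vs1) (GA_u1 c) GA_w0_2_c GA_w0_2_o
      (c.rels _ zr53) zb52,
    trivial⟩⟩

theorem GA_u0 (c : Ctx P e gs ns D chk) :
    UB (subW gs [[0], [2], [4]]) 190080 :=
  (c.b_step (GA_u1 c) (GA_u0w c) (c.rels _ zr59)
    (c.rels _ zr58) zb56 zb57).le (by decide)

theorem GA_ub (c : Ctx P e gs ns D chk) :
    UB (subW gs [[0], [2], [4]]) 190080 :=
  (GA_u0 c)

theorem GA_ex (c : Ctx P e gs ns D chk) :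
    Exact e P.n P.N gs ns 1 GA_vs [[0], [2], [4]] :=
  c.exact GA_c GA_o (GA_ub c)

theorem GA_card (c : Ctx P e gs ns D chk) :
    Nat.card (subW gs [[0], [2], [4]]) = 190080 :=
  (GA_ex c).card.trans GA_o

theorem cLG_c : P.chainB ns D cLG_vs [[0], [2], [4]] = true :=
  zc65

theorem cLG_o : prodL cLG_vs 1 = 190080 := by decide +kernel

theorem cL (c : Ctx P e gs ns D chk) :
    (subW gs [[0], [2], [4]]) ⊓ Subgroup.centralizer (subW gs [[0], [2]] : Set G) = (subW gs []) :=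
  c.cent (lx := [[0], [2]]) (Rels.nil _) (c.sOk (c.exact cLG_c cLG_o (GA_ub c)) zs66) (fun _ h => by cases h)
    (c.fixX zf64) (c.rels _ zr69) zm70 zs68

theorem S_pr (c : Ctx P e gs ns D chk) :
    Rels gs (pcsR S_ps []) :=
  (c.rels _ zr71)

theorem S_pe (c : Ctx P e gs ns D chk) :
    Rels gs (defRels []) :=
  (Rels.nil _)

theorem S_pb : bnd (pcsB D S_ps []) (leB (app D []) [[52], [54], [56]] (pcGens S_ps [])) = true := zb72

theorem S_ub (c : Ctx P e gs ns D chk) :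
    UB (subW gs [[52], [54], [56]]) 64 :=
  c.pcs (UB.nil gs) (S_pe c) (S_pr c) S_pb (by decide +kernel)

theorem S_c : P.chainB ns D S_vs [[52], [54], [56]] = true :=
  zc73

theorem S_o : prodL S_vs 1 = 64 := by decide +kernel

theorem S_lb (c : Ctx P e gs ns D chk) :
    LB (subW gs [[52], [54], [56]]) 64 :=
  c.lb S_c S_o

theorem S_card (c : Ctx P e gs ns D chk) :
    Nat.card (subW gs [[52], [54], [56]]) = 64 :=
  (S_ub c).card_eq (S_lb c)

theorem S_le (c : Ctx P e gs ns D chk) :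
    (subW gs [[52], [54], [56]]) ≤ (subW gs [[0], [2]]) :=
  (c.le_of_rels (ws := [[52], [54], [56]]) (l := [[0], [2]]) (c.rels _ zr76) zm75)

theorem cSG_c : P.chainB ns D cSG_vs [[0], [2], [4]] = true :=
  zc79

theorem cSG_o : prodL cSG_vs 1 = 190080 := by decide +kernel

theorem cS (c : Ctx P e gs ns D chk) :
    (subW gs [[0], [2], [4]]) ⊓ Subgroup.centralizer (subW gs [[52], [54], [56]] : Set G) = (subW gs [[70]]) :=
  c.cent (lx := [[52], [54], [56]]) (Rels.nil _) (c.sOk (c.exact cSG_c cSG_o (GA_ub c)) zs80) (fun _ h => by cases h)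
    (c.fixX zf78) (c.rels _ zr83) zm84 zs82

theorem SZ_le (c : Ctx P e gs ns D chk) :
    (subW gs [[70]]) ≤ (subW gs [[0], [2]]) :=
  (c.le_of_rels (ws := [[70]]) (l := [[0], [2]]) (c.rels _ zr87) zm86)

theorem gam (c : Ctx P e gs ns D chk) :
    Gam (subW gs [[0], [2], [4]]) (subW gs [[0], [2]]) :=
  ⟨_, S_le c, 6, 1485, (S_card c).trans (by norm_num), (GM_card c).trans (by norm_num), by norm_num, (cS c).le.trans (SZ_le c)⟩

theorem T_c : P.chainB ns D T_vs [[80], [82], [84], [86], [88], [90], [92]] = true :=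
  zc88

theorem T_o : prodL T_vs 1 = 128 := by decide +kernel

theorem T_lb (c : Ctx P e gs ns D chk) :
    LB (subW gs [[80], [82], [84], [86], [88], [90], [92]]) 128 :=
  c.lb T_c T_o

theorem T_pr (c : Ctx P e gs ns D chk) :
    Rels gs (pcsR T_ps []) :=
  (c.rels _ zr89)

theorem T_pe (c : Ctx P e gs ns D chk) :
    Rels gs (defRels []) :=
  (Rels.nil _)

theorem T_pb : bnd (pcsB D T_ps []) (leB (app D []) [[80], [82], [84], [86], [88], [90], [92]] (pcGens T_ps [])) = true := zb90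

theorem T_ub (c : Ctx P e gs ns D chk) :
    UB (subW gs [[80], [82], [84], [86], [88], [90], [92]]) 128 :=
  c.pcs (UB.nil gs) (T_pe c) (T_pr c) T_pb (by decide +kernel)

theorem T_card (c : Ctx P e gs ns D chk) :
    Nat.card (subW gs [[80], [82], [84], [86], [88], [90], [92]]) = 128 :=
  (T_ub c).card_eq (T_lb c)

theorem v_le0 (c : Ctx P e gs ns D chk) :
    (subW gs [[80], [82], [84], [86], [88], [90], [92]]) ≤ (subW gs [[0], [2], [4]]) :=
  (c.le_of_rels (ws := [[80], [82], [84], [86], [88], [90], [92]]) (l := [[0], [2], [4]]) (c.rels _ zr96) zm95)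

theorem v0 (c : Ctx P e gs ns D chk) :
    Cov 2 (subW gs [[80], [82], [84], [86], [88], [90], [92]]) (subW gs [[0], [2], [4]]) gs v0_R (subW gs [[82], [84], [86], [88], [90], [92]]) :=
  Cov.step' (q := 2) (g := [80]) c.defs (by norm_num) (Cov.init 2 (subW gs [[80], [82], [84], [86], [88], [90], [92]]) (subW gs [[0], [2], [4]]) gs)
    (pc_lvl' c.defs (T_pr c) T_pb (T_lb c) 0 (by decide +kernel))
    (c.le_normalizer (cj := zcj97) (((T_ub c).mono (c.le zm100)).1) (c.rels _ zr99) zm98) (v_le0 c)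
    (c.rels _ zr92) zb93 zq91

theorem v1 (c : Ctx P e gs ns D chk) :
    Cov 2 (subW gs [[80], [82], [84], [86], [88], [90], [92]]) (subW gs [[0], [2], [4]]) gs v1_R (subW gs [[84], [86], [88], [90], [92]]) :=
  Cov.step' (q := 2) (g := [82]) c.defs (by norm_num) (v0 c)
    (pc_lvl' c.defs (T_pr c) T_pb (T_lb c) 1 (by decide +kernel))
    (c.le_normalizer (cj := zcj104) (((T_ub c).mono (c.le zm107)).1) (c.rels _ zr106) zm105) (v_le0 c)
    (c.rels _ zr102) zb103 zq101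

theorem v2 (c : Ctx P e gs ns D chk) :
    Cov 2 (subW gs [[80], [82], [84], [86], [88], [90], [92]]) (subW gs [[0], [2], [4]]) gs v2_R (subW gs [[86], [88], [90], [92]]) :=
  Cov.step' (q := 2) (g := [84]) c.defs (by norm_num) (v1 c)
    (pc_lvl' c.defs (T_pr c) T_pb (T_lb c) 2 (by decide +kernel))
    (c.le_normalizer (cj := zcj111) (((T_ub c).mono (c.le zm114)).1) (c.rels _ zr113) zm112) (v_le0 c)
    (c.rels _ zr109) zb110 zq108

theorem v3 (c : Ctx P e gs ns D chk) :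
    Cov 2 (subW gs [[80], [82], [84], [86], [88], [90], [92]]) (subW gs [[0], [2], [4]]) gs v3_R (subW gs [[88], [90], [92]]) :=
  Cov.step' (q := 2) (g := [86]) c.defs (by norm_num) (v2 c)
    (pc_lvl' c.defs (T_pr c) T_pb (T_lb c) 3 (by decide +kernel))
    (c.le_normalizer (cj := zcj118) (((T_ub c).mono (c.le zm121)).1) (c.rels _ zr120) zm119) (v_le0 c)
    (c.rels _ zr116) zb117 zq115

theorem v4 (c : Ctx P e gs ns D chk) :
    Cov 2 (subW gs [[80], [82], [84], [86], [88], [90], [92]]) (subW gs [[0], [2], [4]]) gs v4_R (subW gs [[90], [92]]) :=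
  Cov.step' (q := 2) (g := [88]) c.defs (by norm_num) (v3 c)
    (pc_lvl' c.defs (T_pr c) T_pb (T_lb c) 4 (by decide +kernel))
    (c.le_normalizer (cj := zcj125) (((T_ub c).mono (c.le zm128)).1) (c.rels _ zr127) zm126) (v_le0 c)
    (c.rels _ zr123) zb124 zq122

theorem v5 (c : Ctx P e gs ns D chk) :
    Cov 2 (subW gs [[80], [82], [84], [86], [88], [90], [92]]) (subW gs [[0], [2], [4]]) gs v5_R (subW gs [[92]]) :=
  Cov.step' (q := 2) (g := [90]) c.defs (by norm_num) (v4 c)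
    (pc_lvl' c.defs (T_pr c) T_pb (T_lb c) 5 (by decide +kernel))
    (c.le_normalizer (cj := zcj132) (((T_ub c).mono (c.le zm135)).1) (c.rels _ zr134) zm133) (v_le0 c)
    (c.rels _ zr130) zb131 zq129

theorem v6 (c : Ctx P e gs ns D chk) :
    Cov 2 (subW gs [[80], [82], [84], [86], [88], [90], [92]]) (subW gs [[0], [2], [4]]) gs v6_R (subW gs []) :=
  Cov.step' (q := 2) (g := [92]) c.defs (by norm_num) (v5 c)
    (pc_lvl' c.defs (T_pr c) T_pb (T_lb c) 6 (by decide +kernel))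
    (le_normalizer_nil gs _) (v_le0 c)
    (c.rels _ zr137) zb138 zq136

theorem v7 (c : Ctx P e gs ns D chk) :
    Cov 2 (subW gs [[80], [82], [84], [86], [88], [90], [92]]) (subW gs [[0], [2], [4]]) gs v7_R (subW gs []) :=
  Cov.fuse c.defs (v6 c) (le_normalizer_nil gs _) (c.le zm141)
    (c.rels _ zr139) zb140

theorem v_cls (c : Ctx P e gs ns D chk) :
    Cls 2 (subW gs [[80], [82], [84], [86], [88], [90], [92]]) (subW gs [[0], [2], [4]]) gs [[], [104], [106], [108]] :=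
  (v7 c).cls

theorem T_le (c : Ctx P e gs ns D chk) :
    (subW gs [[80], [82], [84], [86], [88], [90], [92]]) ≤ (subW gs [[0], [2], [4]]) :=
  (c.le_of_rels (ws := [[80], [82], [84], [86], [88], [90], [92]]) (l := [[0], [2], [4]]) (c.rels _ zr144) zm143)

theorem cC0G_c : P.chainB ns D cC0G_vs [[0], [2]] = true :=
  zc147

theorem cC0G_o : prodL cC0G_vs 1 = 95040 := by decide +kernel

theorem cC0 (c : Ctx P e gs ns D chk) :
    (subW gs [[0], [2]]) ⊓ Subgroup.centralizer (subW gs [[104]] : Set G) = (subW gs [[110], [112]]) :=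
  c.cent (lx := [[104]]) (Rels.nil _) (c.sOk (c.exact cC0G_c cC0G_o (GM_ub c)) zs148) (fun _ h => by cases h)
    (c.fixX zf146) (c.rels _ zr151) zm152 zs150

theorem D0_pr (c : Ctx P e gs ns D chk) :
    Rels gs (pcsR D0_ps []) :=
  (c.rels _ zr153)

theorem D0_pe (c : Ctx P e gs ns D chk) :
    Rels gs (defRels []) :=
  (Rels.nil _)

theorem D0_pb : bnd (pcsB D D0_ps []) (leB (app D []) [[126], [128], [130]] (pcGens D0_ps [])) = true := zb154

theorem D0_ub (c : Ctx P e gs ns D chk) :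
    UB (subW gs [[126], [128], [130]]) 96 :=
  c.pcs (UB.nil gs) (D0_pe c) (D0_pr c) D0_pb (by decide +kernel)

theorem D0_c : P.chainB ns D D0_vs [[126], [128], [130]] = true :=
  zc155

theorem D0_o : prodL D0_vs 1 = 96 := by decide +kernel

theorem D0_lb (c : Ctx P e gs ns D chk) :
    LB (subW gs [[126], [128], [130]]) 96 :=
  c.lb D0_c D0_o

theorem D0_card (c : Ctx P e gs ns D chk) :
    Nat.card (subW gs [[126], [128], [130]]) = 96 :=
  (D0_ub c).card_eq (D0_lb c)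

theorem cm0_c_le (c : Ctx P e gs ns D chk) :
    (subW gs [[144], [146], [148]]) ≤ ⁅(subW gs [[110], [112]]), (subW gs [[110], [112]])⁆ :=
  c.le_commutator (ps := zps156) (c.rels _ zr158) zm157

theorem cm0 (c : Ctx P e gs ns D chk) :
    ⁅(subW gs [[110], [112]]), (subW gs [[110], [112]])⁆ = (subW gs [[126], [128], [130]]) :=
  have hfin : Finite (subW gs [[126], [128], [130]]) := (D0_ub c).1
  le_antisymm (commutator_subW_le (c.le_normalizer (cj := zcj168) hfin (c.rels _ zr170) zm169) (c.le_normalizer (cj := zcj165) hfin (c.rels _ zr167) zm166)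
    (c.le_of_rels (ws := (comWs [[110], [112]] [[110], [112]])) (l := [[126], [128], [130]]) (c.rels _ zr164) zm163)) ((c.le_of_rels (ws := [[126], [128], [130]]) (l := [[144], [146], [148]]) (c.rels _ zr161) zm160).trans (cm0_c_le c))

theorem Q0_pr (c : Ctx P e gs ns D chk) :
    Rels gs (pcsR Q0_ps []) :=
  (c.rels _ zr172)

theorem Q0_pe (c : Ctx P e gs ns D chk) :
    Rels gs (defRels zE171) :=
  (c.rels _ zr173)

theorem Q0_pb : bnd (pcsB D Q0_ps []) (leB (app D zE171) [[160], [162], [164], [166]] (pcGens Q0_ps [])) = true := zb174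

theorem Q0_ub (c : Ctx P e gs ns D chk) :
    UB (subW gs [[160], [162], [164], [166]]) 32 :=
  c.pcs (UB.nil gs) (Q0_pe c) (Q0_pr c) Q0_pb (by decide +kernel)

theorem Q0_c : P.chainB ns D Q0_vs [[160], [162], [164], [166]] = true :=
  zc175

theorem Q0_o : prodL Q0_vs 1 = 32 := by decide +kernel

theorem Q0_lb (c : Ctx P e gs ns D chk) :
    LB (subW gs [[160], [162], [164], [166]]) 32 :=
  c.lb Q0_c Q0_o

theorem Q0_card (c : Ctx P e gs ns D chk) :
    Nat.card (subW gs [[160], [162], [164], [166]]) = 32 :=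
  (Q0_ub c).card_eq (Q0_lb c)

theorem Q0_le (c : Ctx P e gs ns D chk) :
    (subW gs [[160], [162], [164], [166]]) ≤ (subW gs [[126], [128], [130]]) :=
  (c.le_of_rels (ws := [[160], [162], [164], [166]]) (l := [[126], [128], [130]]) (c.rels _ zr178) zm177)

theorem nQ0 (c : Ctx P e gs ns D chk) :
    (subW gs [[126], [128], [130]]) ≤ Subgroup.normalizer (subW gs [[160], [162], [164], [166]] : Set G) :=
  have hfin : Finite (subW gs [[160], [162], [164], [166]]) := (Q0_ub c).1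
  (c.le_normalizer (cj := zcj179) hfin (c.rels _ zr181) zm180)

theorem Z0_pr (c : Ctx P e gs ns D chk) :
    Rels gs (pcsR Z0_ps []) :=
  (c.rels _ zr183)

theorem Z0_pe (c : Ctx P e gs ns D chk) :
    Rels gs (defRels zE182) :=
  (c.rels _ zr184)

theorem Z0_pb : bnd (pcsB D Z0_ps []) (leB (app D zE182) [[136], [180]] (pcGens Z0_ps [])) = true := zb185

theorem Z0_ub (c : Ctx P e gs ns D chk) :
    UB (subW gs [[136], [180]]) 2 :=
  c.pcs (UB.nil gs) (Z0_pe c) (Z0_pr c) Z0_pb (by decide +kernel)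

theorem Z0_c : P.chainB ns D Z0_vs [[136], [180]] = true :=
  zc186

theorem Z0_o : prodL Z0_vs 1 = 2 := by decide +kernel

theorem Z0_lb (c : Ctx P e gs ns D chk) :
    LB (subW gs [[136], [180]]) 2 :=
  c.lb Z0_c Z0_o

theorem Z0_card (c : Ctx P e gs ns D chk) :
    Nat.card (subW gs [[136], [180]]) = 2 :=
  (Z0_ub c).card_eq (Z0_lb c)

theorem cQ0G_c : P.chainB ns D cQ0G_vs [[126], [128], [130]] = true :=
  zc190

theorem cQ0G_o : prodL cQ0G_vs 1 = 96 := by decide +kernel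

theorem cQ0 (c : Ctx P e gs ns D chk) :
    (subW gs [[126], [128], [130]]) ⊓ Subgroup.centralizer (subW gs [[160], [162], [164], [166]] : Set G) = (subW gs [[136], [180]]) :=
  c.cent (lx := [[160], [162], [164], [166]]) (Rels.nil _) (c.sOk (c.exact cQ0G_c cQ0G_o (D0_ub c)) zs191) (fun _ h => by cases h)
    (c.fixX zf189) (c.rels _ zr194) zm195 zs193

theorem row0 (c : Ctx P e gs ns D chk) :
    Row True (subW gs [[0], [2]]) (wordG gs [104]) :=
  row_con (dd (cC0 c) (cm0 c)) (Q0_le c) (nQ0 c) (isPGroup_of_card (Q0_card c) 5 (by norm_num)) (cQ0 c)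
    (isPGroup_of_card (Z0_card c) 1 (by norm_num))

theorem cC1G_c : P.chainB ns D cC1G_vs [[0], [2]] = true :=
  zc197

theorem cC1G_o : prodL cC1G_vs 1 = 95040 := by decide +kernel

theorem cC1 (c : Ctx P e gs ns D chk) :
    (subW gs [[0], [2]]) ⊓ Subgroup.centralizer (subW gs [[106]] : Set G) = (subW gs [[188], [190]]) :=
  c.cent (lx := [[106]]) (c.rels _ zr200) (c.sOk (c.exact cC1G_c cC1G_o (GM_ub c)) zs198) (fun _ h => by cases h)
    (c.fixX zf196) (c.rels _ zr203) zm204 zs202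

theorem D1_u2 (c : Ctx P e gs ns D chk) :
    UB (subW gs [[218]]) 2 :=
  (c.pc_step (UB.nil gs) (Rels.nil _)
    (c.rels _ zr208) zb207).le (by decide)

theorem D1_u1 (c : Ctx P e gs ns D chk) :
    UB (subW gs [[216], [218]]) 10 :=
  (c.sch_step (D1_u2 c)
    (c.rels _ zr212) zb211).le (by decide)

theorem D1_u0 (c : Ctx P e gs ns D chk) :
    UB (subW gs [[212], [214]]) 60 :=
  (c.sch_step (D1_u1 c)
    (c.rels _ zr216) zb215).le (by decide)

theorem D1_ub (c : Ctx P e gs ns D chk) :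
    UB (subW gs [[212], [214]]) 60 :=
  (D1_u0 c)

theorem D1_c : P.chainB ns D D1_vs [[212], [214]] = true :=
  zc217

theorem D1_o : prodL D1_vs 1 = 60 := by decide +kernel

theorem D1_ex (c : Ctx P e gs ns D chk) :
    Exact e P.n P.N gs ns 1 D1_vs [[212], [214]] :=
  c.exact D1_c D1_o (D1_ub c)

theorem D1_card (c : Ctx P e gs ns D chk) :
    Nat.card (subW gs [[212], [214]]) = 60 :=
  (D1_ex c).card.trans D1_o

theorem cm1_c_le (c : Ctx P e gs ns D chk) :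
    (subW gs [[220], [222]]) ≤ ⁅(subW gs [[188], [190]]), (subW gs [[188], [190]])⁆ :=
  c.le_commutator (ps := zps218) (c.rels _ zr220) zm219

theorem cm1 (c : Ctx P e gs ns D chk) :
    ⁅(subW gs [[188], [190]]), (subW gs [[188], [190]])⁆ = (subW gs [[212], [214]]) :=
  have hfin : Finite (subW gs [[212], [214]]) := (D1_ub c).1
  le_antisymm (commutator_subW_le (c.le_normalizer (cj := zcj230) hfin (c.rels _ zr232) zm231) (c.le_normalizer (cj := zcj227) hfin (c.rels _ zr229) zm228)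
    (c.le_of_rels (ws := (comWs [[188], [190]] [[188], [190]])) (l := [[212], [214]]) (c.rels _ zr226) zm225)) ((c.le_of_rels (ws := [[212], [214]]) (l := [[220], [222]]) (c.rels _ zr223) zm222).trans (cm1_c_le c))

theorem iso1_r_T {Γ Y : Type*} [Group Γ] [MulAction Γ Y] {e' : ℕ → Y} {cs : List Γ} {D₁ D₂ : List (ℕ × List ℕ)}
    {k₁ k₂ : List (List ℕ × List ℕ) → Bool} (c : Ctx CL.Q49M.M12.P e gs CL.Q49M.M12.ns D₁ k₁) (c' : Ctx CL.Q49M.M12Aux1.T.P e' cs CL.Q49M.M12Aux1.T.ns D₂ k₂)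
    (hF : Faithful e' CL.Q49M.M12Aux1.T.P.n (subW cs [[0], [2]])) :
    RelLe gs [[230], [232]] cs [[0], [2]] :=
  c.relLe (K := zK234) c' hF zl235 (fun (t : ℕ) (ht : t < 1) => match t, ht with
    | 0, _ => zl236
    | t + 1, h => absurd h (by omega))

theorem iso1_r {Γ Y : Type*} [Group Γ] [MulAction Γ Y] {e' : ℕ → Y} {cs : List Γ} {D₁ D₂ : List (ℕ × List ℕ)}
    {k₁ k₂ : List (List ℕ × List ℕ) → Bool} (c : Ctx CL.Q49M.M12.P e gs CL.Q49M.M12.ns D₁ k₁) (c' : Ctx CL.Std.A5.P e' cs CL.Std.A5.ns D₂ k₂)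
    (hF : Faithful e' CL.Std.A5.P.n (subW cs [[0], [2]])) :
    RelLe gs [[230], [232]] cs [[0], [2]] :=
  (iso1_r_T c CL.Q49M.M12Aux1.T.c1 ((faithful_eF _).mono le_top)).trans (CL.Q49M.M12Aux1.S.rel c' hF)

theorem iso1_e (c : Ctx P e gs ns D chk) :
    subW gs (app [[230], [232]] []) = (subW gs [[212], [214]]) :=
  le_antisymm (c.le_of_rels (ws := [[230], [232]]) (l := [[212], [214]]) (c.rels _ zr242) zm241) (c.le_of_rels (ws := [[212], [214]]) (l := [[230], [232]]) (c.rels _ zr239) zm238)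

theorem iso1 (c : Ctx P e gs ns D chk) :
    Nonempty ((subW gs [[212], [214]]) ≃* (subW CL.Std.A5.gs1 [[0], [2]])) :=
  (RelLe.quo' (l := [[230], [232]]) (lQ := []) (iso1_r c CL.Std.A5.c1 ((faithful_eF _).mono le_top)) (by decide) (iso1_e c) (a := 1) (b := 60) (D1_ub c)
    (LB.one _) (LB.of_card CL.Std.A5.card)).equiv_nil

theorem e1_1 (c : Ctx P e gs ns D chk) :
    wordG gs [240, 106] = wordG gs [106, 244, 240] :=
  c.eq zr243

theorem e0_1 (c : Ctx P e gs ns D chk) :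
    wordG gs [244, 106] = wordG gs [106, 244] :=
  c.eq zr244

theorem e2_1 (c : Ctx P e gs ns D chk) :
    wordG gs [242, 244] = wordG gs [244, 246, 242] :=
  c.eq zr245

theorem e3_1 (c : Ctx P e gs ns D chk) :
    wordG gs [248, 248] = wordG gs [246] :=
  c.eq zr246

theorem e4_1 (c : Ctx P e gs ns D chk) :
    wordG gs [250, 250] = wordG gs [246] :=
  c.eq zr247

theorem e5_1 (c : Ctx P e gs ns D chk) :
    wordG gs [248, 240] = wordG gs [240, 248] :=
  c.eq zr248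

theorem e6_1 (c : Ctx P e gs ns D chk) :
    wordG gs [252, 242] = wordG gs [242, 240] :=
  c.eq zr249

theorem e8_1 (c : Ctx P e gs ns D chk) :
    wordG gs [250, 252] = wordG gs [252, 250] :=
  c.eq zr250

theorem e9_1 (c : Ctx P e gs ns D chk) :
    wordG gs [246, 246] = wordG gs [] :=
  c.eq zr251

theorem e7_1 (c : Ctx P e gs ns D chk) :
    (wordG gs [246]) ≠ 1 :=
  c.ne_one zn252

theorem P1_c : P.chainB ns D P1_vs [[254], [256]] = true :=
  zc253

theorem P1_o : prodL P1_vs 1 = 4 := by decide +kernel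

theorem P1_lb (c : Ctx P e gs ns D chk) :
    LB (subW gs [[254], [256]]) 4 :=
  c.lb P1_c P1_o

theorem P1_pr (c : Ctx P e gs ns D chk) :
    Rels gs (pcsR P1_ps []) :=
  (c.rels _ zr254)

theorem P1_pe (c : Ctx P e gs ns D chk) :
    Rels gs (defRels []) :=
  (Rels.nil _)

theorem P1_pb : bnd (pcsB D P1_ps []) (leB (app D []) [[254], [256]] (pcGens P1_ps [])) = true := zb255

theorem P1_ub (c : Ctx P e gs ns D chk) :
    UB (subW gs [[254], [256]]) 4 :=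
  c.pcs (UB.nil gs) (P1_pe c) (P1_pr c) P1_pb (by decide +kernel)

theorem P1_card (c : Ctx P e gs ns D chk) :
    Nat.card (subW gs [[254], [256]]) = 4 :=
  (P1_ub c).card_eq (P1_lb c)

theorem w1__le0 (c : Ctx P e gs ns D chk) :
    (subW gs [[254], [256]]) ≤ (subW gs [[212], [214]]) :=
  (c.le_of_rels (ws := [[254], [256]]) (l := [[212], [214]]) (c.rels _ zr261) zm260)

theorem w1_0 (c : Ctx P e gs ns D chk) :
    Cov 2 (subW gs [[254], [256]]) (subW gs [[212], [214]]) gs w1_0_R (subW gs [[256]]) :=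
  Cov.step' (q := 2) (g := [254]) c.defs (by norm_num) (Cov.init 2 (subW gs [[254], [256]]) (subW gs [[212], [214]]) gs)
    (pc_lvl' c.defs (P1_pr c) P1_pb (P1_lb c) 0 (by decide +kernel))
    (c.le_normalizer (cj := zcj262) (((P1_ub c).mono (c.le zm265)).1) (c.rels _ zr264) zm263) (w1__le0 c)
    (c.rels _ zr257) zb258 zq256

theorem w1_1 (c : Ctx P e gs ns D chk) :
    Cov 2 (subW gs [[254], [256]]) (subW gs [[212], [214]]) gs w1_1_R (subW gs []) :=
  Cov.step' (q := 2) (g := [256]) c.defs (by norm_num) (w1_0 c)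
    (pc_lvl' c.defs (P1_pr c) P1_pb (P1_lb c) 1 (by decide +kernel))
    (le_normalizer_nil gs _) (w1__le0 c)
    (c.rels _ zr267) zb268 zq266

theorem w1_2 (c : Ctx P e gs ns D chk) :
    Cov 2 (subW gs [[254], [256]]) (subW gs [[212], [214]]) gs w1_2_R (subW gs []) :=
  Cov.fuse c.defs (w1_1 c) (le_normalizer_nil gs _) (c.le zm271)
    (c.rels _ zr269) zb270

theorem w1__cls (c : Ctx P e gs ns D chk) :
    Cls 2 (subW gs [[254], [256]]) (subW gs [[212], [214]]) gs [[], [246]] :=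
  (w1_2 c).cls

theorem P1_le (c : Ctx P e gs ns D chk) :
    (subW gs [[254], [256]]) ≤ (subW gs [[212], [214]]) :=
  (c.le_of_rels (ws := [[254], [256]]) (l := [[212], [214]]) (c.rels _ zr274) zm273)

theorem row1 (c : Ctx P e gs ns D chk) :
    Row True (subW gs [[0], [2]]) (wordG gs [106]) :=
  have := (D1_ub c).1
  have := CL.Std.A5.simple
  row_cmp (dd (cC1 c) (cm1 c)) (iso1 c).some.isSimpleGroup
    (w_of (c.mem zm279) (c.mem zm278) (c.mem zm277) (c.mem zm276) (c.mem zm275)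
      (e1_1 c) (e0_1 c) (e2_1 c) (e3_1 c) (e4_1 c) (e5_1 c) (e6_1 c) (e8_1 c) (e7_1 c) (st_one (e7_1 c) (e9_1 c) ((w1__cls c).up (by norm_num) (k := 2) (D1_card c) (by decide +kernel) (P1_card c) (P1_le c))))

theorem cC2G_c : P.chainB ns D cC2G_vs [[0], [2]] = true :=
  zc281

theorem cC2G_o : prodL cC2G_vs 1 = 95040 := by decide +kernel

theorem cC2 (c : Ctx P e gs ns D chk) :
    (subW gs [[0], [2]]) ⊓ Subgroup.centralizer (subW gs [[108]] : Set G) = (subW gs [[260], [262]]) :=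
  c.cent (lx := [[108]]) (Rels.nil _) (c.sOk (c.exact cC2G_c cC2G_o (GM_ub c)) zs282) (fun _ h => by cases h)
    (c.fixX zf280) (c.rels _ zr285) zm286 zs284

theorem D2_u2 (c : Ctx P e gs ns D chk) :
    UB (subW gs [[294]]) 2 :=
  (c.pc_step (UB.nil gs) (Rels.nil _)
    (c.rels _ zr290) zb289).le (by decide)

theorem D2_u1 (c : Ctx P e gs ns D chk) :
    UB (subW gs [[290], [292]]) 10 :=
  (c.sch_step (D2_u2 c)
    (c.rels _ zr294) zb293).le (by decide)

theorem D2_u0 (c : Ctx P e gs ns D chk) :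
    UB (subW gs [[286], [288]]) 60 :=
  (c.sch_step (D2_u1 c)
    (c.rels _ zr298) zb297).le (by decide)

theorem D2_ub (c : Ctx P e gs ns D chk) :
    UB (subW gs [[286], [288]]) 60 :=
  (D2_u0 c)

theorem D2_c : P.chainB ns D D2_vs [[286], [288]] = true :=
  zc299

theorem D2_o : prodL D2_vs 1 = 60 := by decide +kernel

theorem D2_ex (c : Ctx P e gs ns D chk) :
    Exact e P.n P.N gs ns 1 D2_vs [[286], [288]] :=
  c.exact D2_c D2_o (D2_ub c)

theorem D2_card (c : Ctx P e gs ns D chk) :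
    Nat.card (subW gs [[286], [288]]) = 60 :=
  (D2_ex c).card.trans D2_o

theorem cm2_c_le (c : Ctx P e gs ns D chk) :
    (subW gs [[296], [298]]) ≤ ⁅(subW gs [[260], [262]]), (subW gs [[260], [262]])⁆ :=
  c.le_commutator (ps := zps300) (c.rels _ zr302) zm301

theorem cm2 (c : Ctx P e gs ns D chk) :
    ⁅(subW gs [[260], [262]]), (subW gs [[260], [262]])⁆ = (subW gs [[286], [288]]) :=
  have hfin : Finite (subW gs [[286], [288]]) := (D2_ub c).1
  le_antisymm (commutator_subW_le (c.le_normalizer (cj := zcj312) hfin (c.rels _ zr314) zm313) (c.le_normalizer (cj := zcj309) hfin (c.rels _ zr311) zm310)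
    (c.le_of_rels (ws := (comWs [[260], [262]] [[260], [262]])) (l := [[286], [288]]) (c.rels _ zr308) zm307)) ((c.le_of_rels (ws := [[286], [288]]) (l := [[296], [298]]) (c.rels _ zr305) zm304).trans (cm2_c_le c))

theorem iso2_r_T {Γ Y : Type*} [Group Γ] [MulAction Γ Y] {e' : ℕ → Y} {cs : List Γ} {D₁ D₂ : List (ℕ × List ℕ)}
    {k₁ k₂ : List (List ℕ × List ℕ) → Bool} (c : Ctx CL.Q49M.M12.P e gs CL.Q49M.M12.ns D₁ k₁) (c' : Ctx CL.Q49M.M12Aux2.T.P e' cs CL.Q49M.M12Aux2.T.ns D₂ k₂)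
    (hF : Faithful e' CL.Q49M.M12Aux2.T.P.n (subW cs [[0], [2]])) :
    RelLe gs [[306], [308]] cs [[0], [2]] :=
  c.relLe (K := zK316) c' hF zl317 (fun (t : ℕ) (ht : t < 1) => match t, ht with
    | 0, _ => zl318
    | t + 1, h => absurd h (by omega))

theorem iso2_r {Γ Y : Type*} [Group Γ] [MulAction Γ Y] {e' : ℕ → Y} {cs : List Γ} {D₁ D₂ : List (ℕ × List ℕ)}
    {k₁ k₂ : List (List ℕ × List ℕ) → Bool} (c : Ctx CL.Q49M.M12.P e gs CL.Q49M.M12.ns D₁ k₁) (c' : Ctx CL.Std.A5.P e' cs CL.Std.A5.ns D₂ k₂)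
    (hF : Faithful e' CL.Std.A5.P.n (subW cs [[0], [2]])) :
    RelLe gs [[306], [308]] cs [[0], [2]] :=
  (iso2_r_T c CL.Q49M.M12Aux2.T.c1 ((faithful_eF _).mono le_top)).trans (CL.Q49M.M12Aux2.S.rel c' hF)

theorem iso2_e (c : Ctx P e gs ns D chk) :
    subW gs (app [[306], [308]] []) = (subW gs [[286], [288]]) :=
  le_antisymm (c.le_of_rels (ws := [[306], [308]]) (l := [[286], [288]]) (c.rels _ zr324) zm323) (c.le_of_rels (ws := [[286], [288]]) (l := [[306], [308]]) (c.rels _ zr321) zm320)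

theorem iso2 (c : Ctx P e gs ns D chk) :
    Nonempty ((subW gs [[286], [288]]) ≃* (subW CL.Std.A5.gs1 [[0], [2]])) :=
  (RelLe.quo' (l := [[306], [308]]) (lQ := []) (iso2_r c CL.Std.A5.c1 ((faithful_eF _).mono le_top)) (by decide) (iso2_e c) (a := 1) (b := 60) (D2_ub c)
    (LB.one _) (LB.of_card CL.Std.A5.card)).equiv_nil

theorem e1_2 (c : Ctx P e gs ns D chk) :
    wordG gs [316, 108] = wordG gs [108, 320, 316] :=
  c.eq zr325

theorem e0_2 (c : Ctx P e gs ns D chk) :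
    wordG gs [320, 108] = wordG gs [108, 320] :=
  c.eq zr326

theorem e2_2 (c : Ctx P e gs ns D chk) :
    wordG gs [318, 320] = wordG gs [320, 322, 318] :=
  c.eq zr327

theorem e3_2 (c : Ctx P e gs ns D chk) :
    wordG gs [324, 324] = wordG gs [322] :=
  c.eq zr328

theorem e4_2 (c : Ctx P e gs ns D chk) :
    wordG gs [326, 326] = wordG gs [322] :=
  c.eq zr329

theorem e5_2 (c : Ctx P e gs ns D chk) :
    wordG gs [324, 316] = wordG gs [316, 324] :=
  c.eq zr330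

theorem e6_2 (c : Ctx P e gs ns D chk) :
    wordG gs [328, 318] = wordG gs [318, 316] :=
  c.eq zr331

theorem e8_2 (c : Ctx P e gs ns D chk) :
    wordG gs [326, 328] = wordG gs [328, 326] :=
  c.eq zr332

theorem e9_2 (c : Ctx P e gs ns D chk) :
    wordG gs [322, 322] = wordG gs [] :=
  c.eq zr333

theorem e7_2 (c : Ctx P e gs ns D chk) :
    (wordG gs [322]) ≠ 1 :=
  c.ne_one zn334

theorem P2_c : P.chainB ns D P2_vs [[330], [332]] = true :=
  zc335

theorem P2_o : prodL P2_vs 1 = 4 := by decide +kernel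

theorem P2_lb (c : Ctx P e gs ns D chk) :
    LB (subW gs [[330], [332]]) 4 :=
  c.lb P2_c P2_o

theorem P2_pr (c : Ctx P e gs ns D chk) :
    Rels gs (pcsR P2_ps []) :=
  (c.rels _ zr336)

theorem P2_pe (c : Ctx P e gs ns D chk) :
    Rels gs (defRels []) :=
  (Rels.nil _)

theorem P2_pb : bnd (pcsB D P2_ps []) (leB (app D []) [[330], [332]] (pcGens P2_ps [])) = true := zb337

theorem P2_ub (c : Ctx P e gs ns D chk) :
    UB (subW gs [[330], [332]]) 4 :=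
  c.pcs (UB.nil gs) (P2_pe c) (P2_pr c) P2_pb (by decide +kernel)

theorem P2_card (c : Ctx P e gs ns D chk) :
    Nat.card (subW gs [[330], [332]]) = 4 :=
  (P2_ub c).card_eq (P2_lb c)

theorem w2__le0 (c : Ctx P e gs ns D chk) :
    (subW gs [[330], [332]]) ≤ (subW gs [[286], [288]]) :=
  (c.le_of_rels (ws := [[330], [332]]) (l := [[286], [288]]) (c.rels _ zr343) zm342)

theorem w2_0 (c : Ctx P e gs ns D chk) :
    Cov 2 (subW gs [[330], [332]]) (subW gs [[286], [288]]) gs w2_0_R (subW gs [[332]]) :=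
  Cov.step' (q := 2) (g := [330]) c.defs (by norm_num) (Cov.init 2 (subW gs [[330], [332]]) (subW gs [[286], [288]]) gs)
    (pc_lvl' c.defs (P2_pr c) P2_pb (P2_lb c) 0 (by decide +kernel))
    (c.le_normalizer (cj := zcj344) (((P2_ub c).mono (c.le zm347)).1) (c.rels _ zr346) zm345) (w2__le0 c)
    (c.rels _ zr339) zb340 zq338

theorem w2_1 (c : Ctx P e gs ns D chk) :
    Cov 2 (subW gs [[330], [332]]) (subW gs [[286], [288]]) gs w2_1_R (subW gs []) :=
  Cov.step' (q := 2) (g := [332]) c.defs (by norm_num) (w2_0 c)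
    (pc_lvl' c.defs (P2_pr c) P2_pb (P2_lb c) 1 (by decide +kernel))
    (le_normalizer_nil gs _) (w2__le0 c)
    (c.rels _ zr349) zb350 zq348

theorem w2_2 (c : Ctx P e gs ns D chk) :
    Cov 2 (subW gs [[330], [332]]) (subW gs [[286], [288]]) gs w2_2_R (subW gs []) :=
  Cov.fuse c.defs (w2_1 c) (le_normalizer_nil gs _) (c.le zm353)
    (c.rels _ zr351) zb352

theorem w2__cls (c : Ctx P e gs ns D chk) :
    Cls 2 (subW gs [[330], [332]]) (subW gs [[286], [288]]) gs [[], [322]] :=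
  (w2_2 c).cls

theorem P2_le (c : Ctx P e gs ns D chk) :
    (subW gs [[330], [332]]) ≤ (subW gs [[286], [288]]) :=
  (c.le_of_rels (ws := [[330], [332]]) (l := [[286], [288]]) (c.rels _ zr356) zm355)

theorem row2 (c : Ctx P e gs ns D chk) :
    Row True (subW gs [[0], [2]]) (wordG gs [108]) :=
  have := (D2_ub c).1
  have := CL.Std.A5.simple
  row_cmp (dd (cC2 c) (cm2 c)) (iso2 c).some.isSimpleGroup
    (w_of (c.mem zm361) (c.mem zm360) (c.mem zm359) (c.mem zm358) (c.mem zm357)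
      (e1_2 c) (e0_2 c) (e2_2 c) (e3_2 c) (e4_2 c) (e5_2 c) (e6_2 c) (e8_2 c) (e7_2 c) (st_one (e7_2 c) (e9_2 c) ((w2__cls c).up (by norm_num) (k := 2) (D2_card c) (by decide +kernel) (P2_card c) (P2_le c))))

theorem tb (c : Ctx P e gs ns D chk) :
    Tb True (subW gs [[0], [2], [4]]) (subW gs [[0], [2]]) :=
  have := (GA_ub c).1
  tb_of ((v_cls c).up (by norm_num) (k := 7) (GA_card c) (by decide +kernel) (T_card c) (T_le c))
    (List.forall_mem_cons.2 ⟨row0 c, (List.forall_mem_cons.2 ⟨row1 c, (List.forall_mem_cons.2 ⟨row2 c, fun _ h => by cases h⟩)⟩)⟩)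

theorem md (c : Ctx P e gs ns D chk) :
    Md True (subW gs [[0], [2], [4]]) (subW gs [[0], [2]]) 95040 :=
  ⟨(c.le zm362), GM_card c, (GA_card c).trans (by norm_num), by norm_num, (cL c).trans (subW_nil _), tb c, gam c⟩

noncomputable def Ps : List ℕ := [859958088260639337318978574685880576, 734317593927276169438670411958589538, 260958638463821713610420001507233447]
theorem base : CL.Fus.mgsB P (fun _ => true) Ps ns0 = true := by decide +kernel
theorem baseM : CL.Fus.mgsB P CL.Pc.t12 (Ps.take 2) (ns0.take 2) = true := by decide +kernel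
noncomputable def gs1 := ext (CL.Fus.mgs Ps) ws
theorem c1 : Ctx P CL.Spor.gPt gs1 ns D chk :=
  ctx (CL.Fus.mgs_ctx hP rfl (CL.Fus.mgs_spec (H := ⊤) hP rfl (fun _ _ _ _ => trivial) base).1) CL.Fus.gPt_faithful fun _ _ => trivial


end CL.Q49M.M12
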