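/-
Involutions of Aut(M22) and their centralisers.
Generated by tools/pg.
-/
import Cfsg.Agent.Q49.TbA
import Cfsg.Agent.Spor.StdSym
import Cfsg.Agent.Spor.StdCore
import Cfsg.Agent.Fus.SimpleM24Base
import Cfsg.Agent.Q49.MM22A
import Cfsg.Agent.Spor.PGCtx

set_option autoImplicit false
set_option maxRecDepth 200000
set_option Elab.async false
set_option linter.unusedVariables false

namespace CL.Q49M.M22
open CL.PG

def P : Par := ⟨24, 24, 5, 3⟩
theorem hP : P.Ok := by decide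
noncomputable def a0 : Net := (.cons 12 (nat_lit 0x442)
 (.cons 6 (nat_lit 0x3a018)
 (.cons 3 (nat_lit 0x50c2)
 (.cons 1 (nat_lit 0x240)
 (.cons 1 (nat_lit 0x490480)
 (.cons 1 (nat_lit 0x48200)
 (.cons 3 (nat_lit 0x4080)
 (.cons 6 (nat_lit 0x2c036)
 (.cons 12 (nat_lit 0x190)
 .nil)))))))))
noncomputable def a1 : Net := (.cons 12 (nat_lit 0xdf6)
 (.cons 6 (nat_lit 0xe03c)
 (.cons 3 (nat_lit 0x1411c6)
 (.cons 1 (nat_lit 0x412090)
 (.cons 1 (nat_lit 0x40208)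
 (.cons 3 (nat_lit 0x180184)
 (.cons 6 (nat_lit 0x24032)
 (.cons 12 (nat_lit 0xe04)
 .nil))))))))
noncomputable def a2 : Net := (.cons 12 (nat_lit 0xa90)
 (.cons 6 (nat_lit 0x1a02c)
 (.cons 3 (nat_lit 0x40184)
 (.cons 1 (nat_lit 0x1)
 (.cons 1 (nat_lit 0x400002)
 (.cons 1 (nat_lit 0x9049)
 (.cons 3 (nat_lit 0x84)
 (.cons 6 (nat_lit 0x1a02c)
 (.cons 12 (nat_lit 0xa90)
 .nil)))))))))
noncomputable def a3 : Net := (.cons 12 (nat_lit 0x656)
 (.cons 6 (nat_lit 0x3900e)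
 (.cons 3 (nat_lit 0x4140)
 (.cons 1 (nat_lit 0x208)
 (.cons 1 (nat_lit 0x410490)
 (.cons 1 (nat_lit 0x48200)
 (.cons 3 (nat_lit 0x4182)
 (.cons 6 (nat_lit 0x3800e)
 (.cons 12 (nat_lit 0x666)
 .nil)))))))))
noncomputable def a4 : Net := (.cons 12 (nat_lit 0xb0)
 (.cons 6 (nat_lit 0x3b008)
 (.cons 3 (nat_lit 0x70c4)
 (.cons 1 (nat_lit 0x48000)
 (.cons 1 (nat_lit 0x490010)
 (.cons 1 (nat_lit 0x40008)
 (.cons 3 (nat_lit 0x106000)
 (.cons 6 (nat_lit 0x20024)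
 (.cons 12 (nat_lit 0x610)
 .nil)))))))))
noncomputable def a5 : Net := (.cons 12 (nat_lit 0x9b6)
 (.cons 6 (nat_lit 0x31010)
 (.cons 3 (nat_lit 0x841c0)
 (.cons 1 (nat_lit 0x1008)
 (.cons 1 (nat_lit 0x2410)
 (.cons 1 (nat_lit 0x209048)
 (.cons 3 (nat_lit 0x4184)
 (.cons 6 (nat_lit 0x28012)
 (.cons 12 (nat_lit 0xdb6)
 .nil)))))))))
noncomputable def a6 : Net := (.cons 12 (nat_lit 0x568)
 (.cons 6 (nat_lit 0x38022)
 (.cons 3 (nat_lit 0x107002)
 (.cons 1 (nat_lit 0x8040)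
 (.cons 1 (nat_lit 0x90490)
 (.cons 1 (nat_lit 0x200048)
 (.cons 3 (nat_lit 0x84102)
 (.cons 6 (nat_lit 0x22032)
 (.cons 12 (nat_lit 0x300)
 .nil)))))))))
noncomputable def a7 : Net := (.cons 12 (nat_lit 0x5f2)
 (.cons 6 (nat_lit 0x27032)
 (.cons 3 (nat_lit 0x146082)
 (.cons 1 (nat_lit 0x10010)
 (.cons 1 (nat_lit 0x200240)
 (.cons 3 (nat_lit 0x4000)
 (.cons 6 (nat_lit 0x3e022)
 (.cons 12 (nat_lit 0x302)
 .nil))))))))
noncomputable def a8 : Net := (.cons 12 (nat_lit 0xf58)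
 (.cons 6 (nat_lit 0x3a008)
 (.cons 3 (nat_lit 0x810c0)
 (.cons 1 (nat_lit 0x10000)
 (.cons 1 (nat_lit 0x40008)
 (.cons 3 (nat_lit 0x80000)
 (.cons 6 (nat_lit 0x38008)
 (.cons 12 (nat_lit 0xe58)
 .nil))))))))
noncomputable def a9 : Net := (.cons 12 (nat_lit 0x30)
 (.cons 6 (nat_lit 0x2014)
 (.cons 3 (nat_lit 0x184104)
 (.cons 1 (nat_lit 0x200040)
 (.cons 1 (nat_lit 0x400090)
 (.cons 1 (nat_lit 0x249000)
 (.cons 3 (nat_lit 0x180184)
 (.cons 6 (nat_lit 0x18004)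
 (.cons 12 (nat_lit 0x540)
 .nil)))))))))
noncomputable def a10 : Net := (.cons 12 (nat_lit 0xec0)
 (.cons 6 (nat_lit 0x24010)
 (.cons 3 (nat_lit 0x7080)
 (.cons 1 (nat_lit 0x9040)
 (.cons 1 (nat_lit 0x12080)
 (.cons 1 (nat_lit 0x249240)
 (.cons 3 (nat_lit 0x80)
 (.cons 6 (nat_lit 0x24000)
 (.cons 12 (nat_lit 0xec0)
 .nil)))))))))
noncomputable def a11 : Net := (.cons 12 (nat_lit 0x498)
 (.cons 6 (nat_lit 0x1018)
 (.cons 3 (nat_lit 0x82100)
 (.cons 1 (nat_lit 0x80000)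
 (.cons 1 (nat_lit 0x200040)
 (.cons 3 (nat_lit 0x80000)
 (.cons 12 (nat_lit 0x498)
 .nil)))))))
noncomputable def a12 : Net := (.cons 12 (nat_lit 0xfc0)
 (.cons 6 (nat_lit 0x2901e)
 (.cons 3 (nat_lit 0x41082)
 (.cons 1 (nat_lit 0x90002)
 (.cons 1 (nat_lit 0x201048)
 (.cons 3 (nat_lit 0x80080)
 (.cons 6 (nat_lit 0x2201e)
 (.cons 12 (nat_lit 0x840)
 .nil))))))))
noncomputable def a13 : Net := (.cons 12 (nat_lit 0xfd8)
 (.cons 6 (nat_lit 0x9031)
 (.cons 3 (nat_lit 0x81145)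
 (.cons 1 (nat_lit 0x201)
 (.cons 1 (nat_lit 0x12412)
 (.cons 1 (nat_lit 0x200001)
 (.cons 3 (nat_lit 0x4)
 (.cons 6 (nat_lit 0xc004)
 (.cons 12 (nat_lit 0xb58)
 .nil)))))))))
noncomputable def a14 : Net := (.cons 12 (nat_lit 0xf4e)
 (.cons 6 (nat_lit 0x30024)
 (.cons 3 (nat_lit 0x146102)
 (.cons 1 (nat_lit 0x1200)
 (.cons 1 (nat_lit 0x402400)
 (.cons 1 (nat_lit 0x240048)
 (.cons 3 (nat_lit 0x106002)
 (.cons 6 (nat_lit 0x2c030)
 (.cons 12 (nat_lit 0x89e)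
 .nil)))))))))
noncomputable def a15 : Net := (.cons 12 (nat_lit 0xcd0)
 (.cons 6 (nat_lit 0x11010)
 (.cons 3 (nat_lit 0x102100)
 (.cons 1 (nat_lit 0x200000)
 (.cons 1 (nat_lit 0x480400)
 (.cons 1 (nat_lit 0x8240)
 (.cons 3 (nat_lit 0x102100)
 (.cons 6 (nat_lit 0x10010)
 (.cons 12 (nat_lit 0xbc0)
 .nil)))))))))
noncomputable def a16 : Net := (.cons 12 (nat_lit 0xc95)
 (.cons 6 (nat_lit 0x25038)
 (.cons 3 (nat_lit 0xc2105)
 (.cons 1 (nat_lit 0x208001)
 (.cons 1 (nat_lit 0x412412)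
 (.cons 1 (nat_lit 0x41049)
 (.cons 3 (nat_lit 0x4004)
 (.cons 6 (nat_lit 0x4030)
 (.cons 12 (nat_lit 0x51c)
 .nil)))))))))
noncomputable def a17 : Net := (.cons 12 (nat_lit 0x5f0)
 (.cons 6 (nat_lit 0x25000)
 (.cons 3 (nat_lit 0x103140)
 (.cons 1 (nat_lit 0x200)
 (.cons 1 (nat_lit 0x2400)
 (.cons 1 (nat_lit 0x209000)
 (.cons 3 (nat_lit 0x180)
 (.cons 6 (nat_lit 0x36010)
 (.cons 12 (nat_lit 0x80)
 .nil)))))))))
noncomputable def a18 : Net := (.cons 12 (nat_lit 0xc19)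
 (.cons 6 (nat_lit 0x19039)
 (.cons 3 (nat_lit 0x85044)
 (.cons 1 (nat_lit 0x40001)
 (.cons 1 (nat_lit 0x480002)
 (.cons 1 (nat_lit 0x49)
 (.cons 3 (nat_lit 0x100084)
 (.cons 6 (nat_lit 0xa028)
 (.cons 12 (nat_lit 0x758)
 .nil)))))))))
noncomputable def a19 : Net := (.cons 12 (nat_lit 0x592)
 (.cons 6 (nat_lit 0x3e010)
 (.cons 3 (nat_lit 0x144002)
 (.cons 1 (nat_lit 0x8000)
 (.cons 1 (nat_lit 0x10080)
 (.cons 1 (nat_lit 0x9000)
 (.cons 3 (nat_lit 0x6100)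
 (.cons 6 (nat_lit 0x3e000)
 (.cons 12 (nat_lit 0x7f2)
 .nil)))))))))
noncomputable def a20 : Net := (.cons 12 (nat_lit 0xc20)
 (.cons 6 (nat_lit 0x20)
 (.cons 3 (nat_lit 0x183104)
 (.cons 1 (nat_lit 0x201)
 (.cons 1 (nat_lit 0x402)
 (.cons 1 (nat_lit 0x40241)
 (.cons 3 (nat_lit 0x80104)
 (.cons 6 (nat_lit 0x20)
 (.cons 12 (nat_lit 0xc00)
 .nil)))))))))
noncomputable def a21 : Net := (.cons 12 (nat_lit 0x388)
 (.cons 6 (nat_lit 0x12036)
 (.cons 3 (nat_lit 0x146080)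
 (.cons 1 (nat_lit 0x1008)
 (.cons 1 (nat_lit 0x412010)
 (.cons 1 (nat_lit 0x41248)
 (.cons 3 (nat_lit 0x184004)
 (.cons 6 (nat_lit 0x14006)
 (.cons 12 (nat_lit 0x59c)
 .nil)))))))))
noncomputable def a22 : Net := (.cons 12 (nat_lit 0x65a)
 (.cons 6 (nat_lit 0x25030)
 (.cons 3 (nat_lit 0xc7186)
 (.cons 1 (nat_lit 0x8000)
 (.cons 1 (nat_lit 0x410090)
 (.cons 1 (nat_lit 0x40048)
 (.cons 3 (nat_lit 0x84180)
 (.cons 6 (nat_lit 0x38018)
 (.cons 12 (nat_lit 0x448)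
 .nil)))))))))
noncomputable def a23 : Net := (.cons 12 (nat_lit 0x628)
 (.cons 6 (nat_lit 0x6034)
 (.cons 3 (nat_lit 0x840c2)
 (.cons 1 (nat_lit 0x48248)
 (.cons 1 (nat_lit 0x90490)
 (.cons 1 (nat_lit 0x1200)
 (.cons 3 (nat_lit 0x82)
 (.cons 6 (nat_lit 0xe02c)
 (.cons 12 (nat_lit 0x410)
 .nil)))))))))
noncomputable def a24 : Net := (.cons 12 (nat_lit 0x448)
 (.cons 6 (nat_lit 0x7018)
 (.cons 3 (nat_lit 0xc5180)
 (.cons 1 (nat_lit 0x48)
 (.cons 1 (nat_lit 0x82090)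
 (.cons 1 (nat_lit 0x48000)
 (.cons 3 (nat_lit 0x4186)
 (.cons 6 (nat_lit 0x1a030)
 (.cons 12 (nat_lit 0x65a)
 .nil)))))))))
noncomputable def a25 : Net := (.cons 12 (nat_lit 0xf80)
 (.cons 6 (nat_lit 0x15036)
 (.cons 3 (nat_lit 0x1c61c2)
 (.cons 1 (nat_lit 0x240040)
 (.cons 1 (nat_lit 0x482080)
 (.cons 1 (nat_lit 0x209248)
 (.cons 3 (nat_lit 0x84102)
 (.cons 6 (nat_lit 0x34022)
 (.cons 12 (nat_lit 0xbc6)
 .nil)))))))))
noncomputable def a26 : Net := (.cons 12 (nat_lit 0x27c)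
 (.cons 6 (nat_lit 0x2012)
 (.cons 3 (nat_lit 0x850c2)
 (.cons 1 (nat_lit 0x1208)
 (.cons 1 (nat_lit 0x92412)
 (.cons 1 (nat_lit 0x208208)
 (.cons 3 (nat_lit 0x6006)
 (.cons 6 (nat_lit 0x2002)
 (.cons 12 (nat_lit 0x204)
 .nil)))))))))
noncomputable def a27 : Net := (.cons 12 (nat_lit 0x508)
 (.cons 6 (nat_lit 0x801a)
 (.cons 3 (nat_lit 0x80042)
 (.cons 1 (nat_lit 0x8)
 (.cons 1 (nat_lit 0x2492)
 (.cons 1 (nat_lit 0x48008)
 (.cons 3 (nat_lit 0x80002)
 (.cons 6 (nat_lit 0x801a)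
 (.cons 12 (nat_lit 0x508)
 .nil)))))))))
noncomputable def a28 : Net := (.cons 12 (nat_lit 0xc74)
 (.cons 6 (nat_lit 0x2c000)
 (.cons 3 (nat_lit 0x100000)
 (.cons 1 (nat_lit 0x8000)
 (.cons 1 (nat_lit 0x12002)
 (.cons 1 (nat_lit 0x208200)
 (.cons 6 (nat_lit 0x2c000)
 (.cons 12 (nat_lit 0xc24)
 .nil))))))))
noncomputable def a29 : Net := (.cons 12 (nat_lit 0xb60)
 (.cons 6 (nat_lit 0x2002)
 (.cons 3 (nat_lit 0x6084)
 (.cons 1 (nat_lit 0x8040)
 (.cons 1 (nat_lit 0x412090)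
 (.cons 1 (nat_lit 0x48040)
 (.cons 3 (nat_lit 0x6004)
 (.cons 6 (nat_lit 0x2002)
 (.cons 12 (nat_lit 0x960)
 .nil)))))))))
noncomputable def a30 : Net := (.cons 12 (nat_lit 0x568)
 (.cons 6 (nat_lit 0x2802c)
 (.cons 3 (nat_lit 0x106006)
 (.cons 1 (nat_lit 0x48040)
 (.cons 1 (nat_lit 0x90092)
 (.cons 1 (nat_lit 0x48040)
 (.cons 3 (nat_lit 0x104000)
 (.cons 6 (nat_lit 0x28024)
 (.cons 12 (nat_lit 0x168)
 .nil)))))))))
noncomputable def a31 : Net := (.cons 12 (nat_lit 0x628)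
 (.cons 6 (nat_lit 0x6034)
 (.cons 3 (nat_lit 0x840c2)
 (.cons 1 (nat_lit 0x48248)
 (.cons 1 (nat_lit 0x90490)
 (.cons 1 (nat_lit 0x1200)
 (.cons 3 (nat_lit 0x82)
 (.cons 6 (nat_lit 0xe02c)
 (.cons 12 (nat_lit 0x410)
 .nil)))))))))
noncomputable def a32 : Net := (.cons 12 (nat_lit 0x65a)
 (.cons 6 (nat_lit 0x25030)
 (.cons 3 (nat_lit 0xc7186)
 (.cons 1 (nat_lit 0x8000)
 (.cons 1 (nat_lit 0x410090)
 (.cons 1 (nat_lit 0x40048)
 (.cons 3 (nat_lit 0x84180)
 (.cons 6 (nat_lit 0x38018)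
 (.cons 12 (nat_lit 0x448)
 .nil)))))))))
noncomputable def a33 : Net := (.cons 12 (nat_lit 0x586)
 (.cons 6 (nat_lit 0x12000)
 (.cons 3 (nat_lit 0x86044)
 (.cons 1 (nat_lit 0x41240)
 (.cons 1 (nat_lit 0x92492)
 (.cons 1 (nat_lit 0x209240)
 (.cons 3 (nat_lit 0x4000)
 (.cons 6 (nat_lit 0xc010)
 (.cons 12 (nat_lit 0x590)
 .nil)))))))))
noncomputable def a34 : Net := (.cons 12 (nat_lit 0x502)
 (.cons 6 (nat_lit 0x14038)
 (.cons 3 (nat_lit 0xc0140)
 (.cons 1 (nat_lit 0x8)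
 (.cons 1 (nat_lit 0x82490)
 (.cons 1 (nat_lit 0x200040)
 (.cons 3 (nat_lit 0x80002)
 (.cons 6 (nat_lit 0xe018)
 (.cons 12 (nat_lit 0x68c)
 .nil)))))))))
noncomputable def a35 : Net := (.cons 12 (nat_lit 0xb82)
 (.cons 6 (nat_lit 0x1000c)
 (.cons 3 (nat_lit 0x102086)
 (.cons 1 (nat_lit 0x200048)
 (.cons 1 (nat_lit 0x482092)
 (.cons 1 (nat_lit 0x48248)
 (.cons 3 (nat_lit 0x80084)
 (.cons 6 (nat_lit 0x8)
 (.cons 12 (nat_lit 0xdd4)
 .nil)))))))))
noncomputable def a36 : Net := (.cons 12 (nat_lit 0x820)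
 (.cons 6 (nat_lit 0x2004)
 (.cons 3 (nat_lit 0x1c2142)
 (.cons 1 (nat_lit 0x8000)
 (.cons 1 (nat_lit 0x12400)
 (.cons 1 (nat_lit 0x248000)
 (.cons 3 (nat_lit 0x2100)
 (.cons 6 (nat_lit 0x2004)
 (.cons 12 (nat_lit 0x820)
 .nil)))))))))
noncomputable def a37 : Net := (.cons 12 (nat_lit 0x820)
 (.cons 6 (nat_lit 0x2004)
 (.cons 3 (nat_lit 0x1c2142)
 (.cons 1 (nat_lit 0x8000)
 (.cons 1 (nat_lit 0x12400)
 (.cons 1 (nat_lit 0x248000)
 (.cons 3 (nat_lit 0x2100)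
 (.cons 6 (nat_lit 0x2004)
 (.cons 12 (nat_lit 0x820)
 .nil)))))))))
noncomputable def a38 : Net := (.cons 12 (nat_lit 0xddb)
 (.cons 6 (nat_lit 0x36023)
 (.cons 3 (nat_lit 0x6006)
 (.cons 1 (nat_lit 0x1009)
 (.cons 1 (nat_lit 0x402492)
 (.cons 1 (nat_lit 0x40209)
 (.cons 3 (nat_lit 0x184000)
 (.cons 6 (nat_lit 0x3001a)
 (.cons 12 (nat_lit 0x16c)
 .nil)))))))))
noncomputable def a39 : Net := (.cons 12 (nat_lit 0xe0)
 (.cons 6 (nat_lit 0x3a032)
 (.cons 3 (nat_lit 0x45086)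
 (.cons 1 (nat_lit 0x48040)
 (.cons 1 (nat_lit 0x490082)
 (.cons 1 (nat_lit 0x49240)
 (.cons 3 (nat_lit 0x104104)
 (.cons 6 (nat_lit 0x3c006)
 (.cons 12 (nat_lit 0x10)
 .nil)))))))))
noncomputable def a40 : Net := (.cons 12 (nat_lit 0x410)
 (.cons 6 (nat_lit 0x26036)
 (.cons 3 (nat_lit 0x104106)
 (.cons 1 (nat_lit 0x200)
 (.cons 1 (nat_lit 0x90492)
 (.cons 1 (nat_lit 0x48240)
 (.cons 3 (nat_lit 0x84100)
 (.cons 6 (nat_lit 0x30002)
 (.cons 12 (nat_lit 0x604)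
 .nil)))))))))
noncomputable def a41 : Net := (.cons 12 (nat_lit 0xcd6)
 (.cons 6 (nat_lit 0x24023)
 (.cons 3 (nat_lit 0x40044)
 (.cons 1 (nat_lit 0x208201)
 (.cons 1 (nat_lit 0x492412)
 (.cons 1 (nat_lit 0x48041)
 (.cons 3 (nat_lit 0x182004)
 (.cons 6 (nat_lit 0x28012)
 (.cons 12 (nat_lit 0xcc0)
 .nil)))))))))
noncomputable def a42 : Net := (.cons 12 (nat_lit 0xf9a)
 (.cons 6 (nat_lit 0x3a02d)
 (.cons 3 (nat_lit 0x821c4)
 (.cons 1 (nat_lit 0x8208)
 (.cons 1 (nat_lit 0x12492)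
 (.cons 1 (nat_lit 0x48201)
 (.cons 3 (nat_lit 0x6086)
 (.cons 6 (nat_lit 0x3a01c)
 (.cons 12 (nat_lit 0xf08)
 .nil)))))))))
noncomputable def a43 : Net := (.cons 12 (nat_lit 0x822)
 (.cons 6 (nat_lit 0x24032)
 (.cons 3 (nat_lit 0x1c2086)
 (.cons 1 (nat_lit 0x208001)
 (.cons 1 (nat_lit 0x492092)
 (.cons 1 (nat_lit 0x208201)
 (.cons 3 (nat_lit 0x84004)
 (.cons 6 (nat_lit 0x8024)
 (.cons 12 (nat_lit 0xc64)
 .nil)))))))))
noncomputable def a44 : Net := (.cons 12 (nat_lit 0xf38)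
 (.cons 6 (nat_lit 0x2000c)
 (.cons 3 (nat_lit 0x106002)
 (.cons 1 (nat_lit 0x40040)
 (.cons 1 (nat_lit 0x80082)
 (.cons 1 (nat_lit 0x240248)
 (.cons 3 (nat_lit 0x100002)
 (.cons 6 (nat_lit 0x2000c)
 (.cons 12 (nat_lit 0xf38)
 .nil)))))))))
noncomputable def a45 : Net := (.cons 12 (nat_lit 0x568)
 (.cons 6 (nat_lit 0x2802c)
 (.cons 3 (nat_lit 0x106006)
 (.cons 1 (nat_lit 0x48040)
 (.cons 1 (nat_lit 0x90092)
 (.cons 1 (nat_lit 0x48040)
 (.cons 3 (nat_lit 0x104000)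
 (.cons 6 (nat_lit 0x28024)
 (.cons 12 (nat_lit 0x168)
 .nil)))))))))
noncomputable def a46 : Net := (.cons 12 (nat_lit 0xbec)
 (.cons 6 (nat_lit 0x32024)
 (.cons 3 (nat_lit 0x102086)
 (.cons 1 (nat_lit 0x200001)
 (.cons 1 (nat_lit 0x490082)
 (.cons 1 (nat_lit 0x40049)
 (.cons 3 (nat_lit 0x184084)
 (.cons 6 (nat_lit 0x24038)
 (.cons 12 (nat_lit 0xfae)
 .nil)))))))))
noncomputable def a47 : Net := (.cons 12 (nat_lit 0x814)
 (.cons 6 (nat_lit 0x2030)
 (.cons 3 (nat_lit 0x100044)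
 (.cons 1 (nat_lit 0x1)
 (.cons 1 (nat_lit 0x82)
 (.cons 1 (nat_lit 0x240001)
 (.cons 3 (nat_lit 0x4)
 (.cons 6 (nat_lit 0x2020)
 (.cons 12 (nat_lit 0x810)
 .nil)))))))))
noncomputable def a48 : Net := (.cons 12 (nat_lit 0x2d2)
 (.cons 6 (nat_lit 0x18000)
 (.cons 3 (nat_lit 0x100002)
 (.cons 1 (nat_lit 0x200000)
 (.cons 1 (nat_lit 0x412410)
 (.cons 1 (nat_lit 0x41048)
 (.cons 3 (nat_lit 0x102080)
 (.cons 6 (nat_lit 0xa000)
 (.cons 12 (nat_lit 0x28)
 .nil)))))))))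
noncomputable def a49 : Net := (.cons 12 (nat_lit 0xfad)
 (.cons 6 (nat_lit 0x703c)
 (.cons 3 (nat_lit 0x106046)
 (.cons 1 (nat_lit 0x40001)
 (.cons 1 (nat_lit 0x82092)
 (.cons 1 (nat_lit 0x201241)
 (.cons 3 (nat_lit 0x104102)
 (.cons 6 (nat_lit 0x1a014)
 (.cons 12 (nat_lit 0x114)
 .nil)))))))))
noncomputable def a50 : Net := (.cons 12 (nat_lit 0x931)
 (.cons 6 (nat_lit 0x2302a)
 (.cons 3 (nat_lit 0x187186)
 (.cons 1 (nat_lit 0x40040)
 (.cons 1 (nat_lit 0x90482)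
 (.cons 1 (nat_lit 0x8001)
 (.cons 3 (nat_lit 0x186104)
 (.cons 6 (nat_lit 0x12)
 (.cons 12 (nat_lit 0x5b0)
 .nil)))))))))
noncomputable def a51 : Net := (.cons 12 (nat_lit 0x114)
 (.cons 6 (nat_lit 0x3303a)
 (.cons 3 (nat_lit 0x103002)
 (.cons 1 (nat_lit 0x40040)
 (.cons 1 (nat_lit 0x80092)
 (.cons 1 (nat_lit 0x240000)
 (.cons 3 (nat_lit 0x100180)
 (.cons 6 (nat_lit 0x30014)
 (.cons 12 (nat_lit 0x596)
 .nil)))))))))
noncomputable def a52 : Net := (.cons 12 (nat_lit 0xd58)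
 (.cons 6 (nat_lit 0x14016)
 (.cons 3 (nat_lit 0x102082)
 (.cons 1 (nat_lit 0x8)
 (.cons 1 (nat_lit 0x10012)
 (.cons 1 (nat_lit 0x41048)
 (.cons 3 (nat_lit 0x2082)
 (.cons 6 (nat_lit 0x14014)
 (.cons 12 (nat_lit 0xd58)
 .nil)))))))))
noncomputable def a53 : Net := (.cons 12 (nat_lit 0xa8a)
 (.cons 6 (nat_lit 0x1e03a)
 (.cons 3 (nat_lit 0x142)
 (.cons 1 (nat_lit 0x40)
 (.cons 1 (nat_lit 0x490080)
 (.cons 1 (nat_lit 0x41248)
 (.cons 3 (nat_lit 0x86180)
 (.cons 6 (nat_lit 0x4020)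
 (.cons 12 (nat_lit 0xe88)
 .nil)))))))))
noncomputable def a54 : Net := (.cons 12 (nat_lit 0x5a8)
 (.cons 6 (nat_lit 0x15028)
 (.cons 3 (nat_lit 0x40c4)
 (.cons 1 (nat_lit 0x40)
 (.cons 1 (nat_lit 0x82482)
 (.cons 1 (nat_lit 0x200)
 (.cons 3 (nat_lit 0x4104)
 (.cons 6 (nat_lit 0x4028)
 (.cons 12 (nat_lit 0x5a8)
 .nil)))))))))
noncomputable def a55 : Net := (.cons 12 (nat_lit 0xc70)
 (.cons 6 (nat_lit 0x2c022)
 (.cons 3 (nat_lit 0x1c6002)
 (.cons 1 (nat_lit 0x1000)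
 (.cons 1 (nat_lit 0x492400)
 (.cons 1 (nat_lit 0x1040)
 (.cons 3 (nat_lit 0x6000)
 (.cons 6 (nat_lit 0x2c022)
 (.cons 12 (nat_lit 0xc70)
 .nil)))))))))
noncomputable def a56 : Net := (.cons 12 (nat_lit 0x682)
 (.cons 6 (nat_lit 0x17026)
 (.cons 3 (nat_lit 0x101100)
 (.cons 1 (nat_lit 0x1000)
 (.cons 1 (nat_lit 0x412080)
 (.cons 1 (nat_lit 0x41048)
 (.cons 3 (nat_lit 0x180180)
 (.cons 6 (nat_lit 0x8)
 (.cons 12 (nat_lit 0x60)
 .nil)))))))))
noncomputable def a57 : Net := (.cons 12 (nat_lit 0xc40)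
 (.cons 6 (nat_lit 0x2501c)
 (.cons 3 (nat_lit 0x104002)
 (.cons 1 (nat_lit 0x8000)
 (.cons 1 (nat_lit 0x90010)
 (.cons 1 (nat_lit 0x40040)
 (.cons 6 (nat_lit 0x26010)
 (.cons 12 (nat_lit 0x880)
 .nil))))))))
noncomputable def a58 : Net := (.cons 12 (nat_lit 0xee2)
 (.cons 6 (nat_lit 0x1b022)
 (.cons 3 (nat_lit 0x1c2180)
 (.cons 1 (nat_lit 0x40040)
 (.cons 1 (nat_lit 0x92080)
 (.cons 1 (nat_lit 0x40008)
 (.cons 3 (nat_lit 0x100100)
 (.cons 6 (nat_lit 0xc022)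
 (.cons 12 (nat_lit 0x860)
 .nil)))))))))
noncomputable def a59 : Net := (.cons 12 (nat_lit 0xe60)
 (.cons 6 (nat_lit 0x35022)
 (.cons 3 (nat_lit 0x181100)
 (.cons 1 (nat_lit 0x8000)
 (.cons 1 (nat_lit 0x92080)
 (.cons 1 (nat_lit 0x8048)
 (.cons 3 (nat_lit 0x102180)
 (.cons 6 (nat_lit 0x30022)
 (.cons 12 (nat_lit 0xce0)
 .nil)))))))))
noncomputable def a60 : Net := (.cons 12 (nat_lit 0xa8a)
 (.cons 6 (nat_lit 0x1e03a)
 (.cons 3 (nat_lit 0x142)
 (.cons 1 (nat_lit 0x40)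
 (.cons 1 (nat_lit 0x490080)
 (.cons 1 (nat_lit 0x41248)
 (.cons 3 (nat_lit 0x86180)
 (.cons 6 (nat_lit 0x4020)
 (.cons 12 (nat_lit 0xe88)
 .nil)))))))))
noncomputable def a61 : Net := (.cons 12 (nat_lit 0x268)
 (.cons 6 (nat_lit 0xa000)
 (.cons 3 (nat_lit 0x102080)
 (.cons 1 (nat_lit 0x1008)
 (.cons 1 (nat_lit 0x412410)
 (.cons 1 (nat_lit 0x240040)
 (.cons 3 (nat_lit 0x100002)
 (.cons 6 (nat_lit 0x18000)
 (.cons 12 (nat_lit 0x52)
 .nil)))))))))
noncomputable def a62 : Net := (.cons 12 (nat_lit 0x490)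
 (.cons 6 (nat_lit 0x1c002)
 (.cons 3 (nat_lit 0x46000)
 (.cons 1 (nat_lit 0x1000)
 (.cons 1 (nat_lit 0x2410)
 (.cons 1 (nat_lit 0x1040)
 (.cons 3 (nat_lit 0x4000)
 (.cons 6 (nat_lit 0x18002)
 (.cons 12 (nat_lit 0x410)
 .nil)))))))))
noncomputable def a63 : Net := (.cons 12 (nat_lit 0x490)
 (.cons 6 (nat_lit 0x1c002)
 (.cons 3 (nat_lit 0x46000)
 (.cons 1 (nat_lit 0x1000)
 (.cons 1 (nat_lit 0x2410)
 (.cons 1 (nat_lit 0x1040)
 (.cons 3 (nat_lit 0x4000)
 (.cons 6 (nat_lit 0x18002)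
 (.cons 12 (nat_lit 0x410)
 .nil)))))))))
noncomputable def a64 : Net := (.cons 12 (nat_lit 0x5a8)
 (.cons 6 (nat_lit 0x15028)
 (.cons 3 (nat_lit 0x40c4)
 (.cons 1 (nat_lit 0x40)
 (.cons 1 (nat_lit 0x82482)
 (.cons 1 (nat_lit 0x200)
 (.cons 3 (nat_lit 0x4104)
 (.cons 6 (nat_lit 0x4028)
 (.cons 12 (nat_lit 0x5a8)
 .nil)))))))))
noncomputable def a65 : Net := (.cons 12 (nat_lit 0x822)
 (.cons 6 (nat_lit 0x32020)
 (.cons 3 (nat_lit 0x4080)
 (.cons 1 (nat_lit 0x48000)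
 (.cons 1 (nat_lit 0x90400)
 (.cons 1 (nat_lit 0x49040)
 (.cons 3 (nat_lit 0x4080)
 (.cons 6 (nat_lit 0x2020)
 (.cons 12 (nat_lit 0x820)
 .nil)))))))))
noncomputable def a66 : Net := (.cons 12 (nat_lit 0x5ca)
 (.cons 6 (nat_lit 0x20016)
 (.cons 3 (nat_lit 0x184104)
 (.cons 1 (nat_lit 0x40040)
 (.cons 1 (nat_lit 0x90080)
 (.cons 1 (nat_lit 0x41048)
 (.cons 3 (nat_lit 0x104100)
 (.cons 6 (nat_lit 0x20014)
 (.cons 12 (nat_lit 0x5ca)
 .nil)))))))))
noncomputable def a67 : Net := (.cons 12 (nat_lit 0xc70)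
 (.cons 6 (nat_lit 0x2c022)
 (.cons 3 (nat_lit 0x1c6002)
 (.cons 1 (nat_lit 0x1000)
 (.cons 1 (nat_lit 0x492400)
 (.cons 1 (nat_lit 0x1040)
 (.cons 3 (nat_lit 0x6000)
 (.cons 6 (nat_lit 0x2c022)
 (.cons 12 (nat_lit 0xc70)
 .nil)))))))))
noncomputable def a68 : Net := (.cons 12 (nat_lit 0xc51)
 (.cons 6 (nat_lit 0x3002e)
 (.cons 3 (nat_lit 0x4006)
 (.cons 1 (nat_lit 0x1001)
 (.cons 1 (nat_lit 0x12002)
 (.cons 1 (nat_lit 0x201041)
 (.cons 3 (nat_lit 0x4004)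
 (.cons 6 (nat_lit 0x30022)
 (.cons 12 (nat_lit 0x450)
 .nil)))))))))
noncomputable def a69 : Net := (.cons 12 (nat_lit 0xb09)
 (.cons 6 (nat_lit 0xf03d)
 (.cons 3 (nat_lit 0x182006)
 (.cons 1 (nat_lit 0x40200)
 (.cons 1 (nat_lit 0x490412)
 (.cons 1 (nat_lit 0x8001)
 (.cons 3 (nat_lit 0x100082)
 (.cons 6 (nat_lit 0x2030)
 (.cons 12 (nat_lit 0x4f6)
 .nil)))))))))
noncomputable def a70 : Net := (.cons 12 (nat_lit 0xe60)
 (.cons 6 (nat_lit 0x35022)
 (.cons 3 (nat_lit 0x181100)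
 (.cons 1 (nat_lit 0x8000)
 (.cons 1 (nat_lit 0x92080)
 (.cons 1 (nat_lit 0x8048)
 (.cons 3 (nat_lit 0x102180)
 (.cons 6 (nat_lit 0x30022)
 (.cons 12 (nat_lit 0xce0)
 .nil)))))))))
noncomputable def a71 : Net := (.cons 12 (nat_lit 0x672)
 (.cons 6 (nat_lit 0x3401c)
 (.cons 3 (nat_lit 0x1c6)
 (.cons 1 (nat_lit 0x201240)
 (.cons 1 (nat_lit 0x482490)
 (.cons 1 (nat_lit 0x208)
 (.cons 3 (nat_lit 0x100084)
 (.cons 6 (nat_lit 0x20006)
 (.cons 12 (nat_lit 0x1c0)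
 .nil)))))))))
noncomputable def a72 : Net := (.cons 12 (nat_lit 0xc34)
 (.cons 6 (nat_lit 0x1f010)
 (.cons 3 (nat_lit 0x6080)
 (.cons 1 (nat_lit 0x1000)
 (.cons 1 (nat_lit 0x12010)
 (.cons 1 (nat_lit 0x241240)
 (.cons 3 (nat_lit 0x2004)
 (.cons 6 (nat_lit 0x34018)
 (.cons 12 (nat_lit 0xa2e)
 .nil)))))))))
noncomputable def a73 : Net := (.cons 12 (nat_lit 0xee2)
 (.cons 6 (nat_lit 0x1b022)
 (.cons 3 (nat_lit 0x1c2180)
 (.cons 1 (nat_lit 0x40040)
 (.cons 1 (nat_lit 0x92080)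
 (.cons 1 (nat_lit 0x40008)
 (.cons 3 (nat_lit 0x100100)
 (.cons 6 (nat_lit 0xc022)
 (.cons 12 (nat_lit 0x860)
 .nil)))))))))
noncomputable def a74 : Net := (.cons 12 (nat_lit 0x2d2)
 (.cons 6 (nat_lit 0x18000)
 (.cons 3 (nat_lit 0x100002)
 (.cons 1 (nat_lit 0x200000)
 (.cons 1 (nat_lit 0x412410)
 (.cons 1 (nat_lit 0x41048)
 (.cons 3 (nat_lit 0x102080)
 (.cons 6 (nat_lit 0xa000)
 (.cons 12 (nat_lit 0x28)
 .nil)))))))))
noncomputable def a75 : Net := (.cons 12 (nat_lit 0x6a)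
 (.cons 6 (nat_lit 0x4022)
 (.cons 3 (nat_lit 0x102084)
 (.cons 1 (nat_lit 0x1000)
 (.cons 1 (nat_lit 0x412402)
 (.cons 1 (nat_lit 0x241048)
 (.cons 3 (nat_lit 0x106004)
 (.cons 6 (nat_lit 0x1c00a)
 (.cons 12 (nat_lit 0x2b2)
 .nil)))))))))
noncomputable def a76 : Net := (.cons 12 (nat_lit 0xc46)
 (.cons 6 (nat_lit 0xd002)
 (.cons 3 (nat_lit 0x86084)
 (.cons 1 (nat_lit 0x200000)
 (.cons 1 (nat_lit 0x412000)
 (.cons 1 (nat_lit 0x200040)
 (.cons 3 (nat_lit 0x80)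
 (.cons 6 (nat_lit 0xc000)
 (.cons 12 (nat_lit 0xc46)
 .nil)))))))))
noncomputable def a77 : Net := (.cons 12 (nat_lit 0x8e4)
 (.cons 6 (nat_lit 0x3b034)
 (.cons 3 (nat_lit 0x140082)
 (.cons 1 (nat_lit 0x40040)
 (.cons 1 (nat_lit 0x490480)
 (.cons 1 (nat_lit 0x201040)
 (.cons 3 (nat_lit 0x80080)
 (.cons 6 (nat_lit 0x8034)
 (.cons 12 (nat_lit 0x8e4)
 .nil)))))))))
noncomputable def a78 : Net := (.cons 12 (nat_lit 0xd34)
 (.cons 6 (nat_lit 0x13004)
 (.cons 3 (nat_lit 0x104080)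
 (.cons 1 (nat_lit 0x40040)
 (.cons 1 (nat_lit 0x82092)
 (.cons 1 (nat_lit 0x9040)
 (.cons 3 (nat_lit 0x104000)
 (.cons 6 (nat_lit 0x30004)
 (.cons 12 (nat_lit 0xd34)
 .nil)))))))))
noncomputable def a79 : Net := (.cons 12 (nat_lit 0xd58)
 (.cons 6 (nat_lit 0x14016)
 (.cons 3 (nat_lit 0x102082)
 (.cons 1 (nat_lit 0x8)
 (.cons 1 (nat_lit 0x10012)
 (.cons 1 (nat_lit 0x41048)
 (.cons 3 (nat_lit 0x2082)
 (.cons 6 (nat_lit 0x14014)
 (.cons 12 (nat_lit 0xd58)
 .nil)))))))))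
noncomputable def a80 : Net := (.cons 12 (nat_lit 0xb3e)
 (.cons 6 (nat_lit 0x3c004)
 (.cons 3 (nat_lit 0x40c2)
 (.cons 1 (nat_lit 0x1000)
 (.cons 1 (nat_lit 0x402012)
 (.cons 1 (nat_lit 0x209208)
 (.cons 3 (nat_lit 0x82)
 (.cons 6 (nat_lit 0x24000)
 (.cons 12 (nat_lit 0xf3e)
 .nil)))))))))
noncomputable def a81 : Net := (.cons 12 (nat_lit 0xd60)
 (.cons 6 (nat_lit 0x34020)
 (.cons 3 (nat_lit 0x1c4100)
 (.cons 1 (nat_lit 0x241200)
 (.cons 1 (nat_lit 0x482480)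
 (.cons 1 (nat_lit 0x1208)
 (.cons 3 (nat_lit 0x180)
 (.cons 6 (nat_lit 0x3e038)
 (.cons 12 (nat_lit 0xfd8)
 .nil)))))))))
noncomputable def a82 : Net := (.cons 12 (nat_lit 0xb6c)
 (.cons 6 (nat_lit 0x39038)
 (.cons 3 (nat_lit 0xc7104)
 (.cons 1 (nat_lit 0x201000)
 (.cons 1 (nat_lit 0x402090)
 (.cons 1 (nat_lit 0x1008)
 (.cons 3 (nat_lit 0x184004)
 (.cons 6 (nat_lit 0x38)
 (.cons 12 (nat_lit 0xb64)
 .nil)))))))))
noncomputable def a83 : Net := (.cons 12 (nat_lit 0xbaa)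
 (.cons 6 (nat_lit 0x3000a)
 (.cons 3 (nat_lit 0x1041c0)
 (.cons 1 (nat_lit 0x1000)
 (.cons 1 (nat_lit 0x2400)
 (.cons 1 (nat_lit 0x201208)
 (.cons 3 (nat_lit 0x80102)
 (.cons 6 (nat_lit 0x14010)
 (.cons 12 (nat_lit 0xf8a)
 .nil)))))))))
noncomputable def a84 : Net := (.cons 12 (nat_lit 0x692)
 (.cons 6 (nat_lit 0x17036)
 (.cons 3 (nat_lit 0x105146)
 (.cons 1 (nat_lit 0x1040)
 (.cons 1 (nat_lit 0x412492)
 (.cons 1 (nat_lit 0x8208)
 (.cons 3 (nat_lit 0x104000)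
 (.cons 6 (nat_lit 0x4)
 (.cons 12 (nat_lit 0x580)
 .nil)))))))))
noncomputable def a85 : Net := (.cons 12 (nat_lit 0xa06)
 (.cons 6 (nat_lit 0x23022)
 (.cons 3 (nat_lit 0x147184)
 (.cons 1 (nat_lit 0x240048)
 (.cons 1 (nat_lit 0x492490)
 (.cons 1 (nat_lit 0x49000)
 (.cons 3 (nat_lit 0x6)
 (.cons 6 (nat_lit 0x8038)
 (.cons 12 (nat_lit 0x9e0)
 .nil)))))))))
noncomputable def a86 : Net := (.cons 12 (nat_lit 0xa34)
 (.cons 6 (nat_lit 0x24034)
 (.cons 3 (nat_lit 0x185006)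
 (.cons 1 (nat_lit 0x208048)
 (.cons 1 (nat_lit 0x492490)
 (.cons 1 (nat_lit 0x41048)
 (.cons 3 (nat_lit 0x102184)
 (.cons 6 (nat_lit 0x3c02c)
 (.cons 12 (nat_lit 0xaf4)
 .nil)))))))))
noncomputable def a87 : Net := (.cons 12 (nat_lit 0xda8)
 (.cons 6 (nat_lit 0x32018)
 (.cons 3 (nat_lit 0x86046)
 (.cons 1 (nat_lit 0x1040)
 (.cons 1 (nat_lit 0x2082)
 (.cons 1 (nat_lit 0x240240)
 (.cons 3 (nat_lit 0x2084)
 (.cons 6 (nat_lit 0x38002)
 (.cons 12 (nat_lit 0xf92)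
 .nil)))))))))
noncomputable def a88 : Net := (.cons 12 (nat_lit 0x170)
 (.cons 6 (nat_lit 0x38004)
 (.cons 3 (nat_lit 0x182006)
 (.cons 1 (nat_lit 0x41000)
 (.cons 1 (nat_lit 0x82400)
 (.cons 1 (nat_lit 0x241040)
 (.cons 3 (nat_lit 0x180000)
 (.cons 6 (nat_lit 0x38004)
 (.cons 12 (nat_lit 0x170)
 .nil)))))))))
noncomputable def a89 : Net := (.cons 12 (nat_lit 0xa8a)
 (.cons 6 (nat_lit 0x1e03a)
 (.cons 3 (nat_lit 0x142)
 (.cons 1 (nat_lit 0x40)
 (.cons 1 (nat_lit 0x490080)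
 (.cons 1 (nat_lit 0x41248)
 (.cons 3 (nat_lit 0x86180)
 (.cons 6 (nat_lit 0x4020)
 (.cons 12 (nat_lit 0xe88)
 .nil)))))))))
noncomputable def a90 : Net := (.cons 12 (nat_lit 0xda4)
 (.cons 3 (nat_lit 0x83080)
 (.cons 1 (nat_lit 0x40)
 (.cons 1 (nat_lit 0x400082)
 (.cons 1 (nat_lit 0x49040)
 (.cons 3 (nat_lit 0x80000)
 (.cons 12 (nat_lit 0xd84)
 .nil)))))))
noncomputable def a91 : Net := (.cons 12 (nat_lit 0x5a8)
 (.cons 6 (nat_lit 0x15028)
 (.cons 3 (nat_lit 0x40c4)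
 (.cons 1 (nat_lit 0x40)
 (.cons 1 (nat_lit 0x82482)
 (.cons 1 (nat_lit 0x200)
 (.cons 3 (nat_lit 0x4104)
 (.cons 6 (nat_lit 0x4028)
 (.cons 12 (nat_lit 0x5a8)
 .nil)))))))))
noncomputable def a92 : Net := (.cons 12 (nat_lit 0xc70)
 (.cons 6 (nat_lit 0x2c022)
 (.cons 3 (nat_lit 0x1c6002)
 (.cons 1 (nat_lit 0x1000)
 (.cons 1 (nat_lit 0x492400)
 (.cons 1 (nat_lit 0x1040)
 (.cons 3 (nat_lit 0x6000)
 (.cons 6 (nat_lit 0x2c022)
 (.cons 12 (nat_lit 0xc70)
 .nil)))))))))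
noncomputable def a93 : Net := (.cons 12 (nat_lit 0xe2a)
 (.cons 6 (nat_lit 0x1a02e)
 (.cons 3 (nat_lit 0x1800c0)
 (.cons 1 (nat_lit 0x200)
 (.cons 1 (nat_lit 0x12400)
 (.cons 1 (nat_lit 0x41240)
 (.cons 3 (nat_lit 0x2080)
 (.cons 6 (nat_lit 0x34028)
 (.cons 12 (nat_lit 0xea8)
 .nil)))))))))
noncomputable def a94 : Net := (.cons 12 (nat_lit 0x16e)
 (.cons 6 (nat_lit 0x20004)
 (.cons 3 (nat_lit 0x42080)
 (.cons 1 (nat_lit 0x200040)
 (.cons 1 (nat_lit 0x400482)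
 (.cons 1 (nat_lit 0x241008)
 (.cons 3 (nat_lit 0x80006)
 (.cons 6 (nat_lit 0x3a01e)
 (.cons 12 (nat_lit 0x7f4)
 .nil)))))))))
noncomputable def a95 : Net := (.cons 12 (nat_lit 0x688)
 (.cons 6 (nat_lit 0xf032)
 (.cons 3 (nat_lit 0x182104)
 (.cons 1 (nat_lit 0x402082)
 (.cons 1 (nat_lit 0x200)
 (.cons 3 (nat_lit 0x100104)
 (.cons 6 (nat_lit 0x10010)
 (.cons 12 (nat_lit 0x688)
 .nil))))))))
noncomputable def a96 : Net := (.cons 12 (nat_lit 0xcb0)
 (.cons 6 (nat_lit 0x14024)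
 (.cons 3 (nat_lit 0x106002)
 (.cons 1 (nat_lit 0x10400)
 (.cons 1 (nat_lit 0x241000)
 (.cons 3 (nat_lit 0x6000)
 (.cons 6 (nat_lit 0x14020)
 (.cons 12 (nat_lit 0xcb0)
 .nil))))))))
noncomputable def a97 : Net := (.cons 12 (nat_lit 0x208)
 (.cons 6 (nat_lit 0xc01c)
 (.cons 3 (nat_lit 0x6142)
 (.cons 1 (nat_lit 0x40000)
 (.cons 1 (nat_lit 0x90080)
 (.cons 1 (nat_lit 0x41000)
 (.cons 3 (nat_lit 0x6100)
 (.cons 6 (nat_lit 0x4018)
 (.cons 12 (nat_lit 0x208)
 .nil)))))))))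
noncomputable def a98 : Net := (.cons 12 (nat_lit 0x414)
 (.cons 6 (nat_lit 0x3b006)
 (.cons 3 (nat_lit 0x102144)
 (.cons 1 (nat_lit 0x201048)
 (.cons 1 (nat_lit 0x482090)
 (.cons 1 (nat_lit 0x40248)
 (.cons 3 (nat_lit 0x102084)
 (.cons 6 (nat_lit 0x2a00a)
 (.cons 12 (nat_lit 0x25a)
 .nil)))))))))
noncomputable def a99 : Net := (.cons 12 (nat_lit 0x60)
 (.cons 6 (nat_lit 0x2a00c)
 (.cons 3 (nat_lit 0x82104)
 (.cons 1 (nat_lit 0x41208)
 (.cons 1 (nat_lit 0x82490)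
 (.cons 1 (nat_lit 0x240200)
 (.cons 3 (nat_lit 0x182184)
 (.cons 6 (nat_lit 0x28000)
 (.cons 12 (nat_lit 0x260)
 .nil)))))))))
noncomputable def a100 : Net := (.cons 12 (nat_lit 0x922)
 (.cons 6 (nat_lit 0x1900a)
 (.cons 3 (nat_lit 0x1c40c4)
 (.cons 1 (nat_lit 0x40048)
 (.cons 1 (nat_lit 0x482090)
 (.cons 1 (nat_lit 0x200240)
 (.cons 3 (nat_lit 0x104084)
 (.cons 6 (nat_lit 0x30008)
 (.cons 12 (nat_lit 0x8a8)
 .nil)))))))))
noncomputable def a101 : Net := (.cons 12 (nat_lit 0xda8)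
 (.cons 6 (nat_lit 0x32018)
 (.cons 3 (nat_lit 0x86046)
 (.cons 1 (nat_lit 0x1040)
 (.cons 1 (nat_lit 0x2082)
 (.cons 1 (nat_lit 0x240240)
 (.cons 3 (nat_lit 0x2084)
 (.cons 6 (nat_lit 0x38002)
 (.cons 12 (nat_lit 0xf92)
 .nil)))))))))
noncomputable def a102 : Net := (.cons 12 (nat_lit 0xd58)
 (.cons 6 (nat_lit 0x14016)
 (.cons 3 (nat_lit 0x102082)
 (.cons 1 (nat_lit 0x8)
 (.cons 1 (nat_lit 0x10012)
 (.cons 1 (nat_lit 0x41048)
 (.cons 3 (nat_lit 0x2082)
 (.cons 6 (nat_lit 0x14014)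
 (.cons 12 (nat_lit 0xd58)
 .nil)))))))))
noncomputable def a103 : Net := (.cons 12 (nat_lit 0x5ca)
 (.cons 6 (nat_lit 0x20016)
 (.cons 3 (nat_lit 0x184104)
 (.cons 1 (nat_lit 0x40040)
 (.cons 1 (nat_lit 0x90080)
 (.cons 1 (nat_lit 0x41048)
 (.cons 3 (nat_lit 0x104100)
 (.cons 6 (nat_lit 0x20014)
 (.cons 12 (nat_lit 0x5ca)
 .nil)))))))))
noncomputable def a104 : Net := (.cons 12 (nat_lit 0xd58)
 (.cons 6 (nat_lit 0x14016)
 (.cons 3 (nat_lit 0x102082)
 (.cons 1 (nat_lit 0x8)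
 (.cons 1 (nat_lit 0x10012)
 (.cons 1 (nat_lit 0x41048)
 (.cons 3 (nat_lit 0x2082)
 (.cons 6 (nat_lit 0x14014)
 (.cons 12 (nat_lit 0xd58)
 .nil)))))))))
noncomputable def a105 : Net := (.cons 12 (nat_lit 0x170)
 (.cons 6 (nat_lit 0x38004)
 (.cons 3 (nat_lit 0x182006)
 (.cons 1 (nat_lit 0x41000)
 (.cons 1 (nat_lit 0x82400)
 (.cons 1 (nat_lit 0x241040)
 (.cons 3 (nat_lit 0x180000)
 (.cons 6 (nat_lit 0x38004)
 (.cons 12 (nat_lit 0x170)
 .nil)))))))))
noncomputable def a106 : Net := (.cons 12 (nat_lit 0x8e4)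
 (.cons 6 (nat_lit 0x3b034)
 (.cons 3 (nat_lit 0x140082)
 (.cons 1 (nat_lit 0x40040)
 (.cons 1 (nat_lit 0x490480)
 (.cons 1 (nat_lit 0x201040)
 (.cons 3 (nat_lit 0x80080)
 (.cons 6 (nat_lit 0x8034)
 (.cons 12 (nat_lit 0x8e4)
 .nil)))))))))
noncomputable def a107 : Net := (.cons 12 (nat_lit 0x16e)
 (.cons 6 (nat_lit 0x20004)
 (.cons 3 (nat_lit 0x42080)
 (.cons 1 (nat_lit 0x200040)
 (.cons 1 (nat_lit 0x400482)
 (.cons 1 (nat_lit 0x241008)
 (.cons 3 (nat_lit 0x80006)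
 (.cons 6 (nat_lit 0x3a01e)
 (.cons 12 (nat_lit 0x7f4)
 .nil)))))))))
noncomputable def a108 : Net := (.cons 12 (nat_lit 0xe2a)
 (.cons 6 (nat_lit 0x1a02e)
 (.cons 3 (nat_lit 0x1800c0)
 (.cons 1 (nat_lit 0x200)
 (.cons 1 (nat_lit 0x12400)
 (.cons 1 (nat_lit 0x41240)
 (.cons 3 (nat_lit 0x2080)
 (.cons 6 (nat_lit 0x34028)
 (.cons 12 (nat_lit 0xea8)
 .nil)))))))))
noncomputable def a109 : Net := (.cons 12 (nat_lit 0x510)
 (.cons 6 (nat_lit 0x1202a)
 (.cons 3 (nat_lit 0x2182)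
 (.cons 1 (nat_lit 0x8000)
 (.cons 1 (nat_lit 0x12000)
 (.cons 1 (nat_lit 0x208040)
 (.cons 3 (nat_lit 0x2080)
 (.cons 6 (nat_lit 0x10022)
 (.cons 12 (nat_lit 0x510)
 .nil)))))))))
noncomputable def a110 : Net := (.cons 12 (nat_lit 0x688)
 (.cons 6 (nat_lit 0xf032)
 (.cons 3 (nat_lit 0x182104)
 (.cons 1 (nat_lit 0x402082)
 (.cons 1 (nat_lit 0x200)
 (.cons 3 (nat_lit 0x100104)
 (.cons 6 (nat_lit 0x10010)
 (.cons 12 (nat_lit 0x688)
 .nil))))))))
noncomputable def a111 : Net := (.cons 12 (nat_lit 0x5ca)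
 (.cons 6 (nat_lit 0x20016)
 (.cons 3 (nat_lit 0x184104)
 (.cons 1 (nat_lit 0x40040)
 (.cons 1 (nat_lit 0x90080)
 (.cons 1 (nat_lit 0x41048)
 (.cons 3 (nat_lit 0x104100)
 (.cons 6 (nat_lit 0x20014)
 (.cons 12 (nat_lit 0x5ca)
 .nil)))))))))
noncomputable def a112 : Net := (.cons 12 (nat_lit 0x8e4)
 (.cons 6 (nat_lit 0x3b034)
 (.cons 3 (nat_lit 0x140082)
 (.cons 1 (nat_lit 0x40040)
 (.cons 1 (nat_lit 0x490480)
 (.cons 1 (nat_lit 0x201040)
 (.cons 3 (nat_lit 0x80080)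
 (.cons 6 (nat_lit 0x8034)
 (.cons 12 (nat_lit 0x8e4)
 .nil)))))))))
noncomputable def a113 : Net := (.cons 12 (nat_lit 0x5a8)
 (.cons 6 (nat_lit 0x15028)
 (.cons 3 (nat_lit 0x40c4)
 (.cons 1 (nat_lit 0x40)
 (.cons 1 (nat_lit 0x82482)
 (.cons 1 (nat_lit 0x200)
 (.cons 3 (nat_lit 0x4104)
 (.cons 6 (nat_lit 0x4028)
 (.cons 12 (nat_lit 0x5a8)
 .nil)))))))))
noncomputable def a114 : Net := (.cons 12 (nat_lit 0x688)
 (.cons 6 (nat_lit 0xf032)
 (.cons 3 (nat_lit 0x182104)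
 (.cons 1 (nat_lit 0x402082)
 (.cons 1 (nat_lit 0x200)
 (.cons 3 (nat_lit 0x100104)
 (.cons 6 (nat_lit 0x10010)
 (.cons 12 (nat_lit 0x688)
 .nil))))))))
noncomputable def a115 : Net := (.cons 12 (nat_lit 0x510)
 (.cons 6 (nat_lit 0x1202a)
 (.cons 3 (nat_lit 0x2182)
 (.cons 1 (nat_lit 0x8000)
 (.cons 1 (nat_lit 0x12000)
 (.cons 1 (nat_lit 0x208040)
 (.cons 3 (nat_lit 0x2080)
 (.cons 6 (nat_lit 0x10022)
 (.cons 12 (nat_lit 0x510)
 .nil)))))))))
noncomputable def a116 : Net := (.cons 12 (nat_lit 0xc70)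
 (.cons 6 (nat_lit 0x2c022)
 (.cons 3 (nat_lit 0x1c6002)
 (.cons 1 (nat_lit 0x1000)
 (.cons 1 (nat_lit 0x492400)
 (.cons 1 (nat_lit 0x1040)
 (.cons 3 (nat_lit 0x6000)
 (.cons 6 (nat_lit 0x2c022)
 (.cons 12 (nat_lit 0xc70)
 .nil)))))))))
noncomputable def a117 : Net := (.cons 12 (nat_lit 0x344)
 (.cons 6 (nat_lit 0x1004)
 (.cons 3 (nat_lit 0x182004)
 (.cons 1 (nat_lit 0x201008)
 (.cons 1 (nat_lit 0x412090)
 (.cons 1 (nat_lit 0x248000)
 (.cons 3 (nat_lit 0x182104)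
 (.cons 6 (nat_lit 0x401c)
 (.cons 12 (nat_lit 0x454)
 .nil)))))))))
noncomputable def a118 : Net := (.cons 12 (nat_lit 0x60)
 (.cons 6 (nat_lit 0x2a00c)
 (.cons 3 (nat_lit 0x82104)
 (.cons 1 (nat_lit 0x41208)
 (.cons 1 (nat_lit 0x82490)
 (.cons 1 (nat_lit 0x240200)
 (.cons 3 (nat_lit 0x182184)
 (.cons 6 (nat_lit 0x28000)
 (.cons 12 (nat_lit 0x260)
 .nil)))))))))
noncomputable def a119 : Net := (.cons 12 (nat_lit 0xe04)
 (.cons 6 (nat_lit 0x3602c)
 (.cons 3 (nat_lit 0x107100)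
 (.cons 1 (nat_lit 0x8040)
 (.cons 1 (nat_lit 0x92480)
 (.cons 1 (nat_lit 0x1048)
 (.cons 3 (nat_lit 0x100100)
 (.cons 6 (nat_lit 0x32028)
 (.cons 12 (nat_lit 0xb00)
 .nil)))))))))
noncomputable def a120 : Net := (.cons 12 (nat_lit 0x4ec)
 (.cons 6 (nat_lit 0x1b014)
 (.cons 3 (nat_lit 0x3184)
 (.cons 1 (nat_lit 0x48)
 (.cons 1 (nat_lit 0x80092)
 (.cons 1 (nat_lit 0x249000)
 (.cons 3 (nat_lit 0x80)
 (.cons 6 (nat_lit 0x18014)
 (.cons 12 (nat_lit 0x2da)
 .nil)))))))))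
noncomputable def a121 : Net := (.cons 12 (nat_lit 0xdc2)
 (.cons 6 (nat_lit 0x21010)
 (.cons 3 (nat_lit 0x2140)
 (.cons 1 (nat_lit 0x8200)
 (.cons 1 (nat_lit 0x492402)
 (.cons 1 (nat_lit 0x49048)
 (.cons 3 (nat_lit 0x80100)
 (.cons 6 (nat_lit 0x18004)
 (.cons 12 (nat_lit 0xd1c)
 .nil)))))))))
noncomputable def a122 : Net := (.cons 12 (nat_lit 0x2d8)
 (.cons 6 (nat_lit 0x12018)
 (.cons 3 (nat_lit 0x6080)
 (.cons 1 (nat_lit 0x8040)
 (.cons 1 (nat_lit 0x10082)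
 (.cons 1 (nat_lit 0x248048)
 (.cons 3 (nat_lit 0x4000)
 (.cons 6 (nat_lit 0x2008)
 (.cons 12 (nat_lit 0x448)
 .nil)))))))))
noncomputable def a123 : Net := (.cons 12 (nat_lit 0x81a)
 (.cons 6 (nat_lit 0x1c01a)
 (.cons 3 (nat_lit 0x143002)
 (.cons 1 (nat_lit 0x8000)
 (.cons 1 (nat_lit 0x492000)
 (.cons 1 (nat_lit 0x208208)
 (.cons 3 (nat_lit 0x84002)
 (.cons 12 (nat_lit 0xc80)
 .nil))))))))
noncomputable def a124 : Net := (.cons 12 (nat_lit 0x804)
 (.cons 6 (nat_lit 0x38016)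
 (.cons 3 (nat_lit 0x187104)
 (.cons 1 (nat_lit 0x9000)
 (.cons 1 (nat_lit 0x12410)
 (.cons 1 (nat_lit 0x49000)
 (.cons 3 (nat_lit 0x80104)
 (.cons 6 (nat_lit 0x38000)
 (.cons 12 (nat_lit 0x804)
 .nil)))))))))
noncomputable def a125 : Net := (.cons 12 (nat_lit 0x14)
 (.cons 6 (nat_lit 0x30024)
 (.cons 3 (nat_lit 0x102084)
 (.cons 1 (nat_lit 0x1000)
 (.cons 1 (nat_lit 0x82080)
 (.cons 1 (nat_lit 0x209208)
 (.cons 3 (nat_lit 0x102080)
 (.cons 6 (nat_lit 0x30024)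
 (.cons 12 (nat_lit 0x14)
 .nil)))))))))
noncomputable def a126 : Net := (.cons 12 (nat_lit 0x510)
 (.cons 6 (nat_lit 0x36038)
 (.cons 3 (nat_lit 0x102084)
 (.cons 1 (nat_lit 0x201000)
 (.cons 1 (nat_lit 0x482000)
 (.cons 1 (nat_lit 0x209000)
 (.cons 3 (nat_lit 0x102000)
 (.cons 6 (nat_lit 0x26030)
 (.cons 12 (nat_lit 0x510)
 .nil)))))))))
noncomputable def a127 : Net := (.cons 12 (nat_lit 0x234)
 (.cons 6 (nat_lit 0x8022)
 (.cons 3 (nat_lit 0x5186)
 (.cons 1 (nat_lit 0x8048)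
 (.cons 1 (nat_lit 0x90090)
 (.cons 1 (nat_lit 0x40000)
 (.cons 3 (nat_lit 0x84182)
 (.cons 6 (nat_lit 0x1a02c)
 (.cons 12 (nat_lit 0x644)
 .nil)))))))))
noncomputable def a128 : Net := (.cons 12 (nat_lit 0xffe)
 (.cons 6 (nat_lit 0x1700c)
 (.cons 3 (nat_lit 0x1c11c2)
 (.cons 1 (nat_lit 0x8)
 (.cons 1 (nat_lit 0x82410)
 (.cons 1 (nat_lit 0x209200)
 (.cons 3 (nat_lit 0x80106)
 (.cons 6 (nat_lit 0x10010)
 (.cons 12 (nat_lit 0x9aa)
 .nil)))))))))
noncomputable def a129 : Net := (.cons 12 (nat_lit 0x916)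
 (.cons 6 (nat_lit 0x2c01e)
 (.cons 3 (nat_lit 0xc6046)
 (.cons 1 (nat_lit 0x41048)
 (.cons 1 (nat_lit 0x82090)
 (.cons 1 (nat_lit 0x9248)
 (.cons 3 (nat_lit 0x86084)
 (.cons 6 (nat_lit 0x2a000)
 (.cons 12 (nat_lit 0xec8)
 .nil)))))))))
noncomputable def a130 : Net := (.cons 12 (nat_lit 0x72a)
 (.cons 6 (nat_lit 0xf03c)
 (.cons 3 (nat_lit 0x41182)
 (.cons 1 (nat_lit 0x8)
 (.cons 1 (nat_lit 0x2090)
 (.cons 1 (nat_lit 0x9200)
 (.cons 3 (nat_lit 0x4)
 (.cons 6 (nat_lit 0x4004)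
 (.cons 12 (nat_lit 0x4aa)
 .nil)))))))))
noncomputable def a131 : Net := (.cons 12 (nat_lit 0xc50)
 (.cons 6 (nat_lit 0x3a016)
 (.cons 3 (nat_lit 0x182002)
 (.cons 1 (nat_lit 0x208000)
 (.cons 1 (nat_lit 0x490002)
 (.cons 1 (nat_lit 0x9248)
 (.cons 3 (nat_lit 0x6002)
 (.cons 6 (nat_lit 0x2801e)
 (.cons 12 (nat_lit 0x954)
 .nil)))))))))
noncomputable def a132 : Net := (.cons 12 (nat_lit 0x510)
 (.cons 6 (nat_lit 0x36038)
 (.cons 3 (nat_lit 0x102084)
 (.cons 1 (nat_lit 0x201000)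
 (.cons 1 (nat_lit 0x482000)
 (.cons 1 (nat_lit 0x209000)
 (.cons 3 (nat_lit 0x102000)
 (.cons 6 (nat_lit 0x26030)
 (.cons 12 (nat_lit 0x510)
 .nil)))))))))
noncomputable def a133 : Net := (.cons 12 (nat_lit 0xc10)
 (.cons 6 (nat_lit 0x3e00c)
 (.cons 3 (nat_lit 0x84080)
 (.cons 1 (nat_lit 0x201000)
 (.cons 1 (nat_lit 0x482000)
 (.cons 1 (nat_lit 0x209208)
 (.cons 3 (nat_lit 0x84080)
 (.cons 6 (nat_lit 0x3c008)
 (.cons 12 (nat_lit 0xc10)
 .nil)))))))))
noncomputable def a134 : Net := (.cons 12 (nat_lit 0x58c)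
 (.cons 6 (nat_lit 0x3002)
 (.cons 3 (nat_lit 0x82184)
 (.cons 1 (nat_lit 0x40008)
 (.cons 1 (nat_lit 0x82412)
 (.cons 1 (nat_lit 0x240048)
 (.cons 3 (nat_lit 0x80084)
 (.cons 6 (nat_lit 0x1800c)
 (.cons 12 (nat_lit 0x7b2)
 .nil)))))))))
noncomputable def a135 : Net := (.cons 12 (nat_lit 0x9bc)
 (.cons 6 (nat_lit 0x1603a)
 (.cons 3 (nat_lit 0xc1084)
 (.cons 1 (nat_lit 0x201248)
 (.cons 1 (nat_lit 0x412490)
 (.cons 1 (nat_lit 0x201248)
 (.cons 3 (nat_lit 0x102004)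
 (.cons 6 (nat_lit 0xe028)
 (.cons 12 (nat_lit 0xb0a)
 .nil)))))))))
noncomputable def a136 : Net := (.cons 12 (nat_lit 0xb5a)
 (.cons 6 (nat_lit 0x33010)
 (.cons 3 (nat_lit 0x410c2)
 (.cons 1 (nat_lit 0x48040)
 (.cons 1 (nat_lit 0x492082)
 (.cons 1 (nat_lit 0x48240)
 (.cons 3 (nat_lit 0x182080)
 (.cons 6 (nat_lit 0x14010)
 (.cons 12 (nat_lit 0xe0c)
 .nil)))))))))
noncomputable def a137 : Net := (.cons 12 (nat_lit 0x344)
 (.cons 6 (nat_lit 0x1004)
 (.cons 3 (nat_lit 0x182004)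
 (.cons 1 (nat_lit 0x201008)
 (.cons 1 (nat_lit 0x412090)
 (.cons 1 (nat_lit 0x248000)
 (.cons 3 (nat_lit 0x182104)
 (.cons 6 (nat_lit 0x401c)
 (.cons 12 (nat_lit 0x454)
 .nil)))))))))
noncomputable def a138 : Net := (.cons 12 (nat_lit 0x974)
 (.cons 6 (nat_lit 0x201c)
 (.cons 3 (nat_lit 0x83000)
 (.cons 1 (nat_lit 0x402010)
 (.cons 1 (nat_lit 0x209040)
 (.cons 3 (nat_lit 0x100084)
 (.cons 6 (nat_lit 0x2016)
 (.cons 12 (nat_lit 0xc70)
 .nil))))))))
noncomputable def a139 : Net := (.cons 12 (nat_lit 0x81a)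
 (.cons 6 (nat_lit 0x1c01a)
 (.cons 3 (nat_lit 0x143002)
 (.cons 1 (nat_lit 0x8000)
 (.cons 1 (nat_lit 0x492000)
 (.cons 1 (nat_lit 0x208208)
 (.cons 3 (nat_lit 0x84002)
 (.cons 12 (nat_lit 0xc80)
 .nil))))))))
noncomputable def a140 : Net := (.cons 12 (nat_lit 0xc10)
 (.cons 6 (nat_lit 0x3e00c)
 (.cons 3 (nat_lit 0x84080)
 (.cons 1 (nat_lit 0x201000)
 (.cons 1 (nat_lit 0x482000)
 (.cons 1 (nat_lit 0x209208)
 (.cons 3 (nat_lit 0x84080)
 (.cons 6 (nat_lit 0x3c008)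
 (.cons 12 (nat_lit 0xc10)
 .nil)))))))))
noncomputable def a141 : Net := (.cons 12 (nat_lit 0x14)
 (.cons 6 (nat_lit 0x30024)
 (.cons 3 (nat_lit 0x102084)
 (.cons 1 (nat_lit 0x1000)
 (.cons 1 (nat_lit 0x82080)
 (.cons 1 (nat_lit 0x209208)
 (.cons 3 (nat_lit 0x102080)
 (.cons 6 (nat_lit 0x30024)
 (.cons 12 (nat_lit 0x14)
 .nil)))))))))
noncomputable def a142 : Net := (.cons 12 (nat_lit 0x510)
 (.cons 6 (nat_lit 0x1202a)
 (.cons 3 (nat_lit 0x2182)
 (.cons 1 (nat_lit 0x8000)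
 (.cons 1 (nat_lit 0x12000)
 (.cons 1 (nat_lit 0x208040)
 (.cons 3 (nat_lit 0x2080)
 (.cons 6 (nat_lit 0x10022)
 (.cons 12 (nat_lit 0x510)
 .nil)))))))))
noncomputable def a143 : Net := (.cons 12 (nat_lit 0x4e2)
 (.cons 6 (nat_lit 0x1a01e)
 (.cons 3 (nat_lit 0x104002)
 (.cons 1 (nat_lit 0x200000)
 (.cons 1 (nat_lit 0x410000)
 (.cons 1 (nat_lit 0x240040)
 (.cons 3 (nat_lit 0x104000)
 (.cons 6 (nat_lit 0x1a012)
 (.cons 12 (nat_lit 0x480)
 .nil)))))))))
noncomputable def a144 : Net := (.cons 12 (nat_lit 0x872)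
 (.cons 6 (nat_lit 0x3f02a)
 (.cons 3 (nat_lit 0x105100)
 (.cons 1 (nat_lit 0x48000)
 (.cons 1 (nat_lit 0x92080)
 (.cons 1 (nat_lit 0x201040)
 (.cons 3 (nat_lit 0x102100)
 (.cons 6 (nat_lit 0x6022)
 (.cons 12 (nat_lit 0x810)
 .nil)))))))))
noncomputable def a145 : Net := (.cons 12 (nat_lit 0x8e0)
 (.cons 6 (nat_lit 0x2a02c)
 (.cons 3 (nat_lit 0xc6100)
 (.cons 1 (nat_lit 0x201000)
 (.cons 1 (nat_lit 0x482080)
 (.cons 1 (nat_lit 0x41000)
 (.cons 3 (nat_lit 0x104100)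
 (.cons 6 (nat_lit 0x2a020)
 (.cons 12 (nat_lit 0x8e0)
 .nil)))))))))
noncomputable def a146 : Net := (.cons 12 (nat_lit 0xe04)
 (.cons 6 (nat_lit 0x3602c)
 (.cons 3 (nat_lit 0x107100)
 (.cons 1 (nat_lit 0x8040)
 (.cons 1 (nat_lit 0x92480)
 (.cons 1 (nat_lit 0x1048)
 (.cons 3 (nat_lit 0x100100)
 (.cons 6 (nat_lit 0x32028)
 (.cons 12 (nat_lit 0xb00)
 .nil)))))))))
noncomputable def a147 : Net := (.cons 12 (nat_lit 0x510)
 (.cons 6 (nat_lit 0x1202a)
 (.cons 3 (nat_lit 0x2182)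
 (.cons 1 (nat_lit 0x8000)
 (.cons 1 (nat_lit 0x12000)
 (.cons 1 (nat_lit 0x208040)
 (.cons 3 (nat_lit 0x2080)
 (.cons 6 (nat_lit 0x10022)
 (.cons 12 (nat_lit 0x510)
 .nil)))))))))
noncomputable def a148 : Net := (.cons 12 (nat_lit 0x872)
 (.cons 6 (nat_lit 0x3f02a)
 (.cons 3 (nat_lit 0x105100)
 (.cons 1 (nat_lit 0x48000)
 (.cons 1 (nat_lit 0x92080)
 (.cons 1 (nat_lit 0x201040)
 (.cons 3 (nat_lit 0x102100)
 (.cons 6 (nat_lit 0x6022)
 (.cons 12 (nat_lit 0x810)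
 .nil)))))))))
noncomputable def a149 : Net := (.cons 12 (nat_lit 0xe04)
 (.cons 6 (nat_lit 0x3602c)
 (.cons 3 (nat_lit 0x107100)
 (.cons 1 (nat_lit 0x8040)
 (.cons 1 (nat_lit 0x92480)
 (.cons 1 (nat_lit 0x1048)
 (.cons 3 (nat_lit 0x100100)
 (.cons 6 (nat_lit 0x32028)
 (.cons 12 (nat_lit 0xb00)
 .nil)))))))))
noncomputable def a150 : Net := (.cons 12 (nat_lit 0xc70)
 (.cons 6 (nat_lit 0x2c022)
 (.cons 3 (nat_lit 0x1c6002)
 (.cons 1 (nat_lit 0x1000)
 (.cons 1 (nat_lit 0x492400)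
 (.cons 1 (nat_lit 0x1040)
 (.cons 3 (nat_lit 0x6000)
 (.cons 6 (nat_lit 0x2c022)
 (.cons 12 (nat_lit 0xc70)
 .nil)))))))))
noncomputable def a151 : Net := (.cons 12 (nat_lit 0x8e0)
 (.cons 6 (nat_lit 0x2a02c)
 (.cons 3 (nat_lit 0xc6100)
 (.cons 1 (nat_lit 0x201000)
 (.cons 1 (nat_lit 0x482080)
 (.cons 1 (nat_lit 0x41000)
 (.cons 3 (nat_lit 0x104100)
 (.cons 6 (nat_lit 0x2a020)
 (.cons 12 (nat_lit 0x8e0)
 .nil)))))))))
noncomputable def a152 : Net := (.cons 12 (nat_lit 0x510)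
 (.cons 6 (nat_lit 0x1202a)
 (.cons 3 (nat_lit 0x2182)
 (.cons 1 (nat_lit 0x8000)
 (.cons 1 (nat_lit 0x12000)
 (.cons 1 (nat_lit 0x208040)
 (.cons 3 (nat_lit 0x2080)
 (.cons 6 (nat_lit 0x10022)
 (.cons 12 (nat_lit 0x510)
 .nil)))))))))
noncomputable def a153 : Net := (.cons 12 (nat_lit 0x8e0)
 (.cons 6 (nat_lit 0x2a02c)
 (.cons 3 (nat_lit 0xc6100)
 (.cons 1 (nat_lit 0x201000)
 (.cons 1 (nat_lit 0x482080)
 (.cons 1 (nat_lit 0x41000)
 (.cons 3 (nat_lit 0x104100)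
 (.cons 6 (nat_lit 0x2a020)
 (.cons 12 (nat_lit 0x8e0)
 .nil)))))))))
noncomputable def a154 : Net := (.cons 12 (nat_lit 0xfba)
 (.cons 6 (nat_lit 0x2a)
 (.cons 3 (nat_lit 0x83084)
 (.cons 1 (nat_lit 0x200008)
 (.cons 1 (nat_lit 0x482490)
 (.cons 1 (nat_lit 0x201040)
 (.cons 3 (nat_lit 0x102084)
 (.cons 6 (nat_lit 0x1c028)
 (.cons 12 (nat_lit 0xfba)
 .nil)))))))))
noncomputable def a155 : Net := (.cons 12 (nat_lit 0x22e)
 (.cons 6 (nat_lit 0x2001e)
 (.cons 3 (nat_lit 0x801c4)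
 (.cons 1 (nat_lit 0x1000)
 (.cons 1 (nat_lit 0x402402)
 (.cons 1 (nat_lit 0x201208)
 (.cons 3 (nat_lit 0x100082)
 (.cons 6 (nat_lit 0x3803a)
 (.cons 12 (nat_lit 0x416)
 .nil)))))))))
noncomputable def a156 : Net := (.cons 12 (nat_lit 0x510)
 (.cons 6 (nat_lit 0x34028)
 (.cons 3 (nat_lit 0x1021c0)
 (.cons 1 (nat_lit 0x200200)
 (.cons 1 (nat_lit 0x480480)
 (.cons 1 (nat_lit 0x208048)
 (.cons 3 (nat_lit 0x102000)
 (.cons 6 (nat_lit 0x24028)
 (.cons 12 (nat_lit 0x510)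
 .nil)))))))))
noncomputable def a157 : Net := (.cons 12 (nat_lit 0x1b8)
 (.cons 6 (nat_lit 0x10018)
 (.cons 3 (nat_lit 0x86100)
 (.cons 1 (nat_lit 0x8200)
 (.cons 1 (nat_lit 0x10400)
 (.cons 1 (nat_lit 0x208248)
 (.cons 3 (nat_lit 0x84100)
 (.cons 6 (nat_lit 0x10018)
 (.cons 12 (nat_lit 0x188)
 .nil)))))))))
noncomputable def a158 : Net := (.cons 12 (nat_lit 0x7e0)
 (.cons 6 (nat_lit 0x8020)
 (.cons 3 (nat_lit 0xc6000)
 (.cons 1 (nat_lit 0x12480)
 (.cons 1 (nat_lit 0x8)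
 (.cons 6 (nat_lit 0x8020)
 (.cons 12 (nat_lit 0x5e0)
 .nil)))))))
noncomputable def a159 : Net := (.cons 12 (nat_lit 0xa8)
 (.cons 6 (nat_lit 0x1e036)
 (.cons 3 (nat_lit 0xc71c6)
 (.cons 1 (nat_lit 0x8040)
 (.cons 1 (nat_lit 0x92082)
 (.cons 1 (nat_lit 0x208048)
 (.cons 3 (nat_lit 0x6104)
 (.cons 6 (nat_lit 0x1a)
 (.cons 12 (nat_lit 0x418)
 .nil)))))))))
noncomputable def a160 : Net := (.cons 12 (nat_lit 0xd42)
 (.cons 6 (nat_lit 0x2b008)
 (.cons 3 (nat_lit 0x106102)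
 (.cons 1 (nat_lit 0x41208)
 (.cons 1 (nat_lit 0x82410)
 (.cons 1 (nat_lit 0x209240)
 (.cons 3 (nat_lit 0x102100)
 (.cons 6 (nat_lit 0x18002)
 (.cons 12 (nat_lit 0xb80)
 .nil)))))))))
noncomputable def a161 : Net := (.cons 12 (nat_lit 0x2a2)
 (.cons 6 (nat_lit 0x1f010)
 (.cons 3 (nat_lit 0xc5186)
 (.cons 1 (nat_lit 0x49040)
 (.cons 1 (nat_lit 0x92082)
 (.cons 1 (nat_lit 0x8248)
 (.cons 3 (nat_lit 0x2184)
 (.cons 6 (nat_lit 0xa020)
 (.cons 12 (nat_lit 0x12)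
 .nil)))))))))
noncomputable def a162 : Net := (.cons 12 (nat_lit 0x7c0)
 (.cons 6 (nat_lit 0x3c018)
 (.cons 3 (nat_lit 0x42080)
 (.cons 1 (nat_lit 0x200008)
 (.cons 1 (nat_lit 0x480090)
 (.cons 1 (nat_lit 0x48208)
 (.cons 3 (nat_lit 0x182080)
 (.cons 6 (nat_lit 0x3c018)
 (.cons 12 (nat_lit 0x3c0)
 .nil)))))))))
noncomputable def a163 : Net := (.cons 12 (nat_lit 0x2c8)
 (.cons 6 (nat_lit 0x3e038)
 (.cons 3 (nat_lit 0x180100)
 (.cons 1 (nat_lit 0x40000)
 (.cons 1 (nat_lit 0x482080)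
 (.cons 1 (nat_lit 0x48200)
 (.cons 3 (nat_lit 0x180100)
 (.cons 6 (nat_lit 0x20020)
 (.cons 12 (nat_lit 0x4d0)
 .nil)))))))))
noncomputable def a164 : Net := (.cons 12 (nat_lit 0x510)
 (.cons 6 (nat_lit 0x1202a)
 (.cons 3 (nat_lit 0x2182)
 (.cons 1 (nat_lit 0x8000)
 (.cons 1 (nat_lit 0x12000)
 (.cons 1 (nat_lit 0x208040)
 (.cons 3 (nat_lit 0x2080)
 (.cons 6 (nat_lit 0x10022)
 (.cons 12 (nat_lit 0x510)
 .nil)))))))))
noncomputable def a165 : Net := (.cons 12 (nat_lit 0x78c)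
 (.cons 6 (nat_lit 0x17000)
 (.cons 3 (nat_lit 0x183002)
 (.cons 1 (nat_lit 0x8)
 (.cons 1 (nat_lit 0x410092)
 (.cons 1 (nat_lit 0x208248)
 (.cons 3 (nat_lit 0x180002)
 (.cons 6 (nat_lit 0x8010)
 (.cons 12 (nat_lit 0x460)
 .nil)))))))))
noncomputable def a166 : Net := (.cons 12 (nat_lit 0x770)
 (.cons 6 (nat_lit 0x9010)
 (.cons 3 (nat_lit 0xc00c0)
 (.cons 1 (nat_lit 0x8)
 (.cons 1 (nat_lit 0x80090)
 (.cons 1 (nat_lit 0x8048)
 (.cons 3 (nat_lit 0x84)
 (.cons 6 (nat_lit 0x12000)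
 (.cons 12 (nat_lit 0x84)
 .nil)))))))))
noncomputable def a167 : Net := (.cons 12 (nat_lit 0x798)
 (.cons 6 (nat_lit 0x2b030)
 (.cons 3 (nat_lit 0xc41c0)
 (.cons 1 (nat_lit 0x208000)
 (.cons 1 (nat_lit 0x490080)
 (.cons 1 (nat_lit 0x40200)
 (.cons 3 (nat_lit 0x104080)
 (.cons 6 (nat_lit 0x2a030)
 (.cons 12 (nat_lit 0x390)
 .nil)))))))))
noncomputable def a168 : Net := (.cons 12 (nat_lit 0x1b8)
 (.cons 6 (nat_lit 0x10018)
 (.cons 3 (nat_lit 0x86100)
 (.cons 1 (nat_lit 0x8200)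
 (.cons 1 (nat_lit 0x10400)
 (.cons 1 (nat_lit 0x208248)
 (.cons 3 (nat_lit 0x84100)
 (.cons 6 (nat_lit 0x10018)
 (.cons 12 (nat_lit 0x188)
 .nil)))))))))
noncomputable def a169 : Net := (.cons 12 (nat_lit 0x2b4)
 (.cons 6 (nat_lit 0x13020)
 (.cons 3 (nat_lit 0x1c20c0)
 (.cons 1 (nat_lit 0x200040)
 (.cons 1 (nat_lit 0x410480)
 (.cons 1 (nat_lit 0x208040)
 (.cons 3 (nat_lit 0x102000)
 (.cons 6 (nat_lit 0x1202c)
 (.cons 12 (nat_lit 0x144)
 .nil)))))))))
noncomputable def a170 : Net := (.cons 12 (nat_lit 0x7c0)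
 (.cons 6 (nat_lit 0x3c018)
 (.cons 3 (nat_lit 0x42080)
 (.cons 1 (nat_lit 0x200008)
 (.cons 1 (nat_lit 0x480090)
 (.cons 1 (nat_lit 0x48208)
 (.cons 3 (nat_lit 0x182080)
 (.cons 6 (nat_lit 0x3c018)
 (.cons 12 (nat_lit 0x3c0)
 .nil)))))))))
noncomputable def a171 : Net := (.cons 12 (nat_lit 0x510)
 (.cons 6 (nat_lit 0x1c01a)
 (.cons 3 (nat_lit 0x186182)
 (.cons 1 (nat_lit 0x200208)
 (.cons 1 (nat_lit 0x402410)
 (.cons 1 (nat_lit 0x208248)
 (.cons 3 (nat_lit 0x106180)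
 (.cons 6 (nat_lit 0x1c01a)
 (.cons 12 (nat_lit 0x510)
 .nil)))))))))
noncomputable def a172 : Net := (.cons 12 (nat_lit 0x530)
 (.cons 6 (nat_lit 0x8030)
 (.cons 3 (nat_lit 0x80040)
 (.cons 1 (nat_lit 0x12480)
 (.cons 1 (nat_lit 0x8)
 (.cons 6 (nat_lit 0x30)
 (.cons 12 (nat_lit 0x500)
 .nil)))))))
noncomputable def a173 : Net := (.cons 12 (nat_lit 0x510)
 (.cons 6 (nat_lit 0x1c020)
 (.cons 3 (nat_lit 0x840c0)
 (.cons 1 (nat_lit 0x200)
 (.cons 1 (nat_lit 0x82480)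
 (.cons 1 (nat_lit 0x208048)
 (.cons 3 (nat_lit 0x84100)
 (.cons 6 (nat_lit 0x1c020)
 (.cons 12 (nat_lit 0x510)
 .nil)))))))))
noncomputable def a174 : Net := (.cons 12 (nat_lit 0x7cc)
 (.cons 6 (nat_lit 0x31008)
 (.cons 3 (nat_lit 0x400c2)
 (.cons 1 (nat_lit 0x48)
 (.cons 1 (nat_lit 0x400490)
 (.cons 1 (nat_lit 0x1040)
 (.cons 3 (nat_lit 0x2002)
 (.cons 6 (nat_lit 0x2001c)
 (.cons 12 (nat_lit 0x564)
 .nil)))))))))
noncomputable def a175 : Net := (.cons 12 (nat_lit 0xee6)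
 (.cons 6 (nat_lit 0x6034)
 (.cons 3 (nat_lit 0x45040)
 (.cons 1 (nat_lit 0x40)
 (.cons 1 (nat_lit 0x402080)
 (.cons 1 (nat_lit 0x201000)
 (.cons 3 (nat_lit 0x82100)
 (.cons 6 (nat_lit 0x34024)
 (.cons 12 (nat_lit 0xefc)
 .nil)))))))))
noncomputable def a176 : Net := (.cons 12 (nat_lit 0x2c8)
 (.cons 6 (nat_lit 0x3e038)
 (.cons 3 (nat_lit 0x180100)
 (.cons 1 (nat_lit 0x40000)
 (.cons 1 (nat_lit 0x482080)
 (.cons 1 (nat_lit 0x48200)
 (.cons 3 (nat_lit 0x180100)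
 (.cons 6 (nat_lit 0x20020)
 (.cons 12 (nat_lit 0x4d0)
 .nil)))))))))
noncomputable def a177 : Net := (.cons 12 (nat_lit 0x7e0)
 (.cons 6 (nat_lit 0x8020)
 (.cons 3 (nat_lit 0xc6000)
 (.cons 1 (nat_lit 0x12480)
 (.cons 1 (nat_lit 0x8)
 (.cons 6 (nat_lit 0x8020)
 (.cons 12 (nat_lit 0x5e0)
 .nil)))))))
noncomputable def a178 : Net := (.cons 12 (nat_lit 0xf44)
 (.cons 6 (nat_lit 0x32022)
 (.cons 3 (nat_lit 0x4100)
 (.cons 1 (nat_lit 0x1000)
 (.cons 1 (nat_lit 0x2002)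
 (.cons 1 (nat_lit 0x1048)
 (.cons 3 (nat_lit 0x4000)
 (.cons 6 (nat_lit 0x20022)
 (.cons 12 (nat_lit 0xd44)
 .nil)))))))))
noncomputable def a179 : Net := (.cons 12 (nat_lit 0x872)
 (.cons 6 (nat_lit 0x3f02a)
 (.cons 3 (nat_lit 0x105100)
 (.cons 1 (nat_lit 0x48000)
 (.cons 1 (nat_lit 0x92080)
 (.cons 1 (nat_lit 0x201040)
 (.cons 3 (nat_lit 0x102100)
 (.cons 6 (nat_lit 0x6022)
 (.cons 12 (nat_lit 0x810)
 .nil)))))))))
noncomputable def a180 : Net := (.cons 12 (nat_lit 0xd2)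
 (.cons 6 (nat_lit 0x2c018)
 (.cons 3 (nat_lit 0x40100)
 (.cons 1 (nat_lit 0x40)
 (.cons 1 (nat_lit 0x480080)
 (.cons 1 (nat_lit 0x9040)
 (.cons 3 (nat_lit 0x100)
 (.cons 6 (nat_lit 0x2c000)
 (.cons 12 (nat_lit 0xd2)
 .nil)))))))))
noncomputable def a181 : Net := (.cons 12 (nat_lit 0x168)
 (.cons 6 (nat_lit 0x30000)
 (.cons 3 (nat_lit 0x1c1182)
 (.cons 1 (nat_lit 0x240)
 (.cons 1 (nat_lit 0x82490)
 (.cons 1 (nat_lit 0x8008)
 (.cons 3 (nat_lit 0x102000)
 (.cons 6 (nat_lit 0x30008)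
 (.cons 12 (nat_lit 0x188)
 .nil)))))))))
noncomputable def a182 : Net := (.cons 12 (nat_lit 0x698)
 (.cons 6 (nat_lit 0xf022)
 (.cons 3 (nat_lit 0x410c0)
 (.cons 1 (nat_lit 0x1000)
 (.cons 1 (nat_lit 0x2010)
 (.cons 1 (nat_lit 0x49208)
 (.cons 3 (nat_lit 0x84080)
 (.cons 6 (nat_lit 0x2010)
 (.cons 12 (nat_lit 0x210)
 .nil)))))))))
noncomputable def a183 : Net := (.cons 12 (nat_lit 0x7e0)
 (.cons 6 (nat_lit 0x8020)
 (.cons 3 (nat_lit 0xc6000)
 (.cons 1 (nat_lit 0x12480)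
 (.cons 1 (nat_lit 0x8)
 (.cons 6 (nat_lit 0x8020)
 (.cons 12 (nat_lit 0x5e0)
 .nil)))))))
noncomputable def a184 : Net := (.cons 12 (nat_lit 0x2c8)
 (.cons 6 (nat_lit 0x3e038)
 (.cons 3 (nat_lit 0x180100)
 (.cons 1 (nat_lit 0x40000)
 (.cons 1 (nat_lit 0x482080)
 (.cons 1 (nat_lit 0x48200)
 (.cons 3 (nat_lit 0x180100)
 (.cons 6 (nat_lit 0x20020)
 (.cons 12 (nat_lit 0x4d0)
 .nil)))))))))
noncomputable def a185 : Net := (.cons 12 (nat_lit 0xe12)
 (.cons 6 (nat_lit 0x10018)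
 (.cons 3 (nat_lit 0x144084)
 (.cons 1 (nat_lit 0x200000)
 (.cons 1 (nat_lit 0x490002)
 (.cons 1 (nat_lit 0x41000)
 (.cons 3 (nat_lit 0x84004)
 (.cons 6 (nat_lit 0x10010)
 (.cons 12 (nat_lit 0xe12)
 .nil)))))))))
noncomputable def a186 : Net := (.cons 12 (nat_lit 0x688)
 (.cons 6 (nat_lit 0xf032)
 (.cons 3 (nat_lit 0x182104)
 (.cons 1 (nat_lit 0x402082)
 (.cons 1 (nat_lit 0x200)
 (.cons 3 (nat_lit 0x100104)
 (.cons 6 (nat_lit 0x10010)
 (.cons 12 (nat_lit 0x688)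
 .nil))))))))
noncomputable def a187 : Net := (.cons 12 (nat_lit 0xd2)
 (.cons 6 (nat_lit 0x2c018)
 (.cons 3 (nat_lit 0x40100)
 (.cons 1 (nat_lit 0x40)
 (.cons 1 (nat_lit 0x480080)
 (.cons 1 (nat_lit 0x9040)
 (.cons 3 (nat_lit 0x100)
 (.cons 6 (nat_lit 0x2c000)
 (.cons 12 (nat_lit 0xd2)
 .nil)))))))))
noncomputable def a188 : Net := (.cons 12 (nat_lit 0x872)
 (.cons 6 (nat_lit 0x3f02a)
 (.cons 3 (nat_lit 0x105100)
 (.cons 1 (nat_lit 0x48000)
 (.cons 1 (nat_lit 0x92080)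
 (.cons 1 (nat_lit 0x201040)
 (.cons 3 (nat_lit 0x102100)
 (.cons 6 (nat_lit 0x6022)
 (.cons 12 (nat_lit 0x810)
 .nil)))))))))
noncomputable def a189 : Net := (.cons 12 (nat_lit 0x510)
 (.cons 6 (nat_lit 0x1202a)
 (.cons 3 (nat_lit 0x2182)
 (.cons 1 (nat_lit 0x8000)
 (.cons 1 (nat_lit 0x12000)
 (.cons 1 (nat_lit 0x208040)
 (.cons 3 (nat_lit 0x2080)
 (.cons 6 (nat_lit 0x10022)
 (.cons 12 (nat_lit 0x510)
 .nil)))))))))
noncomputable def a190 : Net := (.cons 12 (nat_lit 0x7e0)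
 (.cons 6 (nat_lit 0x8020)
 (.cons 3 (nat_lit 0xc6000)
 (.cons 1 (nat_lit 0x12480)
 (.cons 1 (nat_lit 0x8)
 (.cons 6 (nat_lit 0x8020)
 (.cons 12 (nat_lit 0x5e0)
 .nil)))))))
noncomputable def a191 : Net := (.cons 12 (nat_lit 0xd2)
 (.cons 6 (nat_lit 0x2c018)
 (.cons 3 (nat_lit 0x40100)
 (.cons 1 (nat_lit 0x40)
 (.cons 1 (nat_lit 0x480080)
 (.cons 1 (nat_lit 0x9040)
 (.cons 3 (nat_lit 0x100)
 (.cons 6 (nat_lit 0x2c000)
 (.cons 12 (nat_lit 0xd2)
 .nil)))))))))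
noncomputable def a192 : Net := (.cons 12 (nat_lit 0x5ca)
 (.cons 6 (nat_lit 0x20016)
 (.cons 3 (nat_lit 0x184104)
 (.cons 1 (nat_lit 0x40040)
 (.cons 1 (nat_lit 0x90080)
 (.cons 1 (nat_lit 0x41048)
 (.cons 3 (nat_lit 0x104100)
 (.cons 6 (nat_lit 0x20014)
 (.cons 12 (nat_lit 0x5ca)
 .nil)))))))))
noncomputable def a193 : Net := (.cons 12 (nat_lit 0xf44)
 (.cons 6 (nat_lit 0x32022)
 (.cons 3 (nat_lit 0x4100)
 (.cons 1 (nat_lit 0x1000)
 (.cons 1 (nat_lit 0x2002)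
 (.cons 1 (nat_lit 0x1048)
 (.cons 3 (nat_lit 0x4000)
 (.cons 6 (nat_lit 0x20022)
 (.cons 12 (nat_lit 0xd44)
 .nil)))))))))
noncomputable def a194 : Net := (.cons 12 (nat_lit 0xf82)
 (.cons 6 (nat_lit 0x24)
 (.cons 3 (nat_lit 0x100080)
 (.cons 1 (nat_lit 0x48000)
 (.cons 1 (nat_lit 0x90402)
 (.cons 1 (nat_lit 0x49048)
 (.cons 3 (nat_lit 0x100080)
 (.cons 6 (nat_lit 0x24)
 (.cons 12 (nat_lit 0xd82)
 .nil)))))))))
noncomputable def a195 : Net := (.cons 12 (nat_lit 0x688)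
 (.cons 6 (nat_lit 0xf032)
 (.cons 3 (nat_lit 0x182104)
 (.cons 1 (nat_lit 0x402082)
 (.cons 1 (nat_lit 0x200)
 (.cons 3 (nat_lit 0x100104)
 (.cons 6 (nat_lit 0x10010)
 (.cons 12 (nat_lit 0x688)
 .nil))))))))
noncomputable def a196 : Net := (.cons 12 (nat_lit 0x2c8)
 (.cons 6 (nat_lit 0x3e038)
 (.cons 3 (nat_lit 0x180100)
 (.cons 1 (nat_lit 0x40000)
 (.cons 1 (nat_lit 0x482080)
 (.cons 1 (nat_lit 0x48200)
 (.cons 3 (nat_lit 0x180100)
 (.cons 6 (nat_lit 0x20020)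
 (.cons 12 (nat_lit 0x4d0)
 .nil)))))))))
noncomputable def a197 : Net := (.cons 12 (nat_lit 0x7e0)
 (.cons 6 (nat_lit 0x8020)
 (.cons 3 (nat_lit 0xc6000)
 (.cons 1 (nat_lit 0x12480)
 (.cons 1 (nat_lit 0x8)
 (.cons 6 (nat_lit 0x8020)
 (.cons 12 (nat_lit 0x5e0)
 .nil)))))))
noncomputable def a198 : Net := (.cons 12 (nat_lit 0xf82)
 (.cons 6 (nat_lit 0x24)
 (.cons 3 (nat_lit 0x100080)
 (.cons 1 (nat_lit 0x48000)
 (.cons 1 (nat_lit 0x90402)
 (.cons 1 (nat_lit 0x49048)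
 (.cons 3 (nat_lit 0x100080)
 (.cons 6 (nat_lit 0x24)
 (.cons 12 (nat_lit 0xd82)
 .nil)))))))))
noncomputable def a199 : Net := (.cons 12 (nat_lit 0xd2)
 (.cons 6 (nat_lit 0x2c018)
 (.cons 3 (nat_lit 0x40100)
 (.cons 1 (nat_lit 0x40)
 (.cons 1 (nat_lit 0x480080)
 (.cons 1 (nat_lit 0x9040)
 (.cons 3 (nat_lit 0x100)
 (.cons 6 (nat_lit 0x2c000)
 (.cons 12 (nat_lit 0xd2)
 .nil)))))))))
noncomputable def a200 : Net := (.cons 12 (nat_lit 0x638)
 (.cons 6 (nat_lit 0x19030)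
 (.cons 3 (nat_lit 0x4184)
 (.cons 1 (nat_lit 0x40)
 (.cons 1 (nat_lit 0x10082)
 (.cons 1 (nat_lit 0x200048)
 (.cons 3 (nat_lit 0x4104)
 (.cons 6 (nat_lit 0x18030)
 (.cons 12 (nat_lit 0x438)
 .nil)))))))))
noncomputable def ns0 : List Net := [a0, a1, a2]
noncomputable def ws : List (List ℕ) :=
  [W (nat_lit 0x20100100c0100c0100401),
  W (nat_lit 0x100c010100200802),
  W (nat_lit 0xa020090200a01c09),
  W (nat_lit 0x20080280a02807),
  W (nat_lit 0xb02c0e0380c0340b),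
  W (nat_lit 0xd0340b0380c0300e0380b),
  W (nat_lit 0x2c0e02c0d0340b02c0b),
  W (nat_lit 0x4c10),
  W (nat_lit 0x500f),
  W (nat_lit 0x100440f),
  W (nat_lit 0x600c03),
  W (nat_lit 0xc050140100c02),
  W (nat_lit 0x6c1b0781e0701c),
  W (nat_lit 0x781e0781b),
  W (nat_lit 0x80210841f088220802208021),
  W (nat_lit 0x220881f0841f084200842108022),
  W (nat_lit 0x8c2609823),
  W (nat_lit 0x98230942409424),
  W (nat_lit 0x11054170341301c0c00401),
  W (nat_lit 0x110641002c0e01c0c00403),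
  W (nat_lit 0x11054100300d0440a0040e),
  W (nat_lit 0x300b830),
  W (nat_lit 0xac2e0c02c),
  W (nat_lit 0x2b0b42c),
  W (nat_lit 0x320d8310d0320c0320d8310c030),
  W (nat_lit 0x340bc350d0300c4340d8360d034),
  W (nat_lit 0x300d4300c0340d8330bc350c834),
  W (nat_lit 0x2f0d4350bc350bc350c0320d8360c033),
  W (nat_lit 0x390ec30),
  W (nat_lit 0x390ec31),
  W (nat_lit 0xf42b),
  W (nat_lit 0xec3d0cc2b),
  W (nat_lit 0x370e43d0cc2b),
  W (nat_lit 0xdc3d),
  W (nat_lit 0x44170640d04c0a00408),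
  W (nat_lit 0x18040040400802),
  W (nat_lit 0x200c0100c0101001),
  W (nat_lit 0x4f1384e14050),
  W (nat_lit 0x50134501384e),
  W (nat_lit 0x5214854150511505415051),
  W (nat_lit 0x1445414852),
  W (nat_lit 0x15856),
  W (nat_lit 0x1545816055),
  W (nat_lit 0x571585715c56),
  W (nat_lit 0x1785c1705a),
  W (nat_lit 0x640f0341301c1400413),
  W (nat_lit 0x110541703c0d03c0702c0101005),
  W (nat_lit 0x1105417034090540203005),
  W (nat_lit 0x110641002c100280e00403),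
  W (nat_lit 0x11054100300d0440705001),
  W (nat_lit 0x150400b00409),
  W (nat_lit 0x1105c100341101c140040e),
  W (nat_lit 0x110640e02c0703803),
  W (nat_lit 0x6f1a4631a0611906b1906d1b4611986d1a46f1906d1b464),
  W (nat_lit 0x6119462194651906a1946c18c701c0651886b1c0681b86c1a8651ac6d1906419464),
  W (nat_lit 0x6a1c06c1b46c1986b194671846719c6d19c6e1a0641a06519065184671846b),
  W (nat_lit 0x721d872),
  W (nat_lit 0x1c872),
  W (nat_lit 0x1d0761c876),
  W (nat_lit 0x731c8751c872),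
  W (nat_lit 0x7e1e8781e8781f4771f878),
  W (nat_lit 0x1dc7e1e07a1e0781f07e1e87c1e4771e878),
  W (nat_lit 0x1e4791f0771e87a1ec7d1e07c1dc7e),
  W (nat_lit 0x1dc7a1f4791e0791f47a1dc7d1e47d1e878),
  W (nat_lit 0x110640e02c0703803),
  W (nat_lit 0x44150640e02c070300102805),
  W (nat_lit 0x441703c0c034080280102005),
  W (nat_lit 0x1505c1903c0c034110280e00403),
  W (nat_lit 0x540c03801),
  W (nat_lit 0x902408e24090),
  W (nat_lit 0x8d2348d),
  W (nat_lit 0x8f2348f2388f),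
  W (nat_lit 0x2388f238902388f),
  W (nat_lit 0x9325c9425498248932489625c9625892),
  W (nat_lit 0x982489724c9125092258942549725493),
  W (nat_lit 0x248922509225c9425c9725c9125894),
  W (nat_lit 0x952489625094258942609825098),
  W (nat_lit 0x380e02c0b0380c),
  W (nat_lit 0x340b02c0d0300e),
  W (nat_lit 0x2c0e0380e02c0e),
  W (nat_lit 0x298a6284a3298a6),
  W (nat_lit 0x2749f23c91),
  W (nat_lit 0x9b2749f24c8f),
  W (nat_lit 0x9926c9f24c90),
  W (nat_lit 0x2b8aa2a8ac),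
  W (nat_lit 0xac2a4ae),
  W (nat_lit 0x2a4a92b4ad),
  W (nat_lit 0xaf2c4b3),
  W (nat_lit 0x2bcb3),
  W (nat_lit 0x2bcaf),
  W (nat_lit 0x2dcaf2a4ad),
  W (nat_lit 0x2dcaf),
  W (nat_lit 0xb52e4af),
  W (nat_lit 0x2d4b92a4ad),
  W (nat_lit 0xaf2a4ad),
  W (nat_lit 0x2348d2408e23c8e),
  W (nat_lit 0x23c8d2408e),
  W (nat_lit 0x2408d240902388e23c8d23c8f),
  W (nat_lit 0xc8318c8),
  W (nat_lit 0xc6328c8),
  W (nat_lit 0x328c731cc6),
  W (nat_lit 0xcf338d0),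
  W (nat_lit 0xcc334cb),
  W (nat_lit 0x334d0),
  W (nat_lit 0x2dcaf),
  W (nat_lit 0x2dcaf2a4ad),
  W (nat_lit 0x2d4b72e4af),
  W (nat_lit 0xb52e4af),
  W (nat_lit 0x370d7374d8),
  W (nat_lit 0x35cdb),
  W (nat_lit 0x35cdd36cd8),
  W (nat_lit 0xe138cd7),
  W (nat_lit 0x384d7),
  W (nat_lit 0x37ce3),
  W (nat_lit 0x2b0a9),
  W (nat_lit 0x2acae2b8a9),
  W (nat_lit 0xec3b0ed3b0ee),
  W (nat_lit 0x44170641002c0d01c0d00417),
  W (nat_lit 0x441506410034130200101001),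
  W (nat_lit 0x3ccf23ccf2),
  W (nat_lit 0x3d0f6),
  W (nat_lit 0xf63d0f53ccf6),
  W (nat_lit 0xf73e4f8),
  W (nat_lit 0x3e4f73e4f7),
  W (nat_lit 0xfb3f4f73f4f43ecf13c4f1),
  W (nat_lit 0x3ecfd3dcfd3d0fb),
  W (nat_lit 0x4010140100),
  W (nat_lit 0x1024090441104),
  W (nat_lit 0x10440504),
  W (nat_lit 0x421084210542105),
  W (nat_lit 0x10541d05),
  W (nat_lit 0x3c4f33c4f23c8f4),
  W (nat_lit 0x3c8f33c4f4),
  W (nat_lit 0x10d4350f),
  W (nat_lit 0x4350f4390e4410e),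
  W (nat_lit 0x1124511244d11),
  W (nat_lit 0x11145114),
  W (nat_lit 0x4591745515),
  W (nat_lit 0x46116),
  W (nat_lit 0x42505421043fcff),
  W (nat_lit 0x10b4150840900),
  W (nat_lit 0x4250b4190440102),
  W (nat_lit 0x12047521),
  W (nat_lit 0x48520),
  W (nat_lit 0x49126),
  W (nat_lit 0x12748d1f),
  W (nat_lit 0x42501420ff),
  W (nat_lit 0x4250b3fd04),
  W (nat_lit 0x109409073fd02),
  W (nat_lit 0x4b12f),
  W (nat_lit 0x4c52b),
  W (nat_lit 0x401023fcff3fd02),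
  W (nat_lit 0x10240102),
  W (nat_lit 0x4e138),
  W (nat_lit 0x1364e1364dd364dd36),
  W (nat_lit 0x1354dd354dd364dd36),
  W (nat_lit 0x54190380b0200a00408),
  W (nat_lit 0x110541703c0d03c0703803),
  W (nat_lit 0x13f5093f),
  W (nat_lit 0x5054350d435054150d4251141),
  W (nat_lit 0x5094450544),
  W (nat_lit 0x1445094350d435054150d41),
  W (nat_lit 0x200902408),
  W (nat_lit 0x1c0901c0a02808),
  W (nat_lit 0x5394c5394e),
  W (nat_lit 0x52d4d5314d5354b),
  W (nat_lit 0x14b5394c5354d),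
  W (nat_lit 0x54d50),
  W (nat_lit 0x14f54d4f),
  W (nat_lit 0x54d51551525514f),
  W (nat_lit 0x1515514f),
  W (nat_lit 0x5154350544),
  W (nat_lit 0x515475254251144),
  W (nat_lit 0x581605755f),
  W (nat_lit 0x160579605795e),
  W (nat_lit 0x16158d5d58560),
  W (nat_lit 0x58d5d58560),
  W (nat_lit 0x16357560),
  W (nat_lit 0x509405093f4fd4150141),
  W (nat_lit 0x4fd4250141),
  W (nat_lit 0x5b16e5b16d5ad6b),
  W (nat_lit 0x5b96b5ad6d5b16c),
  W (nat_lit 0x57560),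
  W (nat_lit 0x585635795f),
  W (nat_lit 0x16357560),
  W (nat_lit 0x58d5d58560),
  W (nat_lit 0x1785e1785d5795d5735d574),
  W (nat_lit 0x5d5785e9765d1785e5735dd73),
  W (nat_lit 0x5f573),
  W (nat_lit 0x16157560),
  W (nat_lit 0x16158d5d58560),
  W (nat_lit 0x5856357560),
  W (nat_lit 0x585635795f),
  W (nat_lit 0x18860d8260d8262184611886058160d82),
  W (nat_lit 0x6058560d8560d85615826118260d886158561588),
  W (nat_lit 0x62d81),
  W (nat_lit 0x15d57d5f5755f57d5f5795e),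
  W (nat_lit 0x1605815e5795f57960)]
noncomputable def ns : List Net := [a0, a1, a2, a3, a4, a5, a6, a7, a8, a9, a10, a11, a12, a13, a14, a15, a16, a17, a18, a19, a20, a21, a22, a23, a24, a25, a26, a27, a28, a29, a30, a31, a32, a33, a34, a35, a36, a37, a38, a39, a40, a41, a42, a43, a44, a45, a46, a47, a48, a49, a50, a51, a52, a53, a54, a55, a56, a57, a58, a59, a60, a61, a62, a63, a64, a65, a66, a67, a68, a69, a70, a71, a72, a73, a74, a75, a76, a77, a78, a79, a80, a81, a82, a83, a84, a85, a86, a87, a88, a89, a90, a91, a92, a93, a94, a95, a96, a97, a98, a99, a100, a101, a102, a103, a104, a105, a106, a107, a108, a109, a110, a111, a112, a113, a114, a115, a116, a117, a118, a119, a120, a121, a122, a123, a124, a125, a126, a127, a128, a129, a130, a131, a132, a133, a134, a135, a136, a137, a138, a139, a140, a141, a142, a143, a144, a145, a146, a147, a148, a149, a150, a151, a152, a153, a154, a155, a156, a157, a158, a159,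 a160, a161, a162, a163, a164, a165, a166, a167, a168, a169, a170, a171, a172, a173, a174, a175, a176, a177, a178, a179, a180, a181, a182, a183, a184, a185, a186, a187, a188, a189, a190, a191, a192, a193, a194, a195, a196, a197, a198, a199, a200]
noncomputable def D : List (ℕ × List ℕ) := app [] (mkDefs ws 3)
noncomputable def chk : List (List ℕ × List ℕ) → Bool := P.relsB ns
noncomputable def zus0 : List (List ℕ) :=
  [[20],
  [16],
  [22],
  [24],
  W (nat_lit 0x4415),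
  W (nat_lit 0x5417),
  W (nat_lit 0x5419),
  W (nat_lit 0x4417),
  W (nat_lit 0x4419),
  W (nat_lit 0x5c19),
  W (nat_lit 0x1105417),
  W (nat_lit 0x1105419),
  W (nat_lit 0x1505c19),
  W (nat_lit 0x1105c19),
  W (nat_lit 0x441505c19)]
noncomputable def zF1 : List (List (ℕ × List ℕ)) :=
  [[(1, []),
   (0, []),
   (5, []),
   (6, []),
   (7, []),
   (2, []),
   (3, []),
   (4, []),
   (11, []),
   (12, []),
   (13, []),
   (8, []),
   (9, []),
   (10, []),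
   (15, []),
   (14, [])],
  [(2, []),
   (5, []),
   (0, []),
   (8, []),
   (9, []),
   (1, []),
   (11, []),
   (12, []),
   (3, []),
   (4, []),
   (14, []),
   (6, []),
   (7, []),
   (15, []),
   (10, []),
   (13, [])],
  [(3, []),
   (6, []),
   (8, []),
   (0, []),
   (10, []),
   (11, []),
   (1, []),
   (13, []),
   (2, []),
   (14, []),
   (4, []),
   (5, []),
   (15, []),
   (7, []),
   (9, []),
   (12, [])],
  [(4, []),
   (7, []),
   (9, []),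
   (10, []),
   (0, []),
   (12, []),
   (13, []),
   (1, []),
   (14, []),
   (2, []),
   (3, []),
   (15, []),
   (5, []),
   (6, []),
   (8, []),
   (11, [])]]
noncomputable def zE4 : List (ℕ × List ℕ) :=
  [(14, W (nat_lit 0x5413))]
noncomputable def zt5 : List ℕ :=
  []
noncomputable def zcj6 : List (List ℕ) :=
  [W (nat_lit 0x5417),
  W (nat_lit 0x4419),
  [20],
  [16]]
noncomputable def zus10 : List (List ℕ) :=
  [[10],
  [11],
  [12],
  [13],
  W (nat_lit 0x2c0d),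
  W (nat_lit 0x2c0e),
  W (nat_lit 0x300d),
  W (nat_lit 0x300e),
  W (nat_lit 0x340b),
  W (nat_lit 0x340d),
  W (nat_lit 0x380b),
  W (nat_lit 0x340f),
  W (nat_lit 0x380e),
  W (nat_lit 0x3411),
  W (nat_lit 0x3810),
  W (nat_lit 0xc03411),
  W (nat_lit 0x3413),
  W (nat_lit 0x2c10),
  W (nat_lit 0x3414)]
noncomputable def zF11 : List (List (ℕ × List ℕ)) :=
  [[(1, []),
   (2, []),
   (0, []),
   (9, []),
   (11, []),
   (5, W (nat_lit 0x11054170640f)),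
   (13, W (nat_lit 0x540f)),
   (3, W (nat_lit 0x1105c10)),
   (16, W (nat_lit 0x1105c0f)),
   (7, W (nat_lit 0x44150640f)),
   (6, W (nat_lit 0x44150640f)),
   (12, W (nat_lit 0x1505c19)),
   (4, W (nat_lit 0x1505c19)),
   (10, W (nat_lit 0x150640f)),
   (15, [24]),
   (19, W (nat_lit 0x11054170640f)),
   (17, W (nat_lit 0x4419)),
   (8, W (nat_lit 0x441505c10)),
   (18, W (nat_lit 0x1505c10)),
   (14, W (nat_lit 0x1506410))],
  [(3, []),
   (5, []),
   (7, []),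
   (10, []),
   (0, []),
   (12, W (nat_lit 0x6410)),
   (1, []),
   (15, W (nat_lit 0x1505c10)),
   (2, []),
   (17, W (nat_lit 0x44170640f)),
   (13, []),
   (19, W (nat_lit 0x640f)),
   (14, W (nat_lit 0x5c10)),
   (4, []),
   (6, W (nat_lit 0x441506410)),
   (16, W (nat_lit 0x5419)),
   (8, W (nat_lit 0x54170640f)),
   (11, W (nat_lit 0x170640f)),
   (9, [24]),
   (18, W (nat_lit 0x441505c19))]]
noncomputable def zus14 : List (List ℕ) :=
  [[6],
  [7],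
  [8],
  [9],
  W (nat_lit 0x1c09),
  W (nat_lit 0x1c0a),
  W (nat_lit 0x1c10),
  W (nat_lit 0x200a),
  W (nat_lit 0x2409),
  W (nat_lit 0x2807),
  W (nat_lit 0x2415),
  W (nat_lit 0x200b),
  W (nat_lit 0x1c0d),
  W (nat_lit 0x1c11),
  W (nat_lit 0x1c0b),
  W (nat_lit 0x2011),
  W (nat_lit 0x280e),
  W (nat_lit 0x1c14),
  W (nat_lit 0x1c0e),
  W (nat_lit 0x1c0c)]
noncomputable def zF15 : List (List (ℕ × List ℕ)) :=
  [[(1, []),
   (2, []),
   (0, []),
   (3, W (nat_lit 0x44150640f0340d)),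
   (10, []),
   (13, [12]),
   (5, W (nat_lit 0x541702c10)),
   (7, W (nat_lit 0x1105c190400d)),
   (9, W (nat_lit 0x150400e)),
   (15, W (nat_lit 0x1102c0d)),
   (11, W (nat_lit 0x54170641002c10)),
   (4, W (nat_lit 0x170641002c10)),
   (19, W (nat_lit 0x44150640f0380b)),
   (6, W (nat_lit 0x1505c190340b)),
   (17, W (nat_lit 0x441505c19)),
   (8, W (nat_lit 0x1105c19)),
   (12, W (nat_lit 0x11054190340d)),
   (20, W (nat_lit 0x300e)),
   (18, W (nat_lit 0x441505c1902c10)),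
   (16, W (nat_lit 0x44150641003810)),
   (14, W (nat_lit 0x1903810))],
  [(3, []),
   (5, []),
   (7, W (nat_lit 0x54170380b)),
   (9, []),
   (0, []),
   (14, W (nat_lit 0x441002c0d)),
   (1, []),
   (6, W (nat_lit 0x11054190400b)),
   (2, []),
   (16, W (nat_lit 0x44150641003810)),
   (11, W (nat_lit 0x11054170640d)),
   (18, W (nat_lit 0x441505c0b)),
   (4, W (nat_lit 0x1105c1003413)),
   (20, W (nat_lit 0x640e)),
   (8, W (nat_lit 0x1105c190380b)),
   (12, W (nat_lit 0x5c1903411)),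
   (15, W (nat_lit 0x380e)),
   (10, W (nat_lit 0x640f02c0e)),
   (13, W (nat_lit 0x4410)),
   (17, W (nat_lit 0x1505c190400c03411)),
   (19, [10])]]
noncomputable def zus18 : List (List ℕ) :=
  [[0],
  [1],
  [2],
  W (nat_lit 0x401),
  W (nat_lit 0x403),
  W (nat_lit 0x404),
  W (nat_lit 0x417),
  W (nat_lit 0x803),
  W (nat_lit 0x410),
  W (nat_lit 0x407),
  W (nat_lit 0x408),
  W (nat_lit 0x808),
  W (nat_lit 0x100404),
  W (nat_lit 0x80c),
  W (nat_lit 0x100407),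
  W (nat_lit 0x101001),
  W (nat_lit 0x80d),
  W (nat_lit 0x409),
  W (nat_lit 0x413),
  W (nat_lit 0x40e),
  W (nat_lit 0x40a)]
noncomputable def zF19 : List (List (ℕ × List ℕ)) :=
  [[(1, []),
   (4, []),
   (0, []),
   (6, W (nat_lit 0x1505c0f038100200a)),
   (11, W (nat_lit 0x11054170400c03407)),
   (14, W (nat_lit 0x44170400d0340a)),
   (16, []),
   (2, W (nat_lit 0x5c1903c0c01c11)),
   (15, W (nat_lit 0x1505c100340b0200b)),
   (18, W (nat_lit 0x110540f0341402409)),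
   (3, W (nat_lit 0x44170380e02415)),
   (17, W (nat_lit 0x1102c0e01c0d)),
   (13, W (nat_lit 0x541703c0c034110200a)),
   (20, W (nat_lit 0x54100340f0200a)),
   (19, W (nat_lit 0x1103c0c0341101c0d)),
   (5, W (nat_lit 0x441505c190400b01c0a)),
   (12, W (nat_lit 0x5c0f0341101c0d)),
   (7, W (nat_lit 0x170400c0341101c0c)),
   (8, W (nat_lit 0x150380e01c0d)),
   (9, W (nat_lit 0x110541703c0c01c10)),
   (10, W (nat_lit 0x170640f02c0d01c0a)),
   (21, W (nat_lit 0x170640f0340d01c0e))],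
  [(3, []),
   (5, []),
   (8, []),
   (0, W (nat_lit 0x11054190400e01c10)),
   (12, W (nat_lit 0x170640f0381001c0c)),
   (13, W (nat_lit 0x1505c0f0380b0280e)),
   (1, []),
   (15, W (nat_lit 0x150641002c0e01c09)),
   (9, W (nat_lit 0x110540f038100200a)),
   (2, W (nat_lit 0x44150640f0380e)),
   (19, W (nat_lit 0x11054100280e)),
   (14, W (nat_lit 0x11054170640f0340b01c0a)),
   (6, W (nat_lit 0xc0341101c0e)),
   (4, []),
   (20, W (nat_lit 0x1505c0f02c0e0280e)),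
   (16, W (nat_lit 0x150640f0340f01c0b)),
   (18, W (nat_lit 0x1703c0b0200a)),
   (7, W (nat_lit 0x11054170400b01c10)),
   (21, W (nat_lit 0xf0341101c11)),
   (10, W (nat_lit 0x441505c0f02c0e02415)),
   (11, W (nat_lit 0x11054190400d0200a)),
   (17, W (nat_lit 0x441505c1002c0d01c0e))]]
noncomputable def GM_v0 : Lev :=
  ⟨1, 22, sg (W (nat_lit 0x300401004010040100c01)), [[6], [8]], 0, 2⟩
noncomputable def GM_v1 : Lev :=
  ⟨2, 21, sg (W (nat_lit 0x24070240702407)), [[10], [12]], 2, 2⟩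
noncomputable def GM_v2 : Lev :=
  ⟨3, 20, sg (W (nat_lit 0xb02c0d0340b0340b)), [[14], [16], [18]], 4, 3⟩
noncomputable def GM_v3 : Lev :=
  ⟨5, 3, sg (W (nat_lit 0x3c0f)), [[20], [16], [22], [24]], 7, 3⟩
noncomputable def GM_v4 : Lev :=
  ⟨4, 16, sg (W (nat_lit 0x641704415)), [], 10, 0⟩
noncomputable def GM_vs5 : List Lev :=
  []
noncomputable def GM_vs4 : List Lev :=
  GM_v4 :: GM_vs5
noncomputable def GM_vs3 : List Lev :=
  GM_v3 :: GM_vs4
noncomputable def GM_vs2 : List Lev :=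
  GM_v2 :: GM_vs3
noncomputable def GM_vs1 : List Lev :=
  GM_v1 :: GM_vs2
noncomputable def GM_vs : List Lev :=
  GM_v0 :: GM_vs1
noncomputable def zus23 : List (List ℕ) :=
  [[20],
  [16],
  [22],
  [24],
  W (nat_lit 0x4415),
  W (nat_lit 0x5417),
  W (nat_lit 0x5419),
  W (nat_lit 0x4417),
  W (nat_lit 0x4419),
  W (nat_lit 0x5c19),
  W (nat_lit 0x1105417),
  W (nat_lit 0x1105419),
  W (nat_lit 0x1505c19),
  W (nat_lit 0x1105c19),
  W (nat_lit 0x441505c19)]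
noncomputable def zF24 : List (List (ℕ × List ℕ)) :=
  [[(1, []),
   (0, []),
   (5, []),
   (6, []),
   (7, []),
   (2, []),
   (3, []),
   (4, []),
   (11, []),
   (12, []),
   (13, []),
   (8, []),
   (9, []),
   (10, []),
   (15, []),
   (14, [])],
  [(2, []),
   (5, []),
   (0, []),
   (8, []),
   (9, []),
   (1, []),
   (11, []),
   (12, []),
   (3, []),
   (4, []),
   (14, []),
   (6, []),
   (7, []),
   (15, []),
   (10, []),
   (13, [])],
  [(3, []),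
   (6, []),
   (8, []),
   (0, []),
   (10, []),
   (11, []),
   (1, []),
   (13, []),
   (2, []),
   (14, []),
   (4, []),
   (5, []),
   (15, []),
   (7, []),
   (9, []),
   (12, [])],
  [(4, []),
   (7, []),
   (9, []),
   (10, []),
   (0, []),
   (12, []),
   (13, []),
   (1, []),
   (14, []),
   (2, []),
   (3, []),
   (15, []),
   (5, []),
   (6, []),
   (8, []),
   (11, [])]]
noncomputable def zE27 : List (ℕ × List ℕ) :=
  [(14, W (nat_lit 0x5413))]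
noncomputable def zt28 : List ℕ :=
  []
noncomputable def zcj29 : List (List ℕ) :=
  [W (nat_lit 0x5417),
  W (nat_lit 0x4419),
  [20],
  [16]]
noncomputable def zus33 : List (List ℕ) :=
  [[10],
  [11],
  [12],
  [13],
  W (nat_lit 0x2c0d),
  W (nat_lit 0x2c0e),
  W (nat_lit 0x300d),
  W (nat_lit 0x300e),
  W (nat_lit 0x340b),
  W (nat_lit 0x340d),
  W (nat_lit 0x380b),
  W (nat_lit 0x340f),
  W (nat_lit 0x380e),
  W (nat_lit 0x3411),
  W (nat_lit 0x3810),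
  W (nat_lit 0xc03411),
  W (nat_lit 0x3413),
  W (nat_lit 0x2c10),
  W (nat_lit 0x3414)]
noncomputable def zF34 : List (List (ℕ × List ℕ)) :=
  [[(1, []),
   (2, []),
   (0, []),
   (9, []),
   (11, []),
   (5, W (nat_lit 0x11054170640f)),
   (13, W (nat_lit 0x540f)),
   (3, W (nat_lit 0x1105c10)),
   (16, W (nat_lit 0x1105c0f)),
   (7, W (nat_lit 0x44150640f)),
   (6, W (nat_lit 0x44150640f)),
   (12, W (nat_lit 0x1505c19)),
   (4, W (nat_lit 0x1505c19)),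
   (10, W (nat_lit 0x150640f)),
   (15, [24]),
   (19, W (nat_lit 0x11054170640f)),
   (17, W (nat_lit 0x4419)),
   (8, W (nat_lit 0x441505c10)),
   (18, W (nat_lit 0x1505c10)),
   (14, W (nat_lit 0x1506410))],
  [(3, []),
   (5, []),
   (7, []),
   (10, []),
   (0, []),
   (12, W (nat_lit 0x6410)),
   (1, []),
   (15, W (nat_lit 0x1505c10)),
   (2, []),
   (17, W (nat_lit 0x44170640f)),
   (13, []),
   (19, W (nat_lit 0x640f)),
   (14, W (nat_lit 0x5c10)),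
   (4, []),
   (6, W (nat_lit 0x441506410)),
   (16, W (nat_lit 0x5419)),
   (8, W (nat_lit 0x54170640f)),
   (11, W (nat_lit 0x170640f)),
   (9, [24]),
   (18, W (nat_lit 0x441505c19))]]
noncomputable def zus37 : List (List ℕ) :=
  [[6],
  [7],
  [8],
  [9],
  W (nat_lit 0x1c09),
  W (nat_lit 0x1c0a),
  W (nat_lit 0x1c10),
  W (nat_lit 0x200a),
  W (nat_lit 0x2409),
  W (nat_lit 0x2807),
  W (nat_lit 0x2415),
  W (nat_lit 0x200b),
  W (nat_lit 0x1c0d),
  W (nat_lit 0x1c11),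
  W (nat_lit 0x1c0b),
  W (nat_lit 0x2011),
  W (nat_lit 0x280e),
  W (nat_lit 0x1c14),
  W (nat_lit 0x1c0e),
  W (nat_lit 0x1c0c)]
noncomputable def zF38 : List (List (ℕ × List ℕ)) :=
  [[(1, []),
   (2, []),
   (0, []),
   (3, W (nat_lit 0x44150640f0340d)),
   (10, []),
   (13, [12]),
   (5, W (nat_lit 0x541702c10)),
   (7, W (nat_lit 0x1105c190400d)),
   (9, W (nat_lit 0x150400e)),
   (15, W (nat_lit 0x1102c0d)),
   (11, W (nat_lit 0x54170641002c10)),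
   (4, W (nat_lit 0x170641002c10)),
   (19, W (nat_lit 0x44150640f0380b)),
   (6, W (nat_lit 0x1505c190340b)),
   (17, W (nat_lit 0x441505c19)),
   (8, W (nat_lit 0x1105c19)),
   (12, W (nat_lit 0x11054190340d)),
   (20, W (nat_lit 0x300e)),
   (18, W (nat_lit 0x441505c1902c10)),
   (16, W (nat_lit 0x44150641003810)),
   (14, W (nat_lit 0x1903810))],
  [(3, []),
   (5, []),
   (7, W (nat_lit 0x54170380b)),
   (9, []),
   (0, []),
   (14, W (nat_lit 0x441002c0d)),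
   (1, []),
   (6, W (nat_lit 0x11054190400b)),
   (2, []),
   (16, W (nat_lit 0x44150641003810)),
   (11, W (nat_lit 0x11054170640d)),
   (18, W (nat_lit 0x441505c0b)),
   (4, W (nat_lit 0x1105c1003413)),
   (20, W (nat_lit 0x640e)),
   (8, W (nat_lit 0x1105c190380b)),
   (12, W (nat_lit 0x5c1903411)),
   (15, W (nat_lit 0x380e)),
   (10, W (nat_lit 0x640f02c0e)),
   (13, W (nat_lit 0x4410)),
   (17, W (nat_lit 0x1505c190400c03411)),
   (19, [10])]]
noncomputable def zus41 : List (List ℕ) :=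
  [[0],
  [1],
  [2],
  W (nat_lit 0x401),
  W (nat_lit 0x403),
  W (nat_lit 0x404),
  W (nat_lit 0x417),
  W (nat_lit 0x803),
  W (nat_lit 0x410),
  W (nat_lit 0x407),
  W (nat_lit 0x408),
  W (nat_lit 0x808),
  W (nat_lit 0x100404),
  W (nat_lit 0x80c),
  W (nat_lit 0x100407),
  W (nat_lit 0x101001),
  W (nat_lit 0x80d),
  W (nat_lit 0x409),
  W (nat_lit 0x413),
  W (nat_lit 0x40e),
  W (nat_lit 0x40a)]
noncomputable def zF42 : List (List (ℕ × List ℕ)) :=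
  [[(1, []),
   (4, []),
   (0, []),
   (6, W (nat_lit 0x1505c0f038100200a)),
   (11, W (nat_lit 0x11054170400c03407)),
   (14, W (nat_lit 0x44170400d0340a)),
   (16, []),
   (2, W (nat_lit 0x5c1903c0c01c11)),
   (15, W (nat_lit 0x1505c100340b0200b)),
   (18, W (nat_lit 0x110540f0341402409)),
   (3, W (nat_lit 0x44170380e02415)),
   (17, W (nat_lit 0x1102c0e01c0d)),
   (13, W (nat_lit 0x541703c0c034110200a)),
   (20, W (nat_lit 0x54100340f0200a)),
   (19, W (nat_lit 0x1103c0c0341101c0d)),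
   (5, W (nat_lit 0x441505c190400b01c0a)),
   (12, W (nat_lit 0x5c0f0341101c0d)),
   (7, W (nat_lit 0x170400c0341101c0c)),
   (8, W (nat_lit 0x150380e01c0d)),
   (9, W (nat_lit 0x110541703c0c01c10)),
   (10, W (nat_lit 0x170640f02c0d01c0a)),
   (21, W (nat_lit 0x170640f0340d01c0e))],
  [(3, []),
   (5, []),
   (8, []),
   (0, W (nat_lit 0x11054190400e01c10)),
   (12, W (nat_lit 0x170640f0381001c0c)),
   (13, W (nat_lit 0x1505c0f0380b0280e)),
   (1, []),
   (15, W (nat_lit 0x150641002c0e01c09)),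
   (9, W (nat_lit 0x110540f038100200a)),
   (2, W (nat_lit 0x44150640f0380e)),
   (19, W (nat_lit 0x11054100280e)),
   (14, W (nat_lit 0x11054170640f0340b01c0a)),
   (6, W (nat_lit 0xc0341101c0e)),
   (4, []),
   (20, W (nat_lit 0x1505c0f02c0e0280e)),
   (16, W (nat_lit 0x150640f0340f01c0b)),
   (18, W (nat_lit 0x1703c0b0200a)),
   (7, W (nat_lit 0x11054170400b01c10)),
   (21, W (nat_lit 0xf0341101c11)),
   (10, W (nat_lit 0x441505c0f02c0e02415)),
   (11, W (nat_lit 0x11054190400d0200a)),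
   (17, W (nat_lit 0x441505c1002c0d01c0e))]]
noncomputable def zt45 : List ℕ :=
  []
noncomputable def zcj46 : List (List ℕ) :=
  [W (nat_lit 0x150640f034110200b0080d),
  W (nat_lit 0x170640f0340b01c0a0040a)]
noncomputable def GA_v0 : Lev :=
  ⟨0, 2, sg [4], [[0], [2]], 10, 0⟩
noncomputable def GA_v1 : Lev :=
  ⟨1, 22, sg (W (nat_lit 0x300401004010040100c01)), [[6], [8]], 0, 2⟩
noncomputable def GA_v2 : Lev :=
  ⟨2, 21, sg (W (nat_lit 0x24070240702407)), [[10], [12]], 2, 2⟩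
noncomputable def GA_v3 : Lev :=
  ⟨3, 20, sg (W (nat_lit 0xb02c0d0340b0340b)), [[14], [16], [18]], 4, 3⟩
noncomputable def GA_v4 : Lev :=
  ⟨5, 3, sg (W (nat_lit 0x3c0f)), [[20], [16], [22], [24]], 7, 3⟩
noncomputable def GA_v5 : Lev :=
  ⟨4, 16, sg (W (nat_lit 0x641704415)), [], 10, 0⟩
noncomputable def GA_vs6 : List Lev :=
  []
noncomputable def GA_vs5 : List Lev :=
  GA_v5 :: GA_vs6
noncomputable def GA_vs4 : List Lev :=
  GA_v4 :: GA_vs5
noncomputable def GA_vs3 : List Lev :=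
  GA_v3 :: GA_vs4
noncomputable def GA_vs2 : List Lev :=
  GA_v2 :: GA_vs3
noncomputable def GA_vs1 : List Lev :=
  GA_v1 :: GA_vs2
noncomputable def GA_vs : List Lev :=
  GA_v0 :: GA_vs1
noncomputable def zm50 : ℕ :=
  (nat_lit 0x808001)
noncomputable def zm51 : ℕ :=
  (nat_lit 0x850023)
noncomputable def zm52 : ℕ :=
  (nat_lit 0x826911)
noncomputable def cL_F : List (List ℕ × ℕ × ℕ) :=
  [([0], zm50, zm50),
  (W (nat_lit 0xc03), zm51, zm51),
  (W (nat_lit 0x300c03), zm52, zm52)]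
noncomputable def cLG_v0 : Lev :=
  ⟨1, 22, sg (W (nat_lit 0x3004050040100c01)), [[26], [28]], 10, 2⟩
noncomputable def cLG_v1 : Lev :=
  ⟨2, 21, sg (W (nat_lit 0x1b0741d06c1d06c1d06c1b)), [[30], [32]], 12, 2⟩
noncomputable def cLG_v2 : Lev :=
  ⟨3, 20, sg (W (nat_lit 0x1f0842107c2107c2107c21)), [[34], [36]], 14, 2⟩
noncomputable def cLG_v3 : Lev :=
  ⟨4, 16, sg (W (nat_lit 0x8c230942309423)), [[38], [40]], 16, 2⟩
noncomputable def cLG_v4 : Lev :=
  ⟨6, 6, sg (W (nat_lit 0x270a427)), [], 18, 0⟩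
noncomputable def cLG_vs5 : List Lev :=
  []
noncomputable def cLG_vs4 : List Lev :=
  cLG_v4 :: cLG_vs5
noncomputable def cLG_vs3 : List Lev :=
  cLG_v3 :: cLG_vs4
noncomputable def cLG_vs2 : List Lev :=
  cLG_v2 :: cLG_vs3
noncomputable def cLG_vs1 : List Lev :=
  cLG_v1 :: cLG_vs2
noncomputable def cLG_vs : List Lev :=
  cLG_v0 :: cLG_vs1
noncomputable def cL_x : List (ℕ × List ℕ) :=
  [((nat_lit 0), []),
  ((nat_lit 0), []),
  ((nat_lit 0), []),
  ((nat_lit 0), []),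
  ((nat_lit 0), [])]
noncomputable def cL_G : Gl :=
  ⟨P, ns, (app D []), (diag [[0], [2]]), [], [], memM (app D []) [], true⟩
noncomputable def cL_s : St :=
  ⟨(mkS P.n cLG_vs cL_x), [[0], [2], [4]], [], mapL Prod.snd cL_F, memM (app D []) [], []⟩
noncomputable def zt56 : ST :=
  (.img (W (nat_lit 0xc02)) 2 (.dif 2 0 (.br 0 [] [] [(1, [])] (.cons (.img (W (nat_lit 0xc03)) 3 (.dif 0 4 (.br 0 [] [] [(2, [])] (.cons (.img [1] 1 (.br 0 [] [] [(3, [])] (.cons (.img (W (nat_lit 0x803)) 0 (.br 0 [] [] [(4, [])] (.cons (.img [0] 0 (.br 0 [] [] [(6, [])] (.cons .fnd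
 .nil)))
 .nil)))
 .nil)))
 .nil))))
 .nil))))
noncomputable def S_ps : List PcG :=
  [⟨[62], 2, W (nat_lit 0xac4711443), [W (nat_lit 0x2b11c4510c41), [70], [42], W (nat_lit 0x12443), W (nat_lit 0x12445), [72]]⟩,
  ⟨[64], 2, W (nat_lit 0xac4711443), [W (nat_lit 0x12445), [66], [42], W (nat_lit 0x12447), [72]]⟩,
  ⟨[66], 2, [72], [W (nat_lit 0x12445), [70], [42], [72]]⟩,
  ⟨[68], 2, [72], [[70], [42], [72]]⟩,
  ⟨[70], 2, [72], [W (nat_lit 0x1242b), [72]]⟩,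
  ⟨[42], 2, [72], [[72]]⟩,
  ⟨[72], 2, [], []⟩]
noncomputable def zE60 : List (ℕ × List ℕ) :=
  [(44, [64]),
  (46, [62])]
noncomputable def S_v0 : Lev :=
  ⟨7, 2, sg [42], [[47], [48], [50], [52]], 21, 3⟩
noncomputable def S_v1 : Lev :=
  ⟨3, 4, sg (W (nat_lit 0xc430)), [[54], [56], [58], [60]], 24, 4⟩
noncomputable def S_v2 : Lev :=
  ⟨1, 16, sg (W (nat_lit 0xf43b0e437)), [], 28, 0⟩
noncomputable def S_vs3 : List Lev :=
  []
noncomputable def S_vs2 : List Lev :=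
  S_v2 :: S_vs3
noncomputable def S_vs1 : List Lev :=
  S_v1 :: S_vs2
noncomputable def S_vs : List Lev :=
  S_v0 :: S_vs1
noncomputable def zts65 : List (List ℕ) :=
  [W (nat_lit 0x11054170341301c0c00401),
  W (nat_lit 0x110641002c0e01c0c00403),
  W (nat_lit 0x11054100300d0440a0040e)]
noncomputable def zm68 : ℕ :=
  (nat_lit 0x880009)
noncomputable def zm69 : ℕ :=
  (nat_lit 0x800181)
noncomputable def cS_F : List (List ℕ × ℕ × ℕ) :=
  [([0], zm68, zm68),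
  ([2], zm69, zm69)]
noncomputable def cSG_v0 : Lev :=
  ⟨3, 22, sg (W (nat_lit 0xc01004010040100c01)), [[76], [78]], 35, 2⟩
noncomputable def cSG_v1 : Lev :=
  ⟨12, 21, sg (W (nat_lit 0x4d1344d13c4d13c4d)), [[80], [82]], 37, 2⟩
noncomputable def cSG_v2 : Lev :=
  ⟨17, 20, sg (W (nat_lit 0x5114c5114c5114c51)), [[84], [86]], 39, 2⟩
noncomputable def cSG_v3 : Lev :=
  ⟨19, 3, sg (W (nat_lit 0x15c55)), [[88], [90], [92]], 41, 3⟩
noncomputable def cSG_v4 : Lev :=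
  ⟨1, 16, sg (W (nat_lit 0x5b1645d16c59)), [[94]], 44, 1⟩
noncomputable def cSG_v5 : Lev :=
  ⟨2, 2, sg [94], [], 45, 0⟩
noncomputable def cSG_vs6 : List Lev :=
  []
noncomputable def cSG_vs5 : List Lev :=
  cSG_v5 :: cSG_vs6
noncomputable def cSG_vs4 : List Lev :=
  cSG_v4 :: cSG_vs5
noncomputable def cSG_vs3 : List Lev :=
  cSG_v3 :: cSG_vs4
noncomputable def cSG_vs2 : List Lev :=
  cSG_v2 :: cSG_vs3
noncomputable def cSG_vs1 : List Lev :=
  cSG_v1 :: cSG_vs2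
noncomputable def cSG_vs : List Lev :=
  cSG_v0 :: cSG_vs1
noncomputable def cS_x : List (ℕ × List ℕ) :=
  [((nat_lit 0x3), []),
  ((nat_lit 0xc000000000), []),
  ((nat_lit 0x20000000000), []),
  ((nat_lit 0), []),
  ((nat_lit 0xf00000000000), [(nat_lit 0x75ee76)]),
  ((nat_lit 0), [(nat_lit 0x100800),
   (nat_lit 0x42000)])]
noncomputable def cS_G : Gl :=
  ⟨P, ns, (app D []), (diag [[42], [44], [46]]), [], [], memM (app D []) [[74]], true⟩
noncomputable def cS_s : St :=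
  ⟨(mkS P.n cSG_vs cS_x), [[0], [2], [4]], [], mapL Prod.snd cS_F, memM (app D []) [[74]], []⟩
noncomputable def zt73 : ST :=
  (.dif 0 1 (.br 0 [] [] [(19, W (nat_lit 0x804)), (3, [])] (.cons (.img [2] 0 (.br 0 [] [] [(17, W (nat_lit 0x13450))] (.cons (.img [0] 0 (.br 0 [] [] [(12, [82])] (.cons (.img [2] 0 (.br 0 [] [] [(3, [])] (.cons (.orb 0 (.br 0 [[74]] [0] [(1, W (nat_lit 0x1645b1785b)), (2, W (nat_lit 0x1745b)), (5, []), (6, W (nat_lit 0x16c5f)), (11, W (nat_lit 0x591785b)), (13, W (nat_lit 0x5b1785b)), (14, W (nat_lit 0x16c5e)), (18, W (nat_lit 0x5b1745b))] (.cons (.img [3] 0 (.orb 1 (.and 1 0 (.mis 0))))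
 (.cons (.img (W (nat_lit 0x1801)) 0 (.and 1 0 (.mis 0)))
 (.cons (.img (W (nat_lit 0x1801)) 0 (.and 1 0 (.mis 0)))
 (.cons (.img [0] 0 (.img [4] 1 (.dif 1 0 (.mis 0))))
 (.cons (.img [4] 0 (.img [0] 1 (.dif 1 0 (.mis 0))))
 (.cons (.img (W (nat_lit 0x1801)) 0 (.and 1 0 (.mis 0)))
 (.cons (.img (W (nat_lit 0x1801)) 0 (.and 1 0 (.mis 0)))
 (.cons (.img (W (nat_lit 0x1801)) 0 (.and 1 0 (.mis 0)))
 .nil))))))))))
 .nil)))
 .nil)))
 .nil)))
 (.cons (.img [2] 0 (.br 0 [] [] [(12, [])] (.cons (.img [0] 0 (.br 0 [] [] [(17, [])] (.cons (.img [2] 0 (.br 0 [] [] [(19, [])] (.cons (.orb 0 (.br 0 [[74]] [0] [(2, W (nat_lit 0x16c5d)), (5, W (nat_lit 0x1645b1785b)), (6, W (nat_lit 0x5916c5e)), (11, [90]), (13, W (nat_lit 0x5b1785b)), (14, W (nat_lit 0x1645b)), (18, W (nat_lit 0x5b1745b)), (1, [])] (.cons (.img (W (nat_lit 0x1801)) 0 (.and 1 0 (.mis 0)))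
 (.cons (.img (W (nat_lit 0x1801)) 0 (.and 1 0 (.mis 0)))
 (.cons (.img [0] 0 (.img [4] 1 (.dif 1 0 (.mis 0))))
 (.cons (.orb 0 (.img [4] 1 (.and 1 0 (.mis 0))))
 (.cons (.img (W (nat_lit 0x1801)) 0 (.and 1 0 (.mis 0)))
 (.cons (.img (W (nat_lit 0x1801)) 0 (.and 1 0 (.mis 0)))
 (.cons (.img (W (nat_lit 0x1801)) 0 (.and 1 0 (.mis 0)))
 (.cons (.img (W (nat_lit 0x1001)) 0 (.br 0 [] [] [(2, [])] (.cons .fnd
 .nil)))
 .nil))))))))))
 .nil)))
 .nil)))
 .nil)))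
 .nil))))
noncomputable def zts77 : List (List ℕ) :=
  [W (nat_lit 0x44170640d04c0a00408)]
noncomputable def T_v0 : Lev :=
  ⟨0, 2, sg [98], [[112], [114], [116]], 53, 3⟩
noncomputable def T_v1 : Lev :=
  ⟨2, 2, sg [112], [[118], [120], [122], [124]], 56, 4⟩
noncomputable def T_v2 : Lev :=
  ⟨3, 4, sg (W (nat_lit 0x1e477)), [[126], [128], [130], [132]], 60, 4⟩
noncomputable def T_v3 : Lev :=
  ⟨1, 16, sg (W (nat_lit 0x214832047f)), [], 64, 0⟩
noncomputable def T_vs4 : List Lev :=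
  []
noncomputable def T_vs3 : List Lev :=
  T_v3 :: T_vs4
noncomputable def T_vs2 : List Lev :=
  T_v2 :: T_vs3
noncomputable def T_vs1 : List Lev :=
  T_v1 :: T_vs2
noncomputable def T_vs : List Lev :=
  T_v0 :: T_vs1
noncomputable def T_ps : List PcG :=
  [⟨[96], 2, W (nat_lit 0x1bc6d), [W (nat_lit 0x1bc63), W (nat_lit 0x1b46b1a465), [102], W (nat_lit 0x6f1b469), W (nat_lit 0x1b46b), [108], [110]]⟩,
  ⟨[98], 2, W (nat_lit 0x1bc6d), [W (nat_lit 0x1ac65), W (nat_lit 0x6f1b467), W (nat_lit 0x6f1b469), [106], [108], [110]]⟩,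
  ⟨[100], 2, W (nat_lit 0x1bc69), [W (nat_lit 0x1bc6d1a467), [104], W (nat_lit 0x1b46b), W (nat_lit 0x1bc6d), [110]]⟩,
  ⟨[102], 2, [108], [W (nat_lit 0x1bc69), W (nat_lit 0x6f1b46b), [108], [110]]⟩,
  ⟨[104], 2, [], [W (nat_lit 0x1bc6b), [108], [110]]⟩,
  ⟨[106], 2, [110], [[108], [110]]⟩,
  ⟨[108], 2, [], [[110]]⟩,
  ⟨[110], 2, [], []⟩]
noncomputable def v0_E : List (ℕ × List CE) :=
  [(3, [])]
noncomputable def v0_R : List (List ℕ) :=
  [[],
  [96]]
noncomputable def zts86 : List (List ℕ) :=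
  [W (nat_lit 0x640f0341301c1400413),
  W (nat_lit 0x110541703c0d03c0702c0101005),
  W (nat_lit 0x1105417034090540203005),
  W (nat_lit 0x110641002c100280e00403),
  W (nat_lit 0x11054100300d0440705001),
  W (nat_lit 0x150400b00409),
  W (nat_lit 0x1105c100341101c140040e),
  W (nat_lit 0x110640e02c0703803)]
noncomputable def zcj89 : List (List (List ℕ)) :=
  [[W (nat_lit 0x1bc63), W (nat_lit 0x1b46b1a465), [102], W (nat_lit 0x6f1b469), W (nat_lit 0x1b46b), [108], [110]],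
  [[98], W (nat_lit 0x1ac65), W (nat_lit 0x6f1b467), W (nat_lit 0x6f1b469), [106], [108], [110]],
  [W (nat_lit 0x6f1ac63), [100], W (nat_lit 0x1bc6d1a467), [104], W (nat_lit 0x1b46b), W (nat_lit 0x1bc6d), [110]],
  [W (nat_lit 0x6f1b463), W (nat_lit 0x1bc6d1a465), [102], W (nat_lit 0x1bc69), W (nat_lit 0x6f1b46b), [108], [110]],
  [W (nat_lit 0x6f1b463), [100], W (nat_lit 0x1bc67), [104], W (nat_lit 0x1bc6b), [108], [110]],
  [[98], W (nat_lit 0x1b465), W (nat_lit 0x6f1b467), W (nat_lit 0x1bc69), [106], [108], [110]],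
  [[98], W (nat_lit 0x1bc65), [102], [104], [106], [108], [110]],
  [[98], [100], [102], [104], [106], [108], [110]]]
noncomputable def v1_E : List (ℕ × List CE) :=
  [(3, []),
  (3, [])]
noncomputable def v1_R : List (List ℕ) :=
  [[],
  [98],
  [96],
  W (nat_lit 0x18c61)]
noncomputable def zcj96 : List (List (List ℕ)) :=
  [[W (nat_lit 0x1b46b1a465), [102], W (nat_lit 0x6f1b469), W (nat_lit 0x1b46b), [108], [110]],
  [W (nat_lit 0x1ac65), W (nat_lit 0x6f1b467), W (nat_lit 0x6f1b469), [106], [108], [110]],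
  [[100], W (nat_lit 0x1bc6d1a467), [104], W (nat_lit 0x1b46b), W (nat_lit 0x1bc6d), [110]],
  [W (nat_lit 0x1bc6d1a465), [102], W (nat_lit 0x1bc69), W (nat_lit 0x6f1b46b), [108], [110]],
  [[100], W (nat_lit 0x1bc67), [104], W (nat_lit 0x1bc6b), [108], [110]],
  [W (nat_lit 0x1b465), W (nat_lit 0x6f1b467), W (nat_lit 0x1bc69), [106], [108], [110]],
  [W (nat_lit 0x1bc65), [102], [104], [106], [108], [110]],
  [[100], [102], [104], [106], [108], [110]]]
noncomputable def v2_E : List (ℕ × List CE) :=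
  [(3, []),
  (3, []),
  (3, []),
  (3, [])]
noncomputable def v2_R : List (List ℕ) :=
  [[],
  [100],
  [98],
  W (nat_lit 0x19463),
  [96],
  W (nat_lit 0x19461),
  W (nat_lit 0x18c61),
  W (nat_lit 0x6518c61)]
noncomputable def zcj103 : List (List (List ℕ)) :=
  [[[102], W (nat_lit 0x6f1b469), W (nat_lit 0x1b46b), [108], [110]],
  [W (nat_lit 0x6f1b467), W (nat_lit 0x6f1b469), [106], [108], [110]],
  [W (nat_lit 0x1bc6d1a467), [104], W (nat_lit 0x1b46b), W (nat_lit 0x1bc6d), [110]],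
  [[102], W (nat_lit 0x1bc69), W (nat_lit 0x6f1b46b), [108], [110]],
  [W (nat_lit 0x1bc67), [104], W (nat_lit 0x1bc6b), [108], [110]],
  [W (nat_lit 0x6f1b467), W (nat_lit 0x1bc69), [106], [108], [110]],
  [[102], [104], [106], [108], [110]],
  [[102], [104], [106], [108], [110]]]
noncomputable def v3_E : List (ℕ × List CE) :=
  [(3, []),
  (3, []),
  (3, []),
  (3, []),
  (3, []),
  (3, []),
  (3, []),
  (3, [])]
noncomputable def v3_R : List (List ℕ) :=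
  [[],
  [102],
  [100],
  W (nat_lit 0x19c65),
  [98],
  W (nat_lit 0x19c63),
  W (nat_lit 0x19463),
  W (nat_lit 0x6719463),
  [96],
  W (nat_lit 0x19c61),
  W (nat_lit 0x19461),
  W (nat_lit 0x6719461),
  W (nat_lit 0x18c61),
  W (nat_lit 0x6718c61),
  W (nat_lit 0x6518c61),
  W (nat_lit 0x19c6518c61)]
noncomputable def zcj110 : List (List (List ℕ)) :=
  [[W (nat_lit 0x6f1b469), W (nat_lit 0x1b46b), [108], [110]],
  [W (nat_lit 0x6f1b469), [106], [108], [110]],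
  [[104], W (nat_lit 0x1b46b), W (nat_lit 0x1bc6d), [110]],
  [W (nat_lit 0x1bc69), W (nat_lit 0x6f1b46b), [108], [110]],
  [[104], W (nat_lit 0x1bc6b), [108], [110]],
  [W (nat_lit 0x1bc69), [106], [108], [110]],
  [[104], [106], [108], [110]],
  [[104], [106], [108], [110]]]
noncomputable def v4_E : List (ℕ × List CE) :=
  [(3, []),
  (1, [ceD, ⟨false, [100], 0, [108]⟩]),
  (0, [⟨true, [], 1, [110]⟩, ⟨true, [], 1, [110]⟩]),
  (1, [ceD, ⟨false, [96], 0, W (nat_lit 0x6f1b46b)⟩]),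
  (3, []),
  (1, [ceD, ⟨false, [100], 0, W (nat_lit 0x1b46b)⟩]),
  (0, [⟨true, [], 1, [106]⟩, ⟨true, [], 1, W (nat_lit 0x1b46b)⟩]),
  (1, [ceD, ⟨false, [96], 0, W (nat_lit 0x1b46b)⟩]),
  (1, [ceD, ⟨false, [100], 0, W (nat_lit 0x1bc6b)⟩]),
  (3, []),
  (1, [ceD, ⟨false, [96], 0, W (nat_lit 0x1bc6b)⟩]),
  (0, [⟨true, [], 1, W (nat_lit 0x1b46b)⟩, ⟨true, [], 1, W (nat_lit 0x1bc6b)⟩]),
  (1, [ceD, ⟨false, [100], 0, [110]⟩]),
  (3, []),
  (1, [ceD, ⟨false, [96], 0, [106]⟩]),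
  (0, [⟨true, [], 1, W (nat_lit 0x1bc6d)⟩, ⟨true, [], 1, [108]⟩])]
noncomputable def v4_R : List (List ℕ) :=
  [[],
  [104],
  [102],
  W (nat_lit 0x19c65),
  [98],
  W (nat_lit 0x1a463),
  W (nat_lit 0x19c63),
  W (nat_lit 0x6719463),
  [96],
  W (nat_lit 0x19c61),
  W (nat_lit 0x6919c61),
  W (nat_lit 0x19461),
  W (nat_lit 0x18c61),
  W (nat_lit 0x6718c61),
  W (nat_lit 0x1a46718c61),
  W (nat_lit 0x6518c61)]
noncomputable def zcj117 : List (List (List ℕ)) :=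
  [[W (nat_lit 0x1b46b), [108], [110]],
  [[106], [108], [110]],
  [W (nat_lit 0x1b46b), W (nat_lit 0x1bc6d), [110]],
  [W (nat_lit 0x6f1b46b), [108], [110]],
  [W (nat_lit 0x1bc6b), [108], [110]],
  [[106], [108], [110]],
  [[106], [108], [110]],
  [[106], [108], [110]]]
noncomputable def v5_E : List (ℕ × List CE) :=
  [(3, []),
  (3, []),
  (3, []),
  (1, [ceD, ⟨false, [98], 0, []⟩]),
  (1, [ceD, ⟨false, [100], 0, [110]⟩]),
  (1, [ceD, ⟨false, [100], 0, []⟩]),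
  (3, []),
  (0, [⟨true, [], 1, W (nat_lit 0x1bc6d)⟩, ⟨true, [], 1, W (nat_lit 0x1bc6d)⟩]),
  (3, []),
  (1, [ceD, ⟨false, [100], 0, W (nat_lit 0x1bc6d)⟩]),
  (1, [ceD, ⟨false, [100], 0, [108]⟩]),
  (0, [⟨true, [], 1, W (nat_lit 0x1bc6d)⟩, ⟨true, [], 1, W (nat_lit 0x1bc6d)⟩]),
  (3, []),
  (3, []),
  (3, []),
  (1, [ceD, ⟨false, [98], 0, [110]⟩])]
noncomputable def v5_R : List (List ℕ) :=
  [[],
  [106],
  [104],
  W (nat_lit 0x1ac69),
  [102],
  W (nat_lit 0x1ac67),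
  W (nat_lit 0x19c65),
  [98],
  W (nat_lit 0x1a463),
  W (nat_lit 0x19c63),
  W (nat_lit 0x6b19c63),
  [96],
  W (nat_lit 0x1ac61),
  W (nat_lit 0x19c61),
  W (nat_lit 0x6919c61),
  W (nat_lit 0x18c61),
  W (nat_lit 0x6b18c61),
  W (nat_lit 0x6718c61),
  W (nat_lit 0x1ac6718c61),
  W (nat_lit 0x1a46718c61),
  W (nat_lit 0x6b1a46718c61),
  W (nat_lit 0x6518c61)]
noncomputable def zcj124 : List (List (List ℕ)) :=
  [[[108], [110]],
  [[108], [110]],
  [W (nat_lit 0x1bc6d), [110]],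
  [[108], [110]],
  [[108], [110]],
  [[108], [110]],
  [[108], [110]],
  [[108], [110]]]
noncomputable def v6_E : List (ℕ × List CE) :=
  [(3, []),
  (1, [ceD, ⟨false, [96], 0, []⟩]),
  (1, [ceD, ⟨false, [96], 0, [110]⟩]),
  (1, [ceD, ⟨false, [98], 0, [110]⟩]),
  (0, [⟨true, [], 1, []⟩, ⟨true, [], 1, []⟩]),
  (1, [ceD, ⟨false, [96], 0, []⟩]),
  (3, []),
  (0, [⟨true, [], 1, [110]⟩, ⟨true, [], 1, [110]⟩]),
  (1, [ceD, ⟨false, [96], 0, []⟩]),
  (0, [⟨true, [], 1, []⟩, ⟨true, [], 1, []⟩]),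
  (1, [ceD, ⟨false, [96], 0, [110]⟩]),
  (0, [⟨true, [], 1, [110]⟩, ⟨true, [], 1, [110]⟩]),
  (1, [ceD, ⟨false, [96], 0, []⟩]),
  (1, [ceD, ⟨false, [98], 0, []⟩]),
  (0, [⟨true, [], 1, [110]⟩, ⟨true, [], 1, [110]⟩]),
  (1, [ceD, ⟨false, [102], 0, [110]⟩]),
  (0, [⟨true, [], 1, []⟩, ⟨true, [], 1, []⟩]),
  (1, [ceD, ⟨false, [98], 0, []⟩]),
  (1, [ceD, ⟨false, [96], 0, [110]⟩]),
  (1, [ceD, ⟨false, [96], 0, []⟩]),
  (3, []),
  (3, [])]
noncomputable def v6_R : List (List ℕ) :=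
  [[],
  [108],
  [106],
  [104],
  W (nat_lit 0x1ac69),
  W (nat_lit 0x1ac67),
  W (nat_lit 0x19c65),
  W (nat_lit 0x6d19c65),
  W (nat_lit 0x1a463),
  W (nat_lit 0x6b19c63),
  W (nat_lit 0x1ac61),
  W (nat_lit 0x19c61),
  W (nat_lit 0x18c61),
  W (nat_lit 0x6718c61),
  W (nat_lit 0x1ac6718c61),
  W (nat_lit 0x1a46718c61),
  W (nat_lit 0x6b1a46718c61),
  W (nat_lit 0x1b46b1a46718c61),
  W (nat_lit 0x6518c61),
  W (nat_lit 0x1b46518c61)]
noncomputable def zcj131 : List (List (List ℕ)) :=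
  [[[110]],
  [[110]],
  [[110]],
  [[110]],
  [[110]],
  [[110]],
  [[110]],
  [[110]]]
noncomputable def v7_E : List (ℕ × List CE) :=
  [(3, []),
  (1, [ceD, ⟨false, [100], 0, []⟩]),
  (0, [⟨true, [], 1, []⟩, ⟨true, [], 1, []⟩]),
  (1, [ceD, ⟨false, [102], 0, []⟩]),
  (1, [ceD, ⟨false, [96], 0, []⟩]),
  (1, [ceD, ⟨false, W (nat_lit 0x7f204831dc79), 0, []⟩]),
  (0, [⟨true, [], 1, []⟩, ⟨true, [], 1, []⟩]),
  (1, [ceD, ⟨false, [104], 0, []⟩]),
  (1, [ceD, ⟨false, [106], 0, []⟩]),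
  (3, []),
  (1, [ceD, ⟨false, [98], 0, []⟩]),
  (0, [⟨true, [], 1, []⟩, ⟨true, [], 1, []⟩]),
  (0, [⟨true, [], 1, []⟩, ⟨true, [], 1, []⟩]),
  (1, [ceD, ⟨false, [96], 0, []⟩]),
  (1, [ceD, ⟨false, [100], 0, []⟩]),
  (0, [⟨true, [], 1, []⟩, ⟨true, [], 1, []⟩]),
  (1, [ceD, ⟨false, [98], 0, []⟩]),
  (1, [ceD, ⟨false, [98], 0, []⟩]),
  (0, [⟨true, [], 1, []⟩, ⟨true, [], 1, []⟩]),
  (1, [ceD, ⟨false, [106], 0, []⟩])]
noncomputable def v7_R : List (List ℕ) :=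
  [[],
  [110],
  [108],
  [104],
  W (nat_lit 0x1ac69),
  W (nat_lit 0x1ac67),
  W (nat_lit 0x6d19c65),
  W (nat_lit 0x1a463),
  W (nat_lit 0x6b19c63),
  W (nat_lit 0x1bc6b19c63),
  W (nat_lit 0x1ac61),
  W (nat_lit 0x6718c61),
  W (nat_lit 0x1ac6718c61),
  W (nat_lit 0x6b1a46718c61),
  W (nat_lit 0x1b46b1a46718c61),
  W (nat_lit 0x1b46518c61)]
noncomputable def v8_F : List (List ℕ × ℕ × List ℕ) :=
  [([], 0, []),
  ([], 1, []),
  (W (nat_lit 0x3c0c0341102805), 1, []),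
  (W (nat_lit 0x44170640d01c0d), 1, []),
  (W (nat_lit 0x54170640d05009), 1, []),
  (W (nat_lit 0x640f0300703005), 1, []),
  (W (nat_lit 0x440e01c09), 2, []),
  (W (nat_lit 0x150641002c0d01c0b), 3, []),
  (W (nat_lit 0x1505c1903c0c03809), 3, []),
  (W (nat_lit 0x110380b0200a00401), 2, []),
  (W (nat_lit 0x441702405), 1, []),
  (W (nat_lit 0x17064100341301c0a), 2, []),
  (W (nat_lit 0x441703c0c0341101c0e), 3, []),
  ([], 2, []),
  (W (nat_lit 0x441505c190400e04009), 3, []),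
  (W (nat_lit 0x11054170400c0340702c0104005), 1, [])]
noncomputable def v8_R : List (List ℕ) :=
  [[], [134], [136], [138]]
noncomputable def zts141 : List (List ℕ) :=
  [W (nat_lit 0x640f0341301c1400413),
  W (nat_lit 0x110541703c0d03c0702c0101005),
  W (nat_lit 0x1105417034090540203005),
  W (nat_lit 0x110641002c100280e00403),
  W (nat_lit 0x11054100300d0440705001),
  W (nat_lit 0x150400b00409),
  W (nat_lit 0x1105c100341101c140040e),
  W (nat_lit 0x110640e02c0703803)]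
noncomputable def zm144 : ℕ :=
  (nat_lit 0xa0031d)
noncomputable def cC0_F : List (List ℕ × ℕ × ℕ) :=
  [([0], zm144, zm144)]
noncomputable def cC0G_v0 : Lev :=
  ⟨1, 22, sg (W (nat_lit 0x300401004010040100c01)), [[6], [8]], 0, 2⟩
noncomputable def cC0G_v1 : Lev :=
  ⟨2, 21, sg (W (nat_lit 0x24070240702407)), [[10], [12]], 2, 2⟩
noncomputable def cC0G_v2 : Lev :=
  ⟨18, 20, sg (W (nat_lit 0xb0340b0340b0340b)), [[160], [162], [164]], 77, 3⟩
noncomputable def cC0G_v3 : Lev :=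
  ⟨3, 16, sg (W (nat_lit 0xa128ca1294a1)), [[166]], 80, 1⟩
noncomputable def cC0G_v4 : Lev :=
  ⟨4, 3, sg (W (nat_lit 0x29ca7)), [], 81, 0⟩
noncomputable def cC0G_vs5 : List Lev :=
  []
noncomputable def cC0G_vs4 : List Lev :=
  cC0G_v4 :: cC0G_vs5
noncomputable def cC0G_vs3 : List Lev :=
  cC0G_v3 :: cC0G_vs4
noncomputable def cC0G_vs2 : List Lev :=
  cC0G_v2 :: cC0G_vs3
noncomputable def cC0G_vs1 : List Lev :=
  cC0G_v1 :: cC0G_vs2
noncomputable def cC0G_vs : List Lev :=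
  cC0G_v0 :: cC0G_vs1
noncomputable def cC0_x : List (ℕ × List ℕ) :=
  [((nat_lit 0), [(nat_lit 0x7ffffe)]),
  ((nat_lit 0), []),
  ((nat_lit 0), []),
  ((nat_lit 0), [(nat_lit 0x7be6f8)]),
  ((nat_lit 0), [(nat_lit 0x8050)])]
noncomputable def cC0_G : Gl :=
  ⟨P, ns, (app D []), (diag [[134]]), [], [], memM (app D []) [[140], [142]], true⟩
noncomputable def cC0_s : St :=
  ⟨(mkS P.n cC0G_vs cC0_x), [[0], [2]], [], mapL Prod.snd cC0_F, memM (app D []) [[140], [142]], []⟩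
noncomputable def zt148 : ST :=
  (.orb 0 (.dif 0 1 (.br 0 [W (nat_lit 0x9d27c8f), W (nat_lit 0x9b27c9323c91)] (W (nat_lit 0x100401004010040100c01)) [(1, [])] (.cons (.and 3 2 (.br 0 [W (nat_lit 0x9b27c8f), W (nat_lit 0x9b2749f23c8d)] (W (nat_lit 0x40300401)) [(2, [])] (.cons (.img [0] 2 (.br 0 [] [] [(18, [])] (.cons (.orb 0 (.and 4 0 (.br 0 [W (nat_lit 0x27497), W (nat_lit 0x9927c91)] (W (nat_lit 0xc01)) [(3, [])] (.cons (.orb 0 (.and 0 11 (.br 0 [] [] [(4, [])] (.cons .fnd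
 .nil))))
 .nil))))
 .nil)))
 .nil)))
 .nil))))
noncomputable def D0_ps : List PcG :=
  [⟨[168], 3, W (nat_lit 0xc3304bf), [[188], W (nat_lit 0xc3304bf2f4bb), W (nat_lit 0x30cbf), [194], W (nat_lit 0x30cc1)]⟩,
  ⟨[186], 2, W (nat_lit 0xc3304bf), [W (nat_lit 0x30cc12fcbd), [190], W (nat_lit 0x30cbf), W (nat_lit 0x304bf)]⟩,
  ⟨[188], 2, W (nat_lit 0xc3304bf), [W (nat_lit 0x30cc1), [192], W (nat_lit 0x304bf)]⟩,
  ⟨[190], 2, [], [[192], [194]]⟩,
  ⟨[192], 2, [], [[194]]⟩,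
  ⟨[194], 2, [], []⟩]
noncomputable def zE152 : List (ℕ × List ℕ) :=
  [(170, W (nat_lit 0x304bf2a4a9)),
  (172, W (nat_lit 0x30cc12fcbd2a4a9))]
noncomputable def D0_v0 : Lev :=
  ⟨2, 6, sg (W (nat_lit 0xab2aca9)), [[174], [176], [178]], 84, 3⟩
noncomputable def D0_v1 : Lev :=
  ⟨3, 2, sg [174], [[180], [182], [184]], 87, 3⟩
noncomputable def D0_v2 : Lev :=
  ⟨1, 8, sg (W (nat_lit 0xb92dcb5)), [], 90, 0⟩
noncomputable def D0_vs3 : List Lev :=
  []
noncomputable def D0_vs2 : List Lev :=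
  D0_v2 :: D0_vs3
noncomputable def D0_vs1 : List Lev :=
  D0_v1 :: D0_vs2
noncomputable def D0_vs : List Lev :=
  D0_v0 :: D0_vs1
noncomputable def zps157 : List (List ℕ × List ℕ) :=
  [(W (nat_lit 0x23c8e), [141]), ([141], [143]), (W (nat_lit 0x8d23c8f), W (nat_lit 0x2388f))]
noncomputable def zts160 : List (List ℕ) :=
  [W (nat_lit 0x344c8),
  W (nat_lit 0xd532cc5),
  W (nat_lit 0x32cc7)]
noncomputable def zts163 : List (List ℕ) :=
  [[],
  W (nat_lit 0x2d4b92bcab),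
  W (nat_lit 0x2bcae),
  []]
noncomputable def zcj166 : List (List (List ℕ)) :=
  [[W (nat_lit 0x2d4b72e4aa), W (nat_lit 0xb52dcae), W (nat_lit 0x2d4b72bca9)],
  [W (nat_lit 0x2dcab), W (nat_lit 0x2dcae), W (nat_lit 0xb52bcae)]]
noncomputable def zcj169 : List (List (List ℕ)) :=
  [[W (nat_lit 0x2d4b72e4aa), W (nat_lit 0xb52dcae), W (nat_lit 0x2d4b72bca9)],
  [W (nat_lit 0x2dcab), W (nat_lit 0x2dcae), W (nat_lit 0xb52bcae)]]
noncomputable def Q0_ps : List PcG :=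
  [⟨[228], 2, [], [[230], [216], W (nat_lit 0x3a4d7), [232]]⟩,
  ⟨[230], 2, [], [W (nat_lit 0x3a4d9), W (nat_lit 0x3a4d7), [232]]⟩,
  ⟨[216], 2, [232], [W (nat_lit 0x3a4d7), [232]]⟩,
  ⟨[214], 2, [232], [[232]]⟩,
  ⟨[232], 2, [], []⟩]
noncomputable def zE172 : List (ℕ × List ℕ) :=
  [(218, [230]),
  (220, [228])]
noncomputable def Q0_v0 : Lev :=
  ⟨2, 2, sg [216], [[214], [218], [220]], 108, 0⟩
noncomputable def Q0_v1 : Lev :=
  ⟨3, 2, sg [214], [[222], [224], [226]], 108, 3⟩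
noncomputable def Q0_v2 : Lev :=
  ⟨1, 8, sg (W (nat_lit 0xe3384df)), [], 111, 0⟩
noncomputable def Q0_vs3 : List Lev :=
  []
noncomputable def Q0_vs2 : List Lev :=
  Q0_v2 :: Q0_vs3
noncomputable def Q0_vs1 : List Lev :=
  Q0_v1 :: Q0_vs2
noncomputable def Q0_vs : List Lev :=
  Q0_v0 :: Q0_vs1
noncomputable def zts177 : List (List ℕ) :=
  [W (nat_lit 0x2dcaf),
  W (nat_lit 0x2dcaf2a4ad),
  W (nat_lit 0x2d4b72e4af),
  W (nat_lit 0xb52e4af)]
noncomputable def zcj180 : List (List (List ℕ)) :=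
  [[W (nat_lit 0x37ce335cd9), [214], W (nat_lit 0xdf35cd9), W (nat_lit 0xe135cd9)],
  [W (nat_lit 0xdf38cd9), W (nat_lit 0x37ce335cd9), W (nat_lit 0xdf384d9), W (nat_lit 0x37cd9)],
  [W (nat_lit 0xdf38cd9), W (nat_lit 0x35cd9), W (nat_lit 0xdf384d9), W (nat_lit 0x38cd9)]]
noncomputable def Z0_ps : List PcG :=
  [⟨[184], 2, [], []⟩]
noncomputable def Z0_v0 : Lev :=
  ⟨1, 2, sg [184], [], 114, 0⟩
noncomputable def Z0_vs1 : List Lev :=
  []
noncomputable def Z0_vs : List Lev :=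
  Z0_v0 :: Z0_vs1
noncomputable def zm186 : ℕ :=
  (nat_lit 0x800105)
noncomputable def zm187 : ℕ :=
  (nat_lit 0x841907)
noncomputable def zm188 : ℕ :=
  (nat_lit 0xc28145)
noncomputable def cQ0_F : List (List ℕ × ℕ × ℕ) :=
  [([0], zm186, zm186),
  ([4], zm187, zm187),
  ([6], zm188, zm188)]
noncomputable def cQ0G_v0 : Lev :=
  ⟨1, 8, sg (W (nat_lit 0x2a4a92b4a9)), [[234], [236]], 114, 2⟩
noncomputable def cQ0G_v1 : Lev :=
  ⟨7, 6, sg (W (nat_lit 0x3aced3aceb)), [[238]], 116, 1⟩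
noncomputable def cQ0G_v2 : Lev :=
  ⟨5, 2, sg [238], [], 117, 0⟩
noncomputable def cQ0G_vs3 : List Lev :=
  []
noncomputable def cQ0G_vs2 : List Lev :=
  cQ0G_v2 :: cQ0G_vs3
noncomputable def cQ0G_vs1 : List Lev :=
  cQ0G_v1 :: cQ0G_vs2
noncomputable def cQ0G_vs : List Lev :=
  cQ0G_v0 :: cQ0G_vs1
noncomputable def cQ0_x : List (ℕ × List ℕ) :=
  [((nat_lit 0x1000000000000000000000), []),
  ((nat_lit 0), []),
  ((nat_lit 0), [(nat_lit 0x60)])]
noncomputable def cQ0_G : Gl :=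
  ⟨P, ns, (app D []), (diag [[214], [216], [218], [220]]), [], [], memM (app D []) [[184]], true⟩
noncomputable def cQ0_s : St :=
  ⟨(mkS P.n cQ0G_vs cQ0_x), [[168], [170], [172]], [], mapL Prod.snd cQ0_F, memM (app D []) [[184]], []⟩
noncomputable def zt192 : ST :=
  (.dif 1 0 (.br 0 [[184]] [0] [(11, [168]), (1, [])] (.cons (.img [3] 0 (.img (W (nat_lit 0x1c01)) 1 (.and 1 0 (.mis 0))))
 (.cons (.img [3] 0 (.br 0 [] [] [(7, [])] (.cons (.orb 0 (.dif 0 7 (.br 0 [] [] [(5, [])] (.cons .fnd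
 .nil))))
 .nil)))
 .nil))))
noncomputable def zm196 : ℕ :=
  (nat_lit 0x5aa060)
noncomputable def cC1_F : List (List ℕ × ℕ × ℕ) :=
  [([0], zm196, zm196)]
noncomputable def cC1G_v0 : Lev :=
  ⟨1, 22, sg (W (nat_lit 0x300401004010040100c01)), [[6], [8]], 0, 2⟩
noncomputable def cC1G_v1 : Lev :=
  ⟨2, 21, sg (W (nat_lit 0x24070240702407)), [[10], [12]], 2, 2⟩
noncomputable def cC1G_v2 : Lev :=
  ⟨18, 20, sg (W (nat_lit 0xb0340b0340b0340b)), [[160], [162], [164]], 77, 3⟩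
noncomputable def cC1G_v3 : Lev :=
  ⟨3, 16, sg (W (nat_lit 0xa128ca1294a1)), [[166]], 80, 1⟩
noncomputable def cC1G_v4 : Lev :=
  ⟨4, 3, sg (W (nat_lit 0x29ca7)), [], 81, 0⟩
noncomputable def cC1G_vs5 : List Lev :=
  []
noncomputable def cC1G_vs4 : List Lev :=
  cC1G_v4 :: cC1G_vs5
noncomputable def cC1G_vs3 : List Lev :=
  cC1G_v3 :: cC1G_vs4
noncomputable def cC1G_vs2 : List Lev :=
  cC1G_v2 :: cC1G_vs3
noncomputable def cC1G_vs1 : List Lev :=
  cC1G_v1 :: cC1G_vs2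
noncomputable def cC1G_vs : List Lev :=
  cC1G_v0 :: cC1G_vs1
noncomputable def cC1_x : List (ℕ × List ℕ) :=
  [((nat_lit 0), [(nat_lit 0x7ffffe)]),
  ((nat_lit 0), []),
  ((nat_lit 0), []),
  ((nat_lit 0), [(nat_lit 0x7be6f8)]),
  ((nat_lit 0), [(nat_lit 0x8050)])]
noncomputable def cC1_G : Gl :=
  ⟨P, ns, (app D []), (diag [[136]]), [], [], memM (app D []) [[240], [242]], true⟩
noncomputable def cC1_s : St :=
  ⟨(mkS P.n cC1G_vs cC1_x), [[0], [2]], [], mapL Prod.snd cC1_F, memM (app D []) [[240], [242]], []⟩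
noncomputable def zt200 : ST :=
  (.orb 0 (.dif 0 1 (.br 0 [W (nat_lit 0xfd3dcf43e4f2), W (nat_lit 0x3ecfd3d0fb3c4fd)] (W (nat_lit 0xc010040100c01)) [(1, [])] (.cons (.dif 1 0 (.img [0] 1 (.dif 1 0 (.br 0 [W (nat_lit 0xfb3f4f73d0f9), W (nat_lit 0x3ecfd3dcfd3ccf2), W (nat_lit 0xfb3dcf43d0f1)] (W (nat_lit 0x10040500c01)) [(2, [])] (.cons (.img [0] 4 (.br 0 [] [] [(18, [])] (.cons (.orb 0 (.and 4 0 (.br 0 [W (nat_lit 0xfb3dcfd3ccf2), W (nat_lit 0x3ecf73d0f43c4fd), W (nat_lit 0xf93d0fd3c8f9)] (W (nat_lit 0x500c01)) [(3, [])] (.cons (.orb 0 (.dif 0 13 (.br 0 [] [] [(4, [])] (.cons .fnd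
 .nil))))
 .nil))))
 .nil)))
 .nil)))))
 .nil))))
noncomputable def zus204 : List (List ℕ) :=
  [[264],
  [266],
  W (nat_lit 0x4250b)]
noncomputable def zF205 : List (List (ℕ × List ℕ)) :=
  [[(1, []),
   (0, []),
   (3, []),
   (2, [])],
  [(2, []),
   (3, []),
   (0, []),
   (1, [])]]
noncomputable def zus208 : List (List ℕ) :=
  [[260],
  [261],
  [262],
  W (nat_lit 0x41508),
  W (nat_lit 0x41509)]
noncomputable def zF209 : List (List (ℕ × List ℕ)) :=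
  [[(1, []),
   (2, []),
   (0, []),
   (5, W (nat_lit 0x4250b)),
   (3, []),
   (4, W (nat_lit 0x4250b))],
  [(3, []),
   (2, [266]),
   (5, [266]),
   (0, [264]),
   (1, []),
   (4, [])]]
noncomputable def zus212 : List (List ℕ) :=
  [[257],
  [259],
  [256],
  W (nat_lit 0x40903),
  W (nat_lit 0x40907),
  W (nat_lit 0x40508)]
noncomputable def zF213 : List (List (ℕ × List ℕ)) :=
  [[(1, W (nat_lit 0x10941508)),
   (4, []),
   (0, []),
   (5, W (nat_lit 0x41509)),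
   (2, W (nat_lit 0x42d06)),
   (3, W (nat_lit 0x42d06)),
   (6, W (nat_lit 0x10941508))],
  [(1, []),
   (2, [260]),
   (5, W (nat_lit 0x4250b41509)),
   (0, []),
   (3, W (nat_lit 0x10b41509)),
   (6, W (nat_lit 0x42507)),
   (4, W (nat_lit 0x10942d05))]]
noncomputable def zus216 : List (List ℕ) :=
  [[254],
  [255],
  W (nat_lit 0x3fcff),
  W (nat_lit 0x3fd01),
  W (nat_lit 0x3fd02),
  W (nat_lit 0x40102),
  W (nat_lit 0x3fd04)]
noncomputable def zF217 : List (List (ℕ × List ℕ)) :=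
  [[(1, []),
   (3, []),
   (0, []),
   (7, W (nat_lit 0x10942d0640907)),
   (4, W (nat_lit 0x42d01)),
   (2, W (nat_lit 0x10941508)),
   (5, W (nat_lit 0x10941d01)),
   (6, W (nat_lit 0x10b41502))],
  [(0, [256]),
   (4, []),
   (3, W (nat_lit 0x4250542102)),
   (7, W (nat_lit 0x10542104)),
   (6, W (nat_lit 0x10b40907)),
   (1, []),
   (2, []),
   (5, W (nat_lit 0x10542502))]]
noncomputable def D1_v0 : Lev :=
  ⟨5, 8, sg (W (nat_lit 0xff405013fcff)), [[258], [257]], 126, 1⟩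
noncomputable def D1_v1 : Lev :=
  ⟨6, 7, sg (W (nat_lit 0x4090340903)), [[260], [262]], 127, 2⟩
noncomputable def D1_v2 : Lev :=
  ⟨1, 6, sg (W (nat_lit 0x4150541d05)), [[264], [266]], 129, 2⟩
noncomputable def D1_v3 : Lev :=
  ⟨2, 4, sg (W (nat_lit 0x42d09)), [], 131, 0⟩
noncomputable def D1_vs4 : List Lev :=
  []
noncomputable def D1_vs3 : List Lev :=
  D1_v3 :: D1_vs4
noncomputable def D1_vs2 : List Lev :=
  D1_v2 :: D1_vs3
noncomputable def D1_vs1 : List Lev :=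
  D1_v1 :: D1_vs2
noncomputable def D1_vs : List Lev :=
  D1_v0 :: D1_vs1
noncomputable def zps221 : List (List ℕ × List ℕ) :=
  [(W (nat_lit 0x3c8f4), [241]), ([243], [240])]
noncomputable def zts224 : List (List ℕ) :=
  [W (nat_lit 0x11945d1343511),
  W (nat_lit 0x11946d1644914)]
noncomputable def zts227 : List (List ℕ) :=
  [[],
  W (nat_lit 0x10b415093fd02),
  W (nat_lit 0x10b41100),
  []]
noncomputable def zcj230 : List (List (List ℕ)) :=
  [[W (nat_lit 0x42504), W (nat_lit 0x1093fcff)],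
  [W (nat_lit 0x10b415094090340102), [256]]]
noncomputable def zcj233 : List (List (List ℕ)) :=
  [[W (nat_lit 0x42504), W (nat_lit 0x1093fcff)],
  [W (nat_lit 0x10b415094090340102), [256]]]
noncomputable def Q1_ps : List PcG :=
  [⟨[296], 2, [], [[286], [294]]⟩,
  ⟨[286], 2, [], [[294]]⟩,
  ⟨[294], 2, [], []⟩]
noncomputable def zE236 : List (ℕ × List ℕ) :=
  [(284, [294]),
  (288, [296])]
noncomputable def Q1_v0 : Lev :=
  ⟨1, 2, sg [286], [[290], [292]], 142, 2⟩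
noncomputable def Q1_v1 : Lev :=
  ⟨2, 2, sg [290], [[294]], 144, 1⟩
noncomputable def Q1_v2 : Lev :=
  ⟨3, 2, sg [294], [], 145, 0⟩
noncomputable def Q1_vs3 : List Lev :=
  []
noncomputable def Q1_vs2 : List Lev :=
  Q1_v2 :: Q1_vs3
noncomputable def Q1_vs1 : List Lev :=
  Q1_v1 :: Q1_vs2
noncomputable def Q1_vs : List Lev :=
  Q1_v0 :: Q1_vs1
noncomputable def zts241 : List (List ℕ) :=
  [W (nat_lit 0x42505421043fcff),
  W (nat_lit 0x10b4150840900),
  W (nat_lit 0x4250b4190440102)]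
noncomputable def zcj244 : List (List (List ℕ)) :=
  [[W (nat_lit 0x12748d1f), W (nat_lit 0x48d1f), [290]],
  [[286], W (nat_lit 0x12748d1f), W (nat_lit 0x49d1f)]]
noncomputable def Z1_ps : List PcG :=
  [⟨[306], 2, [], [[300], [298]]⟩,
  ⟨[300], 2, [], [[298]]⟩,
  ⟨[298], 2, [], []⟩]
noncomputable def zE247 : List (ℕ × List ℕ) :=
  [(302, [306])]
noncomputable def Z1_v0 : Lev :=
  ⟨1, 2, sg [300], [[298], [302]], 149, 0⟩
noncomputable def Z1_v1 : Lev :=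
  ⟨2, 2, sg [298], [[304]], 149, 1⟩
noncomputable def Z1_v2 : Lev :=
  ⟨3, 2, sg [304], [], 150, 0⟩
noncomputable def Z1_vs3 : List Lev :=
  []
noncomputable def Z1_vs2 : List Lev :=
  Z1_v2 :: Z1_vs3
noncomputable def Z1_vs1 : List Lev :=
  Z1_v1 :: Z1_vs2
noncomputable def Z1_vs : List Lev :=
  Z1_v0 :: Z1_vs1
noncomputable def zm252 : ℕ :=
  (nat_lit 0x841907)
noncomputable def zm253 : ℕ :=
  (nat_lit 0xa11891)
noncomputable def zm254 : ℕ :=
  (nat_lit 0x814585)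
noncomputable def cQ1_F : List (List ℕ × ℕ × ℕ) :=
  [([0], zm252, zm252),
  ([2], zm253, zm253),
  ([4], zm254, zm254)]
noncomputable def cQ1G_v0 : Lev :=
  ⟨1, 14, sg (W (nat_lit 0xff3fcff3fd01404ff)), [[308], [310]], 151, 2⟩
noncomputable def cQ1G_v1 : Lev :=
  ⟨2, 12, sg (W (nat_lit 0x1354dd354dd35)), [[312], [314], [316]], 153, 3⟩
noncomputable def cQ1G_v2 : Lev :=
  ⟨3, 8, sg (W (nat_lit 0x13d4ed39)), [], 156, 0⟩
noncomputable def cQ1G_vs3 : List Lev :=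
  []
noncomputable def cQ1G_vs2 : List Lev :=
  cQ1G_v2 :: cQ1G_vs3
noncomputable def cQ1G_vs1 : List Lev :=
  cQ1G_v1 :: cQ1G_vs2
noncomputable def cQ1G_vs : List Lev :=
  cQ1G_v0 :: cQ1G_vs1
noncomputable def cQ1_x : List (ℕ × List ℕ) :=
  [((nat_lit 0), []),
  ((nat_lit 0), []),
  ((nat_lit 0), [(nat_lit 0x214698)])]
noncomputable def cQ1_G : Gl :=
  ⟨P, ns, (app D []), (diag [[284], [286], [288]]), [], [], memM (app D []) [[298], [300], [302]], true⟩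
noncomputable def cQ1_s : St :=
  ⟨(mkS P.n cQ1G_vs cQ1_x), [[254], [256]], [], mapL Prod.snd cQ1_F, memM (app D []) [[298], [300], [302]], []⟩
noncomputable def zt258 : ST :=
  (.dif 0 1 (.dif 0 3 (.br 0 [W (nat_lit 0x1314ad2d)] [0] [(1, [])] (.cons (.dif 3 4 (.and 0 6 (.br 0 [W (nat_lit 0x4c52b)] [0] [(2, [])] (.cons (.orb 0 (.dif 0 8 (.dif 0 10 (.br 0 [[304]] [0] [(3, [])] (.cons .fnd
 .nil)))))
 .nil))))
 .nil))))
noncomputable def cC2_F : List (List ℕ × ℕ × ℕ) :=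
  []
noncomputable def cC2G_v0 : Lev :=
  ⟨1, 22, sg (W (nat_lit 0x300401004010040100c01)), [[6], [8]], 0, 2⟩
noncomputable def cC2G_v1 : Lev :=
  ⟨11, 21, sg (W (nat_lit 0x2407024070240702407)), [[330], [332]], 162, 2⟩
noncomputable def cC2G_v2 : Lev :=
  ⟨2, 20, sg (W (nat_lit 0x14b52d4d52d4b5354b)), [[334], [336], [338]], 164, 3⟩
noncomputable def cC2G_v3 : Lev :=
  ⟨8, 3, sg (W (nat_lit 0x53d4f)), [[340], [342], [344], [346]], 167, 4⟩
noncomputable def cC2G_v4 : Lev :=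
  ⟨3, 16, sg (W (nat_lit 0x56d5955d55)), [], 171, 0⟩
noncomputable def cC2G_vs5 : List Lev :=
  []
noncomputable def cC2G_vs4 : List Lev :=
  cC2G_v4 :: cC2G_vs5
noncomputable def cC2G_vs3 : List Lev :=
  cC2G_v3 :: cC2G_vs4
noncomputable def cC2G_vs2 : List Lev :=
  cC2G_v2 :: cC2G_vs3
noncomputable def cC2G_vs1 : List Lev :=
  cC2G_v1 :: cC2G_vs2
noncomputable def cC2G_vs : List Lev :=
  cC2G_v0 :: cC2G_vs1
noncomputable def cC2_x : List (ℕ × List ℕ) :=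
  [((nat_lit 0x400000000000000000000000000000000000000001), [(nat_lit 0x7ffffe)]),
  ((nat_lit 0x400000000000000000000000000000000000000008), []),
  ((nat_lit 0x4e00000000000000000000000000000000000000000), [(nat_lit 0x7ff7fc)]),
  ((nat_lit 0x800000000000000000000000000000000000000000), [(nat_lit 0x41100)]),
  ((nat_lit 0x3c000000000000000000000000000000000000000000), [(nat_lit 0x7be6f8)]),
  ((nat_lit 0), [(nat_lit 0x200000),
   (nat_lit 0x20),
   (nat_lit 0x100000)])]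
noncomputable def cC2_G : Gl :=
  ⟨P, ns, (app D []), (diag [[138]]), [], [], memM (app D []) [[318], [320]], true⟩
noncomputable def cC2_s : St :=
  ⟨(mkS P.n cC2G_vs cC2_x), [[0], [2]], [], mapL Prod.snd cC2_F, memM (app D []) [[318], [320]], []⟩
noncomputable def zt265 : ST :=
  (.orb 0 (.br 0 [W (nat_lit 0x14551d4950944), W (nat_lit 0x14551d435253f)] (W (nat_lit 0x4030040300403)) [(2, W (nat_lit 0x94e)), (1, [])] (.cons (.img [0] 0 (.br 0 [] [] [(8, W (nat_lit 0x1d4d))] (.cons (.orb 0 (.br 0 [W (nat_lit 0x1455254250d43), W (nat_lit 0x14752542)] (W (nat_lit 0x100c0100c0100c01)) [(1, W (nat_lit 0x53555))] (.cons (.img [0] 0 (.br 0 [] [] [(11, [335])] (.cons (.orb 0 (.br 0 [[326], W (nat_lit 0x51549), W (nat_lit 0x51d49)] (W (nat_lit 0x500c01)) [(3, []), (6, W (nat_lit 0x5555b))] (.cons (.orb 2 (.img [0] 1 (.dif 1 0 (.mis 0))))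
 (.cons (.img [0] 0 (.orb 0 (.and 1 0 (.mis 0))))
 .nil))))
 .nil)))
 .nil)))
 .nil)))
 (.cons (.img [0] 0 (.br 0 [] [] [(11, [])] (.cons (.orb 0 (.br 0 [W (nat_lit 0x51547), W (nat_lit 0x14250d3f)] (W (nat_lit 0xc030040300403)) [(3, W (nat_lit 0x53150)), (12, W (nat_lit 0x14b52d4d)), (2, [])] (.cons (.img [0] 0 (.orb 0 (.and 1 0 (.mis 0))))
 (.cons (.img [0] 0 (.br 0 [] [] [(18, [])] (.cons (.orb 0 (.br 0 [[328], W (nat_lit 0x51547), [324]] (W (nat_lit 0x500c01)) [(3, W (nat_lit 0x1575655b)), (6, W (nat_lit 0x55d59))] (.cons (.img [0] 0 (.orb 1 (.and 1 0 (.mis 0))))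
 (.cons (.orb 0 (.img [0] 0 (.and 2 0 (.mis 0))))
 .nil))))
 .nil)))
 (.cons (.img [0] 0 (.br 0 [] [] [(8, [])] (.cons (.orb 0 (.br 0 [[328], W (nat_lit 0x51547), W (nat_lit 0x51d49)] (W (nat_lit 0x500c01)) [(6, W (nat_lit 0x55d5b)), (3, [])] (.cons (.img [0] 0 (.orb 0 (.and 1 0 (.mis 0))))
 (.cons .fnd
 .nil))))
 .nil)))
 .nil)))))
 .nil)))
 .nil))))
noncomputable def D2_ps : List PcG :=
  [⟨[348], 5, [], [[358], [360], [354], W (nat_lit 0x58d6959d65)]⟩,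
  ⟨[356], 2, [], [[358], [360], [354]]⟩,
  ⟨[358], 2, [], [[360], [354]]⟩,
  ⟨[360], 2, [], [[354]]⟩,
  ⟨[354], 2, [], []⟩]
noncomputable def zE269 : List (ℕ × List ℕ) :=
  [(350, W (nat_lit 0x1635a55d))]
noncomputable def D2_v0 : Lev :=
  ⟨1, 20, sg (W (nat_lit 0x15d5755d5755f5755d57d5d)), [[352], [354]], 173, 2⟩
noncomputable def D2_v1 : Lev :=
  ⟨3, 4, sg (W (nat_lit 0x58d61)), [], 175, 0⟩
noncomputable def D2_vs2 : List Lev :=
  []
noncomputable def D2_vs1 : List Lev :=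
  D2_v1 :: D2_vs2
noncomputable def D2_vs : List Lev :=
  D2_v0 :: D2_vs1
noncomputable def zps274 : List (List ℕ × List ℕ) :=
  [(W (nat_lit 0x50141), W (nat_lit 0x4fd41)), ([320], [319])]
noncomputable def zts277 : List (List ℕ) :=
  [W (nat_lit 0x5c56c),
  W (nat_lit 0x5b16f)]
noncomputable def zts280 : List (List ℕ) :=
  [[],
  W (nat_lit 0x58d5d57d5f),
  W (nat_lit 0x1615755f),
  []]
noncomputable def zcj283 : List (List (List ℕ)) :=
  [[W (nat_lit 0x58d5d57d63), W (nat_lit 0x1615755d)],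
  [W (nat_lit 0x5856357963), W (nat_lit 0x58d5e)]]
noncomputable def zcj286 : List (List (List ℕ)) :=
  [[W (nat_lit 0x58d5d57d63), W (nat_lit 0x1615755d)],
  [W (nat_lit 0x5856357963), W (nat_lit 0x58d5e)]]
noncomputable def Q2_ps : List PcG :=
  [⟨[376], 2, [], [[382], [372], [370]]⟩,
  ⟨[382], 2, [], [[372], [370]]⟩,
  ⟨[372], 2, [], [[370]]⟩,
  ⟨[370], 2, [], []⟩]
noncomputable def zE289 : List (ℕ × List ℕ) :=
  [(374, [382])]
noncomputable def Q2_v0 : Lev :=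
  ⟨1, 4, sg (W (nat_lit 0x5d573)), [[378], [380]], 186, 2⟩
noncomputable def Q2_v1 : Lev :=
  ⟨3, 4, sg (W (nat_lit 0x5f57b)), [], 188, 0⟩
noncomputable def Q2_vs2 : List Lev :=
  []
noncomputable def Q2_vs1 : List Lev :=
  Q2_v1 :: Q2_vs2
noncomputable def Q2_vs : List Lev :=
  Q2_v0 :: Q2_vs1
noncomputable def zts294 : List (List ℕ) :=
  [W (nat_lit 0x57560),
  W (nat_lit 0x585635795f),
  W (nat_lit 0x16357560),
  W (nat_lit 0x58d5d58560)]
noncomputable def zcj297 : List (List (List ℕ)) :=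
  [[W (nat_lit 0x5ed73), W (nat_lit 0x5f575), [380], W (nat_lit 0x5f573)],
  [W (nat_lit 0x5ed73), W (nat_lit 0x5f575), [380], W (nat_lit 0x5f573)]]
noncomputable def Z2_ps : List PcG :=
  [⟨[390], 2, [], [[396], [386], [384]]⟩,
  ⟨[396], 2, [], [[386], [384]]⟩,
  ⟨[386], 2, [], [[384]]⟩,
  ⟨[384], 2, [], []⟩]
noncomputable def zE300 : List (ℕ × List ℕ) :=
  [(388, [396])]
noncomputable def Z2_v0 : Lev :=
  ⟨1, 4, sg (W (nat_lit 0x60d81)), [[392], [394]], 193, 2⟩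
noncomputable def Z2_v1 : Lev :=
  ⟨3, 4, sg (W (nat_lit 0x62d89)), [], 195, 0⟩
noncomputable def Z2_vs2 : List Lev :=
  []
noncomputable def Z2_vs1 : List Lev :=
  Z2_v1 :: Z2_vs2
noncomputable def Z2_vs : List Lev :=
  Z2_v0 :: Z2_vs1
noncomputable def zm305 : ℕ :=
  (nat_lit 0xc28145)
noncomputable def zm306 : ℕ :=
  (nat_lit 0x982125)
noncomputable def cQ2_F : List (List ℕ × ℕ × ℕ) :=
  [([0], zm305, zm305),
  ([4], zm306, zm306)]
noncomputable def cQ2G_v0 : Lev :=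
  ⟨5, 20, sg (W (nat_lit 0x15d5755f57d5d57d5d)), [[398], [400]], 196, 2⟩
noncomputable def cQ2G_v1 : Lev :=
  ⟨1, 4, sg (W (nat_lit 0x6458f)), [], 198, 0⟩
noncomputable def cQ2G_vs2 : List Lev :=
  []
noncomputable def cQ2G_vs1 : List Lev :=
  cQ2G_v1 :: cQ2G_vs2
noncomputable def cQ2G_vs : List Lev :=
  cQ2G_v0 :: cQ2G_vs1
noncomputable def cQ2_x : List (ℕ × List ℕ) :=
  [((nat_lit 0), [])]
noncomputable def zE310 : List (ℕ × List ℕ) :=
  [(398, W (nat_lit 0x18962d81)),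
  (400, W (nat_lit 0x62587))]
noncomputable def cQ2_G : Gl :=
  ⟨P, ns, (app D zE310), (diag [[370], [372], [374], [376]]), [], [], memM (app D zE310) [[384], [386], [388], [390]], true⟩
noncomputable def cQ2_s : St :=
  ⟨(mkS P.n cQ2G_vs cQ2_x), [[348], [350]], [], mapL Prod.snd cQ2_F, memM (app D zE310) [[384], [386], [388], [390]], []⟩
noncomputable def zt312 : ST :=
  (.dif 1 0 (.br 0 [W (nat_lit 0x62d87), [394]] (W (nat_lit 0xc01)) [(5, [])] (.cons .fnd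
 .nil)))

theorem zb2 : schB D [[20], [16], [22], [24]] [] zus0 zF1 16 = true := by decide +kernel
theorem zr3 : chk (schR [[20], [16], [22], [24]] zus0 zF1) = true := by decide +kernel
theorem zb7 : bnd (pcB D [[20], [16], [22], [24]] 3 zt5 zcj6) (leB (app D zE4) [[14], [16], [18]] ([18] :: [[20], [16], [22], [24]])) = true := by decide +kernel
theorem zr8 : chk (pcR [[20], [16], [22], [24]] [18] 3 zt5 zcj6) = true := by decide +kernel
theorem zr9 : chk (defRels zE4) = true := by decide +kernel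
theorem zb12 : schB D [[10], [12]] [[14], [16], [18]] zus10 zF11 20 = true := by decide +kernel
theorem zr13 : chk (schR [[10], [12]] zus10 zF11) = true := by decide +kernel
theorem zb16 : schB D [[6], [8]] [[10], [12]] zus14 zF15 21 = true := by decide +kernel
theorem zr17 : chk (schR [[6], [8]] zus14 zF15) = true := by decide +kernel
theorem zb20 : schB D [[0], [2]] [[6], [8]] zus18 zF19 22 = true := by decide +kernel
theorem zr21 : chk (schR [[0], [2]] zus18 zF19) = true := by decide +kernel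
theorem zc22 : P.chainB ns D GM_vs [[0], [2]] = true := by decide +kernel
theorem zb25 : schB D [[20], [16], [22], [24]] [] zus23 zF24 16 = true := by decide +kernel
theorem zr26 : chk (schR [[20], [16], [22], [24]] zus23 zF24) = true := by decide +kernel
theorem zb30 : bnd (pcB D [[20], [16], [22], [24]] 3 zt28 zcj29) (leB (app D zE27) [[14], [16], [18]] ([18] :: [[20], [16], [22], [24]])) = true := by decide +kernel
theorem zr31 : chk (pcR [[20], [16], [22], [24]] [18] 3 zt28 zcj29) = true := by decide +kernel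
theorem zr32 : chk (defRels zE27) = true := by decide +kernel
theorem zb35 : schB D [[10], [12]] [[14], [16], [18]] zus33 zF34 20 = true := by decide +kernel
theorem zr36 : chk (schR [[10], [12]] zus33 zF34) = true := by decide +kernel
theorem zb39 : schB D [[6], [8]] [[10], [12]] zus37 zF38 21 = true := by decide +kernel
theorem zr40 : chk (schR [[6], [8]] zus37 zF38) = true := by decide +kernel
theorem zb43 : schB D [[0], [2]] [[6], [8]] zus41 zF42 22 = true := by decide +kernel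
theorem zr44 : chk (schR [[0], [2]] zus41 zF42) = true := by decide +kernel
theorem zb47 : bnd (pcB D [[0], [2]] 2 zt45 zcj46) (leB (app D []) [[0], [2], [4]] ([4] :: [[0], [2]])) = true := by decide +kernel
theorem zr48 : chk (pcR [[0], [2]] [4] 2 zt45 zcj46) = true := by decide +kernel
theorem zc49 : P.chainB ns D GA_vs [[0], [2], [4]] = true := by decide +kernel
theorem zf53 : P.fixXB ns (diag [[0], [2]]) cL_F = true := by decide +kernel
theorem zc54 : P.chainB ns D cLG_vs [[0], [2], [4]] = true := by decide +kernel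
theorem zs55 : ssB P.N ns D (mkS P.n cLG_vs cL_x) [[0], [2], [4]] = true := by decide +kernel
theorem zs57 : cL_G.chk zt56 cL_s none = true := by decide +kernel
theorem zr58 : chk (comR [] (mapL Prod.snd (diag [[0], [2]]))) = true := by decide +kernel
theorem zm59 : leB D [] [[0], [2], [4]] = true := by decide +kernel
theorem zr61 : chk (pcsR S_ps []) = true := by decide +kernel
theorem zr62 : chk (defRels zE60) = true := by decide +kernel
theorem zb63 : bnd (pcsB D S_ps []) (leB (app D zE60) [[42], [44], [46]] (pcGens S_ps [])) = true := by decide +kernel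
theorem zc64 : P.chainB ns D S_vs [[42], [44], [46]] = true := by decide +kernel
theorem zm66 : leB D zts65 [[0], [2]] = true := by decide +kernel
theorem zr67 : chk (zp [] [[42], [44], [46]] zts65) = true := by decide +kernel
theorem zf70 : P.fixXB ns (diag [[42], [44], [46]]) cS_F = true := by decide +kernel
theorem zc71 : P.chainB ns D cSG_vs [[0], [2], [4]] = true := by decide +kernel
theorem zs72 : ssB P.N ns D (mkS P.n cSG_vs cS_x) [[0], [2], [4]] = true := by decide +kernel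
theorem zs74 : cS_G.chk zt73 cS_s none = true := by decide +kernel
theorem zr75 : chk (comR [[74]] (mapL Prod.snd (diag [[42], [44], [46]]))) = true := by decide +kernel
theorem zm76 : leB D [[74]] [[0], [2], [4]] = true := by decide +kernel
theorem zm78 : leB D zts77 [[0], [2]] = true := by decide +kernel
theorem zr79 : chk (zp [] [[74]] zts77) = true := by decide +kernel
theorem zc80 : P.chainB ns D T_vs [[96], [98], [100], [102], [104], [106], [108], [110]] = true := by decide +kernel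
theorem zr81 : chk (pcsR T_ps []) = true := by decide +kernel
theorem zb82 : bnd (pcsB D T_ps []) (leB (app D []) [[96], [98], [100], [102], [104], [106], [108], [110]] (pcGens T_ps [])) = true := by decide +kernel
theorem zq83 : cvN 2 [96] [[]] v0_E = v0_R := by decide +kernel
theorem zr84 : chk (cvR 2 2 [96] [[]] v0_E) = true := by decide +kernel
theorem zb85 : cvB D [[96], [98], [100], [102], [104], [106], [108], [110]] [[98], [100], [102], [104], [106], [108], [110]] 2 [96] [[]] v0_E = true := by decide +kernel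
theorem zm87 : leB D zts86 [[0], [2], [4]] = true := by decide +kernel
theorem zr88 : chk (zp [] [[96], [98], [100], [102], [104], [106], [108], [110]] zts86) = true := by decide +kernel
theorem zm90 : nrmB D [[96], [98], [100], [102], [104], [106], [108], [110]] [[98], [100], [102], [104], [106], [108], [110]] zcj89 = true := by decide +kernel
theorem zr91 : chk (nrmR [[96], [98], [100], [102], [104], [106], [108], [110]] [[98], [100], [102], [104], [106], [108], [110]] zcj89) = true := by decide +kernel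
theorem zm92 : leB D [[98], [100], [102], [104], [106], [108], [110]] [[96], [98], [100], [102], [104], [106], [108], [110]] = true := by decide +kernel
theorem zq93 : cvN 2 [98] v0_R v1_E = v1_R := by decide +kernel
theorem zr94 : chk (cvR 2 2 [98] v0_R v1_E) = true := by decide +kernel
theorem zb95 : cvB D [[96], [98], [100], [102], [104], [106], [108], [110]] [[100], [102], [104], [106], [108], [110]] 2 [98] v0_R v1_E = true := by decide +kernel
theorem zm97 : nrmB D [[96], [98], [100], [102], [104], [106], [108], [110]] [[100], [102], [104], [106], [108], [110]] zcj96 = true := by decide +kernel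
theorem zr98 : chk (nrmR [[96], [98], [100], [102], [104], [106], [108], [110]] [[100], [102], [104], [106], [108], [110]] zcj96) = true := by decide +kernel
theorem zm99 : leB D [[100], [102], [104], [106], [108], [110]] [[96], [98], [100], [102], [104], [106], [108], [110]] = true := by decide +kernel
theorem zq100 : cvN 2 [100] v1_R v2_E = v2_R := by decide +kernel
theorem zr101 : chk (cvR 2 2 [100] v1_R v2_E) = true := by decide +kernel
theorem zb102 : cvB D [[96], [98], [100], [102], [104], [106], [108], [110]] [[102], [104], [106], [108], [110]] 2 [100] v1_R v2_E = true := by decide +kernel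
theorem zm104 : nrmB D [[96], [98], [100], [102], [104], [106], [108], [110]] [[102], [104], [106], [108], [110]] zcj103 = true := by decide +kernel
theorem zr105 : chk (nrmR [[96], [98], [100], [102], [104], [106], [108], [110]] [[102], [104], [106], [108], [110]] zcj103) = true := by decide +kernel
theorem zm106 : leB D [[102], [104], [106], [108], [110]] [[96], [98], [100], [102], [104], [106], [108], [110]] = true := by decide +kernel
theorem zq107 : cvN 2 [102] v2_R v3_E = v3_R := by decide +kernel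
theorem zr108 : chk (cvR 2 2 [102] v2_R v3_E) = true := by decide +kernel
theorem zb109 : cvB D [[96], [98], [100], [102], [104], [106], [108], [110]] [[104], [106], [108], [110]] 2 [102] v2_R v3_E = true := by decide +kernel
theorem zm111 : nrmB D [[96], [98], [100], [102], [104], [106], [108], [110]] [[104], [106], [108], [110]] zcj110 = true := by decide +kernel
theorem zr112 : chk (nrmR [[96], [98], [100], [102], [104], [106], [108], [110]] [[104], [106], [108], [110]] zcj110) = true := by decide +kernel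
theorem zm113 : leB D [[104], [106], [108], [110]] [[96], [98], [100], [102], [104], [106], [108], [110]] = true := by decide +kernel
theorem zq114 : cvN 2 [104] v3_R v4_E = v4_R := by decide +kernel
theorem zr115 : chk (cvR 2 2 [104] v3_R v4_E) = true := by decide +kernel
theorem zb116 : cvB D [[96], [98], [100], [102], [104], [106], [108], [110]] [[106], [108], [110]] 2 [104] v3_R v4_E = true := by decide +kernel
theorem zm118 : nrmB D [[96], [98], [100], [102], [104], [106], [108], [110]] [[106], [108], [110]] zcj117 = true := by decide +kernel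
theorem zr119 : chk (nrmR [[96], [98], [100], [102], [104], [106], [108], [110]] [[106], [108], [110]] zcj117) = true := by decide +kernel
theorem zm120 : leB D [[106], [108], [110]] [[96], [98], [100], [102], [104], [106], [108], [110]] = true := by decide +kernel
theorem zq121 : cvN 2 [106] v4_R v5_E = v5_R := by decide +kernel
theorem zr122 : chk (cvR 2 2 [106] v4_R v5_E) = true := by decide +kernel
theorem zb123 : cvB D [[96], [98], [100], [102], [104], [106], [108], [110]] [[108], [110]] 2 [106] v4_R v5_E = true := by decide +kernel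
theorem zm125 : nrmB D [[96], [98], [100], [102], [104], [106], [108], [110]] [[108], [110]] zcj124 = true := by decide +kernel
theorem zr126 : chk (nrmR [[96], [98], [100], [102], [104], [106], [108], [110]] [[108], [110]] zcj124) = true := by decide +kernel
theorem zm127 : leB D [[108], [110]] [[96], [98], [100], [102], [104], [106], [108], [110]] = true := by decide +kernel
theorem zq128 : cvN 2 [108] v5_R v6_E = v6_R := by decide +kernel
theorem zr129 : chk (cvR 2 2 [108] v5_R v6_E) = true := by decide +kernel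
theorem zb130 : cvB D [[96], [98], [100], [102], [104], [106], [108], [110]] [[110]] 2 [108] v5_R v6_E = true := by decide +kernel
theorem zm132 : nrmB D [[96], [98], [100], [102], [104], [106], [108], [110]] [[110]] zcj131 = true := by decide +kernel
theorem zr133 : chk (nrmR [[96], [98], [100], [102], [104], [106], [108], [110]] [[110]] zcj131) = true := by decide +kernel
theorem zm134 : leB D [[110]] [[96], [98], [100], [102], [104], [106], [108], [110]] = true := by decide +kernel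
theorem zq135 : cvN 2 [110] v6_R v7_E = v7_R := by decide +kernel
theorem zr136 : chk (cvR 2 2 [110] v6_R v7_E) = true := by decide +kernel
theorem zb137 : cvB D [[96], [98], [100], [102], [104], [106], [108], [110]] [] 2 [110] v6_R v7_E = true := by decide +kernel
theorem zr138 : chk (fuR v7_R v8_R v8_F) = true := by decide +kernel
theorem zb139 : fuB D [[0], [2], [4]] [] v7_R v8_R v8_F = true := by decide +kernel
theorem zm140 : leB D [[0], [2], [4]] [[0], [2], [4]] = true := by decide +kernel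
theorem zm142 : leB D zts141 [[0], [2], [4]] = true := by decide +kernel
theorem zr143 : chk (zp [] [[96], [98], [100], [102], [104], [106], [108], [110]] zts141) = true := by decide +kernel
theorem zf145 : P.fixXB ns (diag [[134]]) cC0_F = true := by decide +kernel
theorem zc146 : P.chainB ns D cC0G_vs [[0], [2]] = true := by decide +kernel
theorem zs147 : ssB P.N ns D (mkS P.n cC0G_vs cC0_x) [[0], [2]] = true := by decide +kernel
theorem zs149 : cC0_G.chk zt148 cC0_s none = true := by decide +kernel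
theorem zr150 : chk (comR [[140], [142]] (mapL Prod.snd (diag [[134]]))) = true := by decide +kernel
theorem zm151 : leB D [[140], [142]] [[0], [2]] = true := by decide +kernel
theorem zr153 : chk (pcsR D0_ps []) = true := by decide +kernel
theorem zr154 : chk (defRels zE152) = true := by decide +kernel
theorem zb155 : bnd (pcsB D D0_ps []) (leB (app D zE152) [[168], [170], [172]] (pcGens D0_ps [])) = true := by decide +kernel
theorem zc156 : P.chainB ns D D0_vs [[168], [170], [172]] = true := by decide +kernel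
theorem zm158 : bnd (leB D (mapL Prod.fst zps157) [[140], [142]]) (leB D (mapL Prod.snd zps157) [[140], [142]]) = true := by decide +kernel
theorem zr159 : chk (zp [] [[196], [198], [200]] (mapL comW zps157)) = true := by decide +kernel
theorem zm161 : leB D zts160 [[196], [198], [200]] = true := by decide +kernel
theorem zr162 : chk (zp [] [[168], [170], [172]] zts160) = true := by decide +kernel
theorem zm164 : leB D zts163 [[168], [170], [172]] = true := by decide +kernel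
theorem zr165 : chk (zp [] (comWs [[140], [142]] [[140], [142]]) zts163) = true := by decide +kernel
theorem zm167 : nrmB D [[140], [142]] [[168], [170], [172]] zcj166 = true := by decide +kernel
theorem zr168 : chk (nrmR [[140], [142]] [[168], [170], [172]] zcj166) = true := by decide +kernel
theorem zm170 : nrmB D [[140], [142]] [[168], [170], [172]] zcj169 = true := by decide +kernel
theorem zr171 : chk (nrmR [[140], [142]] [[168], [170], [172]] zcj169) = true := by decide +kernel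
theorem zr173 : chk (pcsR Q0_ps []) = true := by decide +kernel
theorem zr174 : chk (defRels zE172) = true := by decide +kernel
theorem zb175 : bnd (pcsB D Q0_ps []) (leB (app D zE172) [[214], [216], [218], [220]] (pcGens Q0_ps [])) = true := by decide +kernel
theorem zc176 : P.chainB ns D Q0_vs [[214], [216], [218], [220]] = true := by decide +kernel
theorem zm178 : leB D zts177 [[168], [170], [172]] = true := by decide +kernel
theorem zr179 : chk (zp [] [[214], [216], [218], [220]] zts177) = true := by decide +kernel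
theorem zm181 : nrmB D [[168], [170], [172]] [[214], [216], [218], [220]] zcj180 = true := by decide +kernel
theorem zr182 : chk (nrmR [[168], [170], [172]] [[214], [216], [218], [220]] zcj180) = true := by decide +kernel
theorem zr183 : chk (pcsR Z0_ps []) = true := by decide +kernel
theorem zb184 : bnd (pcsB D Z0_ps []) (leB (app D []) [[184]] (pcGens Z0_ps [])) = true := by decide +kernel
theorem zc185 : P.chainB ns D Z0_vs [[184]] = true := by decide +kernel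
theorem zf189 : P.fixXB ns (diag [[214], [216], [218], [220]]) cQ0_F = true := by decide +kernel
theorem zc190 : P.chainB ns D cQ0G_vs [[168], [170], [172]] = true := by decide +kernel
theorem zs191 : ssB P.N ns D (mkS P.n cQ0G_vs cQ0_x) [[168], [170], [172]] = true := by decide +kernel
theorem zs193 : cQ0_G.chk zt192 cQ0_s none = true := by decide +kernel
theorem zr194 : chk (comR [[184]] (mapL Prod.snd (diag [[214], [216], [218], [220]]))) = true := by decide +kernel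
theorem zm195 : leB D [[184]] [[168], [170], [172]] = true := by decide +kernel
theorem zf197 : P.fixXB ns (diag [[136]]) cC1_F = true := by decide +kernel
theorem zc198 : P.chainB ns D cC1G_vs [[0], [2]] = true := by decide +kernel
theorem zs199 : ssB P.N ns D (mkS P.n cC1G_vs cC1_x) [[0], [2]] = true := by decide +kernel
theorem zs201 : cC1_G.chk zt200 cC1_s none = true := by decide +kernel
theorem zr202 : chk (comR [[240], [242]] (mapL Prod.snd (diag [[136]]))) = true := by decide +kernel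
theorem zm203 : leB D [[240], [242]] [[0], [2]] = true := by decide +kernel
theorem zb206 : schB D [[264], [266]] [] zus204 zF205 4 = true := by decide +kernel
theorem zr207 : chk (schR [[264], [266]] zus204 zF205) = true := by decide +kernel
theorem zb210 : schB D [[260], [262]] [[264], [266]] zus208 zF209 6 = true := by decide +kernel
theorem zr211 : chk (schR [[260], [262]] zus208 zF209) = true := by decide +kernel
theorem zb214 : schB D [[258], [257]] [[260], [262]] zus212 zF213 7 = true := by decide +kernel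
theorem zr215 : chk (schR [[258], [257]] zus212 zF213) = true := by decide +kernel
theorem zb218 : schB D [[254], [256]] [[258], [257]] zus216 zF217 8 = true := by decide +kernel
theorem zr219 : chk (schR [[254], [256]] zus216 zF217) = true := by decide +kernel
theorem zc220 : P.chainB ns D D1_vs [[254], [256]] = true := by decide +kernel
theorem zm222 : bnd (leB D (mapL Prod.fst zps221) [[240], [242]]) (leB D (mapL Prod.snd zps221) [[240], [242]]) = true := by decide +kernel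
theorem zr223 : chk (zp [] [[268], [270]] (mapL comW zps221)) = true := by decide +kernel
theorem zm225 : leB D zts224 [[268], [270]] = true := by decide +kernel
theorem zr226 : chk (zp [] [[254], [256]] zts224) = true := by decide +kernel
theorem zm228 : leB D zts227 [[254], [256]] = true := by decide +kernel
theorem zr229 : chk (zp [] (comWs [[240], [242]] [[240], [242]]) zts227) = true := by decide +kernel
theorem zm231 : nrmB D [[240], [242]] [[254], [256]] zcj230 = true := by decide +kernel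
theorem zr232 : chk (nrmR [[240], [242]] [[254], [256]] zcj230) = true := by decide +kernel
theorem zm234 : nrmB D [[240], [242]] [[254], [256]] zcj233 = true := by decide +kernel
theorem zr235 : chk (nrmR [[240], [242]] [[254], [256]] zcj233) = true := by decide +kernel
theorem zr237 : chk (pcsR Q1_ps []) = true := by decide +kernel
theorem zr238 : chk (defRels zE236) = true := by decide +kernel
theorem zb239 : bnd (pcsB D Q1_ps []) (leB (app D zE236) [[284], [286], [288]] (pcGens Q1_ps [])) = true := by decide +kernel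
theorem zc240 : P.chainB ns D Q1_vs [[284], [286], [288]] = true := by decide +kernel
theorem zm242 : leB D zts241 [[254], [256]] = true := by decide +kernel
theorem zr243 : chk (zp [] [[284], [286], [288]] zts241) = true := by decide +kernel
theorem zm245 : nrmB D [[254], [256]] [[284], [286], [288]] zcj244 = true := by decide +kernel
theorem zr246 : chk (nrmR [[254], [256]] [[284], [286], [288]] zcj244) = true := by decide +kernel
theorem zr248 : chk (pcsR Z1_ps []) = true := by decide +kernel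
theorem zr249 : chk (defRels zE247) = true := by decide +kernel
theorem zb250 : bnd (pcsB D Z1_ps []) (leB (app D zE247) [[298], [300], [302]] (pcGens Z1_ps [])) = true := by decide +kernel
theorem zc251 : P.chainB ns D Z1_vs [[298], [300], [302]] = true := by decide +kernel
theorem zf255 : P.fixXB ns (diag [[284], [286], [288]]) cQ1_F = true := by decide +kernel
theorem zc256 : P.chainB ns D cQ1G_vs [[254], [256]] = true := by decide +kernel
theorem zs257 : ssB P.N ns D (mkS P.n cQ1G_vs cQ1_x) [[254], [256]] = true := by decide +kernel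
theorem zs259 : cQ1_G.chk zt258 cQ1_s none = true := by decide +kernel
theorem zr260 : chk (comR [[298], [300], [302]] (mapL Prod.snd (diag [[284], [286], [288]]))) = true := by decide +kernel
theorem zm261 : leB D [[298], [300], [302]] [[254], [256]] = true := by decide +kernel
theorem zf262 : P.fixXB ns (diag [[138]]) cC2_F = true := by decide +kernel
theorem zc263 : P.chainB ns D cC2G_vs [[0], [2]] = true := by decide +kernel
theorem zs264 : ssB P.N ns D (mkS P.n cC2G_vs cC2_x) [[0], [2]] = true := by decide +kernel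
theorem zs266 : cC2_G.chk zt265 cC2_s none = true := by decide +kernel
theorem zr267 : chk (comR [[318], [320]] (mapL Prod.snd (diag [[138]]))) = true := by decide +kernel
theorem zm268 : leB D [[318], [320]] [[0], [2]] = true := by decide +kernel
theorem zr270 : chk (pcsR D2_ps []) = true := by decide +kernel
theorem zr271 : chk (defRels zE269) = true := by decide +kernel
theorem zb272 : bnd (pcsB D D2_ps []) (leB (app D zE269) [[348], [350]] (pcGens D2_ps [])) = true := by decide +kernel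
theorem zc273 : P.chainB ns D D2_vs [[348], [350]] = true := by decide +kernel
theorem zm275 : bnd (leB D (mapL Prod.fst zps274) [[318], [320]]) (leB D (mapL Prod.snd zps274) [[318], [320]]) = true := by decide +kernel
theorem zr276 : chk (zp [] [[362], [364]] (mapL comW zps274)) = true := by decide +kernel
theorem zm278 : leB D zts277 [[362], [364]] = true := by decide +kernel
theorem zr279 : chk (zp [] [[348], [350]] zts277) = true := by decide +kernel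
theorem zm281 : leB D zts280 [[348], [350]] = true := by decide +kernel
theorem zr282 : chk (zp [] (comWs [[318], [320]] [[318], [320]]) zts280) = true := by decide +kernel
theorem zm284 : nrmB D [[318], [320]] [[348], [350]] zcj283 = true := by decide +kernel
theorem zr285 : chk (nrmR [[318], [320]] [[348], [350]] zcj283) = true := by decide +kernel
theorem zm287 : nrmB D [[318], [320]] [[348], [350]] zcj286 = true := by decide +kernel
theorem zr288 : chk (nrmR [[318], [320]] [[348], [350]] zcj286) = true := by decide +kernel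
theorem zr290 : chk (pcsR Q2_ps []) = true := by decide +kernel
theorem zr291 : chk (defRels zE289) = true := by decide +kernel
theorem zb292 : bnd (pcsB D Q2_ps []) (leB (app D zE289) [[370], [372], [374], [376]] (pcGens Q2_ps [])) = true := by decide +kernel
theorem zc293 : P.chainB ns D Q2_vs [[370], [372], [374], [376]] = true := by decide +kernel
theorem zm295 : leB D zts294 [[348], [350]] = true := by decide +kernel
theorem zr296 : chk (zp [] [[370], [372], [374], [376]] zts294) = true := by decide +kernel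
theorem zm298 : nrmB D [[348], [350]] [[370], [372], [374], [376]] zcj297 = true := by decide +kernel
theorem zr299 : chk (nrmR [[348], [350]] [[370], [372], [374], [376]] zcj297) = true := by decide +kernel
theorem zr301 : chk (pcsR Z2_ps []) = true := by decide +kernel
theorem zr302 : chk (defRels zE300) = true := by decide +kernel
theorem zb303 : bnd (pcsB D Z2_ps []) (leB (app D zE300) [[384], [386], [388], [390]] (pcGens Z2_ps [])) = true := by decide +kernel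
theorem zc304 : P.chainB ns D Z2_vs [[384], [386], [388], [390]] = true := by decide +kernel
theorem zf307 : P.fixXB ns (diag [[370], [372], [374], [376]]) cQ2_F = true := by decide +kernel
theorem zc308 : P.chainB ns D cQ2G_vs [[348], [350]] = true := by decide +kernel
theorem zs309 : ssB P.N ns D (mkS P.n cQ2G_vs cQ2_x) [[348], [350]] = true := by decide +kernel
theorem zr311 : chk (defRels zE310) = true := by decide +kernel
theorem zs313 : cQ2_G.chk zt312 cQ2_s none = true := by decide +kernel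
theorem zr314 : chk (comR [[384], [386], [388], [390]] (mapL Prod.snd (diag [[370], [372], [374], [376]]))) = true := by decide +kernel
theorem zm315 : leB D [[384], [386], [388], [390]] [[348], [350]] = true := by decide +kernel
theorem zm316 : leB D [[0], [2]] [[0], [2], [4]] = true := by decide +kernel
theorem zk317 : allL (keepB P.n P.N) ns0 = true := by decide +kernel
theorem ze318 : extB ns0 ns 3 ws [] = true := by decide +kernel
theorem zn319 : P.netsB ns (mkDefs ws 3) = true := by decide +kernel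

variable {G X : Type*} [Group G] [MulAction G X] {e : ℕ → X} {gs : List G}

theorem keep0 : allL (keepB P.n P.N) ns0 = true := zk317

theorem len {k} (c : Ctx P e gs ns0 [] k) : gs.length = 3 := c.len ze318

theorem ctx0 {k} (c : Ctx P e gs ns0 [] k) : Ctx P e (ext gs ws) ns D chk0 :=
  c.ext rfl ze318 zn319

theorem ctx {k} (c : Ctx P e gs ns0 [] k) {H : Subgroup G} (hF : Faithful e P.n H) (hH : ∀ g ∈ gs, g ∈ H) :
    Ctx P e (ext gs ws) ns D chk :=
  (ctx0 c).withB hF (mem_of_mem_ext hH _)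

theorem GM_u4 (c : Ctx P e gs ns D chk) :
    UB (subW gs [[20], [16], [22], [24]]) 16 :=
  (c.sch_step (UB.nil gs)
    (c.rels _ zr3) zb2).le (by decide)

theorem GM_u3 (c : Ctx P e gs ns D chk) :
    UB (subW gs [[14], [16], [18]]) 48 :=
  (c.pc_step (GM_u4 c) (c.rels _ zr9)
    (c.rels _ zr8) zb7).le (by decide)

theorem GM_u2 (c : Ctx P e gs ns D chk) :
    UB (subW gs [[10], [12]]) 960 :=
  (c.sch_step (GM_u3 c)
    (c.rels _ zr13) zb12).le (by decide)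

theorem GM_u1 (c : Ctx P e gs ns D chk) :
    UB (subW gs [[6], [8]]) 20160 :=
  (c.sch_step (GM_u2 c)
    (c.rels _ zr17) zb16).le (by decide)

theorem GM_u0 (c : Ctx P e gs ns D chk) :
    UB (subW gs [[0], [2]]) 443520 :=
  (c.sch_step (GM_u1 c)
    (c.rels _ zr21) zb20).le (by decide)

theorem GM_ub (c : Ctx P e gs ns D chk) :
    UB (subW gs [[0], [2]]) 443520 :=
  (GM_u0 c)

theorem GM_c : P.chainB ns D GM_vs [[0], [2]] = true :=
  zc22

theorem GM_o : prodL GM_vs 1 = 443520 := by decide +kernel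

theorem GM_ex (c : Ctx P e gs ns D chk) :
    Exact e P.n P.N gs ns 1 GM_vs [[0], [2]] :=
  c.exact GM_c GM_o (GM_ub c)

theorem GM_card (c : Ctx P e gs ns D chk) :
    Nat.card (subW gs [[0], [2]]) = 443520 :=
  (GM_ex c).card.trans GM_o

theorem GA_u5 (c : Ctx P e gs ns D chk) :
    UB (subW gs [[20], [16], [22], [24]]) 16 :=
  (c.sch_step (UB.nil gs)
    (c.rels _ zr26) zb25).le (by decide)

theorem GA_u4 (c : Ctx P e gs ns D chk) :
    UB (subW gs [[14], [16], [18]]) 48 :=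
  (c.pc_step (GA_u5 c) (c.rels _ zr32)
    (c.rels _ zr31) zb30).le (by decide)

theorem GA_u3 (c : Ctx P e gs ns D chk) :
    UB (subW gs [[10], [12]]) 960 :=
  (c.sch_step (GA_u4 c)
    (c.rels _ zr36) zb35).le (by decide)

theorem GA_u2 (c : Ctx P e gs ns D chk) :
    UB (subW gs [[6], [8]]) 20160 :=
  (c.sch_step (GA_u3 c)
    (c.rels _ zr40) zb39).le (by decide)

theorem GA_u1 (c : Ctx P e gs ns D chk) :
    UB (subW gs [[0], [2]]) 443520 :=
  (c.sch_step (GA_u2 c)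
    (c.rels _ zr44) zb43).le (by decide)

theorem GA_u0 (c : Ctx P e gs ns D chk) :
    UB (subW gs [[0], [2], [4]]) 887040 :=
  (c.pc_step (GA_u1 c) (Rels.nil _)
    (c.rels _ zr48) zb47).le (by decide)

theorem GA_ub (c : Ctx P e gs ns D chk) :
    UB (subW gs [[0], [2], [4]]) 887040 :=
  (GA_u0 c)

theorem GA_c : P.chainB ns D GA_vs [[0], [2], [4]] = true :=
  zc49

theorem GA_o : prodL GA_vs 1 = 887040 := by decide +kernel

theorem GA_ex (c : Ctx P e gs ns D chk) :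
    Exact e P.n P.N gs ns 1 GA_vs [[0], [2], [4]] :=
  c.exact GA_c GA_o (GA_ub c)

theorem GA_card (c : Ctx P e gs ns D chk) :
    Nat.card (subW gs [[0], [2], [4]]) = 887040 :=
  (GA_ex c).card.trans GA_o

theorem cLG_c : P.chainB ns D cLG_vs [[0], [2], [4]] = true :=
  zc54

theorem cLG_o : prodL cLG_vs 1 = 887040 := by decide +kernel

theorem cL (c : Ctx P e gs ns D chk) :
    (subW gs [[0], [2], [4]]) ⊓ Subgroup.centralizer (subW gs [[0], [2]] : Set G) = (subW gs []) :=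
  c.cent (lx := [[0], [2]]) (Rels.nil _) (c.sOk (c.exact cLG_c cLG_o (GA_ub c)) zs55) (fun _ h => by cases h)
    (c.fixX zf53) (c.rels _ zr58) zm59 zs57

theorem S_pr (c : Ctx P e gs ns D chk) :
    Rels gs (pcsR S_ps []) :=
  (c.rels _ zr61)

theorem S_pe (c : Ctx P e gs ns D chk) :
    Rels gs (defRels zE60) :=
  (c.rels _ zr62)

theorem S_pb : bnd (pcsB D S_ps []) (leB (app D zE60) [[42], [44], [46]] (pcGens S_ps [])) = true := zb63

theorem S_ub (c : Ctx P e gs ns D chk) :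
    UB (subW gs [[42], [44], [46]]) 128 :=
  c.pcs (UB.nil gs) (S_pe c) (S_pr c) S_pb (by decide +kernel)

theorem S_c : P.chainB ns D S_vs [[42], [44], [46]] = true :=
  zc64

theorem S_o : prodL S_vs 1 = 128 := by decide +kernel

theorem S_lb (c : Ctx P e gs ns D chk) :
    LB (subW gs [[42], [44], [46]]) 128 :=
  c.lb S_c S_o

theorem S_card (c : Ctx P e gs ns D chk) :
    Nat.card (subW gs [[42], [44], [46]]) = 128 :=
  (S_ub c).card_eq (S_lb c)

theorem S_le (c : Ctx P e gs ns D chk) :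
    (subW gs [[42], [44], [46]]) ≤ (subW gs [[0], [2]]) :=
  (c.le_of_rels (ws := [[42], [44], [46]]) (l := [[0], [2]]) (c.rels _ zr67) zm66)

theorem cSG_c : P.chainB ns D cSG_vs [[0], [2], [4]] = true :=
  zc71

theorem cSG_o : prodL cSG_vs 1 = 887040 := by decide +kernel

theorem cS (c : Ctx P e gs ns D chk) :
    (subW gs [[0], [2], [4]]) ⊓ Subgroup.centralizer (subW gs [[42], [44], [46]] : Set G) = (subW gs [[74]]) :=
  c.cent (lx := [[42], [44], [46]]) (Rels.nil _) (c.sOk (c.exact cSG_c cSG_o (GA_ub c)) zs72) (fun _ h => by cases h)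
    (c.fixX zf70) (c.rels _ zr75) zm76 zs74

theorem SZ_le (c : Ctx P e gs ns D chk) :
    (subW gs [[74]]) ≤ (subW gs [[0], [2]]) :=
  (c.le_of_rels (ws := [[74]]) (l := [[0], [2]]) (c.rels _ zr79) zm78)

theorem gam (c : Ctx P e gs ns D chk) :
    Gam (subW gs [[0], [2], [4]]) (subW gs [[0], [2]]) :=
  ⟨_, S_le c, 7, 3465, (S_card c).trans (by norm_num), (GM_card c).trans (by norm_num), by norm_num, (cS c).le.trans (SZ_le c)⟩

theorem T_c : P.chainB ns D T_vs [[96], [98], [100], [102], [104], [106], [108], [110]] = true :=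
  zc80

theorem T_o : prodL T_vs 1 = 256 := by decide +kernel

theorem T_lb (c : Ctx P e gs ns D chk) :
    LB (subW gs [[96], [98], [100], [102], [104], [106], [108], [110]]) 256 :=
  c.lb T_c T_o

theorem T_pr (c : Ctx P e gs ns D chk) :
    Rels gs (pcsR T_ps []) :=
  (c.rels _ zr81)

theorem T_pe (c : Ctx P e gs ns D chk) :
    Rels gs (defRels []) :=
  (Rels.nil _)

theorem T_pb : bnd (pcsB D T_ps []) (leB (app D []) [[96], [98], [100], [102], [104], [106], [108], [110]] (pcGens T_ps [])) = true := zb82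

theorem T_ub (c : Ctx P e gs ns D chk) :
    UB (subW gs [[96], [98], [100], [102], [104], [106], [108], [110]]) 256 :=
  c.pcs (UB.nil gs) (T_pe c) (T_pr c) T_pb (by decide +kernel)

theorem T_card (c : Ctx P e gs ns D chk) :
    Nat.card (subW gs [[96], [98], [100], [102], [104], [106], [108], [110]]) = 256 :=
  (T_ub c).card_eq (T_lb c)

theorem v_le0 (c : Ctx P e gs ns D chk) :
    (subW gs [[96], [98], [100], [102], [104], [106], [108], [110]]) ≤ (subW gs [[0], [2], [4]]) :=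
  (c.le_of_rels (ws := [[96], [98], [100], [102], [104], [106], [108], [110]]) (l := [[0], [2], [4]]) (c.rels _ zr88) zm87)

theorem v0 (c : Ctx P e gs ns D chk) :
    Cov 2 (subW gs [[96], [98], [100], [102], [104], [106], [108], [110]]) (subW gs [[0], [2], [4]]) gs v0_R (subW gs [[98], [100], [102], [104], [106], [108], [110]]) :=
  Cov.step' (q := 2) (g := [96]) c.defs (by norm_num) (Cov.init 2 (subW gs [[96], [98], [100], [102], [104], [106], [108], [110]]) (subW gs [[0], [2], [4]]) gs)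
    (pc_lvl' c.defs (T_pr c) T_pb (T_lb c) 0 (by decide +kernel))
    (c.le_normalizer (cj := zcj89) (((T_ub c).mono (c.le zm92)).1) (c.rels _ zr91) zm90) (v_le0 c)
    (c.rels _ zr84) zb85 zq83

theorem v1 (c : Ctx P e gs ns D chk) :
    Cov 2 (subW gs [[96], [98], [100], [102], [104], [106], [108], [110]]) (subW gs [[0], [2], [4]]) gs v1_R (subW gs [[100], [102], [104], [106], [108], [110]]) :=
  Cov.step' (q := 2) (g := [98]) c.defs (by norm_num) (v0 c)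
    (pc_lvl' c.defs (T_pr c) T_pb (T_lb c) 1 (by decide +kernel))
    (c.le_normalizer (cj := zcj96) (((T_ub c).mono (c.le zm99)).1) (c.rels _ zr98) zm97) (v_le0 c)
    (c.rels _ zr94) zb95 zq93

theorem v2 (c : Ctx P e gs ns D chk) :
    Cov 2 (subW gs [[96], [98], [100], [102], [104], [106], [108], [110]]) (subW gs [[0], [2], [4]]) gs v2_R (subW gs [[102], [104], [106], [108], [110]]) :=
  Cov.step' (q := 2) (g := [100]) c.defs (by norm_num) (v1 c)
    (pc_lvl' c.defs (T_pr c) T_pb (T_lb c) 2 (by decide +kernel))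
    (c.le_normalizer (cj := zcj103) (((T_ub c).mono (c.le zm106)).1) (c.rels _ zr105) zm104) (v_le0 c)
    (c.rels _ zr101) zb102 zq100

theorem v3 (c : Ctx P e gs ns D chk) :
    Cov 2 (subW gs [[96], [98], [100], [102], [104], [106], [108], [110]]) (subW gs [[0], [2], [4]]) gs v3_R (subW gs [[104], [106], [108], [110]]) :=
  Cov.step' (q := 2) (g := [102]) c.defs (by norm_num) (v2 c)
    (pc_lvl' c.defs (T_pr c) T_pb (T_lb c) 3 (by decide +kernel))
    (c.le_normalizer (cj := zcj110) (((T_ub c).mono (c.le zm113)).1) (c.rels _ zr112) zm111) (v_le0 c)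
    (c.rels _ zr108) zb109 zq107

theorem v4 (c : Ctx P e gs ns D chk) :
    Cov 2 (subW gs [[96], [98], [100], [102], [104], [106], [108], [110]]) (subW gs [[0], [2], [4]]) gs v4_R (subW gs [[106], [108], [110]]) :=
  Cov.step' (q := 2) (g := [104]) c.defs (by norm_num) (v3 c)
    (pc_lvl' c.defs (T_pr c) T_pb (T_lb c) 4 (by decide +kernel))
    (c.le_normalizer (cj := zcj117) (((T_ub c).mono (c.le zm120)).1) (c.rels _ zr119) zm118) (v_le0 c)
    (c.rels _ zr115) zb116 zq114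

theorem v5 (c : Ctx P e gs ns D chk) :
    Cov 2 (subW gs [[96], [98], [100], [102], [104], [106], [108], [110]]) (subW gs [[0], [2], [4]]) gs v5_R (subW gs [[108], [110]]) :=
  Cov.step' (q := 2) (g := [106]) c.defs (by norm_num) (v4 c)
    (pc_lvl' c.defs (T_pr c) T_pb (T_lb c) 5 (by decide +kernel))
    (c.le_normalizer (cj := zcj124) (((T_ub c).mono (c.le zm127)).1) (c.rels _ zr126) zm125) (v_le0 c)
    (c.rels _ zr122) zb123 zq121

theorem v6 (c : Ctx P e gs ns D chk) :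
    Cov 2 (subW gs [[96], [98], [100], [102], [104], [106], [108], [110]]) (subW gs [[0], [2], [4]]) gs v6_R (subW gs [[110]]) :=
  Cov.step' (q := 2) (g := [108]) c.defs (by norm_num) (v5 c)
    (pc_lvl' c.defs (T_pr c) T_pb (T_lb c) 6 (by decide +kernel))
    (c.le_normalizer (cj := zcj131) (((T_ub c).mono (c.le zm134)).1) (c.rels _ zr133) zm132) (v_le0 c)
    (c.rels _ zr129) zb130 zq128

theorem v7 (c : Ctx P e gs ns D chk) :
    Cov 2 (subW gs [[96], [98], [100], [102], [104], [106], [108], [110]]) (subW gs [[0], [2], [4]]) gs v7_R (subW gs []) :=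
  Cov.step' (q := 2) (g := [110]) c.defs (by norm_num) (v6 c)
    (pc_lvl' c.defs (T_pr c) T_pb (T_lb c) 7 (by decide +kernel))
    (le_normalizer_nil gs _) (v_le0 c)
    (c.rels _ zr136) zb137 zq135

theorem v8 (c : Ctx P e gs ns D chk) :
    Cov 2 (subW gs [[96], [98], [100], [102], [104], [106], [108], [110]]) (subW gs [[0], [2], [4]]) gs v8_R (subW gs []) :=
  Cov.fuse c.defs (v7 c) (le_normalizer_nil gs _) (c.le zm140)
    (c.rels _ zr138) zb139

theorem v_cls (c : Ctx P e gs ns D chk) :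
    Cls 2 (subW gs [[96], [98], [100], [102], [104], [106], [108], [110]]) (subW gs [[0], [2], [4]]) gs [[], [134], [136], [138]] :=
  (v8 c).cls

theorem T_le (c : Ctx P e gs ns D chk) :
    (subW gs [[96], [98], [100], [102], [104], [106], [108], [110]]) ≤ (subW gs [[0], [2], [4]]) :=
  (c.le_of_rels (ws := [[96], [98], [100], [102], [104], [106], [108], [110]]) (l := [[0], [2], [4]]) (c.rels _ zr143) zm142)

theorem cC0G_c : P.chainB ns D cC0G_vs [[0], [2]] = true :=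
  zc146

theorem cC0G_o : prodL cC0G_vs 1 = 443520 := by decide +kernel

theorem cC0 (c : Ctx P e gs ns D chk) :
    (subW gs [[0], [2]]) ⊓ Subgroup.centralizer (subW gs [[134]] : Set G) = (subW gs [[140], [142]]) :=
  c.cent (lx := [[134]]) (Rels.nil _) (c.sOk (c.exact cC0G_c cC0G_o (GM_ub c)) zs147) (fun _ h => by cases h)
    (c.fixX zf145) (c.rels _ zr150) zm151 zs149

theorem D0_pr (c : Ctx P e gs ns D chk) :
    Rels gs (pcsR D0_ps []) :=
  (c.rels _ zr153)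

theorem D0_pe (c : Ctx P e gs ns D chk) :
    Rels gs (defRels zE152) :=
  (c.rels _ zr154)

theorem D0_pb : bnd (pcsB D D0_ps []) (leB (app D zE152) [[168], [170], [172]] (pcGens D0_ps [])) = true := zb155

theorem D0_ub (c : Ctx P e gs ns D chk) :
    UB (subW gs [[168], [170], [172]]) 96 :=
  c.pcs (UB.nil gs) (D0_pe c) (D0_pr c) D0_pb (by decide +kernel)

theorem D0_c : P.chainB ns D D0_vs [[168], [170], [172]] = true :=
  zc156

theorem D0_o : prodL D0_vs 1 = 96 := by decide +kernel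

theorem D0_lb (c : Ctx P e gs ns D chk) :
    LB (subW gs [[168], [170], [172]]) 96 :=
  c.lb D0_c D0_o

theorem D0_card (c : Ctx P e gs ns D chk) :
    Nat.card (subW gs [[168], [170], [172]]) = 96 :=
  (D0_ub c).card_eq (D0_lb c)

theorem cm0_c_le (c : Ctx P e gs ns D chk) :
    (subW gs [[196], [198], [200]]) ≤ ⁅(subW gs [[140], [142]]), (subW gs [[140], [142]])⁆ :=
  c.le_commutator (ps := zps157) (c.rels _ zr159) zm158

theorem cm0 (c : Ctx P e gs ns D chk) :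
    ⁅(subW gs [[140], [142]]), (subW gs [[140], [142]])⁆ = (subW gs [[168], [170], [172]]) :=
  have hfin : Finite (subW gs [[168], [170], [172]]) := (D0_ub c).1
  le_antisymm (commutator_subW_le (c.le_normalizer (cj := zcj169) hfin (c.rels _ zr171) zm170) (c.le_normalizer (cj := zcj166) hfin (c.rels _ zr168) zm167)
    (c.le_of_rels (ws := (comWs [[140], [142]] [[140], [142]])) (l := [[168], [170], [172]]) (c.rels _ zr165) zm164)) ((c.le_of_rels (ws := [[168], [170], [172]]) (l := [[196], [198], [200]]) (c.rels _ zr162) zm161).trans (cm0_c_le c))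

theorem Q0_pr (c : Ctx P e gs ns D chk) :
    Rels gs (pcsR Q0_ps []) :=
  (c.rels _ zr173)

theorem Q0_pe (c : Ctx P e gs ns D chk) :
    Rels gs (defRels zE172) :=
  (c.rels _ zr174)

theorem Q0_pb : bnd (pcsB D Q0_ps []) (leB (app D zE172) [[214], [216], [218], [220]] (pcGens Q0_ps [])) = true := zb175

theorem Q0_ub (c : Ctx P e gs ns D chk) :
    UB (subW gs [[214], [216], [218], [220]]) 32 :=
  c.pcs (UB.nil gs) (Q0_pe c) (Q0_pr c) Q0_pb (by decide +kernel)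

theorem Q0_c : P.chainB ns D Q0_vs [[214], [216], [218], [220]] = true :=
  zc176

theorem Q0_o : prodL Q0_vs 1 = 32 := by decide +kernel

theorem Q0_lb (c : Ctx P e gs ns D chk) :
    LB (subW gs [[214], [216], [218], [220]]) 32 :=
  c.lb Q0_c Q0_o

theorem Q0_card (c : Ctx P e gs ns D chk) :
    Nat.card (subW gs [[214], [216], [218], [220]]) = 32 :=
  (Q0_ub c).card_eq (Q0_lb c)

theorem Q0_le (c : Ctx P e gs ns D chk) :
    (subW gs [[214], [216], [218], [220]]) ≤ (subW gs [[168], [170], [172]]) :=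
  (c.le_of_rels (ws := [[214], [216], [218], [220]]) (l := [[168], [170], [172]]) (c.rels _ zr179) zm178)

theorem nQ0 (c : Ctx P e gs ns D chk) :
    (subW gs [[168], [170], [172]]) ≤ Subgroup.normalizer (subW gs [[214], [216], [218], [220]] : Set G) :=
  have hfin : Finite (subW gs [[214], [216], [218], [220]]) := (Q0_ub c).1
  (c.le_normalizer (cj := zcj180) hfin (c.rels _ zr182) zm181)

theorem Z0_pr (c : Ctx P e gs ns D chk) :
    Rels gs (pcsR Z0_ps []) :=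
  (c.rels _ zr183)

theorem Z0_pe (c : Ctx P e gs ns D chk) :
    Rels gs (defRels []) :=
  (Rels.nil _)

theorem Z0_pb : bnd (pcsB D Z0_ps []) (leB (app D []) [[184]] (pcGens Z0_ps [])) = true := zb184

theorem Z0_ub (c : Ctx P e gs ns D chk) :
    UB (subW gs [[184]]) 2 :=
  c.pcs (UB.nil gs) (Z0_pe c) (Z0_pr c) Z0_pb (by decide +kernel)

theorem Z0_c : P.chainB ns D Z0_vs [[184]] = true :=
  zc185

theorem Z0_o : prodL Z0_vs 1 = 2 := by decide +kernel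

theorem Z0_lb (c : Ctx P e gs ns D chk) :
    LB (subW gs [[184]]) 2 :=
  c.lb Z0_c Z0_o

theorem Z0_card (c : Ctx P e gs ns D chk) :
    Nat.card (subW gs [[184]]) = 2 :=
  (Z0_ub c).card_eq (Z0_lb c)

theorem cQ0G_c : P.chainB ns D cQ0G_vs [[168], [170], [172]] = true :=
  zc190

theorem cQ0G_o : prodL cQ0G_vs 1 = 96 := by decide +kernel

theorem cQ0 (c : Ctx P e gs ns D chk) :
    (subW gs [[168], [170], [172]]) ⊓ Subgroup.centralizer (subW gs [[214], [216], [218], [220]] : Set G) = (subW gs [[184]]) :=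
  c.cent (lx := [[214], [216], [218], [220]]) (Rels.nil _) (c.sOk (c.exact cQ0G_c cQ0G_o (D0_ub c)) zs191) (fun _ h => by cases h)
    (c.fixX zf189) (c.rels _ zr194) zm195 zs193

theorem row0 (c : Ctx P e gs ns D chk) :
    Row False (subW gs [[0], [2]]) (wordG gs [134]) :=
  row_con (dd (cC0 c) (cm0 c)) (Q0_le c) (nQ0 c) (isPGroup_of_card (Q0_card c) 5 (by norm_num)) (cQ0 c)
    (isPGroup_of_card (Z0_card c) 1 (by norm_num))

theorem cC1G_c : P.chainB ns D cC1G_vs [[0], [2]] = true :=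
  zc198

theorem cC1G_o : prodL cC1G_vs 1 = 443520 := by decide +kernel

theorem cC1 (c : Ctx P e gs ns D chk) :
    (subW gs [[0], [2]]) ⊓ Subgroup.centralizer (subW gs [[136]] : Set G) = (subW gs [[240], [242]]) :=
  c.cent (lx := [[136]]) (Rels.nil _) (c.sOk (c.exact cC1G_c cC1G_o (GM_ub c)) zs199) (fun _ h => by cases h)
    (c.fixX zf197) (c.rels _ zr202) zm203 zs201

theorem D1_u3 (c : Ctx P e gs ns D chk) :
    UB (subW gs [[264], [266]]) 4 :=
  (c.sch_step (UB.nil gs)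
    (c.rels _ zr207) zb206).le (by decide)

theorem D1_u2 (c : Ctx P e gs ns D chk) :
    UB (subW gs [[260], [262]]) 24 :=
  (c.sch_step (D1_u3 c)
    (c.rels _ zr211) zb210).le (by decide)

theorem D1_u1 (c : Ctx P e gs ns D chk) :
    UB (subW gs [[258], [257]]) 168 :=
  (c.sch_step (D1_u2 c)
    (c.rels _ zr215) zb214).le (by decide)

theorem D1_u0 (c : Ctx P e gs ns D chk) :
    UB (subW gs [[254], [256]]) 1344 :=
  (c.sch_step (D1_u1 c)
    (c.rels _ zr219) zb218).le (by decide)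

theorem D1_ub (c : Ctx P e gs ns D chk) :
    UB (subW gs [[254], [256]]) 1344 :=
  (D1_u0 c)

theorem D1_c : P.chainB ns D D1_vs [[254], [256]] = true :=
  zc220

theorem D1_o : prodL D1_vs 1 = 1344 := by decide +kernel

theorem D1_ex (c : Ctx P e gs ns D chk) :
    Exact e P.n P.N gs ns 1 D1_vs [[254], [256]] :=
  c.exact D1_c D1_o (D1_ub c)

theorem D1_card (c : Ctx P e gs ns D chk) :
    Nat.card (subW gs [[254], [256]]) = 1344 :=
  (D1_ex c).card.trans D1_o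

theorem cm1_c_le (c : Ctx P e gs ns D chk) :
    (subW gs [[268], [270]]) ≤ ⁅(subW gs [[240], [242]]), (subW gs [[240], [242]])⁆ :=
  c.le_commutator (ps := zps221) (c.rels _ zr223) zm222

theorem cm1 (c : Ctx P e gs ns D chk) :
    ⁅(subW gs [[240], [242]]), (subW gs [[240], [242]])⁆ = (subW gs [[254], [256]]) :=
  have hfin : Finite (subW gs [[254], [256]]) := (D1_ub c).1
  le_antisymm (commutator_subW_le (c.le_normalizer (cj := zcj233) hfin (c.rels _ zr235) zm234) (c.le_normalizer (cj := zcj230) hfin (c.rels _ zr232) zm231)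
    (c.le_of_rels (ws := (comWs [[240], [242]] [[240], [242]])) (l := [[254], [256]]) (c.rels _ zr229) zm228)) ((c.le_of_rels (ws := [[254], [256]]) (l := [[268], [270]]) (c.rels _ zr226) zm225).trans (cm1_c_le c))

theorem Q1_pr (c : Ctx P e gs ns D chk) :
    Rels gs (pcsR Q1_ps []) :=
  (c.rels _ zr237)

theorem Q1_pe (c : Ctx P e gs ns D chk) :
    Rels gs (defRels zE236) :=
  (c.rels _ zr238)

theorem Q1_pb : bnd (pcsB D Q1_ps []) (leB (app D zE236) [[284], [286], [288]] (pcGens Q1_ps [])) = true := zb239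

theorem Q1_ub (c : Ctx P e gs ns D chk) :
    UB (subW gs [[284], [286], [288]]) 8 :=
  c.pcs (UB.nil gs) (Q1_pe c) (Q1_pr c) Q1_pb (by decide +kernel)

theorem Q1_c : P.chainB ns D Q1_vs [[284], [286], [288]] = true :=
  zc240

theorem Q1_o : prodL Q1_vs 1 = 8 := by decide +kernel

theorem Q1_lb (c : Ctx P e gs ns D chk) :
    LB (subW gs [[284], [286], [288]]) 8 :=
  c.lb Q1_c Q1_o

theorem Q1_card (c : Ctx P e gs ns D chk) :
    Nat.card (subW gs [[284], [286], [288]]) = 8 :=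
  (Q1_ub c).card_eq (Q1_lb c)

theorem Q1_le (c : Ctx P e gs ns D chk) :
    (subW gs [[284], [286], [288]]) ≤ (subW gs [[254], [256]]) :=
  (c.le_of_rels (ws := [[284], [286], [288]]) (l := [[254], [256]]) (c.rels _ zr243) zm242)

theorem nQ1 (c : Ctx P e gs ns D chk) :
    (subW gs [[254], [256]]) ≤ Subgroup.normalizer (subW gs [[284], [286], [288]] : Set G) :=
  have hfin : Finite (subW gs [[284], [286], [288]]) := (Q1_ub c).1
  (c.le_normalizer (cj := zcj244) hfin (c.rels _ zr246) zm245)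

theorem Z1_pr (c : Ctx P e gs ns D chk) :
    Rels gs (pcsR Z1_ps []) :=
  (c.rels _ zr248)

theorem Z1_pe (c : Ctx P e gs ns D chk) :
    Rels gs (defRels zE247) :=
  (c.rels _ zr249)

theorem Z1_pb : bnd (pcsB D Z1_ps []) (leB (app D zE247) [[298], [300], [302]] (pcGens Z1_ps [])) = true := zb250

theorem Z1_ub (c : Ctx P e gs ns D chk) :
    UB (subW gs [[298], [300], [302]]) 8 :=
  c.pcs (UB.nil gs) (Z1_pe c) (Z1_pr c) Z1_pb (by decide +kernel)

theorem Z1_c : P.chainB ns D Z1_vs [[298], [300], [302]] = true :=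
  zc251

theorem Z1_o : prodL Z1_vs 1 = 8 := by decide +kernel

theorem Z1_lb (c : Ctx P e gs ns D chk) :
    LB (subW gs [[298], [300], [302]]) 8 :=
  c.lb Z1_c Z1_o

theorem Z1_card (c : Ctx P e gs ns D chk) :
    Nat.card (subW gs [[298], [300], [302]]) = 8 :=
  (Z1_ub c).card_eq (Z1_lb c)

theorem cQ1G_c : P.chainB ns D cQ1G_vs [[254], [256]] = true :=
  zc256

theorem cQ1G_o : prodL cQ1G_vs 1 = 1344 := by decide +kernel

theorem cQ1 (c : Ctx P e gs ns D chk) :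
    (subW gs [[254], [256]]) ⊓ Subgroup.centralizer (subW gs [[284], [286], [288]] : Set G) = (subW gs [[298], [300], [302]]) :=
  c.cent (lx := [[284], [286], [288]]) (Rels.nil _) (c.sOk (c.exact cQ1G_c cQ1G_o (D1_ub c)) zs257) (fun _ h => by cases h)
    (c.fixX zf255) (c.rels _ zr260) zm261 zs259

theorem row1 (c : Ctx P e gs ns D chk) :
    Row False (subW gs [[0], [2]]) (wordG gs [136]) :=
  row_con (dd (cC1 c) (cm1 c)) (Q1_le c) (nQ1 c) (isPGroup_of_card (Q1_card c) 3 (by norm_num)) (cQ1 c)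
    (isPGroup_of_card (Z1_card c) 3 (by norm_num))

theorem cC2G_c : P.chainB ns D cC2G_vs [[0], [2]] = true :=
  zc263

theorem cC2G_o : prodL cC2G_vs 1 = 443520 := by decide +kernel

theorem cC2 (c : Ctx P e gs ns D chk) :
    (subW gs [[0], [2]]) ⊓ Subgroup.centralizer (subW gs [[138]] : Set G) = (subW gs [[318], [320]]) :=
  c.cent (lx := [[138]]) (Rels.nil _) (c.sOk (c.exact cC2G_c cC2G_o (GM_ub c)) zs264) (fun _ h => by cases h)
    (c.fixX zf262) (c.rels _ zr267) zm268 zs266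

theorem D2_pr (c : Ctx P e gs ns D chk) :
    Rels gs (pcsR D2_ps []) :=
  (c.rels _ zr270)

theorem D2_pe (c : Ctx P e gs ns D chk) :
    Rels gs (defRels zE269) :=
  (c.rels _ zr271)

theorem D2_pb : bnd (pcsB D D2_ps []) (leB (app D zE269) [[348], [350]] (pcGens D2_ps [])) = true := zb272

theorem D2_ub (c : Ctx P e gs ns D chk) :
    UB (subW gs [[348], [350]]) 80 :=
  c.pcs (UB.nil gs) (D2_pe c) (D2_pr c) D2_pb (by decide +kernel)

theorem D2_c : P.chainB ns D D2_vs [[348], [350]] = true :=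
  zc273

theorem D2_o : prodL D2_vs 1 = 80 := by decide +kernel

theorem D2_lb (c : Ctx P e gs ns D chk) :
    LB (subW gs [[348], [350]]) 80 :=
  c.lb D2_c D2_o

theorem D2_card (c : Ctx P e gs ns D chk) :
    Nat.card (subW gs [[348], [350]]) = 80 :=
  (D2_ub c).card_eq (D2_lb c)

theorem cm2_c_le (c : Ctx P e gs ns D chk) :
    (subW gs [[362], [364]]) ≤ ⁅(subW gs [[318], [320]]), (subW gs [[318], [320]])⁆ :=
  c.le_commutator (ps := zps274) (c.rels _ zr276) zm275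

theorem cm2 (c : Ctx P e gs ns D chk) :
    ⁅(subW gs [[318], [320]]), (subW gs [[318], [320]])⁆ = (subW gs [[348], [350]]) :=
  have hfin : Finite (subW gs [[348], [350]]) := (D2_ub c).1
  le_antisymm (commutator_subW_le (c.le_normalizer (cj := zcj286) hfin (c.rels _ zr288) zm287) (c.le_normalizer (cj := zcj283) hfin (c.rels _ zr285) zm284)
    (c.le_of_rels (ws := (comWs [[318], [320]] [[318], [320]])) (l := [[348], [350]]) (c.rels _ zr282) zm281)) ((c.le_of_rels (ws := [[348], [350]]) (l := [[362], [364]]) (c.rels _ zr279) zm278).trans (cm2_c_le c))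

theorem Q2_pr (c : Ctx P e gs ns D chk) :
    Rels gs (pcsR Q2_ps []) :=
  (c.rels _ zr290)

theorem Q2_pe (c : Ctx P e gs ns D chk) :
    Rels gs (defRels zE289) :=
  (c.rels _ zr291)

theorem Q2_pb : bnd (pcsB D Q2_ps []) (leB (app D zE289) [[370], [372], [374], [376]] (pcGens Q2_ps [])) = true := zb292

theorem Q2_ub (c : Ctx P e gs ns D chk) :
    UB (subW gs [[370], [372], [374], [376]]) 16 :=
  c.pcs (UB.nil gs) (Q2_pe c) (Q2_pr c) Q2_pb (by decide +kernel)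

theorem Q2_c : P.chainB ns D Q2_vs [[370], [372], [374], [376]] = true :=
  zc293

theorem Q2_o : prodL Q2_vs 1 = 16 := by decide +kernel

theorem Q2_lb (c : Ctx P e gs ns D chk) :
    LB (subW gs [[370], [372], [374], [376]]) 16 :=
  c.lb Q2_c Q2_o

theorem Q2_card (c : Ctx P e gs ns D chk) :
    Nat.card (subW gs [[370], [372], [374], [376]]) = 16 :=
  (Q2_ub c).card_eq (Q2_lb c)

theorem Q2_le (c : Ctx P e gs ns D chk) :
    (subW gs [[370], [372], [374], [376]]) ≤ (subW gs [[348], [350]]) :=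
  (c.le_of_rels (ws := [[370], [372], [374], [376]]) (l := [[348], [350]]) (c.rels _ zr296) zm295)

theorem nQ2 (c : Ctx P e gs ns D chk) :
    (subW gs [[348], [350]]) ≤ Subgroup.normalizer (subW gs [[370], [372], [374], [376]] : Set G) :=
  have hfin : Finite (subW gs [[370], [372], [374], [376]]) := (Q2_ub c).1
  (c.le_normalizer (cj := zcj297) hfin (c.rels _ zr299) zm298)

theorem Z2_pr (c : Ctx P e gs ns D chk) :
    Rels gs (pcsR Z2_ps []) :=
  (c.rels _ zr301)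

theorem Z2_pe (c : Ctx P e gs ns D chk) :
    Rels gs (defRels zE300) :=
  (c.rels _ zr302)

theorem Z2_pb : bnd (pcsB D Z2_ps []) (leB (app D zE300) [[384], [386], [388], [390]] (pcGens Z2_ps [])) = true := zb303

theorem Z2_ub (c : Ctx P e gs ns D chk) :
    UB (subW gs [[384], [386], [388], [390]]) 16 :=
  c.pcs (UB.nil gs) (Z2_pe c) (Z2_pr c) Z2_pb (by decide +kernel)

theorem Z2_c : P.chainB ns D Z2_vs [[384], [386], [388], [390]] = true :=
  zc304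

theorem Z2_o : prodL Z2_vs 1 = 16 := by decide +kernel

theorem Z2_lb (c : Ctx P e gs ns D chk) :
    LB (subW gs [[384], [386], [388], [390]]) 16 :=
  c.lb Z2_c Z2_o

theorem Z2_card (c : Ctx P e gs ns D chk) :
    Nat.card (subW gs [[384], [386], [388], [390]]) = 16 :=
  (Z2_ub c).card_eq (Z2_lb c)

theorem cQ2G_c : P.chainB ns D cQ2G_vs [[348], [350]] = true :=
  zc308

theorem cQ2G_o : prodL cQ2G_vs 1 = 80 := by decide +kernel

theorem cQ2 (c : Ctx P e gs ns D chk) :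
    (subW gs [[348], [350]]) ⊓ Subgroup.centralizer (subW gs [[370], [372], [374], [376]] : Set G) = (subW gs [[384], [386], [388], [390]]) :=
  c.cent (lx := [[370], [372], [374], [376]]) (c.rels _ zr311) (c.sOk (c.exact cQ2G_c cQ2G_o (D2_ub c)) zs309) (fun _ h => by cases h)
    (c.fixX zf307) (c.rels _ zr314) zm315 zs313

theorem row2 (c : Ctx P e gs ns D chk) :
    Row False (subW gs [[0], [2]]) (wordG gs [138]) :=
  row_con (dd (cC2 c) (cm2 c)) (Q2_le c) (nQ2 c) (isPGroup_of_card (Q2_card c) 4 (by norm_num)) (cQ2 c)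
    (isPGroup_of_card (Z2_card c) 4 (by norm_num))

theorem tb (c : Ctx P e gs ns D chk) :
    Tb False (subW gs [[0], [2], [4]]) (subW gs [[0], [2]]) :=
  have := (GA_ub c).1
  tb_of ((v_cls c).up (by norm_num) (k := 8) (GA_card c) (by decide +kernel) (T_card c) (T_le c))
    (List.forall_mem_cons.2 ⟨row0 c, (List.forall_mem_cons.2 ⟨row1 c, (List.forall_mem_cons.2 ⟨row2 c, fun _ h => by cases h⟩)⟩)⟩)

theorem md (c : Ctx P e gs ns D chk) :
    Md False (subW gs [[0], [2], [4]]) (subW gs [[0], [2]]) 443520 :=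
  ⟨(c.le zm316), GM_card c, (GA_card c).trans (by norm_num), by norm_num, (cL c).trans (subW_nil _), tb c, gam c⟩

noncomputable def Ps : List ℕ := [978021223287082463068836038938234080, 967844975919410092441778431750449728, 12357829971409379973640193003590711]
theorem base : CL.Fus.mgsB P (fun _ => true) Ps ns0 = true := by decide +kernel
theorem baseM : CL.Fus.mgsB P CL.Pc.t22 (Ps.take 2) (ns0.take 2) = true := by decide +kernel
noncomputable def gs1 := ext (CL.Fus.mgs Ps) ws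
theorem c1 : Ctx P CL.Spor.gPt gs1 ns D chk :=
  ctx (CL.Fus.mgs_ctx hP rfl (CL.Fus.mgs_spec (H := ⊤) hP rfl (fun _ _ _ _ => trivial) base).1) CL.Fus.gPt_faithful fun _ _ => trivial


end CL.Q49M.M22
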