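/-
Project Q49 (S1849): the tables for `M12`, `M22`, `J2`, `HS`.
-/
import Cfsg.Agent.Q49.TbB
import Cfsg.Agent.Q49.MM12
import Cfsg.Agent.Q49.MM22
import Cfsg.Agent.Q49.MJ2
import Cfsg.Agent.Q49.MHS
import Cfsg.Agent.S2061
import Cfsg.Agent.S2062
import Cfsg.Agent.S2066
import Cfsg.Agent.S2072
import Cfsg.Agent.S2035
import Cfsg.Agent.S2040
import Cfsg.Agent.S2046

set_option autoImplicit false

namespace CL.Q49M

open Cfsg Subgroup CL.Even CL.Grp CL.Loc CL.PG CL.Q49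

universe u

theorem two_le {a b c : ℕ} {ws : List (List ℕ)} {H : Subgroup (Equiv.Perm GolayPt)}
    (h : ∀ g ∈ CL.Fus.mgs [a, b], g ∈ H) : subW (ext (CL.Fus.mgs [a, b, c]) ws) [[0], [2]] ≤ H := by
  rw [subW_ext (b := 3) rfl ws (by decide +kernel), subW_le]
  intro w hw
  simp only [List.mem_cons, List.not_mem_nil, or_false] at hw
  rcases hw with rfl | rfl
  · rw [wordG_single]; exact h _ (by simp [letG, CL.Fus.mgs])
  · rw [wordG_single]; exact h _ (by simp [letG, CL.Fus.mgs])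

theorem eM12 : subW M12.gs1 [[0], [2]] = Spor.M12 :=
  (UB.of_card CL.Spor.card_M12 (by decide)).eq_of_lb (LB.of_card (M12.GM_card M12.c1))
    (two_le (CL.Fus.mgs_spec M12.hP rfl CL.Pc.t12_ok M12.baseM).2)

theorem eM22 : subW M22.gs1 [[0], [2]] = Spor.M22 :=
  (UB.of_card CL.Spor.card_M22 (by decide)).eq_of_lb (LB.of_card (M22.GM_card M22.c1))
    (two_le (CL.Fus.mgs_spec M22.hP rfl CL.Pc.t22_ok M22.baseM).2)

noncomputable def eJ2 : subW J2.gs1 [[0], [2]] ≃* Spor.J2 := (J2.isoM J2.c1).some.trans CL.Std.J2.iso.some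
noncomputable def eHS : subW HS.gs1 [[0], [2]] ≃* Spor.HS := (HS.isoM HS.c1).some.trans CL.Std.HS.iso.some

end CL.Q49M

namespace CL.Q49

open Cfsg Subgroup CL.Even CL.Q49M

universe u

theorem tabM12 : Tab.{u} fun X _ => Spor.IsoM12 X := fun _ _ _ _ _ _ p hL _ ⟨f⟩ =>
  ((M12.md M12.c1).tab (MulEquiv.subgroupCongr eM12) Agent.S2061.result (fun _ => Agent.S2035.result) f p hL).2

theorem tabJ2 : Tab.{u} fun X _ => Spor.IsoJ2 X := fun _ _ _ _ _ _ p hL _ ⟨f⟩ =>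
  ((J2.md J2.c1).tab eJ2 Agent.S2066.result (fun _ => Agent.S2040.result) f p hL).2

theorem tabHS : Tab.{u} fun X _ => Spor.IsoHS X := fun _ _ _ _ _ _ p hL _ ⟨f⟩ =>
  ((HS.md HS.c1).tab eHS Agent.S2072.result (fun _ => Agent.S2046.result) f p hL).2

theorem tabM22 : Tab.{u} fun X _ => Spor.IsoM22 X := fun _ _ _ _ _ _ p hL _ ⟨f⟩ =>
  ((M22.md M22.c1).tab (MulEquiv.subgroupCongr eM22) Agent.S2062.result False.elim f p hL).2

theorem i1M12 : I1Of.{u} fun X _ => Spor.IsoM12 X := fun _ _ _ ⟨f⟩ α _ S =>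
  (M12.md M12.c1).i1 (MulEquiv.subgroupCongr eM12) Agent.S2061.result f α S

theorem i1M22 : I1Of.{u} fun X _ => Spor.IsoM22 X := fun _ _ _ ⟨f⟩ α _ S =>
  (M22.md M22.c1).i1 (MulEquiv.subgroupCongr eM22) Agent.S2062.result f α S

theorem i1J2 : I1Of.{u} fun X _ => Spor.IsoJ2 X := fun _ _ _ ⟨f⟩ α _ S =>
  (J2.md J2.c1).i1 eJ2 Agent.S2066.result f α S

theorem i1HS : I1Of.{u} fun X _ => Spor.IsoHS X := fun _ _ _ ⟨f⟩ α _ S =>
  (HS.md HS.c1).i1 eHS Agent.S2072.result f α S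

end CL.Q49
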