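/-
Involutions of Aut(L34) and their centralisers.
Generated by tools/pg.
-/
import Cfsg.Agent.Q49.TbC
import Cfsg.Agent.Spor.StdSym
import Cfsg.Agent.Spor.StdCore
import Cfsg.Agent.Spor.StdL32
import Cfsg.Agent.Spor.StdL34
import Cfsg.Agent.Q49.ML34A
import Cfsg.Agent.Spor.PGCtx

set_option autoImplicit false
set_option maxRecDepth 200000
set_option Elab.async false
set_option linter.unusedVariables false

namespace CL.Q49M.L34
open CL.PG

def P : Par := ⟨42, 48, 6, 3⟩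
theorem hP : P.Ok := by decide
noncomputable def a0 : Net := (.cons 24 (nat_lit 0xe00000)
 (.cons 12 (nat_lit 0xd000ab5)
 (.cons 6 (nat_lit 0x2c00b02f024)
 (.cons 3 (nat_lit 0x104086140081)
 (.cons 1 (nat_lit 0x41208040)
 (.cons 1 (nat_lit 0x2092412480)
 (.cons 1 (nat_lit 0x201208248040)
 (.cons 3 (nat_lit 0x6004104000)
 (.cons 6 (nat_lit 0x1400800e034)
 (.cons 12 (nat_lit 0x18000a42)
 (.cons 24 (nat_lit 0xe00000)
 .nil)))))))))))
noncomputable def a1 : Net := (.cons 24 (nat_lit 0xe00000)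
 (.cons 12 (nat_lit 0xc9e000f6a)
 (.cons 6 (nat_lit 0x200202c006)
 (.cons 3 (nat_lit 0x1840c4182003)
 (.cons 1 (nat_lit 0x8040200040)
 (.cons 1 (nat_lit 0x92480402080)
 (.cons 1 (nat_lit 0x8200240001)
 (.cons 3 (nat_lit 0x102180100002)
 (.cons 6 (nat_lit 0x28032004006)
 (.cons 12 (nat_lit 0x288000f4a)
 (.cons 24 (nat_lit 0xe00000)
 .nil)))))))))))
noncomputable def a2 : Net := (.cons 24 (nat_lit 0x3dffc5)
 (.cons 12 (nat_lit 0xbb1000067)
 (.cons 6 (nat_lit 0x1602703e03a)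
 (.cons 3 (nat_lit 0x1c1100046106)
 (.cons 1 (nat_lit 0x208000201000)
 (.cons 1 (nat_lit 0x410002482082)
 (.cons 1 (nat_lit 0x48008200201)
 (.cons 3 (nat_lit 0x4002186006)
 (.cons 6 (nat_lit 0x3202800e02e)
 (.cons 12 (nat_lit 0xbb8000460)
 (.cons 24 (nat_lit 0x3c800a)
 .nil)))))))))))
noncomputable def a3 : Net := (.cons 24 (nat_lit 0xe00000)
 (.cons 12 (nat_lit 0x87d000f04)
 (.cons 6 (nat_lit 0x2000c01102f)
 (.cons 3 (nat_lit 0x41085143100)
 (.cons 1 (nat_lit 0x201001000201)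
 (.cons 1 (nat_lit 0x412082092482)
 (.cons 1 (nat_lit 0x8001049240)
 (.cons 3 (nat_lit 0x2004080100)
 (.cons 6 (nat_lit 0x1800803202c)
 (.cons 12 (nat_lit 0x52000fce)
 (.cons 24 (nat_lit 0xe00000)
 .nil)))))))))))
noncomputable def a4 : Net := (.cons 24 (nat_lit 0xe00000)
 (.cons 12 (nat_lit 0x353000042)
 (.cons 6 (nat_lit 0x1101803c03a)
 (.cons 3 (nat_lit 0xc20040c0144)
 (.cons 1 (nat_lit 0x208000241200)
 (.cons 1 (nat_lit 0x412002482482)
 (.cons 1 (nat_lit 0x241208200040)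
 (.cons 3 (nat_lit 0x184006000180)
 (.cons 6 (nat_lit 0xc000038024)
 (.cons 12 (nat_lit 0x944000024)
 (.cons 24 (nat_lit 0xe00000)
 .nil)))))))))))
noncomputable def a5 : Net := (.cons 24 (nat_lit 0xe00000)
 (.cons 12 (nat_lit 0x9000007f6)
 (.cons 6 (nat_lit 0x2800200d036)
 (.cons 3 (nat_lit 0x3046184004)
 (.cons 1 (nat_lit 0x200000208048)
 (.cons 1 (nat_lit 0x402000410490)
 (.cons 1 (nat_lit 0x209209209048)
 (.cons 3 (nat_lit 0x100000)
 (.cons 6 (nat_lit 0x3c030010034)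
 (.cons 12 (nat_lit 0xb220006e0)
 (.cons 24 (nat_lit 0xe00000)
 .nil)))))))))))
noncomputable def a6 : Net := (.cons 24 (nat_lit 0xc00000)
 (.cons 12 (nat_lit 0x226000e00)
 (.cons 6 (nat_lit 0x1c013020)
 (.cons 3 (nat_lit 0x60c6002000)
 (.cons 1 (nat_lit 0x208200008040)
 (.cons 1 (nat_lit 0x412410412080)
 (.cons 1 (nat_lit 0x1240048048)
 (.cons 3 (nat_lit 0x6180100102)
 (.cons 6 (nat_lit 0x801a020)
 (.cons 12 (nat_lit 0x228000e00)
 (.cons 24 (nat_lit 0xc00000)
 .nil)))))))))))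
noncomputable def a7 : Net := (.cons 24 (nat_lit 0xc00000)
 (.cons 12 (nat_lit 0x80b000fe0)
 (.cons 6 (nat_lit 0x1000e003020)
 (.cons 3 (nat_lit 0x6184185106)
 (.cons 1 (nat_lit 0x1201200008)
 (.cons 1 (nat_lit 0x402402482090)
 (.cons 1 (nat_lit 0x1009041040)
 (.cons 3 (nat_lit 0x100006106)
 (.cons 6 (nat_lit 0x10014028020)
 (.cons 12 (nat_lit 0x428000e00)
 (.cons 24 (nat_lit 0xc00000)
 .nil)))))))))))
noncomputable def a8 : Net := (.cons 24 (nat_lit 0xc00000)
 (.cons 12 (nat_lit 0xb30000fe0)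
 (.cons 6 (nat_lit 0x34021038020)
 (.cons 3 (nat_lit 0x3087004182)
 (.cons 1 (nat_lit 0x1008001040)
 (.cons 1 (nat_lit 0x412010002482)
 (.cons 1 (nat_lit 0x201001200048)
 (.cons 3 (nat_lit 0x2004000182)
 (.cons 6 (nat_lit 0x20000020020)
 (.cons 12 (nat_lit 0x330000e00)
 (.cons 24 (nat_lit 0xc00000)
 .nil)))))))))))
noncomputable def a9 : Net := (.cons 24 (nat_lit 0xc00000)
 (.cons 12 (nat_lit 0x200000e00)
 (.cons 6 (nat_lit 0x28031026020)
 (.cons 3 (nat_lit 0x3006085104)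
 (.cons 1 (nat_lit 0x201040001000)
 (.cons 1 (nat_lit 0x402080092090)
 (.cons 1 (nat_lit 0x201048048008)
 (.cons 3 (nat_lit 0x82004)
 (.cons 6 (nat_lit 0x1801000c020)
 (.cons 12 (nat_lit 0x200000e00)
 (.cons 24 (nat_lit 0xc00000)
 .nil)))))))))))
noncomputable def a10 : Net := (.cons 24 (nat_lit 0x400000)
 (.cons 12 (nat_lit 0x210000fe0)
 (.cons 6 (nat_lit 0x802003a020)
 (.cons 3 (nat_lit 0x7182082080)
 (.cons 1 (nat_lit 0x1001041040)
 (.cons 1 (nat_lit 0x12002492480)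
 (.cons 1 (nat_lit 0x208009041040)
 (.cons 3 (nat_lit 0x2082080)
 (.cons 6 (nat_lit 0x8020000020)
 (.cons 12 (nat_lit 0x210000e00)
 (.cons 24 (nat_lit 0x400000)
 .nil)))))))))))
noncomputable def a11 : Net := (.cons 24 (nat_lit 0xc00000)
 (.cons 12 (nat_lit 0x893000c20)
 (.cons 6 (nat_lit 0x20026033020)
 (.cons 3 (nat_lit 0x81102105004)
 (.cons 1 (nat_lit 0x1000008208)
 (.cons 1 (nat_lit 0x12002410490)
 (.cons 1 (nat_lit 0x9041009240)
 (.cons 3 (nat_lit 0x4082102004)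
 (.cons 6 (nat_lit 0x2006026020)
 (.cons 12 (nat_lit 0xc80000dc0)
 (.cons 24 (nat_lit 0xc00000)
 .nil)))))))))))
noncomputable def a12 : Net := (.cons 24 (nat_lit 0xc00000)
 (.cons 12 (nat_lit 0xb30000fe0)
 (.cons 6 (nat_lit 0x2801a03c020)
 (.cons 3 (nat_lit 0x850c2104100)
 (.cons 1 (nat_lit 0x200000000000)
 (.cons 1 (nat_lit 0x490000000000)
 (.cons 1 (nat_lit 0x200240249040)
 (.cons 3 (nat_lit 0x84000000000)
 (.cons 6 (nat_lit 0x2801a000020)
 (.cons 12 (nat_lit 0x330000e00)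
 (.cons 24 (nat_lit 0xc00000)
 .nil)))))))))))
noncomputable def a13 : Net := (.cons 24 (nat_lit 0xc00000)
 (.cons 12 (nat_lit 0x90)
 (.cons 6 (nat_lit 0x1001e00b010)
 (.cons 3 (nat_lit 0x1041041c0)
 (.cons 1 (nat_lit 0x1040200000)
 (.cons 1 (nat_lit 0x402080400010)
 (.cons 1 (nat_lit 0x9248241000)
 (.cons 3 (nat_lit 0x100100000)
 (.cons 6 (nat_lit 0x10004008010)
 (.cons 12 (nat_lit 0x90)
 (.cons 24 (nat_lit 0xc00000)
 .nil)))))))))))
noncomputable def a14 : Net := (.cons 24 (nat_lit 0x800000)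
 (.cons 12 (nat_lit 0xab2000050)
 (.cons 6 (nat_lit 0xa010007034)
 (.cons 3 (nat_lit 0x60840000c4)
 (.cons 1 (nat_lit 0x8000008000)
 (.cons 1 (nat_lit 0x10000010010)
 (.cons 1 (nat_lit 0x9049008240)
 (.cons 3 (nat_lit 0x6080000004)
 (.cons 6 (nat_lit 0x8010000014)
 (.cons 12 (nat_lit 0x2b2000050)
 (.cons 24 (nat_lit 0x800000)
 .nil)))))))))))
noncomputable def a15 : Net := (.cons 24 (nat_lit 0x800000)
 (.cons 12 (nat_lit 0x82a000fe0)
 (.cons 6 (nat_lit 0x20008033020)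
 (.cons 3 (nat_lit 0x3185145180)
 (.cons 1 (nat_lit 0x8048048040)
 (.cons 1 (nat_lit 0x12092492480)
 (.cons 1 (nat_lit 0x1041048040)
 (.cons 3 (nat_lit 0x4102082180)
 (.cons 6 (nat_lit 0x2000800c020)
 (.cons 12 (nat_lit 0x82a000e00)
 (.cons 24 (nat_lit 0x800000)
 .nil)))))))))))
noncomputable def a16 : Net := (.cons 24 (nat_lit 0x800000)
 (.cons 12 (nat_lit 0xab2000050)
 (.cons 6 (nat_lit 0xa010007034)
 (.cons 3 (nat_lit 0x60840000c4)
 (.cons 1 (nat_lit 0x8000008000)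
 (.cons 1 (nat_lit 0x10000010010)
 (.cons 1 (nat_lit 0x9049008240)
 (.cons 3 (nat_lit 0x6080000004)
 (.cons 6 (nat_lit 0x8010000014)
 (.cons 12 (nat_lit 0x2b2000050)
 (.cons 24 (nat_lit 0x800000)
 .nil)))))))))))
noncomputable def a17 : Net := (.cons 24 (nat_lit 0xc00000)
 (.cons 12 (nat_lit 0x120000e00)
 (.cons 6 (nat_lit 0x2403c039000)
 (.cons 3 (nat_lit 0x51c2080002)
 (.cons 1 (nat_lit 0x1008200000)
 (.cons 1 (nat_lit 0x412010410000)
 (.cons 1 (nat_lit 0x9040048040)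
 (.cons 3 (nat_lit 0x104000104000)
 (.cons 6 (nat_lit 0x24002000)
 (.cons 12 (nat_lit 0x120000fe0)
 (.cons 24 (nat_lit 0xc00000)
 .nil)))))))))))
noncomputable def a18 : Net := (.cons 24 (nat_lit 0xe00000)
 (.cons 12 (nat_lit 0xb13000e1e)
 (.cons 6 (nat_lit 0x1c01d00102c)
 (.cons 3 (nat_lit 0x1020c1140046)
 (.cons 1 (nat_lit 0x8208001200)
 (.cons 1 (nat_lit 0x410490012410)
 (.cons 1 (nat_lit 0x49241200)
 (.cons 3 (nat_lit 0x4000002104)
 (.cons 6 (nat_lit 0x3401403e02e)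
 (.cons 12 (nat_lit 0x318000e00)
 (.cons 24 (nat_lit 0xe00000)
 .nil)))))))))))
noncomputable def a19 : Net := (.cons 24 (nat_lit 0xe00000)
 (.cons 12 (nat_lit 0x365000952)
 (.cons 6 (nat_lit 0x39022003020)
 (.cons 3 (nat_lit 0xc20060820c6)
 (.cons 1 (nat_lit 0x48000041040)
 (.cons 1 (nat_lit 0x92002482090)
 (.cons 1 (nat_lit 0x201040008)
 (.cons 3 (nat_lit 0x184086086184)
 (.cons 6 (nat_lit 0x18002000038)
 (.cons 12 (nat_lit 0xb54000866)
 (.cons 24 (nat_lit 0xe00000)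
 .nil)))))))))))
noncomputable def a20 : Net := (.cons 24 (nat_lit 0xc00000)
 (.cons 12 (nat_lit 0x22a000fe0)
 (.cons 6 (nat_lit 0x2802f026020)
 (.cons 3 (nat_lit 0x11c40c5104)
 (.cons 1 (nat_lit 0x1001008000)
 (.cons 1 (nat_lit 0x412402010090)
 (.cons 1 (nat_lit 0x1201249008)
 (.cons 3 (nat_lit 0x2100002004)
 (.cons 6 (nat_lit 0x1802800c020)
 (.cons 12 (nat_lit 0xe08000e00)
 (.cons 24 (nat_lit 0xc00000)
 .nil)))))))))))
noncomputable def a21 : Net := (.cons 24 (nat_lit 0xc00000)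
 (.cons 12 (nat_lit 0x82d000fe0)
 (.cons 6 (nat_lit 0x2002a030020)
 (.cons 3 (nat_lit 0x70c31c5106)
 (.cons 1 (nat_lit 0x48008000)
 (.cons 1 (nat_lit 0x410090090090)
 (.cons 1 (nat_lit 0x9040209008)
 (.cons 3 (nat_lit 0x104102104)
 (.cons 6 (nat_lit 0x1000001e020)
 (.cons 12 (nat_lit 0x822000e00)
 (.cons 24 (nat_lit 0xc00000)
 .nil)))))))))))
noncomputable def a22 : Net := (.cons 24 (nat_lit 0xc00000)
 (.cons 12 (nat_lit 0x96a000fe0)
 (.cons 6 (nat_lit 0x20008007000)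
 (.cons 3 (nat_lit 0x180084187000)
 (.cons 1 (nat_lit 0x41200208000)
 (.cons 1 (nat_lit 0x82402412080)
 (.cons 1 (nat_lit 0x9001048008)
 (.cons 3 (nat_lit 0x82000004000)
 (.cons 6 (nat_lit 0x10008020000)
 (.cons 12 (nat_lit 0x562000e00)
 (.cons 24 (nat_lit 0xc00000)
 .nil)))))))))))
noncomputable def a23 : Net := (.cons 24 (nat_lit 0xc00000)
 (.cons 12 (nat_lit 0xb4c000fe0)
 (.cons 6 (nat_lit 0x2c00a000020)
 (.cons 3 (nat_lit 0x1830841c7104)
 (.cons 1 (nat_lit 0x201249008)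
 (.cons 1 (nat_lit 0x82412492010)
 (.cons 1 (nat_lit 0x40201249040)
 (.cons 3 (nat_lit 0x84004000004)
 (.cons 6 (nat_lit 0xc028000020)
 (.cons 12 (nat_lit 0x36c000e00)
 (.cons 24 (nat_lit 0xc00000)
 .nil)))))))))))
noncomputable def a24 : Net := (.cons 24 (nat_lit 0x400000)
 (.cons 12 (nat_lit 0x200000e00)
 (.cons 6 (nat_lit 0x3800402e020)
 (.cons 3 (nat_lit 0x6106182104)
 (.cons 1 (nat_lit 0x208041000008)
 (.cons 1 (nat_lit 0x410082490090)
 (.cons 1 (nat_lit 0x208049001008)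
 (.cons 3 (nat_lit 0x4106002104)
 (.cons 6 (nat_lit 0x38000004020)
 (.cons 12 (nat_lit 0x200000e00)
 (.cons 24 (nat_lit 0x400000)
 .nil)))))))))))
noncomputable def a25 : Net := (.cons 24 (nat_lit 0xc00000)
 (.cons 12 (nat_lit 0xb30000fe0)
 (.cons 6 (nat_lit 0x1800300c020)
 (.cons 3 (nat_lit 0x104182142100)
 (.cons 1 (nat_lit 0x208040041040)
 (.cons 1 (nat_lit 0x410082482080)
 (.cons 1 (nat_lit 0x41049000)
 (.cons 3 (nat_lit 0x104106082100)
 (.cons 6 (nat_lit 0x20026020)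
 (.cons 12 (nat_lit 0xb30000e00)
 (.cons 24 (nat_lit 0xc00000)
 .nil)))))))))))
noncomputable def a26 : Net := (.cons 24 (nat_lit 0x800000)
 (.cons 12 (nat_lit 0x48c000000)
 (.cons 6 (nat_lit 0xe03c02c038)
 (.cons 3 (nat_lit 0x1061040c4100)
 (.cons 1 (nat_lit 0x208000048)
 (.cons 1 (nat_lit 0x82410410090)
 (.cons 1 (nat_lit 0x200008200000)
 (.cons 3 (nat_lit 0x84004184100)
 (.cons 6 (nat_lit 0x3c03002e038)
 (.cons 12 (nat_lit 0xc8c0001e0)
 (.cons 24 (nat_lit 0x800000)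
 .nil)))))))))))
noncomputable def a27 : Net := (.cons 24 (nat_lit 0xc00000)
 (.cons 12 (nat_lit 0xb320007e0)
 (.cons 6 (nat_lit 0x8008019020)
 (.cons 3 (nat_lit 0x1011840c5000)
 (.cons 1 (nat_lit 0x41000040)
 (.cons 1 (nat_lit 0x400082002080)
 (.cons 1 (nat_lit 0x208240248040)
 (.cons 3 (nat_lit 0x100104002100)
 (.cons 6 (nat_lit 0x800800c020)
 (.cons 12 (nat_lit 0x332000600)
 (.cons 24 (nat_lit 0xc00000)
 .nil)))))))))))
noncomputable def a28 : Net := (.cons 24 (nat_lit 0xc00000)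
 (.cons 12 (nat_lit 0xc08000110)
 (.cons 6 (nat_lit 0x1000200d00c)
 (.cons 3 (nat_lit 0x4100082082)
 (.cons 1 (nat_lit 0x49041008)
 (.cons 1 (nat_lit 0x402492092412)
 (.cons 1 (nat_lit 0x8049241048)
 (.cons 3 (nat_lit 0x4100082082)
 (.cons 6 (nat_lit 0x1000000800c)
 (.cons 12 (nat_lit 0xc08000110)
 (.cons 24 (nat_lit 0xc00000)
 .nil)))))))))))
noncomputable def a29 : Net := (.cons 24 (nat_lit 0x800000)
 (.cons 12 (nat_lit 0xa500001d0)
 (.cons 6 (nat_lit 0x801800e000)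
 (.cons 3 (nat_lit 0x1071820461c0)
 (.cons 1 (nat_lit 0x40001001240)
 (.cons 1 (nat_lit 0x92082092490)
 (.cons 1 (nat_lit 0x40201001240)
 (.cons 3 (nat_lit 0x100180006000)
 (.cons 6 (nat_lit 0x8018008000)
 (.cons 12 (nat_lit 0xa500001d0)
 (.cons 24 (nat_lit 0x800000)
 .nil)))))))))))
noncomputable def a30 : Net := (.cons 12 (nat_lit 0x7b2000680)
 (.cons 6 (nat_lit 0x28010019022)
 (.cons 3 (nat_lit 0x81180105004)
 (.cons 1 (nat_lit 0x200000001040)
 (.cons 1 (nat_lit 0x400082412082)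
 (.cons 1 (nat_lit 0x208041001040)
 (.cons 3 (nat_lit 0x100180102104)
 (.cons 6 (nat_lit 0x2a01000c022)
 (.cons 12 (nat_lit 0x7b2000760)
 .nil)))))))))
noncomputable def a31 : Net := (.cons 24 (nat_lit 0x800000)
 (.cons 12 (nat_lit 0x82a000fe0)
 (.cons 6 (nat_lit 0x20008033020)
 (.cons 3 (nat_lit 0x3185145180)
 (.cons 1 (nat_lit 0x8048048040)
 (.cons 1 (nat_lit 0x12092492480)
 (.cons 1 (nat_lit 0x1041048040)
 (.cons 3 (nat_lit 0x4102082180)
 (.cons 6 (nat_lit 0x2000800c020)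
 (.cons 12 (nat_lit 0x82a000e00)
 (.cons 24 (nat_lit 0x800000)
 .nil)))))))))))
noncomputable def a32 : Net := (.cons 24 (nat_lit 0x4e7c94)
 (.cons 12 (nat_lit 0x27000307)
 (.cons 6 (nat_lit 0x3b01502003e)
 (.cons 3 (nat_lit 0x86144103141)
 (.cons 1 (nat_lit 0x200001200000)
 (.cons 1 (nat_lit 0x410402412090)
 (.cons 1 (nat_lit 0x1209200201)
 (.cons 3 (nat_lit 0x84006000186)
 (.cons 6 (nat_lit 0x28000028002)
 (.cons 12 (nat_lit 0x46c000028)
 (.cons 24 (nat_lit 0x4e546a)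
 .nil)))))))))))
noncomputable def a33 : Net := (.cons 24 (nat_lit 0xc00000)
 (.cons 12 (nat_lit 0x926000c00)
 (.cons 6 (nat_lit 0x2002b017020)
 (.cons 3 (nat_lit 0x104143002106)
 (.cons 1 (nat_lit 0x1008048000)
 (.cons 1 (nat_lit 0x402090490090)
 (.cons 1 (nat_lit 0x1249001000)
 (.cons 3 (nat_lit 0x104100004)
 (.cons 6 (nat_lit 0x20018000020)
 (.cons 12 (nat_lit 0x936000de0)
 (.cons 24 (nat_lit 0xc00000)
 .nil)))))))))))
noncomputable def a34 : Net := (.cons 24 (nat_lit 0xc00000)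
 (.cons 12 (nat_lit 0xe5d000fe0)
 (.cons 6 (nat_lit 0x8002007020)
 (.cons 3 (nat_lit 0x1000001c1100)
 (.cons 1 (nat_lit 0x40001200040)
 (.cons 1 (nat_lit 0x90412490082)
 (.cons 1 (nat_lit 0x48009209000)
 (.cons 3 (nat_lit 0x102100104000)
 (.cons 6 (nat_lit 0x8030038020)
 (.cons 12 (nat_lit 0x658000fe0)
 (.cons 24 (nat_lit 0xc00000)
 .nil)))))))))))
noncomputable def a35 : Net := (.cons 24 (nat_lit 0x800000)
 (.cons 12 (nat_lit 0x911000e00)
 (.cons 6 (nat_lit 0x28030000000)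
 (.cons 3 (nat_lit 0x1040421c6002)
 (.cons 1 (nat_lit 0x201001201000)
 (.cons 1 (nat_lit 0x402002492080)
 (.cons 1 (nat_lit 0x201001041000)
 (.cons 3 (nat_lit 0x100004006000)
 (.cons 6 (nat_lit 0x28030000000)
 (.cons 12 (nat_lit 0x104000e00)
 (.cons 24 (nat_lit 0x800000)
 .nil)))))))))))
noncomputable def a36 : Net := (.cons 24 (nat_lit 0xc00000)
 (.cons 12 (nat_lit 0xb55000600)
 (.cons 6 (nat_lit 0x3502001c000)
 (.cons 3 (nat_lit 0x44004185002)
 (.cons 1 (nat_lit 0x1001000040)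
 (.cons 1 (nat_lit 0x412012402082)
 (.cons 1 (nat_lit 0x208001208000)
 (.cons 3 (nat_lit 0x4004180000)
 (.cons 6 (nat_lit 0x1402001a000)
 (.cons 12 (nat_lit 0x350000600)
 (.cons 24 (nat_lit 0xc00000)
 .nil)))))))))))
noncomputable def a37 : Net := (.cons 24 (nat_lit 0x800000)
 (.cons 12 (nat_lit 0x254000e00)
 (.cons 6 (nat_lit 0x20030007000)
 (.cons 3 (nat_lit 0x1460001c1006)
 (.cons 1 (nat_lit 0x41001240000)
 (.cons 1 (nat_lit 0x82002490010)
 (.cons 1 (nat_lit 0x41009248000)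
 (.cons 3 (nat_lit 0x100006000004)
 (.cons 6 (nat_lit 0x20030020000)
 (.cons 12 (nat_lit 0x244000e00)
 (.cons 24 (nat_lit 0x800000)
 .nil)))))))))))
noncomputable def a38 : Net := (.cons 24 (nat_lit 0xc00000)
 (.cons 12 (nat_lit 0x150000400)
 (.cons 6 (nat_lit 0x2002801d000)
 (.cons 3 (nat_lit 0x1020040c2004)
 (.cons 1 (nat_lit 0x40001000040)
 (.cons 1 (nat_lit 0x490012010090)
 (.cons 1 (nat_lit 0x41201241040)
 (.cons 3 (nat_lit 0x102004002004)
 (.cons 6 (nat_lit 0x20028008000)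
 (.cons 12 (nat_lit 0x150000400)
 (.cons 24 (nat_lit 0xc00000)
 .nil)))))))))))
noncomputable def a39 : Net := (.cons 24 (nat_lit 0xe00000)
 (.cons 12 (nat_lit 0x319000ffe)
 (.cons 6 (nat_lit 0x1e00302e020)
 (.cons 3 (nat_lit 0x81080040100)
 (.cons 1 (nat_lit 0x1009041000)
 (.cons 1 (nat_lit 0x402012092080)
 (.cons 1 (nat_lit 0x9201041000)
 (.cons 3 (nat_lit 0x2000)
 (.cons 6 (nat_lit 0x2008010020)
 (.cons 12 (nat_lit 0x130000e00)
 (.cons 24 (nat_lit 0xe00000)
 .nil)))))))))))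
noncomputable def a40 : Net := (.cons 24 (nat_lit 0xc00000)
 (.cons 12 (nat_lit 0xbb6000e00)
 (.cons 6 (nat_lit 0x32010011020)
 (.cons 3 (nat_lit 0x2105185182)
 (.cons 1 (nat_lit 0x201048248040)
 (.cons 1 (nat_lit 0x402092492480)
 (.cons 1 (nat_lit 0x41048048)
 (.cons 3 (nat_lit 0x104086082)
 (.cons 6 (nat_lit 0x3c01002a020)
 (.cons 12 (nat_lit 0xfb0000fe0)
 (.cons 24 (nat_lit 0xc00000)
 .nil)))))))))))
noncomputable def a41 : Net := (.cons 24 (nat_lit 0xc00000)
 (.cons 12 (nat_lit 0xa10000030)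
 (.cons 6 (nat_lit 0x3801000b010)
 (.cons 3 (nat_lit 0x70041c41c6)
 (.cons 1 (nat_lit 0x208001000048)
 (.cons 1 (nat_lit 0x410402402092)
 (.cons 1 (nat_lit 0x9201048)
 (.cons 3 (nat_lit 0x4002180006)
 (.cons 6 (nat_lit 0x20016008000)
 (.cons 12 (nat_lit 0xa10000170)
 (.cons 24 (nat_lit 0xc00000)
 .nil)))))))))))
noncomputable def a42 : Net := (.cons 24 (nat_lit 0xc00000)
 (.cons 12 (nat_lit 0xb1a000e00)
 (.cons 6 (nat_lit 0x2a010033020)
 (.cons 3 (nat_lit 0x183182142100)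
 (.cons 1 (nat_lit 0x40040)
 (.cons 1 (nat_lit 0x80090490080)
 (.cons 1 (nat_lit 0x201040208040)
 (.cons 3 (nat_lit 0x2184082000)
 (.cons 6 (nat_lit 0x2a010026020)
 (.cons 12 (nat_lit 0xf38000e00)
 (.cons 24 (nat_lit 0xc00000)
 .nil)))))))))))
noncomputable def a43 : Net := (.cons 24 (nat_lit 0xc00000)
 (.cons 12 (nat_lit 0xc3a000e00)
 (.cons 6 (nat_lit 0x24018000)
 (.cons 3 (nat_lit 0x3101002004)
 (.cons 1 (nat_lit 0x241048)
 (.cons 1 (nat_lit 0x412482090)
 (.cons 1 (nat_lit 0x9000249048)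
 (.cons 3 (nat_lit 0x100002004)
 (.cons 6 (nat_lit 0x24008000)
 (.cons 12 (nat_lit 0xc1a000e00)
 (.cons 24 (nat_lit 0xc00000)
 .nil)))))))))))
noncomputable def a44 : Net := (.cons 24 (nat_lit 0xe00000)
 (.cons 12 (nat_lit 0x69b000e6c)
 (.cons 6 (nat_lit 0xa03a014022)
 (.cons 3 (nat_lit 0x1860050c6107)
 (.cons 1 (nat_lit 0x1041201040)
 (.cons 1 (nat_lit 0x92082412090)
 (.cons 1 (nat_lit 0x8241208040)
 (.cons 3 (nat_lit 0x100180106004)
 (.cons 6 (nat_lit 0x801a01a022)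
 (.cons 12 (nat_lit 0x9e000e58)
 (.cons 24 (nat_lit 0xe00000)
 .nil)))))))))))
noncomputable def a45 : Net := (.cons 24 (nat_lit 0xe00000)
 (.cons 12 (nat_lit 0x19500037a)
 (.cons 6 (nat_lit 0x3802400a037)
 (.cons 3 (nat_lit 0x101187046086)
 (.cons 1 (nat_lit 0x208201041001)
 (.cons 1 (nat_lit 0x412482082412)
 (.cons 1 (nat_lit 0x209040041)
 (.cons 3 (nat_lit 0x4184000084)
 (.cons 6 (nat_lit 0x32004002010)
 (.cons 12 (nat_lit 0x384000272)
 (.cons 24 (nat_lit 0xe00000)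
 .nil)))))))))))
noncomputable def a46 : Net := (.cons 24 (nat_lit 0xc00000)
 (.cons 12 (nat_lit 0x459000680)
 (.cons 6 (nat_lit 0x23016021022)
 (.cons 3 (nat_lit 0x861071c6104)
 (.cons 1 (nat_lit 0x1000200048)
 (.cons 1 (nat_lit 0x2002490092)
 (.cons 1 (nat_lit 0x201200040)
 (.cons 3 (nat_lit 0x6004084004)
 (.cons 6 (nat_lit 0x12018020022)
 (.cons 12 (nat_lit 0x6a000760)
 (.cons 24 (nat_lit 0xc00000)
 .nil)))))))))))
noncomputable def a47 : Net := (.cons 24 (nat_lit 0xc00000)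
 (.cons 12 (nat_lit 0xb75000e00)
 (.cons 6 (nat_lit 0x1e02801b020)
 (.cons 3 (nat_lit 0x105004145004)
 (.cons 1 (nat_lit 0x40001200040)
 (.cons 1 (nat_lit 0x90012482090)
 (.cons 1 (nat_lit 0x208201208000)
 (.cons 3 (nat_lit 0x82104)
 (.cons 6 (nat_lit 0x6008008020)
 (.cons 12 (nat_lit 0xb64000e00)
 (.cons 24 (nat_lit 0xc00000)
 .nil)))))))))))
noncomputable def a48 : Net := (.cons 24 (nat_lit 0xc00000)
 (.cons 12 (nat_lit 0xd62000e00)
 (.cons 6 (nat_lit 0xa00803e020)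
 (.cons 3 (nat_lit 0x1c0004043100)
 (.cons 1 (nat_lit 0x200000001040)
 (.cons 1 (nat_lit 0x400402412080)
 (.cons 1 (nat_lit 0x209049048)
 (.cons 3 (nat_lit 0x80100100)
 (.cons 6 (nat_lit 0x3a008020020)
 (.cons 12 (nat_lit 0x16a000fe0)
 (.cons 24 (nat_lit 0xc00000)
 .nil)))))))))))
noncomputable def a49 : Net := (.cons 24 (nat_lit 0xc00000)
 (.cons 12 (nat_lit 0x571000c00)
 (.cons 6 (nat_lit 0x30004033000)
 (.cons 3 (nat_lit 0x102102084004)
 (.cons 1 (nat_lit 0x49000000000)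
 (.cons 1 (nat_lit 0x492400092090)
 (.cons 1 (nat_lit 0x41001049048)
 (.cons 3 (nat_lit 0x102002080004)
 (.cons 6 (nat_lit 0x34004026000)
 (.cons 12 (nat_lit 0x540000c00)
 (.cons 24 (nat_lit 0xc00000)
 .nil)))))))))))
noncomputable def a50 : Net := (.cons 24 (nat_lit 0xc00000)
 (.cons 12 (nat_lit 0xc1a000e00)
 (.cons 6 (nat_lit 0xa028033000)
 (.cons 3 (nat_lit 0x82100081000)
 (.cons 1 (nat_lit 0x201049000)
 (.cons 1 (nat_lit 0x2412492080)
 (.cons 1 (nat_lit 0x201000200040)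
 (.cons 3 (nat_lit 0x2100080000)
 (.cons 6 (nat_lit 0xa028026000)
 (.cons 12 (nat_lit 0x41a000e00)
 (.cons 24 (nat_lit 0xc00000)
 .nil)))))))))))
noncomputable def a51 : Net := (.cons 12 (nat_lit 0x814000e00)
 (.cons 6 (nat_lit 0x20030009000)
 (.cons 3 (nat_lit 0x3102182000)
 (.cons 1 (nat_lit 0x1040008040)
 (.cons 1 (nat_lit 0x12480492480)
 (.cons 1 (nat_lit 0x8040008048)
 (.cons 3 (nat_lit 0x4100002000)
 (.cons 6 (nat_lit 0x20030008000)
 (.cons 12 (nat_lit 0x814000e00)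
 .nil)))))))))
noncomputable def a52 : Net := (.cons 24 (nat_lit 0xc00000)
 (.cons 12 (nat_lit 0x800)
 (.cons 6 (nat_lit 0x30031026000)
 (.cons 3 (nat_lit 0x100087000)
 (.cons 1 (nat_lit 0x9041049000)
 (.cons 1 (nat_lit 0x12082492080)
 (.cons 1 (nat_lit 0x9049049008)
 (.cons 3 (nat_lit 0x4080000)
 (.cons 6 (nat_lit 0x20014026000)
 (.cons 12 (nat_lit 0x800)
 (.cons 24 (nat_lit 0xc00000)
 .nil)))))))))))
noncomputable def a53 : Net := (.cons 24 (nat_lit 0xc00000)
 (.cons 12 (nat_lit 0xade000534)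
 (.cons 6 (nat_lit 0x1e028016010)
 (.cons 3 (nat_lit 0x1041031c4)
 (.cons 1 (nat_lit 0x40200008000)
 (.cons 1 (nat_lit 0x80402412480)
 (.cons 1 (nat_lit 0x248001041000)
 (.cons 3 (nat_lit 0x180006104000)
 (.cons 6 (nat_lit 0x24028016010)
 (.cons 12 (nat_lit 0xed60004d4)
 (.cons 24 (nat_lit 0xc00000)
 .nil)))))))))))
noncomputable def a54 : Net := (.cons 24 (nat_lit 0xfe1f1a)
 (.cons 12 (nat_lit 0x6fd000deb)
 (.cons 6 (nat_lit 0x2002b01400c)
 (.cons 3 (nat_lit 0x1050c1102101)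
 (.cons 1 (nat_lit 0x200049200)
 (.cons 1 (nat_lit 0x480092400)
 (.cons 1 (nat_lit 0x41041208)
 (.cons 3 (nat_lit 0x80000100)
 (.cons 6 (nat_lit 0x8010032004)
 (.cons 12 (nat_lit 0xa38000de0)
 (.cons 24 (nat_lit 0xfd6726)
 .nil)))))))))))
noncomputable def a55 : Net := (.cons 24 (nat_lit 0xc00000)
 (.cons 12 (nat_lit 0x118000221)
 (.cons 6 (nat_lit 0x2400001d001)
 (.cons 3 (nat_lit 0x87082086)
 (.cons 1 (nat_lit 0x8000001048)
 (.cons 1 (nat_lit 0x412400082090)
 (.cons 1 (nat_lit 0x8040049009)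
 (.cons 3 (nat_lit 0x80082086)
 (.cons 6 (nat_lit 0x24000018010)
 (.cons 12 (nat_lit 0x118000310)
 (.cons 24 (nat_lit 0xc00000)
 .nil)))))))))))
noncomputable def a56 : Net := (.cons 24 (nat_lit 0xc00000)
 (.cons 12 (nat_lit 0x558000054)
 (.cons 6 (nat_lit 0x2802001c014)
 (.cons 3 (nat_lit 0x144107080185)
 (.cons 1 (nat_lit 0x240000001000)
 (.cons 1 (nat_lit 0x482080082490)
 (.cons 1 (nat_lit 0x240009201000)
 (.cons 3 (nat_lit 0x4100080004)
 (.cons 6 (nat_lit 0x2802001c000)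
 (.cons 12 (nat_lit 0x158000014)
 (.cons 24 (nat_lit 0xc00000)
 .nil)))))))))))
noncomputable def a57 : Net := (.cons 24 (nat_lit 0xc00000)
 (.cons 12 (nat_lit 0xe5e000303)
 (.cons 6 (nat_lit 0xb01000c00c)
 (.cons 3 (nat_lit 0x1c50861c5182)
 (.cons 1 (nat_lit 0x40009001200)
 (.cons 1 (nat_lit 0x90412402490)
 (.cons 1 (nat_lit 0x209241)
 (.cons 3 (nat_lit 0x104000180104)
 (.cons 6 (nat_lit 0x1200400c00c)
 (.cons 12 (nat_lit 0x26a000212)
 (.cons 24 (nat_lit 0xc00000)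
 .nil)))))))))))
noncomputable def a58 : Net := (.cons 24 (nat_lit 0xc00000)
 (.cons 12 (nat_lit 0x61a000940)
 (.cons 6 (nat_lit 0x3000f03b020)
 (.cons 3 (nat_lit 0x6144045)
 (.cons 1 (nat_lit 0x9041000000)
 (.cons 1 (nat_lit 0x12092402490)
 (.cons 1 (nat_lit 0x201240041000)
 (.cons 3 (nat_lit 0x2184080004)
 (.cons 6 (nat_lit 0x1001c01c020)
 (.cons 12 (nat_lit 0xa30000820)
 (.cons 24 (nat_lit 0xc00000)
 .nil)))))))))))
noncomputable def a59 : Net := (.cons 24 (nat_lit 0xc00000)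
 (.cons 12 (nat_lit 0x9640000f0)
 (.cons 6 (nat_lit 0x3001800d00c)
 (.cons 3 (nat_lit 0x180086082082)
 (.cons 1 (nat_lit 0x1041008)
 (.cons 1 (nat_lit 0x2002092412)
 (.cons 1 (nat_lit 0x48201241048)
 (.cons 3 (nat_lit 0x80084082082)
 (.cons 6 (nat_lit 0x3001800800c)
 (.cons 12 (nat_lit 0x1640000f0)
 (.cons 24 (nat_lit 0xc00000)
 .nil)))))))))))
noncomputable def a60 : Net := (.cons 24 (nat_lit 0xc00000)
 (.cons 12 (nat_lit 0x2a000fe0)
 (.cons 6 (nat_lit 0x3000800c000)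
 (.cons 3 (nat_lit 0x61c4083000)
 (.cons 1 (nat_lit 0x240200000)
 (.cons 1 (nat_lit 0x402480480000)
 (.cons 1 (nat_lit 0x8241209000)
 (.cons 3 (nat_lit 0x6000080000)
 (.cons 6 (nat_lit 0x800c000)
 (.cons 12 (nat_lit 0x2a000e00)
 (.cons 24 (nat_lit 0xc00000)
 .nil)))))))))))
noncomputable def a61 : Net := (.cons 24 (nat_lit 0xc00000)
 (.cons 12 (nat_lit 0xade000534)
 (.cons 6 (nat_lit 0x1e028016010)
 (.cons 3 (nat_lit 0x1041031c4)
 (.cons 1 (nat_lit 0x40200008000)
 (.cons 1 (nat_lit 0x80402412480)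
 (.cons 1 (nat_lit 0x248001041000)
 (.cons 3 (nat_lit 0x180006104000)
 (.cons 6 (nat_lit 0x24028016010)
 (.cons 12 (nat_lit 0xed60004d4)
 (.cons 24 (nat_lit 0xc00000)
 .nil)))))))))))
noncomputable def a62 : Net := (.cons 24 (nat_lit 0x800000)
 (.cons 12 (nat_lit 0xa500001d0)
 (.cons 6 (nat_lit 0x801800e000)
 (.cons 3 (nat_lit 0x1071820461c0)
 (.cons 1 (nat_lit 0x40001001240)
 (.cons 1 (nat_lit 0x92082092490)
 (.cons 1 (nat_lit 0x40201001240)
 (.cons 3 (nat_lit 0x100180006000)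
 (.cons 6 (nat_lit 0x8018008000)
 (.cons 12 (nat_lit 0xa500001d0)
 (.cons 24 (nat_lit 0x800000)
 .nil)))))))))))
noncomputable def a63 : Net := (.cons 24 (nat_lit 0xc00000)
 (.cons 12 (nat_lit 0xc08000110)
 (.cons 6 (nat_lit 0x1000200d00c)
 (.cons 3 (nat_lit 0x4100082082)
 (.cons 1 (nat_lit 0x49041008)
 (.cons 1 (nat_lit 0x402492092412)
 (.cons 1 (nat_lit 0x8049241048)
 (.cons 3 (nat_lit 0x4100082082)
 (.cons 6 (nat_lit 0x1000000800c)
 (.cons 12 (nat_lit 0xc08000110)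
 (.cons 24 (nat_lit 0xc00000)
 .nil)))))))))))
noncomputable def a64 : Net := (.cons 24 (nat_lit 0xc00000)
 (.cons 12 (nat_lit 0xb30000fe0)
 (.cons 6 (nat_lit 0x2801a03c020)
 (.cons 3 (nat_lit 0x850c2104100)
 (.cons 1 (nat_lit 0x200000000000)
 (.cons 1 (nat_lit 0x490000000000)
 (.cons 1 (nat_lit 0x200240249040)
 (.cons 3 (nat_lit 0x84000000000)
 (.cons 6 (nat_lit 0x2801a000020)
 (.cons 12 (nat_lit 0x330000e00)
 (.cons 24 (nat_lit 0xc00000)
 .nil)))))))))))
noncomputable def a65 : Net := (.cons 24 (nat_lit 0x400000)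
 (.cons 12 (nat_lit 0x324000030)
 (.cons 6 (nat_lit 0x2800a00e000)
 (.cons 3 (nat_lit 0x1810040461c0)
 (.cons 1 (nat_lit 0x200001001240)
 (.cons 1 (nat_lit 0x482012092490)
 (.cons 1 (nat_lit 0x200201001240)
 (.cons 3 (nat_lit 0x180004006000)
 (.cons 6 (nat_lit 0x28008008000)
 (.cons 12 (nat_lit 0x324000030)
 (.cons 24 (nat_lit 0x400000)
 .nil)))))))))))
noncomputable def a66 : Net := (.cons 24 (nat_lit 0x400000)
 (.cons 12 (nat_lit 0x210000fe0)
 (.cons 6 (nat_lit 0x802003a020)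
 (.cons 3 (nat_lit 0x7182082080)
 (.cons 1 (nat_lit 0x1001041040)
 (.cons 1 (nat_lit 0x12002492480)
 (.cons 1 (nat_lit 0x208009041040)
 (.cons 3 (nat_lit 0x2082080)
 (.cons 6 (nat_lit 0x8020000020)
 (.cons 12 (nat_lit 0x210000e00)
 (.cons 24 (nat_lit 0x400000)
 .nil)))))))))))
noncomputable def a67 : Net := (.cons 24 (nat_lit 0x800000)
 (.cons 12 (nat_lit 0xa500001d0)
 (.cons 6 (nat_lit 0x801800e000)
 (.cons 3 (nat_lit 0x1071820461c0)
 (.cons 1 (nat_lit 0x40001001240)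
 (.cons 1 (nat_lit 0x92082092490)
 (.cons 1 (nat_lit 0x40201001240)
 (.cons 3 (nat_lit 0x100180006000)
 (.cons 6 (nat_lit 0x8018008000)
 (.cons 12 (nat_lit 0xa500001d0)
 (.cons 24 (nat_lit 0x800000)
 .nil)))))))))))
noncomputable def a68 : Net := (.cons 24 (nat_lit 0x800000)
 (.cons 12 (nat_lit 0x82a000fe0)
 (.cons 6 (nat_lit 0x20008033020)
 (.cons 3 (nat_lit 0x3185145180)
 (.cons 1 (nat_lit 0x8048048040)
 (.cons 1 (nat_lit 0x12092492480)
 (.cons 1 (nat_lit 0x1041048040)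
 (.cons 3 (nat_lit 0x4102082180)
 (.cons 6 (nat_lit 0x2000800c020)
 (.cons 12 (nat_lit 0x82a000e00)
 (.cons 24 (nat_lit 0x800000)
 .nil)))))))))))
noncomputable def a69 : Net := (.cons 24 (nat_lit 0xc00000)
 (.cons 12 (nat_lit 0x2a000fe0)
 (.cons 6 (nat_lit 0x3000800c000)
 (.cons 3 (nat_lit 0x61c4083000)
 (.cons 1 (nat_lit 0x240200000)
 (.cons 1 (nat_lit 0x402480480000)
 (.cons 1 (nat_lit 0x8241209000)
 (.cons 3 (nat_lit 0x6000080000)
 (.cons 6 (nat_lit 0x800c000)
 (.cons 12 (nat_lit 0x2a000e00)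
 (.cons 24 (nat_lit 0xc00000)
 .nil)))))))))))
noncomputable def a70 : Net := (.cons 24 (nat_lit 0x1d15b8)
 (.cons 12 (nat_lit 0x1e5000a24)
 (.cons 6 (nat_lit 0x402a01800c)
 (.cons 3 (nat_lit 0x2106002047)
 (.cons 1 (nat_lit 0x8000009000)
 (.cons 1 (nat_lit 0x10012012080)
 (.cons 1 (nat_lit 0x48040209009)
 (.cons 6 (nat_lit 0x2201800c)
 (.cons 12 (nat_lit 0x1e4000224)
 (.cons 24 (nat_lit 0x1d11b8)
 .nil))))))))))
noncomputable def a71 : Net := (.cons 24 (nat_lit 0x55dcd0)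
 (.cons 12 (nat_lit 0x92c000c3e)
 (.cons 6 (nat_lit 0x32011036028)
 (.cons 3 (nat_lit 0x2006083142)
 (.cons 1 (nat_lit 0x8000000249)
 (.cons 1 (nat_lit 0x410002080492)
 (.cons 1 (nat_lit 0x49208200249)
 (.cons 3 (nat_lit 0x2006080000)
 (.cons 6 (nat_lit 0x32010016028)
 (.cons 12 (nat_lit 0x828000c3e)
 (.cons 24 (nat_lit 0x55dc50)
 .nil)))))))))))
noncomputable def a72 : Net := (.cons 24 (nat_lit 0x800000)
 (.cons 12 (nat_lit 0x941000e00)
 (.cons 6 (nat_lit 0x29020026000)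
 (.cons 3 (nat_lit 0x142006081004)
 (.cons 1 (nat_lit 0x241001000000)
 (.cons 1 (nat_lit 0x482002092090)
 (.cons 1 (nat_lit 0x241009200000)
 (.cons 3 (nat_lit 0x4002080004)
 (.cons 6 (nat_lit 0x8020026000)
 (.cons 12 (nat_lit 0x144000e00)
 (.cons 24 (nat_lit 0x800000)
 .nil)))))))))))
noncomputable def a73 : Net := (.cons 24 (nat_lit 0xc00000)
 (.cons 12 (nat_lit 0xc6a000243)
 (.cons 6 (nat_lit 0x2200402602f)
 (.cons 3 (nat_lit 0x80180141142)
 (.cons 1 (nat_lit 0x9001201241)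
 (.cons 1 (nat_lit 0x12482402482)
 (.cons 1 (nat_lit 0x49209208200)
 (.cons 3 (nat_lit 0x6000084)
 (.cons 6 (nat_lit 0x3201c02600e)
 (.cons 12 (nat_lit 0x44a000352)
 (.cons 24 (nat_lit 0xc00000)
 .nil)))))))))))
noncomputable def a74 : Net := (.cons 24 (nat_lit 0xc00000)
 (.cons 12 (nat_lit 0x3bb000036)
 (.cons 6 (nat_lit 0x3801702a033)
 (.cons 3 (nat_lit 0x21001441c5)
 (.cons 1 (nat_lit 0x201040240048)
 (.cons 1 (nat_lit 0x482480490090)
 (.cons 1 (nat_lit 0x9000241040)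
 (.cons 3 (nat_lit 0x104000004002)
 (.cons 6 (nat_lit 0x2203602a00c)
 (.cons 12 (nat_lit 0xfb6000196)
 (.cons 24 (nat_lit 0xc00000)
 .nil)))))))))))
noncomputable def a75 : Net := (.cons 24 (nat_lit 0xc00000)
 (.cons 12 (nat_lit 0x8880003b4)
 (.cons 6 (nat_lit 0x2002401e010)
 (.cons 3 (nat_lit 0x82006082181)
 (.cons 1 (nat_lit 0x41001000)
 (.cons 1 (nat_lit 0x492082480)
 (.cons 1 (nat_lit 0x41209000)
 (.cons 3 (nat_lit 0x6082000)
 (.cons 6 (nat_lit 0x24014010)
 (.cons 12 (nat_lit 0x880000394)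
 (.cons 24 (nat_lit 0xc00000)
 .nil)))))))))))
noncomputable def a76 : Net := (.cons 24 (nat_lit 0xc00000)
 (.cons 12 (nat_lit 0x372000200)
 (.cons 6 (nat_lit 0x1901000c030)
 (.cons 3 (nat_lit 0x1c5004107100)
 (.cons 1 (nat_lit 0x8000200000)
 (.cons 1 (nat_lit 0x90400400010)
 (.cons 1 (nat_lit 0x40001240040)
 (.cons 3 (nat_lit 0x80000100000)
 (.cons 6 (nat_lit 0x2401000c030)
 (.cons 12 (nat_lit 0x372000200)
 (.cons 24 (nat_lit 0xc00000)
 .nil)))))))))))
noncomputable def a77 : Net := (.cons 24 (nat_lit 0x400000)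
 (.cons 12 (nat_lit 0x210000fe0)
 (.cons 6 (nat_lit 0x802003a020)
 (.cons 3 (nat_lit 0x7182082080)
 (.cons 1 (nat_lit 0x1001041040)
 (.cons 1 (nat_lit 0x12002492480)
 (.cons 1 (nat_lit 0x208009041040)
 (.cons 3 (nat_lit 0x2082080)
 (.cons 6 (nat_lit 0x8020000020)
 (.cons 12 (nat_lit 0x210000e00)
 (.cons 24 (nat_lit 0x400000)
 .nil)))))))))))
noncomputable def a78 : Net := (.cons 24 (nat_lit 0xc00000)
 (.cons 12 (nat_lit 0x2a000fe0)
 (.cons 6 (nat_lit 0x3000800c000)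
 (.cons 3 (nat_lit 0x61c4083000)
 (.cons 1 (nat_lit 0x240200000)
 (.cons 1 (nat_lit 0x402480480000)
 (.cons 1 (nat_lit 0x8241209000)
 (.cons 3 (nat_lit 0x6000080000)
 (.cons 6 (nat_lit 0x800c000)
 (.cons 12 (nat_lit 0x2a000e00)
 (.cons 24 (nat_lit 0xc00000)
 .nil)))))))))))
noncomputable def a79 : Net := (.cons 24 (nat_lit 0x400000)
 (.cons 12 (nat_lit 0x422000170)
 (.cons 6 (nat_lit 0x1000800b010)
 (.cons 3 (nat_lit 0x20841041c0)
 (.cons 1 (nat_lit 0x9000200000)
 (.cons 1 (nat_lit 0x12080400010)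
 (.cons 1 (nat_lit 0x9209241000)
 (.cons 3 (nat_lit 0x80100000)
 (.cons 6 (nat_lit 0x10008008010)
 (.cons 12 (nat_lit 0x422000170)
 (.cons 24 (nat_lit 0x400000)
 .nil)))))))))))
noncomputable def a80 : Net := (.cons 24 (nat_lit 0xc00000)
 (.cons 12 (nat_lit 0x9640000f0)
 (.cons 6 (nat_lit 0x3001800d00c)
 (.cons 3 (nat_lit 0x180086082082)
 (.cons 1 (nat_lit 0x1041008)
 (.cons 1 (nat_lit 0x2002092412)
 (.cons 1 (nat_lit 0x48201241048)
 (.cons 3 (nat_lit 0x80084082082)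
 (.cons 6 (nat_lit 0x3001800800c)
 (.cons 12 (nat_lit 0x1640000f0)
 (.cons 24 (nat_lit 0xc00000)
 .nil)))))))))))
noncomputable def a81 : Net := (.cons 24 (nat_lit 0x800000)
 (.cons 12 (nat_lit 0x82a000fe0)
 (.cons 6 (nat_lit 0x20008033020)
 (.cons 3 (nat_lit 0x3185145180)
 (.cons 1 (nat_lit 0x8048048040)
 (.cons 1 (nat_lit 0x12092492480)
 (.cons 1 (nat_lit 0x1041048040)
 (.cons 3 (nat_lit 0x4102082180)
 (.cons 6 (nat_lit 0x2000800c020)
 (.cons 12 (nat_lit 0x82a000e00)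
 (.cons 24 (nat_lit 0x800000)
 .nil)))))))))))
noncomputable def a82 : Net := (.cons 24 (nat_lit 0x800000)
 (.cons 12 (nat_lit 0xab2000050)
 (.cons 6 (nat_lit 0xa010007034)
 (.cons 3 (nat_lit 0x60840000c4)
 (.cons 1 (nat_lit 0x8000008000)
 (.cons 1 (nat_lit 0x10000010010)
 (.cons 1 (nat_lit 0x9049008240)
 (.cons 3 (nat_lit 0x6080000004)
 (.cons 6 (nat_lit 0x8010000014)
 (.cons 12 (nat_lit 0x2b2000050)
 (.cons 24 (nat_lit 0x800000)
 .nil)))))))))))
noncomputable def a83 : Net := (.cons 24 (nat_lit 0xc00000)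
 (.cons 12 (nat_lit 0x4a9000254)
 (.cons 6 (nat_lit 0x102b014)
 (.cons 3 (nat_lit 0x85141105187)
 (.cons 1 (nat_lit 0x1208208008)
 (.cons 1 (nat_lit 0x402410490090)
 (.cons 1 (nat_lit 0x8209200008)
 (.cons 3 (nat_lit 0x6004)
 (.cons 6 (nat_lit 0x22008024000)
 (.cons 12 (nat_lit 0x89400020a)
 (.cons 24 (nat_lit 0xc00000)
 .nil)))))))))))
noncomputable def a84 : Net := (.cons 24 (nat_lit 0xe00000)
 (.cons 12 (nat_lit 0x4f6000ff2)
 (.cons 6 (nat_lit 0x2c03e01503f)
 (.cons 3 (nat_lit 0x140001102040)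
 (.cons 1 (nat_lit 0x248201241000)
 (.cons 1 (nat_lit 0x490482482402)
 (.cons 1 (nat_lit 0x209241240)
 (.cons 3 (nat_lit 0x2004000100)
 (.cons 6 (nat_lit 0x24016008038)
 (.cons 12 (nat_lit 0x8ca000e60)
 (.cons 24 (nat_lit 0xe00000)
 .nil)))))))))))
noncomputable def a85 : Net := (.cons 24 (nat_lit 0xe00000)
 (.cons 12 (nat_lit 0xbd30004cf)
 (.cons 6 (nat_lit 0x34008016004)
 (.cons 3 (nat_lit 0x181002081042)
 (.cons 1 (nat_lit 0x200000000)
 (.cons 1 (nat_lit 0x492400002000)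
 (.cons 1 (nat_lit 0x40200041049)
 (.cons 3 (nat_lit 0x82000)
 (.cons 6 (nat_lit 0x3000000600a)
 (.cons 12 (nat_lit 0xfc0000400)
 (.cons 24 (nat_lit 0xe00000)
 .nil)))))))))))
noncomputable def a86 : Net := (.cons 24 (nat_lit 0xe00000)
 (.cons 12 (nat_lit 0x2f000e1e)
 (.cons 6 (nat_lit 0x8038018000)
 (.cons 3 (nat_lit 0x2144003004)
 (.cons 1 (nat_lit 0x240040000)
 (.cons 1 (nat_lit 0x402480482090)
 (.cons 1 (nat_lit 0x8041209048)
 (.cons 3 (nat_lit 0x2000000004)
 (.cons 6 (nat_lit 0x10038008000)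
 (.cons 12 (nat_lit 0x80a000e00)
 (.cons 24 (nat_lit 0xe00000)
 .nil)))))))))))
noncomputable def a87 : Net := (.cons 24 (nat_lit 0xe00000)
 (.cons 12 (nat_lit 0xa2c000002)
 (.cons 6 (nat_lit 0x1801303d)
 (.cons 3 (nat_lit 0x3081047)
 (.cons 1 (nat_lit 0x9000000)
 (.cons 1 (nat_lit 0x400092080000)
 (.cons 1 (nat_lit 0x1201041049)
 (.cons 3 (nat_lit 0x2102080080)
 (.cons 6 (nat_lit 0x3e012028)
 (.cons 12 (nat_lit 0xe040000d0)
 (.cons 24 (nat_lit 0xe00000)
 .nil)))))))))))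
noncomputable def a88 : Net := (.cons 24 (nat_lit 0xc00000)
 (.cons 12 (nat_lit 0xc08000110)
 (.cons 6 (nat_lit 0x1000200d00c)
 (.cons 3 (nat_lit 0x4100082082)
 (.cons 1 (nat_lit 0x49041008)
 (.cons 1 (nat_lit 0x402492092412)
 (.cons 1 (nat_lit 0x8049241048)
 (.cons 3 (nat_lit 0x4100082082)
 (.cons 6 (nat_lit 0x1000000800c)
 (.cons 12 (nat_lit 0xc08000110)
 (.cons 24 (nat_lit 0xc00000)
 .nil)))))))))))
noncomputable def a89 : Net := (.cons 24 (nat_lit 0xc00000)
 (.cons 12 (nat_lit 0xc08000110)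
 (.cons 6 (nat_lit 0x1000200d00c)
 (.cons 3 (nat_lit 0x4100082082)
 (.cons 1 (nat_lit 0x49041008)
 (.cons 1 (nat_lit 0x402492092412)
 (.cons 1 (nat_lit 0x8049241048)
 (.cons 3 (nat_lit 0x4100082082)
 (.cons 6 (nat_lit 0x1000000800c)
 (.cons 12 (nat_lit 0xc08000110)
 (.cons 24 (nat_lit 0xc00000)
 .nil)))))))))))
noncomputable def a90 : Net := (.cons 24 (nat_lit 0xc00000)
 (.cons 12 (nat_lit 0x9640000f0)
 (.cons 6 (nat_lit 0x3001800d00c)
 (.cons 3 (nat_lit 0x180086082082)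
 (.cons 1 (nat_lit 0x1041008)
 (.cons 1 (nat_lit 0x2002092412)
 (.cons 1 (nat_lit 0x48201241048)
 (.cons 3 (nat_lit 0x80084082082)
 (.cons 6 (nat_lit 0x3001800800c)
 (.cons 12 (nat_lit 0x1640000f0)
 (.cons 24 (nat_lit 0xc00000)
 .nil)))))))))))
noncomputable def a91 : Net := (.cons 24 (nat_lit 0xc00000)
 (.cons 12 (nat_lit 0x9640000f0)
 (.cons 6 (nat_lit 0x3001800d00c)
 (.cons 3 (nat_lit 0x180086082082)
 (.cons 1 (nat_lit 0x1041008)
 (.cons 1 (nat_lit 0x2002092412)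
 (.cons 1 (nat_lit 0x48201241048)
 (.cons 3 (nat_lit 0x80084082082)
 (.cons 6 (nat_lit 0x3001800800c)
 (.cons 12 (nat_lit 0x1640000f0)
 (.cons 24 (nat_lit 0xc00000)
 .nil)))))))))))
noncomputable def a92 : Net := (.cons 24 (nat_lit 0xe00000)
 (.cons 12 (nat_lit 0xe4000085b)
 (.cons 6 (nat_lit 0x1c018038028)
 (.cons 3 (nat_lit 0x21070c4003)
 (.cons 1 (nat_lit 0x40000000200)
 (.cons 1 (nat_lit 0x80082000400)
 (.cons 1 (nat_lit 0x248008001008)
 (.cons 3 (nat_lit 0x102006000000)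
 (.cons 6 (nat_lit 0xc000018028)
 (.cons 12 (nat_lit 0xc42000898)
 (.cons 24 (nat_lit 0xe00000)
 .nil)))))))))))
noncomputable def a93 : Net := (.cons 24 (nat_lit 0xe00000)
 (.cons 12 (nat_lit 0xeda0007da)
 (.cons 6 (nat_lit 0x1c01a024038)
 (.cons 3 (nat_lit 0x1460011001c4)
 (.cons 1 (nat_lit 0x200201240001)
 (.cons 1 (nat_lit 0x402482482482)
 (.cons 1 (nat_lit 0x48001049000)
 (.cons 3 (nat_lit 0x104004080004)
 (.cons 6 (nat_lit 0x1c00e034018)
 (.cons 12 (nat_lit 0x6e0000692)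
 (.cons 24 (nat_lit 0xe00000)
 .nil)))))))))))
noncomputable def a94 : Net := (.cons 24 (nat_lit 0xc00000)
 (.cons 12 (nat_lit 0x79a000ec0)
 (.cons 6 (nat_lit 0x1802100c020)
 (.cons 3 (nat_lit 0x106105147103)
 (.cons 1 (nat_lit 0x8041008040)
 (.cons 1 (nat_lit 0x92082010080)
 (.cons 1 (nat_lit 0x200048201001)
 (.cons 3 (nat_lit 0x4104084102)
 (.cons 6 (nat_lit 0x30026020)
 (.cons 12 (nat_lit 0x3b0000ec0)
 (.cons 24 (nat_lit 0xc00000)
 .nil)))))))))))
noncomputable def a95 : Net := (.cons 24 (nat_lit 0xc00000)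
 (.cons 12 (nat_lit 0xc08000110)
 (.cons 6 (nat_lit 0x1000200d00c)
 (.cons 3 (nat_lit 0x4100082082)
 (.cons 1 (nat_lit 0x49041008)
 (.cons 1 (nat_lit 0x402492092412)
 (.cons 1 (nat_lit 0x8049241048)
 (.cons 3 (nat_lit 0x4100082082)
 (.cons 6 (nat_lit 0x1000000800c)
 (.cons 12 (nat_lit 0xc08000110)
 (.cons 24 (nat_lit 0xc00000)
 .nil)))))))))))
noncomputable def a96 : Net := (.cons 24 (nat_lit 0xc00000)
 (.cons 12 (nat_lit 0x9640000f0)
 (.cons 6 (nat_lit 0x3001800d00c)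
 (.cons 3 (nat_lit 0x180086082082)
 (.cons 1 (nat_lit 0x1041008)
 (.cons 1 (nat_lit 0x2002092412)
 (.cons 1 (nat_lit 0x48201241048)
 (.cons 3 (nat_lit 0x80084082082)
 (.cons 6 (nat_lit 0x3001800800c)
 (.cons 12 (nat_lit 0x1640000f0)
 (.cons 24 (nat_lit 0xc00000)
 .nil)))))))))))
noncomputable def a97 : Net := (.cons 24 (nat_lit 0xe00000)
 (.cons 12 (nat_lit 0xd9c000bfe)
 (.cons 6 (nat_lit 0x20010027020)
 (.cons 3 (nat_lit 0x1800c5147002)
 (.cons 1 (nat_lit 0x9048000)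
 (.cons 1 (nat_lit 0x2012092082)
 (.cons 1 (nat_lit 0x201041001000)
 (.cons 3 (nat_lit 0x80080104100)
 (.cons 6 (nat_lit 0x8030002020)
 (.cons 12 (nat_lit 0xd9c000be0)
 (.cons 24 (nat_lit 0xe00000)
 .nil)))))))))))
noncomputable def a98 : Net := (.cons 24 (nat_lit 0xe00000)
 (.cons 12 (nat_lit 0xa450002cc)
 (.cons 6 (nat_lit 0x1903c02c032)
 (.cons 3 (nat_lit 0x46102082102)
 (.cons 1 (nat_lit 0x209000001000)
 (.cons 1 (nat_lit 0x412000402410)
 (.cons 1 (nat_lit 0x209008209048)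
 (.cons 3 (nat_lit 0x80080)
 (.cons 6 (nat_lit 0x20038020020)
 (.cons 12 (nat_lit 0x244000274)
 (.cons 24 (nat_lit 0xe00000)
 .nil)))))))))))
noncomputable def a99 : Net := (.cons 24 (nat_lit 0xc00000)
 (.cons 12 (nat_lit 0x200000e00)
 (.cons 6 (nat_lit 0x1803500c020)
 (.cons 3 (nat_lit 0x7100085004)
 (.cons 1 (nat_lit 0x208001041008)
 (.cons 1 (nat_lit 0x410002092090)
 (.cons 1 (nat_lit 0x208009008000)
 (.cons 3 (nat_lit 0x4002082104)
 (.cons 6 (nat_lit 0x28014026020)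
 (.cons 12 (nat_lit 0x200000e00)
 (.cons 24 (nat_lit 0xc00000)
 .nil)))))))))))
noncomputable def a100 : Net := (.cons 24 (nat_lit 0xc00000)
 (.cons 12 (nat_lit 0x22a000fe0)
 (.cons 6 (nat_lit 0x2802f026020)
 (.cons 3 (nat_lit 0x11c40c5104)
 (.cons 1 (nat_lit 0x1001008000)
 (.cons 1 (nat_lit 0x412402010090)
 (.cons 1 (nat_lit 0x1201249008)
 (.cons 3 (nat_lit 0x2100002004)
 (.cons 6 (nat_lit 0x1802800c020)
 (.cons 12 (nat_lit 0xe08000e00)
 (.cons 24 (nat_lit 0xc00000)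
 .nil)))))))))))
noncomputable def a101 : Net := (.cons 24 (nat_lit 0xe00000)
 (.cons 12 (nat_lit 0xc180003be)
 (.cons 6 (nat_lit 0x3802601a007)
 (.cons 3 (nat_lit 0x6004080103)
 (.cons 1 (nat_lit 0x200008000)
 (.cons 1 (nat_lit 0x412402010002)
 (.cons 1 (nat_lit 0x208240048048)
 (.cons 3 (nat_lit 0x2080000000)
 (.cons 6 (nat_lit 0x2e010034)
 (.cons 12 (nat_lit 0xc080003ec)
 (.cons 24 (nat_lit 0xe00000)
 .nil)))))))))))
noncomputable def a102 : Net := (.cons 24 (nat_lit 0xc00000)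
 (.cons 12 (nat_lit 0xa38000f20)
 (.cons 6 (nat_lit 0x28011026020)
 (.cons 3 (nat_lit 0x40030c2101)
 (.cons 1 (nat_lit 0x200040009000)
 (.cons 1 (nat_lit 0x410482092080)
 (.cons 1 (nat_lit 0x208001001048)
 (.cons 3 (nat_lit 0x4104102100)
 (.cons 6 (nat_lit 0x802200c020)
 (.cons 12 (nat_lit 0xe38000ec0)
 (.cons 24 (nat_lit 0xc00000)
 .nil)))))))))))
noncomputable def a103 : Net := (.cons 24 (nat_lit 0xc00000)
 (.cons 12 (nat_lit 0x148000f20)
 (.cons 6 (nat_lit 0x3801a00c020)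
 (.cons 3 (nat_lit 0x44101141103)
 (.cons 1 (nat_lit 0x40001001040)
 (.cons 1 (nat_lit 0x92082492080)
 (.cons 1 (nat_lit 0x40209049001)
 (.cons 3 (nat_lit 0x102084102)
 (.cons 6 (nat_lit 0x28030026020)
 (.cons 12 (nat_lit 0xd5e000f20)
 (.cons 24 (nat_lit 0xc00000)
 .nil)))))))))))
noncomputable def a104 : Net := (.cons 24 (nat_lit 0xc00000)
 (.cons 12 (nat_lit 0x9640000f0)
 (.cons 6 (nat_lit 0x3001800d00c)
 (.cons 3 (nat_lit 0x180086082082)
 (.cons 1 (nat_lit 0x1041008)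
 (.cons 1 (nat_lit 0x2002092412)
 (.cons 1 (nat_lit 0x48201241048)
 (.cons 3 (nat_lit 0x80084082082)
 (.cons 6 (nat_lit 0x3001800800c)
 (.cons 12 (nat_lit 0x1640000f0)
 (.cons 24 (nat_lit 0xc00000)
 .nil)))))))))))
noncomputable def a105 : Net := (.cons 24 (nat_lit 0xc00000)
 (.cons 12 (nat_lit 0xc08000110)
 (.cons 6 (nat_lit 0x1000200d00c)
 (.cons 3 (nat_lit 0x4100082082)
 (.cons 1 (nat_lit 0x49041008)
 (.cons 1 (nat_lit 0x402492092412)
 (.cons 1 (nat_lit 0x8049241048)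
 (.cons 3 (nat_lit 0x4100082082)
 (.cons 6 (nat_lit 0x1000000800c)
 (.cons 12 (nat_lit 0xc08000110)
 (.cons 24 (nat_lit 0xc00000)
 .nil)))))))))))
noncomputable def a106 : Net := (.cons 24 (nat_lit 0xc00000)
 (.cons 12 (nat_lit 0x2a000fe0)
 (.cons 6 (nat_lit 0x3000800c000)
 (.cons 3 (nat_lit 0x61c4083000)
 (.cons 1 (nat_lit 0x240200000)
 (.cons 1 (nat_lit 0x402480480000)
 (.cons 1 (nat_lit 0x8241209000)
 (.cons 3 (nat_lit 0x6000080000)
 (.cons 6 (nat_lit 0x800c000)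
 (.cons 12 (nat_lit 0x2a000e00)
 (.cons 24 (nat_lit 0xc00000)
 .nil)))))))))))
noncomputable def a107 : Net := (.cons 24 (nat_lit 0xe00000)
 (.cons 12 (nat_lit 0x1e6000028)
 (.cons 6 (nat_lit 0x3a02000d031)
 (.cons 3 (nat_lit 0x140004142102)
 (.cons 1 (nat_lit 0x240201201000)
 (.cons 1 (nat_lit 0x490402412080)
 (.cons 1 (nat_lit 0x48208240201)
 (.cons 3 (nat_lit 0x6000100180)
 (.cons 6 (nat_lit 0x4010008000)
 (.cons 12 (nat_lit 0x7c0000112)
 (.cons 24 (nat_lit 0xe00000)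
 .nil)))))))))))
noncomputable def a108 : Net := (.cons 24 (nat_lit 0xe00000)
 (.cons 12 (nat_lit 0x22e000f82)
 (.cons 6 (nat_lit 0x3001f02401a)
 (.cons 3 (nat_lit 0x60c71000c0)
 (.cons 1 (nat_lit 0x8240049000)
 (.cons 1 (nat_lit 0x410490492000)
 (.cons 1 (nat_lit 0x200008048241)
 (.cons 3 (nat_lit 0x6000182000)
 (.cons 6 (nat_lit 0x3202c01a)
 (.cons 12 (nat_lit 0x220000e6a)
 (.cons 24 (nat_lit 0xe00000)
 .nil)))))))))))
noncomputable def a109 : Net := (.cons 24 (nat_lit 0xc00000)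
 (.cons 12 (nat_lit 0xe72000ec0)
 (.cons 6 (nat_lit 0x10026020)
 (.cons 3 (nat_lit 0xc6004143101)
 (.cons 1 (nat_lit 0x200000000000)
 (.cons 1 (nat_lit 0x412082002080)
 (.cons 1 (nat_lit 0x248009049048)
 (.cons 3 (nat_lit 0x82104080100)
 (.cons 6 (nat_lit 0x3800000c020)
 (.cons 12 (nat_lit 0xe72000ec0)
 (.cons 24 (nat_lit 0xc00000)
 .nil)))))))))))
noncomputable def a110 : Net := (.cons 24 (nat_lit 0xc00000)
 (.cons 12 (nat_lit 0xa38000f20)
 (.cons 6 (nat_lit 0x28011026020)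
 (.cons 3 (nat_lit 0x40030c2101)
 (.cons 1 (nat_lit 0x200040009000)
 (.cons 1 (nat_lit 0x410482092080)
 (.cons 1 (nat_lit 0x208001001048)
 (.cons 3 (nat_lit 0x4104102100)
 (.cons 6 (nat_lit 0x802200c020)
 (.cons 12 (nat_lit 0xe38000ec0)
 (.cons 24 (nat_lit 0xc00000)
 .nil)))))))))))
noncomputable def a111 : Net := (.cons 24 (nat_lit 0xc00000)
 (.cons 12 (nat_lit 0xc08000110)
 (.cons 6 (nat_lit 0x1000200d00c)
 (.cons 3 (nat_lit 0x4100082082)
 (.cons 1 (nat_lit 0x49041008)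
 (.cons 1 (nat_lit 0x402492092412)
 (.cons 1 (nat_lit 0x8049241048)
 (.cons 3 (nat_lit 0x4100082082)
 (.cons 6 (nat_lit 0x1000000800c)
 (.cons 12 (nat_lit 0xc08000110)
 (.cons 24 (nat_lit 0xc00000)
 .nil)))))))))))
noncomputable def a112 : Net := (.cons 24 (nat_lit 0xc00000)
 (.cons 12 (nat_lit 0x2a000fe0)
 (.cons 6 (nat_lit 0x3000800c000)
 (.cons 3 (nat_lit 0x61c4083000)
 (.cons 1 (nat_lit 0x240200000)
 (.cons 1 (nat_lit 0x402480480000)
 (.cons 1 (nat_lit 0x8241209000)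
 (.cons 3 (nat_lit 0x6000080000)
 (.cons 6 (nat_lit 0x800c000)
 (.cons 12 (nat_lit 0x2a000e00)
 (.cons 24 (nat_lit 0xc00000)
 .nil)))))))))))
noncomputable def a113 : Net := (.cons 24 (nat_lit 0xe00000)
 (.cons 12 (nat_lit 0x6ac000588)
 (.cons 6 (nat_lit 0x34026010003)
 (.cons 3 (nat_lit 0x84004046)
 (.cons 1 (nat_lit 0x8200008200)
 (.cons 1 (nat_lit 0x410410010482)
 (.cons 1 (nat_lit 0x200248040209)
 (.cons 3 (nat_lit 0x180104004004)
 (.cons 6 (nat_lit 0x2c00601202a)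
 (.cons 12 (nat_lit 0xe880004a8)
 (.cons 24 (nat_lit 0xe00000)
 .nil)))))))))))
noncomputable def a114 : Net := (.cons 24 (nat_lit 0xe00000)
 (.cons 12 (nat_lit 0x8da00046c)
 (.cons 6 (nat_lit 0x4010004007)
 (.cons 3 (nat_lit 0x1c0000002147)
 (.cons 1 (nat_lit 0x40201009200)
 (.cons 1 (nat_lit 0x490412012492)
 (.cons 1 (nat_lit 0x48200008240)
 (.cons 3 (nat_lit 0x82104000000)
 (.cons 6 (nat_lit 0x2c018014002)
 (.cons 12 (nat_lit 0x4e600049e)
 (.cons 24 (nat_lit 0xe00000)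
 .nil)))))))))))
noncomputable def a115 : Net := (.cons 24 (nat_lit 0xc00000)
 (.cons 12 (nat_lit 0x148000f20)
 (.cons 6 (nat_lit 0x3801a00c020)
 (.cons 3 (nat_lit 0x44101141103)
 (.cons 1 (nat_lit 0x40001001040)
 (.cons 1 (nat_lit 0x92082492080)
 (.cons 1 (nat_lit 0x40209049001)
 (.cons 3 (nat_lit 0x102084102)
 (.cons 6 (nat_lit 0x28030026020)
 (.cons 12 (nat_lit 0xd5e000f20)
 (.cons 24 (nat_lit 0xc00000)
 .nil)))))))))))
noncomputable def a116 : Net := (.cons 24 (nat_lit 0xc00000)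
 (.cons 12 (nat_lit 0xf00000ec0)
 (.cons 6 (nat_lit 0x4036026020)
 (.cons 3 (nat_lit 0x104002144101)
 (.cons 1 (nat_lit 0x8240000)
 (.cons 1 (nat_lit 0x412410490080)
 (.cons 1 (nat_lit 0x200048200048)
 (.cons 3 (nat_lit 0x180084100)
 (.cons 6 (nat_lit 0x1002400c020)
 (.cons 12 (nat_lit 0xf3c000f20)
 (.cons 24 (nat_lit 0xc00000)
 .nil)))))))))))
noncomputable def a117 : Net := (.cons 24 (nat_lit 0xc00000)
 (.cons 12 (nat_lit 0xc08000110)
 (.cons 6 (nat_lit 0x1000200d00c)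
 (.cons 3 (nat_lit 0x4100082082)
 (.cons 1 (nat_lit 0x49041008)
 (.cons 1 (nat_lit 0x402492092412)
 (.cons 1 (nat_lit 0x8049241048)
 (.cons 3 (nat_lit 0x4100082082)
 (.cons 6 (nat_lit 0x1000000800c)
 (.cons 12 (nat_lit 0xc08000110)
 (.cons 24 (nat_lit 0xc00000)
 .nil)))))))))))
noncomputable def a118 : Net := (.cons 24 (nat_lit 0xc00000)
 (.cons 12 (nat_lit 0x9640000f0)
 (.cons 6 (nat_lit 0x3001800d00c)
 (.cons 3 (nat_lit 0x180086082082)
 (.cons 1 (nat_lit 0x1041008)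
 (.cons 1 (nat_lit 0x2002092412)
 (.cons 1 (nat_lit 0x48201241048)
 (.cons 3 (nat_lit 0x80084082082)
 (.cons 6 (nat_lit 0x3001800800c)
 (.cons 12 (nat_lit 0x1640000f0)
 (.cons 24 (nat_lit 0xc00000)
 .nil)))))))))))
noncomputable def a119 : Net := (.cons 24 (nat_lit 0xc00000)
 (.cons 12 (nat_lit 0xc94000683)
 (.cons 6 (nat_lit 0x2001030023)
 (.cons 3 (nat_lit 0x7044082001)
 (.cons 1 (nat_lit 0x1041041008)
 (.cons 1 (nat_lit 0x412492482012)
 (.cons 1 (nat_lit 0x8248200001)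
 (.cons 3 (nat_lit 0x4006082006)
 (.cons 6 (nat_lit 0x2000c028004)
 (.cons 12 (nat_lit 0x89e0006c6)
 (.cons 24 (nat_lit 0xc00000)
 .nil)))))))))))
noncomputable def a120 : Net := (.cons 24 (nat_lit 0xc00000)
 (.cons 12 (nat_lit 0xe38000ec0)
 (.cons 6 (nat_lit 0x801d00c020)
 (.cons 3 (nat_lit 0x40c40c1103)
 (.cons 1 (nat_lit 0x208200008040)
 (.cons 1 (nat_lit 0x410412412080)
 (.cons 1 (nat_lit 0x200001009001)
 (.cons 3 (nat_lit 0x4100104102)
 (.cons 6 (nat_lit 0x2802e026020)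
 (.cons 12 (nat_lit 0xa38000f20)
 (.cons 24 (nat_lit 0xc00000)
 .nil)))))))))))
noncomputable def a121 : Net := (.cons 24 (nat_lit 0xc00000)
 (.cons 12 (nat_lit 0xa1e0000e5)
 (.cons 6 (nat_lit 0x1c01900e004)
 (.cons 3 (nat_lit 0x31441c4147)
 (.cons 1 (nat_lit 0x40000041)
 (.cons 1 (nat_lit 0x410092402082)
 (.cons 1 (nat_lit 0x200001201240)
 (.cons 3 (nat_lit 0x100000182082)
 (.cons 6 (nat_lit 0x3c02c008008)
 (.cons 12 (nat_lit 0x228000058)
 (.cons 24 (nat_lit 0xc00000)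
 .nil)))))))))))
noncomputable def a122 : Net := (.cons 24 (nat_lit 0xc00000)
 (.cons 12 (nat_lit 0xa1e0000e5)
 (.cons 6 (nat_lit 0x1c01900e004)
 (.cons 3 (nat_lit 0x31441c4147)
 (.cons 1 (nat_lit 0x40000041)
 (.cons 1 (nat_lit 0x410092402082)
 (.cons 1 (nat_lit 0x200001201240)
 (.cons 3 (nat_lit 0x100000182082)
 (.cons 6 (nat_lit 0x3c02c008008)
 (.cons 12 (nat_lit 0x228000058)
 (.cons 24 (nat_lit 0xc00000)
 .nil)))))))))))
noncomputable def a123 : Net := (.cons 24 (nat_lit 0xc00000)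
 (.cons 12 (nat_lit 0x3bb000036)
 (.cons 6 (nat_lit 0x3801702a033)
 (.cons 3 (nat_lit 0x21001441c5)
 (.cons 1 (nat_lit 0x201040240048)
 (.cons 1 (nat_lit 0x482480490090)
 (.cons 1 (nat_lit 0x9000241040)
 (.cons 3 (nat_lit 0x104000004002)
 (.cons 6 (nat_lit 0x2203602a00c)
 (.cons 12 (nat_lit 0xfb6000196)
 (.cons 24 (nat_lit 0xc00000)
 .nil)))))))))))
noncomputable def a124 : Net := (.cons 24 (nat_lit 0xe00000)
 (.cons 12 (nat_lit 0x1aa000f20)
 (.cons 6 (nat_lit 0x3c033036036)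
 (.cons 3 (nat_lit 0x1800c6186185)
 (.cons 1 (nat_lit 0x1000040008)
 (.cons 1 (nat_lit 0x82402080010)
 (.cons 1 (nat_lit 0x8041241048)
 (.cons 3 (nat_lit 0x100006100084)
 (.cons 6 (nat_lit 0x18002034034)
 (.cons 12 (nat_lit 0x5a2000fea)
 (.cons 24 (nat_lit 0xe00000)
 .nil)))))))))))
noncomputable def a125 : Net := (.cons 24 (nat_lit 0xe00000)
 (.cons 12 (nat_lit 0x95d000b90)
 (.cons 6 (nat_lit 0xd02003801c)
 (.cons 3 (nat_lit 0x1430070011c6)
 (.cons 1 (nat_lit 0x1000040201)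
 (.cons 1 (nat_lit 0x412402482402)
 (.cons 1 (nat_lit 0x8008241201)
 (.cons 3 (nat_lit 0x6002000104)
 (.cons 6 (nat_lit 0xc028018008)
 (.cons 12 (nat_lit 0x172000ad0)
 (.cons 24 (nat_lit 0xe00000)
 .nil)))))))))))
noncomputable def a126 : Net := (.cons 24 (nat_lit 0xc00000)
 (.cons 12 (nat_lit 0xfe6000260)
 (.cons 6 (nat_lit 0x1b02000d001)
 (.cons 3 (nat_lit 0x43003045180)
 (.cons 1 (nat_lit 0x40000000041)
 (.cons 1 (nat_lit 0x92402080082)
 (.cons 1 (nat_lit 0x40008001049)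
 (.cons 3 (nat_lit 0x100002002004)
 (.cons 6 (nat_lit 0x2000004024)
 (.cons 12 (nat_lit 0xbc4000280)
 (.cons 24 (nat_lit 0xc00000)
 .nil)))))))))))
noncomputable def a127 : Net := (.cons 24 (nat_lit 0xc00000)
 (.cons 12 (nat_lit 0x85e000520)
 (.cons 6 (nat_lit 0x7014012020)
 (.cons 3 (nat_lit 0x7101002086)
 (.cons 1 (nat_lit 0x1200049048)
 (.cons 1 (nat_lit 0x402482092090)
 (.cons 1 (nat_lit 0x40201048249)
 (.cons 3 (nat_lit 0x186180002086)
 (.cons 6 (nat_lit 0x36004000000)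
 (.cons 12 (nat_lit 0x87e000480)
 (.cons 24 (nat_lit 0xc00000)
 .nil)))))))))))
noncomputable def a128 : Net := (.cons 24 (nat_lit 0xc00000)
 (.cons 12 (nat_lit 0x2a000fe0)
 (.cons 6 (nat_lit 0x3000800c000)
 (.cons 3 (nat_lit 0x61c4083000)
 (.cons 1 (nat_lit 0x240200000)
 (.cons 1 (nat_lit 0x402480480000)
 (.cons 1 (nat_lit 0x8241209000)
 (.cons 3 (nat_lit 0x6000080000)
 (.cons 6 (nat_lit 0x800c000)
 (.cons 12 (nat_lit 0x2a000e00)
 (.cons 24 (nat_lit 0xc00000)
 .nil)))))))))))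
noncomputable def a129 : Net := (.cons 24 (nat_lit 0xc00000)
 (.cons 12 (nat_lit 0xf95000fe0)
 (.cons 6 (nat_lit 0xa021019020)
 (.cons 3 (nat_lit 0x181182185004)
 (.cons 1 (nat_lit 0x8000001040)
 (.cons 1 (nat_lit 0x10080492090)
 (.cons 1 (nat_lit 0x200040001048)
 (.cons 3 (nat_lit 0x180002104)
 (.cons 6 (nat_lit 0x1c01000c020)
 (.cons 12 (nat_lit 0xba6000e00)
 (.cons 24 (nat_lit 0xc00000)
 .nil)))))))))))
noncomputable def a130 : Net := (.cons 24 (nat_lit 0xe00000)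
 (.cons 12 (nat_lit 0xfe3000952)
 (.cons 6 (nat_lit 0x3b01000b020)
 (.cons 3 (nat_lit 0xc00030800c4)
 (.cons 1 (nat_lit 0x208008241048)
 (.cons 1 (nat_lit 0x490012482090)
 (.cons 1 (nat_lit 0x200001041000)
 (.cons 3 (nat_lit 0x182000084186)
 (.cons 6 (nat_lit 0x18028008038)
 (.cons 12 (nat_lit 0xdd0000986)
 (.cons 24 (nat_lit 0xe00000)
 .nil)))))))))))
noncomputable def a131 : Net := (.cons 24 (nat_lit 0xc00000)
 (.cons 12 (nat_lit 0x9640000f0)
 (.cons 6 (nat_lit 0x3001800d00c)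
 (.cons 3 (nat_lit 0x180086082082)
 (.cons 1 (nat_lit 0x1041008)
 (.cons 1 (nat_lit 0x2002092412)
 (.cons 1 (nat_lit 0x48201241048)
 (.cons 3 (nat_lit 0x80084082082)
 (.cons 6 (nat_lit 0x3001800800c)
 (.cons 12 (nat_lit 0x1640000f0)
 (.cons 24 (nat_lit 0xc00000)
 .nil)))))))))))
noncomputable def a132 : Net := (.cons 24 (nat_lit 0xc00000)
 (.cons 12 (nat_lit 0x355000e00)
 (.cons 6 (nat_lit 0x2d02a019020)
 (.cons 3 (nat_lit 0xc5086085004)
 (.cons 1 (nat_lit 0x48000040040)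
 (.cons 1 (nat_lit 0x92002482090)
 (.cons 1 (nat_lit 0x201201048)
 (.cons 3 (nat_lit 0x184006082104)
 (.cons 6 (nat_lit 0x800a00c020)
 (.cons 12 (nat_lit 0xb64000e00)
 (.cons 24 (nat_lit 0xc00000)
 .nil)))))))))))
noncomputable def a133 : Net := (.cons 24 (nat_lit 0xe00000)
 (.cons 12 (nat_lit 0xc760002aa)
 (.cons 6 (nat_lit 0x3c004034)
 (.cons 3 (nat_lit 0x142105182003)
 (.cons 1 (nat_lit 0x40001000048)
 (.cons 1 (nat_lit 0x90482400490)
 (.cons 1 (nat_lit 0x40208201048)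
 (.cons 3 (nat_lit 0x104084180000)
 (.cons 6 (nat_lit 0x3002e004036)
 (.cons 12 (nat_lit 0x2600002ca)
 (.cons 24 (nat_lit 0xe00000)
 .nil)))))))))))
noncomputable def a134 : Net := (.cons 24 (nat_lit 0xe00000)
 (.cons 12 (nat_lit 0x2300015a)
 (.cons 6 (nat_lit 0x1002400a036)
 (.cons 3 (nat_lit 0x7187100083)
 (.cons 1 (nat_lit 0x8200048)
 (.cons 1 (nat_lit 0x410490402090)
 (.cons 1 (nat_lit 0x208009201248)
 (.cons 3 (nat_lit 0x6004100080)
 (.cons 6 (nat_lit 0x1002400a026)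
 (.cons 12 (nat_lit 0x408000018)
 (.cons 24 (nat_lit 0xe00000)
 .nil)))))))))))
noncomputable def a135 : Net := (.cons 24 (nat_lit 0xe00000)
 (.cons 12 (nat_lit 0xf22000048)
 (.cons 6 (nat_lit 0x600801a030)
 (.cons 3 (nat_lit 0x100180183)
 (.cons 1 (nat_lit 0x201008200000)
 (.cons 1 (nat_lit 0x492090400080)
 (.cons 1 (nat_lit 0x201009201200)
 (.cons 3 (nat_lit 0x100100180)
 (.cons 6 (nat_lit 0x600801a030)
 (.cons 12 (nat_lit 0xb22000008)
 (.cons 24 (nat_lit 0xe00000)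
 .nil)))))))))))
noncomputable def a136 : Net := (.cons 24 (nat_lit 0xe00000)
 (.cons 12 (nat_lit 0x9e60007e0)
 (.cons 6 (nat_lit 0xe02001e006)
 (.cons 3 (nat_lit 0x143002083006)
 (.cons 1 (nat_lit 0x40200000048)
 (.cons 1 (nat_lit 0x482400080092)
 (.cons 1 (nat_lit 0x41001001048)
 (.cons 3 (nat_lit 0x4000002006)
 (.cons 6 (nat_lit 0x1200001e004)
 (.cons 12 (nat_lit 0x7e6000600)
 (.cons 24 (nat_lit 0xe00000)
 .nil)))))))))))
noncomputable def a137 : Net := (.cons 24 (nat_lit 0xe00000)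
 (.cons 12 (nat_lit 0xd30000fe0)
 (.cons 6 (nat_lit 0x4030018006)
 (.cons 3 (nat_lit 0x2046004006)
 (.cons 1 (nat_lit 0x1000208048)
 (.cons 1 (nat_lit 0x2000410092)
 (.cons 1 (nat_lit 0x201008209048)
 (.cons 3 (nat_lit 0x2004006)
 (.cons 6 (nat_lit 0x4020008004)
 (.cons 12 (nat_lit 0xd10000fe0)
 (.cons 24 (nat_lit 0xe00000)
 .nil)))))))))))
noncomputable def a138 : Net := (.cons 24 (nat_lit 0xe00000)
 (.cons 12 (nat_lit 0xf22000048)
 (.cons 6 (nat_lit 0x600801a030)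
 (.cons 3 (nat_lit 0x100180183)
 (.cons 1 (nat_lit 0x201008200000)
 (.cons 1 (nat_lit 0x492090400080)
 (.cons 1 (nat_lit 0x201009201200)
 (.cons 3 (nat_lit 0x100100180)
 (.cons 6 (nat_lit 0x600801a030)
 (.cons 12 (nat_lit 0xb22000008)
 (.cons 24 (nat_lit 0xe00000)
 .nil)))))))))))
noncomputable def a139 : Net := (.cons 24 (nat_lit 0xe00000)
 (.cons 12 (nat_lit 0x2300015a)
 (.cons 6 (nat_lit 0x1002400a036)
 (.cons 3 (nat_lit 0x7187100083)
 (.cons 1 (nat_lit 0x8200048)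
 (.cons 1 (nat_lit 0x410490402090)
 (.cons 1 (nat_lit 0x208009201248)
 (.cons 3 (nat_lit 0x6004100080)
 (.cons 6 (nat_lit 0x1002400a026)
 (.cons 12 (nat_lit 0x408000018)
 (.cons 24 (nat_lit 0xe00000)
 .nil)))))))))))
noncomputable def a140 : Net := (.cons 24 (nat_lit 0x800000)
 (.cons 12 (nat_lit 0x9840003ee)
 (.cons 6 (nat_lit 0x28000004000)
 (.cons 3 (nat_lit 0x104046000081)
 (.cons 1 (nat_lit 0x200000040000)
 (.cons 1 (nat_lit 0x490410080012)
 (.cons 1 (nat_lit 0x200001241200)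
 (.cons 3 (nat_lit 0x104006080000)
 (.cons 6 (nat_lit 0x28000004000)
 (.cons 12 (nat_lit 0x98400046e)
 (.cons 24 (nat_lit 0x800000)
 .nil)))))))))))
noncomputable def a141 : Net := (.cons 24 (nat_lit 0xa00000)
 (.cons 12 (nat_lit 0x2380001b4)
 (.cons 6 (nat_lit 0x20038006024)
 (.cons 3 (nat_lit 0x6182000006)
 (.cons 1 (nat_lit 0x208208040001)
 (.cons 1 (nat_lit 0x410412090082)
 (.cons 1 (nat_lit 0x208208040201)
 (.cons 3 (nat_lit 0x4102000004)
 (.cons 6 (nat_lit 0x18004024)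
 (.cons 12 (nat_lit 0x8180000b4)
 (.cons 24 (nat_lit 0xa00000)
 .nil)))))))))))
noncomputable def a142 : Net := (.cons 24 (nat_lit 0xe00000)
 (.cons 12 (nat_lit 0x38400019c)
 (.cons 6 (nat_lit 0x3401000a030)
 (.cons 3 (nat_lit 0x185142100085)
 (.cons 1 (nat_lit 0x208048200001)
 (.cons 1 (nat_lit 0x410092410012)
 (.cons 1 (nat_lit 0x208040201201)
 (.cons 3 (nat_lit 0x4104100006)
 (.cons 6 (nat_lit 0x4030008030)
 (.cons 12 (nat_lit 0x9a40000bc)
 (.cons 24 (nat_lit 0xe00000)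
 .nil)))))))))))
noncomputable def a143 : Net := (.cons 24 (nat_lit 0xe00000)
 (.cons 12 (nat_lit 0xe00000e00)
 (.cons 6 (nat_lit 0x24030006)
 (.cons 3 (nat_lit 0x1083002006)
 (.cons 1 (nat_lit 0x200000009048)
 (.cons 1 (nat_lit 0x410080012092)
 (.cons 1 (nat_lit 0x200209209048)
 (.cons 3 (nat_lit 0x80000006)
 (.cons 6 (nat_lit 0x4030004)
 (.cons 12 (nat_lit 0xe00000e00)
 (.cons 24 (nat_lit 0xe00000)
 .nil)))))))))))
noncomputable def a144 : Net := (.cons 24 (nat_lit 0xc00000)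
 (.cons 12 (nat_lit 0x2a000fe0)
 (.cons 6 (nat_lit 0x3000800c000)
 (.cons 3 (nat_lit 0x61c4083000)
 (.cons 1 (nat_lit 0x240200000)
 (.cons 1 (nat_lit 0x402480480000)
 (.cons 1 (nat_lit 0x8241209000)
 (.cons 3 (nat_lit 0x6000080000)
 (.cons 6 (nat_lit 0x800c000)
 (.cons 12 (nat_lit 0x2a000e00)
 (.cons 24 (nat_lit 0xc00000)
 .nil)))))))))))
noncomputable def a145 : Net := (.cons 24 (nat_lit 0xe00000)
 (.cons 12 (nat_lit 0x9e60007e0)
 (.cons 6 (nat_lit 0xe02001e006)
 (.cons 3 (nat_lit 0x143002083006)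
 (.cons 1 (nat_lit 0x40200000048)
 (.cons 1 (nat_lit 0x482400080092)
 (.cons 1 (nat_lit 0x41001001048)
 (.cons 3 (nat_lit 0x4000002006)
 (.cons 6 (nat_lit 0x1200001e004)
 (.cons 12 (nat_lit 0x7e6000600)
 (.cons 24 (nat_lit 0xe00000)
 .nil)))))))))))
noncomputable def a146 : Net := (.cons 24 (nat_lit 0xe00000)
 (.cons 12 (nat_lit 0x9a40000bc)
 (.cons 6 (nat_lit 0xc030008030)
 (.cons 3 (nat_lit 0x81044100001)
 (.cons 1 (nat_lit 0x201200200008)
 (.cons 1 (nat_lit 0x402412410012)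
 (.cons 1 (nat_lit 0x201208201208)
 (.cons 3 (nat_lit 0x100002100082)
 (.cons 6 (nat_lit 0x3001000a030)
 (.cons 12 (nat_lit 0x38400019c)
 (.cons 24 (nat_lit 0xe00000)
 .nil)))))))))))
noncomputable def a147 : Net := (.cons 24 (nat_lit 0xe00000)
 (.cons 12 (nat_lit 0x2300015a)
 (.cons 6 (nat_lit 0x1002400a036)
 (.cons 3 (nat_lit 0x7187100083)
 (.cons 1 (nat_lit 0x8200048)
 (.cons 1 (nat_lit 0x410490402090)
 (.cons 1 (nat_lit 0x208009201248)
 (.cons 3 (nat_lit 0x6004100080)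
 (.cons 6 (nat_lit 0x1002400a026)
 (.cons 12 (nat_lit 0x408000018)
 (.cons 24 (nat_lit 0xe00000)
 .nil)))))))))))
noncomputable def a148 : Net := (.cons 24 (nat_lit 0xe00000)
 (.cons 12 (nat_lit 0x7e6000600)
 (.cons 6 (nat_lit 0x500001e006)
 (.cons 3 (nat_lit 0xc7000181006)
 (.cons 1 (nat_lit 0x208000000048)
 (.cons 1 (nat_lit 0x412400400092)
 (.cons 1 (nat_lit 0x8201008048)
 (.cons 3 (nat_lit 0x102002100006)
 (.cons 6 (nat_lit 0x2002001e004)
 (.cons 12 (nat_lit 0x9e60007e0)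
 (.cons 24 (nat_lit 0xe00000)
 .nil)))))))))))
noncomputable def a149 : Net := (.cons 24 (nat_lit 0xe00000)
 (.cons 12 (nat_lit 0x2300015a)
 (.cons 6 (nat_lit 0x1002400a036)
 (.cons 3 (nat_lit 0x7187100083)
 (.cons 1 (nat_lit 0x8200048)
 (.cons 1 (nat_lit 0x410490402090)
 (.cons 1 (nat_lit 0x208009201248)
 (.cons 3 (nat_lit 0x6004100080)
 (.cons 6 (nat_lit 0x1002400a026)
 (.cons 12 (nat_lit 0x408000018)
 (.cons 24 (nat_lit 0xe00000)
 .nil)))))))))))
noncomputable def a150 : Net := (.cons 24 (nat_lit 0xe00000)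
 (.cons 12 (nat_lit 0x9a40000bc)
 (.cons 6 (nat_lit 0xc030008030)
 (.cons 3 (nat_lit 0x81044100001)
 (.cons 1 (nat_lit 0x201200200008)
 (.cons 1 (nat_lit 0x402412410012)
 (.cons 1 (nat_lit 0x201208201208)
 (.cons 3 (nat_lit 0x100002100082)
 (.cons 6 (nat_lit 0x3001000a030)
 (.cons 12 (nat_lit 0x38400019c)
 (.cons 24 (nat_lit 0xe00000)
 .nil)))))))))))
noncomputable def a151 : Net := (.cons 24 (nat_lit 0xc00000)
 (.cons 12 (nat_lit 0x2a000fe0)
 (.cons 6 (nat_lit 0x3000800c000)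
 (.cons 3 (nat_lit 0x61c4083000)
 (.cons 1 (nat_lit 0x240200000)
 (.cons 1 (nat_lit 0x402480480000)
 (.cons 1 (nat_lit 0x8241209000)
 (.cons 3 (nat_lit 0x6000080000)
 (.cons 6 (nat_lit 0x800c000)
 (.cons 12 (nat_lit 0x2a000e00)
 (.cons 24 (nat_lit 0xc00000)
 .nil)))))))))))
noncomputable def a152 : Net := (.cons 24 (nat_lit 0xe00000)
 (.cons 12 (nat_lit 0x5b4000466)
 (.cons 6 (nat_lit 0x2c00203a010)
 (.cons 3 (nat_lit 0x1021051c6005)
 (.cons 1 (nat_lit 0x201041040008)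
 (.cons 1 (nat_lit 0x492082490092)
 (.cons 1 (nat_lit 0x201209041209)
 (.cons 3 (nat_lit 0x186104086180)
 (.cons 6 (nat_lit 0x3c00202c014)
 (.cons 12 (nat_lit 0xbb800059c)
 (.cons 24 (nat_lit 0xe00000)
 .nil)))))))))))
noncomputable def a153 : Net := (.cons 24 (nat_lit 0xe00000)
 (.cons 12 (nat_lit 0x856000e38)
 (.cons 6 (nat_lit 0x2202802e023)
 (.cons 3 (nat_lit 0x140002185104)
 (.cons 1 (nat_lit 0x41201041048)
 (.cons 1 (nat_lit 0x82402092090)
 (.cons 1 (nat_lit 0x201009049000)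
 (.cons 3 (nat_lit 0x104004100104)
 (.cons 6 (nat_lit 0x32020028022)
 (.cons 12 (nat_lit 0x460000e58)
 (.cons 24 (nat_lit 0xe00000)
 .nil)))))))))))
noncomputable def a154 : Net := (.cons 24 (nat_lit 0xe00000)
 (.cons 12 (nat_lit 0xdc0000e00)
 (.cons 6 (nat_lit 0x1d02003902a)
 (.cons 3 (nat_lit 0xc6002101142)
 (.cons 1 (nat_lit 0x1209040)
 (.cons 1 (nat_lit 0x80402492082)
 (.cons 1 (nat_lit 0x208209041000)
 (.cons 3 (nat_lit 0x82006082100)
 (.cons 6 (nat_lit 0x1203001002e)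
 (.cons 12 (nat_lit 0x5c0000e00)
 (.cons 24 (nat_lit 0xe00000)
 .nil)))))))))))
noncomputable def a155 : Net := (.cons 24 (nat_lit 0xa00000)
 (.cons 12 (nat_lit 0xb150001e0)
 (.cons 6 (nat_lit 0x3c00502000e)
 (.cons 3 (nat_lit 0x100182140)
 (.cons 1 (nat_lit 0x8000040008)
 (.cons 1 (nat_lit 0x12010482092)
 (.cons 1 (nat_lit 0x208200040208)
 (.cons 3 (nat_lit 0x80180182)
 (.cons 6 (nat_lit 0x10024020022)
 (.cons 12 (nat_lit 0x324000000)
 (.cons 24 (nat_lit 0xa00000)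
 .nil)))))))))))
noncomputable def a156 : Net := (.cons 24 (nat_lit 0xe00000)
 (.cons 12 (nat_lit 0xe3c0007e0)
 (.cons 6 (nat_lit 0x2000003c02a)
 (.cons 3 (nat_lit 0x4005147142)
 (.cons 1 (nat_lit 0x41200040)
 (.cons 1 (nat_lit 0x2092490082)
 (.cons 1 (nat_lit 0x201241241000)
 (.cons 3 (nat_lit 0x4184006100)
 (.cons 6 (nat_lit 0x3000003a02e)
 (.cons 12 (nat_lit 0x838000600)
 (.cons 24 (nat_lit 0xe00000)
 .nil)))))))))))
noncomputable def a157 : Net := (.cons 24 (nat_lit 0xc00000)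
 (.cons 12 (nat_lit 0xd40000800)
 (.cons 6 (nat_lit 0x18010021020)
 (.cons 3 (nat_lit 0x182000185140)
 (.cons 1 (nat_lit 0x201001048200)
 (.cons 1 (nat_lit 0x412012492480)
 (.cons 1 (nat_lit 0x241201041040)
 (.cons 3 (nat_lit 0x182000182080)
 (.cons 6 (nat_lit 0x18010000020)
 (.cons 12 (nat_lit 0x540000800)
 (.cons 24 (nat_lit 0xc00000)
 .nil)))))))))))
noncomputable def a158 : Net := (.cons 24 (nat_lit 0xc00000)
 (.cons 12 (nat_lit 0xc44000200)
 (.cons 6 (nat_lit 0x3203c00a03e)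
 (.cons 3 (nat_lit 0x50040851c0)
 (.cons 1 (nat_lit 0x1000200)
 (.cons 1 (nat_lit 0x400402010492)
 (.cons 1 (nat_lit 0x40009200040)
 (.cons 3 (nat_lit 0x4084000)
 (.cons 6 (nat_lit 0x3203800a03e)
 (.cons 12 (nat_lit 0xc44000200)
 (.cons 24 (nat_lit 0xc00000)
 .nil)))))))))))
noncomputable def a159 : Net := (.cons 24 (nat_lit 0xc00000)
 (.cons 12 (nat_lit 0x9640000f0)
 (.cons 6 (nat_lit 0x3001800d00c)
 (.cons 3 (nat_lit 0x180086082082)
 (.cons 1 (nat_lit 0x1041008)
 (.cons 1 (nat_lit 0x2002092412)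
 (.cons 1 (nat_lit 0x48201241048)
 (.cons 3 (nat_lit 0x80084082082)
 (.cons 6 (nat_lit 0x3001800800c)
 (.cons 12 (nat_lit 0x1640000f0)
 (.cons 24 (nat_lit 0xc00000)
 .nil)))))))))))
noncomputable def a160 : Net := (.cons 24 (nat_lit 0xc00000)
 (.cons 12 (nat_lit 0xc08000110)
 (.cons 6 (nat_lit 0x1000200d00c)
 (.cons 3 (nat_lit 0x4100082082)
 (.cons 1 (nat_lit 0x49041008)
 (.cons 1 (nat_lit 0x402492092412)
 (.cons 1 (nat_lit 0x8049241048)
 (.cons 3 (nat_lit 0x4100082082)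
 (.cons 6 (nat_lit 0x1000000800c)
 (.cons 12 (nat_lit 0xc08000110)
 (.cons 24 (nat_lit 0xc00000)
 .nil)))))))))))
noncomputable def a161 : Net := (.cons 24 (nat_lit 0xe00000)
 (.cons 12 (nat_lit 0xee60006f6)
 (.cons 6 (nat_lit 0x1203402a025)
 (.cons 3 (nat_lit 0x41105085106)
 (.cons 1 (nat_lit 0x8001008040)
 (.cons 1 (nat_lit 0x412002410082)
 (.cons 1 (nat_lit 0x48000200048)
 (.cons 3 (nat_lit 0x86004006102)
 (.cons 6 (nat_lit 0xa000028020)
 (.cons 12 (nat_lit 0xe4000708)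
 (.cons 24 (nat_lit 0xe00000)
 .nil)))))))))))
noncomputable def a162 : Net := (.cons 24 (nat_lit 0xe00000)
 (.cons 12 (nat_lit 0xeac000600)
 (.cons 6 (nat_lit 0x2001003a02e)
 (.cons 3 (nat_lit 0x841011c10c6)
 (.cons 1 (nat_lit 0x1048240000)
 (.cons 1 (nat_lit 0x12090482410)
 (.cons 1 (nat_lit 0x200248048200)
 (.cons 3 (nat_lit 0x4000080084)
 (.cons 6 (nat_lit 0x2000003c02a)
 (.cons 12 (nat_lit 0x8a80007e0)
 (.cons 24 (nat_lit 0xe00000)
 .nil)))))))))))
noncomputable def a163 : Net := (.cons 24 (nat_lit 0xe00000)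
 (.cons 12 (nat_lit 0xf2f000fe0)
 (.cons 6 (nat_lit 0x3e02e02802a)
 (.cons 3 (nat_lit 0x184140182142)
 (.cons 1 (nat_lit 0x1040048040)
 (.cons 1 (nat_lit 0x82090490082)
 (.cons 1 (nat_lit 0x209208049000)
 (.cons 3 (nat_lit 0x180000184100)
 (.cons 6 (nat_lit 0x2e01603002e)
 (.cons 12 (nat_lit 0x91a000fe0)
 (.cons 24 (nat_lit 0xe00000)
 .nil)))))))))))
noncomputable def a164 : Net := (.cons 24 (nat_lit 0xc00000)
 (.cons 12 (nat_lit 0x54c000400)
 (.cons 6 (nat_lit 0x2503003e000)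
 (.cons 3 (nat_lit 0x1020051c6002)
 (.cons 1 (nat_lit 0x41209240200)
 (.cons 1 (nat_lit 0x82412490402)
 (.cons 1 (nat_lit 0x41209241208)
 (.cons 3 (nat_lit 0x4000006002)
 (.cons 6 (nat_lit 0x2003e000)
 (.cons 12 (nat_lit 0x54c000400)
 (.cons 24 (nat_lit 0xc00000)
 .nil)))))))))))
noncomputable def a165 : Net := (.cons 24 (nat_lit 0xe00000)
 (.cons 12 (nat_lit 0x266000be0)
 (.cons 6 (nat_lit 0x3900003a012)
 (.cons 3 (nat_lit 0x44100081100)
 (.cons 1 (nat_lit 0x1001008008)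
 (.cons 1 (nat_lit 0x412002010412)
 (.cons 1 (nat_lit 0x209200208048)
 (.cons 3 (nat_lit 0x80000100)
 (.cons 6 (nat_lit 0x1002003a012)
 (.cons 12 (nat_lit 0x266000a00)
 (.cons 24 (nat_lit 0xe00000)
 .nil)))))))))))
noncomputable def a166 : Net := (.cons 24 (nat_lit 0xc00000)
 (.cons 12 (nat_lit 0x54c000400)
 (.cons 6 (nat_lit 0x2503003e000)
 (.cons 3 (nat_lit 0x1020051c6002)
 (.cons 1 (nat_lit 0x41209240200)
 (.cons 1 (nat_lit 0x82412490402)
 (.cons 1 (nat_lit 0x41209241208)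
 (.cons 3 (nat_lit 0x4000006002)
 (.cons 6 (nat_lit 0x2003e000)
 (.cons 12 (nat_lit 0x54c000400)
 (.cons 24 (nat_lit 0xc00000)
 .nil)))))))))))
noncomputable def a167 : Net := (.cons 24 (nat_lit 0xc00000)
 (.cons 12 (nat_lit 0xc44000200)
 (.cons 6 (nat_lit 0x3203c00a03e)
 (.cons 3 (nat_lit 0x50040851c0)
 (.cons 1 (nat_lit 0x1000200)
 (.cons 1 (nat_lit 0x400402010492)
 (.cons 1 (nat_lit 0x40009200040)
 (.cons 3 (nat_lit 0x4084000)
 (.cons 6 (nat_lit 0x3203800a03e)
 (.cons 12 (nat_lit 0xc44000200)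
 (.cons 24 (nat_lit 0xc00000)
 .nil)))))))))))
noncomputable def a168 : Net := (.cons 24 (nat_lit 0xc00000)
 (.cons 12 (nat_lit 0xd40000800)
 (.cons 6 (nat_lit 0x18010021020)
 (.cons 3 (nat_lit 0x182000185140)
 (.cons 1 (nat_lit 0x201001048200)
 (.cons 1 (nat_lit 0x412012492480)
 (.cons 1 (nat_lit 0x241201041040)
 (.cons 3 (nat_lit 0x182000182080)
 (.cons 6 (nat_lit 0x18010000020)
 (.cons 12 (nat_lit 0x540000800)
 (.cons 24 (nat_lit 0xc00000)
 .nil)))))))))))
noncomputable def a169 : Net := (.cons 24 (nat_lit 0xe00000)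
 (.cons 12 (nat_lit 0x266000a00)
 (.cons 6 (nat_lit 0x2d02003a012)
 (.cons 3 (nat_lit 0x47180005100)
 (.cons 1 (nat_lit 0x241000001008)
 (.cons 1 (nat_lit 0x482002002412)
 (.cons 1 (nat_lit 0x40201201048)
 (.cons 3 (nat_lit 0x6000084100)
 (.cons 6 (nat_lit 0x400003a012)
 (.cons 12 (nat_lit 0x266000be0)
 (.cons 24 (nat_lit 0xe00000)
 .nil)))))))))))
noncomputable def a170 : Net := (.cons 24 (nat_lit 0xe00000)
 (.cons 12 (nat_lit 0x742000240)
 (.cons 6 (nat_lit 0x503001e017)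
 (.cons 3 (nat_lit 0x2005085085)
 (.cons 1 (nat_lit 0x40000008000)
 (.cons 1 (nat_lit 0x82400090492)
 (.cons 1 (nat_lit 0x40201209000)
 (.cons 3 (nat_lit 0x104080084000)
 (.cons 6 (nat_lit 0x20030014030)
 (.cons 12 (nat_lit 0x34a000204)
 (.cons 24 (nat_lit 0xe00000)
 .nil)))))))))))
noncomputable def a171 : Net := (.cons 24 (nat_lit 0xe00000)
 (.cons 12 (nat_lit 0xdc0000e00)
 (.cons 6 (nat_lit 0x1d02003902a)
 (.cons 3 (nat_lit 0xc6002101142)
 (.cons 1 (nat_lit 0x1209040)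
 (.cons 1 (nat_lit 0x80402492082)
 (.cons 1 (nat_lit 0x208209041000)
 (.cons 3 (nat_lit 0x82006082100)
 (.cons 6 (nat_lit 0x1203001002e)
 (.cons 12 (nat_lit 0x5c0000e00)
 (.cons 24 (nat_lit 0xe00000)
 .nil)))))))))))
noncomputable def a172 : Net := (.cons 24 (nat_lit 0xa00000)
 (.cons 12 (nat_lit 0xb150001e0)
 (.cons 6 (nat_lit 0x3c00502000e)
 (.cons 3 (nat_lit 0x100182140)
 (.cons 1 (nat_lit 0x8000040008)
 (.cons 1 (nat_lit 0x12010482092)
 (.cons 1 (nat_lit 0x208200040208)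
 (.cons 3 (nat_lit 0x80180182)
 (.cons 6 (nat_lit 0x10024020022)
 (.cons 12 (nat_lit 0x324000000)
 (.cons 24 (nat_lit 0xa00000)
 .nil)))))))))))
noncomputable def a173 : Net := (.cons 24 (nat_lit 0xe00000)
 (.cons 12 (nat_lit 0xa5b000c00)
 (.cons 6 (nat_lit 0x101403c01c)
 (.cons 3 (nat_lit 0x1841821060c4)
 (.cons 1 (nat_lit 0x1009001000)
 (.cons 1 (nat_lit 0x82092402002)
 (.cons 1 (nat_lit 0x41201200000)
 (.cons 3 (nat_lit 0x180000106004)
 (.cons 6 (nat_lit 0x3002203c018)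
 (.cons 12 (nat_lit 0xa6a000de0)
 (.cons 24 (nat_lit 0xe00000)
 .nil)))))))))))
noncomputable def a174 : Net := (.cons 24 (nat_lit 0xc00000)
 (.cons 12 (nat_lit 0xc44000200)
 (.cons 6 (nat_lit 0x3203c00a03e)
 (.cons 3 (nat_lit 0x50040851c0)
 (.cons 1 (nat_lit 0x1000200)
 (.cons 1 (nat_lit 0x400402010492)
 (.cons 1 (nat_lit 0x40009200040)
 (.cons 3 (nat_lit 0x4084000)
 (.cons 6 (nat_lit 0x3203800a03e)
 (.cons 12 (nat_lit 0xc44000200)
 (.cons 24 (nat_lit 0xc00000)
 .nil)))))))))))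
noncomputable def a175 : Net := (.cons 24 (nat_lit 0xc00000)
 (.cons 12 (nat_lit 0xd40000800)
 (.cons 6 (nat_lit 0x18010021020)
 (.cons 3 (nat_lit 0x182000185140)
 (.cons 1 (nat_lit 0x201001048200)
 (.cons 1 (nat_lit 0x412012492480)
 (.cons 1 (nat_lit 0x241201041040)
 (.cons 3 (nat_lit 0x182000182080)
 (.cons 6 (nat_lit 0x18010000020)
 (.cons 12 (nat_lit 0x540000800)
 (.cons 24 (nat_lit 0xc00000)
 .nil)))))))))))
noncomputable def a176 : Net := (.cons 24 (nat_lit 0x600000)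
 (.cons 12 (nat_lit 0x7400008a5)
 (.cons 6 (nat_lit 0x28020012016)
 (.cons 3 (nat_lit 0x142084001004)
 (.cons 1 (nat_lit 0x1008009008)
 (.cons 1 (nat_lit 0x2012492012)
 (.cons 1 (nat_lit 0x1008008209)
 (.cons 3 (nat_lit 0x4000000)
 (.cons 6 (nat_lit 0x28020014016)
 (.cons 12 (nat_lit 0x54000090c)
 (.cons 24 (nat_lit 0x600000)
 .nil)))))))))))
noncomputable def a177 : Net := (.cons 24 (nat_lit 0xe00000)
 (.cons 12 (nat_lit 0x89f000862)
 (.cons 6 (nat_lit 0x10034017035)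
 (.cons 3 (nat_lit 0x1870c6003181)
 (.cons 1 (nat_lit 0x1200009040)
 (.cons 1 (nat_lit 0x92410412082)
 (.cons 1 (nat_lit 0x201248041240)
 (.cons 3 (nat_lit 0x100182102100)
 (.cons 6 (nat_lit 0x22014014020)
 (.cons 12 (nat_lit 0xea40009b6)
 (.cons 24 (nat_lit 0xe00000)
 .nil)))))))))))
noncomputable def a178 : Net := (.cons 24 (nat_lit 0xa00000)
 (.cons 12 (nat_lit 0x365000000)
 (.cons 6 (nat_lit 0x29024020022)
 (.cons 3 (nat_lit 0x180186042)
 (.cons 1 (nat_lit 0x200000040008)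
 (.cons 1 (nat_lit 0x402010490412)
 (.cons 1 (nat_lit 0x208200040048)
 (.cons 3 (nat_lit 0x184080)
 (.cons 6 (nat_lit 0x400402000e)
 (.cons 12 (nat_lit 0xb540001e0)
 (.cons 24 (nat_lit 0xa00000)
 .nil)))))))))))
noncomputable def a179 : Net := (.cons 24 (nat_lit 0xa00000)
 (.cons 12 (nat_lit 0xb150001e0)
 (.cons 6 (nat_lit 0x3c00502000e)
 (.cons 3 (nat_lit 0x100182140)
 (.cons 1 (nat_lit 0x8000040008)
 (.cons 1 (nat_lit 0x12010482092)
 (.cons 1 (nat_lit 0x208200040208)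
 (.cons 3 (nat_lit 0x80180182)
 (.cons 6 (nat_lit 0x10024020022)
 (.cons 12 (nat_lit 0x324000000)
 (.cons 24 (nat_lit 0xa00000)
 .nil)))))))))))
noncomputable def a180 : Net := (.cons 24 (nat_lit 0xe00000)
 (.cons 12 (nat_lit 0x5c0000e00)
 (.cons 6 (nat_lit 0x2503002c02e)
 (.cons 3 (nat_lit 0x1850061820c6)
 (.cons 1 (nat_lit 0x201041000)
 (.cons 1 (nat_lit 0x10402492410)
 (.cons 1 (nat_lit 0x201009248200)
 (.cons 3 (nat_lit 0x84002100084)
 (.cons 6 (nat_lit 0x2002002202a)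
 (.cons 12 (nat_lit 0xdc0000e00)
 (.cons 24 (nat_lit 0xe00000)
 .nil)))))))))))
noncomputable def a181 : Net := (.cons 24 (nat_lit 0xc00000)
 (.cons 12 (nat_lit 0xd40000800)
 (.cons 6 (nat_lit 0x18010021020)
 (.cons 3 (nat_lit 0x182000185140)
 (.cons 1 (nat_lit 0x201001048200)
 (.cons 1 (nat_lit 0x412012492480)
 (.cons 1 (nat_lit 0x241201041040)
 (.cons 3 (nat_lit 0x182000182080)
 (.cons 6 (nat_lit 0x18010000020)
 (.cons 12 (nat_lit 0x540000800)
 (.cons 24 (nat_lit 0xc00000)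
 .nil)))))))))))
noncomputable def a182 : Net := (.cons 24 (nat_lit 0xe00000)
 (.cons 12 (nat_lit 0x266000be0)
 (.cons 6 (nat_lit 0x3900003a012)
 (.cons 3 (nat_lit 0x44100081100)
 (.cons 1 (nat_lit 0x1001008008)
 (.cons 1 (nat_lit 0x412002010412)
 (.cons 1 (nat_lit 0x209200208048)
 (.cons 3 (nat_lit 0x80000100)
 (.cons 6 (nat_lit 0x1002003a012)
 (.cons 12 (nat_lit 0x266000a00)
 (.cons 24 (nat_lit 0xe00000)
 .nil)))))))))))
noncomputable def a183 : Net := (.cons 24 (nat_lit 0xc00000)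
 (.cons 12 (nat_lit 0xc44000200)
 (.cons 6 (nat_lit 0x3203c00a03e)
 (.cons 3 (nat_lit 0x50040851c0)
 (.cons 1 (nat_lit 0x1000200)
 (.cons 1 (nat_lit 0x400402010492)
 (.cons 1 (nat_lit 0x40009200040)
 (.cons 3 (nat_lit 0x4084000)
 (.cons 6 (nat_lit 0x3203800a03e)
 (.cons 12 (nat_lit 0xc44000200)
 (.cons 24 (nat_lit 0xc00000)
 .nil)))))))))))
noncomputable def a184 : Net := (.cons 24 (nat_lit 0xc00000)
 (.cons 12 (nat_lit 0xe7b000ea0)
 (.cons 6 (nat_lit 0x31006012000)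
 (.cons 3 (nat_lit 0x42085145002)
 (.cons 1 (nat_lit 0x8009001001)
 (.cons 1 (nat_lit 0x412092482082)
 (.cons 1 (nat_lit 0x8008049001)
 (.cons 3 (nat_lit 0x6100004000)
 (.cons 6 (nat_lit 0x802402c000)
 (.cons 12 (nat_lit 0x24c000f40)
 (.cons 24 (nat_lit 0xc00000)
 .nil)))))))))))
noncomputable def a185 : Net := (.cons 24 (nat_lit 0xc00000)
 (.cons 12 (nat_lit 0x157000da5)
 (.cons 6 (nat_lit 0x15022026004)
 (.cons 3 (nat_lit 0x5103105184)
 (.cons 1 (nat_lit 0x41001041200)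
 (.cons 1 (nat_lit 0x92082482410)
 (.cons 1 (nat_lit 0x48200049001)
 (.cons 3 (nat_lit 0x102180106186)
 (.cons 6 (nat_lit 0x4000030000)
 (.cons 12 (nat_lit 0xd64000cd2)
 (.cons 24 (nat_lit 0xc00000)
 .nil)))))))))))
noncomputable def a186 : Net := (.cons 24 (nat_lit 0x800000)
 (.cons 12 (nat_lit 0x9a000254)
 (.cons 6 (nat_lit 0x30021002031)
 (.cons 3 (nat_lit 0x84006104100)
 (.cons 1 (nat_lit 0x8000200001)
 (.cons 1 (nat_lit 0x10000410492)
 (.cons 1 (nat_lit 0x9200200040)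
 (.cons 3 (nat_lit 0x4000104004)
 (.cons 6 (nat_lit 0x10020000006)
 (.cons 12 (nat_lit 0x9a000254)
 (.cons 24 (nat_lit 0x800000)
 .nil)))))))))))
noncomputable def a187 : Net := (.cons 24 (nat_lit 0x800000)
 (.cons 12 (nat_lit 0x82a000fe0)
 (.cons 6 (nat_lit 0x20008033020)
 (.cons 3 (nat_lit 0x3185145180)
 (.cons 1 (nat_lit 0x8048048040)
 (.cons 1 (nat_lit 0x12092492480)
 (.cons 1 (nat_lit 0x1041048040)
 (.cons 3 (nat_lit 0x4102082180)
 (.cons 6 (nat_lit 0x2000800c020)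
 (.cons 12 (nat_lit 0x82a000e00)
 (.cons 24 (nat_lit 0x800000)
 .nil)))))))))))
noncomputable def a188 : Net := (.cons 24 (nat_lit 0xc00000)
 (.cons 12 (nat_lit 0x3ff000ec0)
 (.cons 6 (nat_lit 0x1c002003020)
 (.cons 3 (nat_lit 0x1441801c1106)
 (.cons 1 (nat_lit 0x40001208040)
 (.cons 1 (nat_lit 0x480082490090)
 (.cons 1 (nat_lit 0x208009209001)
 (.cons 3 (nat_lit 0x102104104006)
 (.cons 6 (nat_lit 0x401201a020)
 (.cons 12 (nat_lit 0xfe4000ec0)
 (.cons 24 (nat_lit 0xc00000)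
 .nil)))))))))))
noncomputable def a189 : Net := (.cons 24 (nat_lit 0xc00000)
 (.cons 12 (nat_lit 0x3ff000ec0)
 (.cons 6 (nat_lit 0x1c002003020)
 (.cons 3 (nat_lit 0x1441801c1106)
 (.cons 1 (nat_lit 0x40001208040)
 (.cons 1 (nat_lit 0x480082490090)
 (.cons 1 (nat_lit 0x208009209001)
 (.cons 3 (nat_lit 0x102104104006)
 (.cons 6 (nat_lit 0x401201a020)
 (.cons 12 (nat_lit 0xfe4000ec0)
 (.cons 24 (nat_lit 0xc00000)
 .nil)))))))))))
noncomputable def a190 : Net := (.cons 24 (nat_lit 0xc00000)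
 (.cons 12 (nat_lit 0x62c000f40)
 (.cons 6 (nat_lit 0x2e015037020)
 (.cons 3 (nat_lit 0x83085007102)
 (.cons 1 (nat_lit 0x208001001041)
 (.cons 1 (nat_lit 0x490092092082)
 (.cons 1 (nat_lit 0x9048209041)
 (.cons 3 (nat_lit 0x2180084100)
 (.cons 6 (nat_lit 0x2e00600a020)
 (.cons 12 (nat_lit 0x20e000ea0)
 (.cons 24 (nat_lit 0xc00000)
 .nil)))))))))))
noncomputable def a191 : Net := (.cons 24 (nat_lit 0xc00000)
 (.cons 12 (nat_lit 0xc44000200)
 (.cons 6 (nat_lit 0x3203c00a03e)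
 (.cons 3 (nat_lit 0x50040851c0)
 (.cons 1 (nat_lit 0x1000200)
 (.cons 1 (nat_lit 0x400402010492)
 (.cons 1 (nat_lit 0x40009200040)
 (.cons 3 (nat_lit 0x4084000)
 (.cons 6 (nat_lit 0x3203800a03e)
 (.cons 12 (nat_lit 0xc44000200)
 (.cons 24 (nat_lit 0xc00000)
 .nil)))))))))))
noncomputable def a192 : Net := (.cons 24 (nat_lit 0xc00000)
 (.cons 12 (nat_lit 0xb30000fe0)
 (.cons 6 (nat_lit 0x34021038020)
 (.cons 3 (nat_lit 0x3087004182)
 (.cons 1 (nat_lit 0x1008001040)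
 (.cons 1 (nat_lit 0x412010002482)
 (.cons 1 (nat_lit 0x201001200048)
 (.cons 3 (nat_lit 0x2004000182)
 (.cons 6 (nat_lit 0x20000020020)
 (.cons 12 (nat_lit 0x330000e00)
 (.cons 24 (nat_lit 0xc00000)
 .nil)))))))))))
noncomputable def a193 : Net := (.cons 24 (nat_lit 0x800000)
 (.cons 12 (nat_lit 0x82a000fe0)
 (.cons 6 (nat_lit 0x20008033020)
 (.cons 3 (nat_lit 0x3185145180)
 (.cons 1 (nat_lit 0x8048048040)
 (.cons 1 (nat_lit 0x12092492480)
 (.cons 1 (nat_lit 0x1041048040)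
 (.cons 3 (nat_lit 0x4102082180)
 (.cons 6 (nat_lit 0x2000800c020)
 (.cons 12 (nat_lit 0x82a000e00)
 (.cons 24 (nat_lit 0x800000)
 .nil)))))))))))
noncomputable def a194 : Net := (.cons 24 (nat_lit 0xc00000)
 (.cons 12 (nat_lit 0xd40000800)
 (.cons 6 (nat_lit 0x18010021020)
 (.cons 3 (nat_lit 0x182000185140)
 (.cons 1 (nat_lit 0x201001048200)
 (.cons 1 (nat_lit 0x412012492480)
 (.cons 1 (nat_lit 0x241201041040)
 (.cons 3 (nat_lit 0x182000182080)
 (.cons 6 (nat_lit 0x18010000020)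
 (.cons 12 (nat_lit 0x540000800)
 (.cons 24 (nat_lit 0xc00000)
 .nil)))))))))))
noncomputable def a195 : Net := (.cons 24 (nat_lit 0xe00000)
 (.cons 12 (nat_lit 0x16f000391)
 (.cons 6 (nat_lit 0x1d026025036)
 (.cons 3 (nat_lit 0x107106106081)
 (.cons 1 (nat_lit 0x40201248000)
 (.cons 1 (nat_lit 0x90402490010)
 (.cons 1 (nat_lit 0x48201241009)
 (.cons 3 (nat_lit 0x2004004004)
 (.cons 6 (nat_lit 0x802c022010)
 (.cons 12 (nat_lit 0x152000238)
 (.cons 24 (nat_lit 0xe00000)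
 .nil)))))))))))
noncomputable def a196 : Net := (.cons 24 (nat_lit 0xe00000)
 (.cons 12 (nat_lit 0x76e000d06)
 (.cons 6 (nat_lit 0x21008023007)
 (.cons 3 (nat_lit 0x104006086084)
 (.cons 1 (nat_lit 0x41000000000)
 (.cons 1 (nat_lit 0x82410000010)
 (.cons 1 (nat_lit 0x49009048209)
 (.cons 3 (nat_lit 0x6004080084)
 (.cons 6 (nat_lit 0x22006)
 (.cons 12 (nat_lit 0x354000d00)
 (.cons 24 (nat_lit 0xe00000)
 .nil)))))))))))
noncomputable def a197 : Net := (.cons 24 (nat_lit 0xe00000)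
 (.cons 12 (nat_lit 0x266000a00)
 (.cons 6 (nat_lit 0x2d02003a012)
 (.cons 3 (nat_lit 0x47180005100)
 (.cons 1 (nat_lit 0x241000001008)
 (.cons 1 (nat_lit 0x482002002412)
 (.cons 1 (nat_lit 0x40201201048)
 (.cons 3 (nat_lit 0x6000084100)
 (.cons 6 (nat_lit 0x400003a012)
 (.cons 12 (nat_lit 0x266000be0)
 (.cons 24 (nat_lit 0xe00000)
 .nil)))))))))))
noncomputable def a198 : Net := (.cons 24 (nat_lit 0xe00000)
 (.cons 12 (nat_lit 0x423000e1e)
 (.cons 6 (nat_lit 0x28028002004)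
 (.cons 3 (nat_lit 0x41c10c0004)
 (.cons 1 (nat_lit 0x1001048)
 (.cons 1 (nat_lit 0x10082012092)
 (.cons 1 (nat_lit 0x208240209048)
 (.cons 3 (nat_lit 0x6106000002)
 (.cons 6 (nat_lit 0x18030034006)
 (.cons 12 (nat_lit 0xe3e000e00)
 (.cons 24 (nat_lit 0xe00000)
 .nil)))))))))))
noncomputable def a199 : Net := (.cons 24 (nat_lit 0xc00000)
 (.cons 12 (nat_lit 0xbdd000866)
 (.cons 6 (nat_lit 0x8018007026)
 (.cons 3 (nat_lit 0xc10021810c0)
 (.cons 1 (nat_lit 0x1001040040)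
 (.cons 1 (nat_lit 0x82402490480)
 (.cons 1 (nat_lit 0x240201049048)
 (.cons 3 (nat_lit 0x106000184000)
 (.cons 6 (nat_lit 0x8038026020)
 (.cons 12 (nat_lit 0xbd8000986)
 (.cons 24 (nat_lit 0xc00000)
 .nil)))))))))))
noncomputable def a200 : Net := (.cons 24 (nat_lit 0xc00000)
 (.cons 12 (nat_lit 0x33600054a)
 (.cons 6 (nat_lit 0x2402300b02a)
 (.cons 3 (nat_lit 0x1102080142)
 (.cons 1 (nat_lit 0x209040001000)
 (.cons 1 (nat_lit 0x412082092082)
 (.cons 1 (nat_lit 0x201008200008)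
 (.cons 3 (nat_lit 0x102182080002)
 (.cons 6 (nat_lit 0x1001201a002)
 (.cons 12 (nat_lit 0xf300004aa)
 (.cons 24 (nat_lit 0xc00000)
 .nil)))))))))))
noncomputable def a201 : Net := (.cons 24 (nat_lit 0xc00000)
 (.cons 12 (nat_lit 0xbe000fe0)
 (.cons 6 (nat_lit 0x22029019000)
 (.cons 3 (nat_lit 0x7146102004)
 (.cons 1 (nat_lit 0x8000008040)
 (.cons 1 (nat_lit 0x410010492090)
 (.cons 1 (nat_lit 0x1000241008)
 (.cons 3 (nat_lit 0x4000002004)
 (.cons 6 (nat_lit 0x1000800c000)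
 (.cons 12 (nat_lit 0x88a000fe0)
 (.cons 24 (nat_lit 0xc00000)
 .nil)))))))))))
noncomputable def a202 : Net := (.cons 24 (nat_lit 0xc00000)
 (.cons 12 (nat_lit 0x372000200)
 (.cons 6 (nat_lit 0x1901000c030)
 (.cons 3 (nat_lit 0x1c5004107100)
 (.cons 1 (nat_lit 0x8000200000)
 (.cons 1 (nat_lit 0x90400400010)
 (.cons 1 (nat_lit 0x40001240040)
 (.cons 3 (nat_lit 0x80000100000)
 (.cons 6 (nat_lit 0x2401000c030)
 (.cons 12 (nat_lit 0x372000200)
 (.cons 24 (nat_lit 0xc00000)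
 .nil)))))))))))
noncomputable def a203 : Net := (.cons 24 (nat_lit 0xc00000)
 (.cons 12 (nat_lit 0xf9a000be0)
 (.cons 6 (nat_lit 0x802700c020)
 (.cons 3 (nat_lit 0x185001005004)
 (.cons 1 (nat_lit 0x8008248008)
 (.cons 1 (nat_lit 0x10410492090)
 (.cons 1 (nat_lit 0x208040248000)
 (.cons 3 (nat_lit 0x4180002104)
 (.cons 6 (nat_lit 0x28016026020)
 (.cons 12 (nat_lit 0xf9a000a00)
 (.cons 24 (nat_lit 0xc00000)
 .nil)))))))))))
noncomputable def a204 : Net := (.cons 24 (nat_lit 0x400000)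
 (.cons 12 (nat_lit 0x210000fe0)
 (.cons 6 (nat_lit 0x802003a020)
 (.cons 3 (nat_lit 0x7182082080)
 (.cons 1 (nat_lit 0x1001041040)
 (.cons 1 (nat_lit 0x12002492480)
 (.cons 1 (nat_lit 0x208009041040)
 (.cons 3 (nat_lit 0x2082080)
 (.cons 6 (nat_lit 0x8020000020)
 (.cons 12 (nat_lit 0x210000e00)
 (.cons 24 (nat_lit 0x400000)
 .nil)))))))))))
noncomputable def a205 : Net := (.cons 24 (nat_lit 0xc00000)
 (.cons 12 (nat_lit 0xc08000110)
 (.cons 6 (nat_lit 0x1000200d00c)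
 (.cons 3 (nat_lit 0x4100082082)
 (.cons 1 (nat_lit 0x49041008)
 (.cons 1 (nat_lit 0x402492092412)
 (.cons 1 (nat_lit 0x8049241048)
 (.cons 3 (nat_lit 0x4100082082)
 (.cons 6 (nat_lit 0x1000000800c)
 (.cons 12 (nat_lit 0xc08000110)
 (.cons 24 (nat_lit 0xc00000)
 .nil)))))))))))
noncomputable def a206 : Net := (.cons 24 (nat_lit 0x800000)
 (.cons 12 (nat_lit 0xab2000050)
 (.cons 6 (nat_lit 0xa010007034)
 (.cons 3 (nat_lit 0x60840000c4)
 (.cons 1 (nat_lit 0x8000008000)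
 (.cons 1 (nat_lit 0x10000010010)
 (.cons 1 (nat_lit 0x9049008240)
 (.cons 3 (nat_lit 0x6080000004)
 (.cons 6 (nat_lit 0x8010000014)
 (.cons 12 (nat_lit 0x2b2000050)
 (.cons 24 (nat_lit 0x800000)
 .nil)))))))))))
noncomputable def a207 : Net := (.cons 24 (nat_lit 0x800000)
 (.cons 12 (nat_lit 0xa500001d0)
 (.cons 6 (nat_lit 0x801800e000)
 (.cons 3 (nat_lit 0x1071820461c0)
 (.cons 1 (nat_lit 0x40001001240)
 (.cons 1 (nat_lit 0x92082092490)
 (.cons 1 (nat_lit 0x40201001240)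
 (.cons 3 (nat_lit 0x100180006000)
 (.cons 6 (nat_lit 0x8018008000)
 (.cons 12 (nat_lit 0xa500001d0)
 (.cons 24 (nat_lit 0x800000)
 .nil)))))))))))
noncomputable def a208 : Net := (.cons 24 (nat_lit 0x800000)
 (.cons 12 (nat_lit 0xab2000050)
 (.cons 6 (nat_lit 0xa010007034)
 (.cons 3 (nat_lit 0x60840000c4)
 (.cons 1 (nat_lit 0x8000008000)
 (.cons 1 (nat_lit 0x10000010010)
 (.cons 1 (nat_lit 0x9049008240)
 (.cons 3 (nat_lit 0x6080000004)
 (.cons 6 (nat_lit 0x8010000014)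
 (.cons 12 (nat_lit 0x2b2000050)
 (.cons 24 (nat_lit 0x800000)
 .nil)))))))))))
noncomputable def ns0 : List Net := [a0, a1, a2, a3]
noncomputable def ws : List (List ℕ) :=
  [W (nat_lit 0x10020080300803),
  W (nat_lit 0x300401010010100200803),
  W (nat_lit 0xc0300a02c0a),
  W (nat_lit 0x300a),
  W (nat_lit 0xb0240b02c0a),
  W (nat_lit 0xe04810),
  W (nat_lit 0x440d04810),
  W (nat_lit 0x480e),
  W (nat_lit 0x5018),
  W (nat_lit 0x1305814),
  W (nat_lit 0x6014),
  W (nat_lit 0x1e0681c0641c0681a0781c07419064150681a),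
  W (nat_lit 0x150541906c150541c0781b0581c0581a),
  W (nat_lit 0x300c070100402006004050040601807),
  W (nat_lit 0x40101c0700c01010050040401c0201801),
  W (nat_lit 0x1402020030080700405008050100201803),
  W (nat_lit 0x9c2609c25),
  W (nat_lit 0x902509028),
  W (nat_lit 0x2c0902b),
  W (nat_lit 0x290ac23),
  W (nat_lit 0xa42c08c2b),
  W (nat_lit 0x2e0c830),
  W (nat_lit 0x330b42d),
  W (nat_lit 0x2d0cc2e),
  W (nat_lit 0xb42d),
  W (nat_lit 0x350e837),
  W (nat_lit 0xe837),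
  W (nat_lit 0x3e0f03d),
  W (nat_lit 0x1803),
  W (nat_lit 0x26090240a026),
  W (nat_lit 0x90260902508c28),
  W (nat_lit 0x430904609044),
  W (nat_lit 0x8c441182411444),
  W (nat_lit 0x441184611823),
  W (nat_lit 0x1304a12848),
  W (nat_lit 0x27090260a0260a025),
  W (nat_lit 0x230982609026),
  W (nat_lit 0x140501484f14852),
  W (nat_lit 0x1484f1484f13c4f),
  W (nat_lit 0x531585315854),
  W (nat_lit 0x30080300c0500c08010040040500401),
  W (nat_lit 0x401c040080301c010180401c0500807),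
  W (nat_lit 0x1685a),
  W (nat_lit 0x1645c1705a1705a),
  W (nat_lit 0x591705c1645c1705a),
  W (nat_lit 0x1845d17c5d),
  W (nat_lit 0x1745f1845d),
  W (nat_lit 0x601746217c5d),
  W (nat_lit 0x1906819864),
  W (nat_lit 0x3b0f8370b830),
  W (nat_lit 0xfc3e0dc240942301423),
  W (nat_lit 0xfc3d0e02e0b02508c03),
  W (nat_lit 0x3e0e02508c01),
  W (nat_lit 0x3b0fc3e0dc2e0b02508c03),
  W (nat_lit 0x3f0dc2508c01),
  W (nat_lit 0xf837),
  W (nat_lit 0xec3d0dc36),
  W (nat_lit 0x1c0711ac791d0791d4781d4791e4771d8711d06c1b0791c8781d470),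
  W (nat_lit 0x781e86c1e0751dc6b1d46c1cc6f1c4761d8731e8761cc6f1c47a1b070),
  W (nat_lit 0x1dc731c4761d86f1bc771c47a1c8721bc741dc721e8731bc711cc7a),
  W (nat_lit 0x2007e),
  W (nat_lit 0x7e1f07c),
  W (nat_lit 0x2007c1f47c),
  W (nat_lit 0x208852048521483204851fc84),
  W (nat_lit 0x7f20c8220c852008120c812048620086),
  W (nat_lit 0xec3d0dc36),
  W (nat_lit 0x3f0b82400806),
  W (nat_lit 0xf4370b02508c06),
  W (nat_lit 0xec3f0b830),
  W (nat_lit 0x7c2104c0903803),
  W (nat_lit 0x210641403c0903801),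
  W (nat_lit 0x210541403c0903801),
  W (nat_lit 0x7c15),
  W (nat_lit 0x9925c95260952649624c932589726496),
  W (nat_lit 0x2689425c9426893264992589824c96),
  W (nat_lit 0x24c962609624c99264982549425c93),
  W (nat_lit 0x2689825493254992649326898),
  W (nat_lit 0x9b280a12809e27c9d284a126c9f27c9b2749c),
  W (nat_lit 0x26c9b2789e280a227c9c2789e),
  W (nat_lit 0x40100400803),
  W (nat_lit 0x4040080200c01),
  W (nat_lit 0xaa29ca729caa),
  W (nat_lit 0x29caa2a0a92a0a8),
  W (nat_lit 0x2a8aa2a8a7),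
  W (nat_lit 0x28c9f),
  W (nat_lit 0x24c9525096),
  W (nat_lit 0x2689526496),
  W (nat_lit 0x274b1),
  W (nat_lit 0x7c150240c00403),
  W (nat_lit 0x210500f0240c0100f),
  W (nat_lit 0xbc2e4bb2ecb9),
  W (nat_lit 0xbb2e8ba),
  W (nat_lit 0x2f4bd2fcbd),
  W (nat_lit 0x2c09),
  W (nat_lit 0xb0280c03009),
  W (nat_lit 0x310c5314c3),
  W (nat_lit 0xc4310c5314c4),
  W (nat_lit 0xc02f4bc),
  W (nat_lit 0x300be),
  W (nat_lit 0x330ce338cb),
  W (nat_lit 0xce330cd334cb),
  W (nat_lit 0x348d0348cf),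
  W (nat_lit 0xd0344cf),
  W (nat_lit 0x2ecb92e4ba2f0ba),
  W (nat_lit 0x2e8ba2f0b92e4bb),
  W (nat_lit 0x364d7),
  W (nat_lit 0x364d9360d8),
  W (nat_lit 0x374dc),
  W (nat_lit 0x378db),
  W (nat_lit 0xd3340cb),
  W (nat_lit 0xd3354cb),
  W (nat_lit 0xe6390e4),
  W (nat_lit 0x394e4398e3),
  W (nat_lit 0x3a4e7),
  W (nat_lit 0xe83a4e8),
  W (nat_lit 0x1f084190500d0240e00410),
  W (nat_lit 0xd3354cf),
  W (nat_lit 0x841904c0903803),
  W (nat_lit 0x841904c0903803),
  W (nat_lit 0xf23bcf1),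
  W (nat_lit 0x84150641403401),
  W (nat_lit 0x15038090080b),
  W (nat_lit 0x3e8fc3e8fa),
  W (nat_lit 0xf93e4fc),
  W (nat_lit 0x3fcff),
  W (nat_lit 0x240b0240b02409),
  W (nat_lit 0xb0280a02c0a),
  W (nat_lit 0x4110641105),
  W (nat_lit 0x41d0441108),
  W (nat_lit 0x404fd3fcf9),
  W (nat_lit 0x404fd3e4fc),
  W (nat_lit 0x3fcfb),
  W (nat_lit 0x10e4310c),
  W (nat_lit 0x10c43d0b),
  W (nat_lit 0x44d0b),
  W (nat_lit 0x4490b),
  W (nat_lit 0x3ecf93e4fa3f0fa),
  W (nat_lit 0x3f0fa3ecf9),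
  W (nat_lit 0x3e8fb3e4f93f0f93e8fa),
  W (nat_lit 0x4651d),
  W (nat_lit 0x11c4651b),
  W (nat_lit 0x48121),
  W (nat_lit 0x4450b),
  W (nat_lit 0x4490b),
  W (nat_lit 0x49d2749926),
  W (nat_lit 0x4a925),
  W (nat_lit 0x4450b),
  W (nat_lit 0x42d104410d43d0b43d0f4390b),
  W (nat_lit 0x1903c090081b),
  W (nat_lit 0x7c210541403809030010040c),
  W (nat_lit 0x1334c5334c932),
  W (nat_lit 0x4c933),
  W (nat_lit 0x1354e136),
  W (nat_lit 0x4dd3a4e139),
  W (nat_lit 0x4dd3a),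
  W (nat_lit 0x314c530cc3314c3318c4),
  W (nat_lit 0xc4314c330cc6318c4),
  W (nat_lit 0x13d4e1354c533),
  W (nat_lit 0x1444e14350d3850d43),
  W (nat_lit 0x1374dd444e1434e1434dd44),
  W (nat_lit 0x52148),
  W (nat_lit 0x14852146),
  W (nat_lit 0x5254b52d4b),
  W (nat_lit 0x14b5294c),
  W (nat_lit 0x535505394e),
  W (nat_lit 0x4cd314cd344d132),
  W (nat_lit 0x4c5344c5314cd324c932),
  W (nat_lit 0x1555515554d56),
  W (nat_lit 0x15455d57),
  W (nat_lit 0x15356158),
  W (nat_lit 0x15957159),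
  W (nat_lit 0x5715c5695a),
  W (nat_lit 0x15152d4750d49),
  W (nat_lit 0x15152d4750d45),
  W (nat_lit 0x5896358962),
  W (nat_lit 0x5916258962),
  W (nat_lit 0x1645916258d62),
  W (nat_lit 0x1655a16959d6a),
  W (nat_lit 0x1665a96a),
  W (nat_lit 0x5b56d5b16d),
  W (nat_lit 0x7c21054130240e00410),
  W (nat_lit 0x1515354c50d38),
  W (nat_lit 0x4ed374c531),
  W (nat_lit 0x52d47),
  W (nat_lit 0x1f084150641403c0903803),
  W (nat_lit 0x1f084150641403c0903803),
  W (nat_lit 0x1745c573),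
  W (nat_lit 0x5454d),
  W (nat_lit 0x14d52d47),
  W (nat_lit 0x5fd82),
  W (nat_lit 0x15260180),
  W (nat_lit 0x1f08415064090080a),
  W (nat_lit 0x1f0841303409038010041b),
  W (nat_lit 0x1886218961d87),
  W (nat_lit 0x187625876258961d8a),
  W (nat_lit 0x6358c),
  W (nat_lit 0x18d6358c6358b),
  W (nat_lit 0x6358d6358b),
  W (nat_lit 0x63d9163d92),
  W (nat_lit 0x1906518f64990),
  W (nat_lit 0x1956559765593),
  W (nat_lit 0x19865594),
  W (nat_lit 0x19864d93),
  W (nat_lit 0x19c6659c6659b6799e6559e6699d6659e6699c),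
  W (nat_lit 0x1956719a67995675966699b6599d)]
noncomputable def ns : List Net := [a0, a1, a2, a3, a4, a5, a6, a7, a8, a9, a10, a11, a12, a13, a14, a15, a16, a17, a18, a19, a20, a21, a22, a23, a24, a25, a26, a27, a28, a29, a30, a31, a32, a33, a34, a35, a36, a37, a38, a39, a40, a41, a42, a43, a44, a45, a46, a47, a48, a49, a50, a51, a52, a53, a54, a55, a56, a57, a58, a59, a60, a61, a62, a63, a64, a65, a66, a67, a68, a69, a70, a71, a72, a73, a74, a75, a76, a77, a78, a79, a80, a81, a82, a83, a84, a85, a86, a87, a88, a89, a90, a91, a92, a93, a94, a95, a96, a97, a98, a99, a100, a101, a102, a103, a104, a105, a106, a107, a108, a109, a110, a111, a112, a113, a114, a115, a116, a117, a118, a119, a120, a121, a122, a123, a124, a125, a126, a127, a128, a129, a130, a131, a132, a133, a134, a135, a136, a137, a138, a139, a140, a141, a142, a143, a144, a145, a146, a147, a148, a149, a150, a151, a152, a153, a154, a155, a156, a157, a158, a159, a160, a161,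 a162, a163, a164, a165, a166, a167, a168, a169, a170, a171, a172, a173, a174, a175, a176, a177, a178, a179, a180, a181, a182, a183, a184, a185, a186, a187, a188, a189, a190, a191, a192, a193, a194, a195, a196, a197, a198, a199, a200, a201, a202, a203, a204, a205, a206, a207, a208]
noncomputable def D : List (ℕ × List ℕ) := app [] (mkDefs ws 4)
noncomputable def chk : List (List ℕ × List ℕ) → Bool := P.relsB ns
noncomputable def zus0 : List (List ℕ) :=
  [[30],
  [32],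
  W (nat_lit 0x7c21)]
noncomputable def zF1 : List (List (ℕ × List ℕ)) :=
  [[(1, []),
   (0, []),
   (3, []),
   (2, [])],
  [(2, []),
   (3, []),
   (0, []),
   (1, [])]]
noncomputable def zus4 : List (List ℕ) :=
  [[20],
  [24],
  W (nat_lit 0x5419)]
noncomputable def zF5 : List (List (ℕ × List ℕ)) :=
  [[(1, []),
   (0, []),
   (3, []),
   (2, [])],
  [(2, []),
   (3, []),
   (0, []),
   (1, [])],
  [(1, W (nat_lit 0x7c21)),
   (0, W (nat_lit 0x7c21)),
   (3, W (nat_lit 0x7c21)),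
   (2, W (nat_lit 0x7c21))],
  [(0, [32]),
   (1, [32]),
   (2, [32]),
   (3, [32])]]
noncomputable def zE8 : List (ℕ × List ℕ) :=
  [(18, W (nat_lit 0x2105c17))]
noncomputable def zt9 : List ℕ :=
  []
noncomputable def zcj10 : List (List ℕ) :=
  [W (nat_lit 0x7c21),
  W (nat_lit 0x8419),
  [20],
  [24]]
noncomputable def zus14 : List (List ℕ) :=
  [[12],
  [13],
  [14]]
noncomputable def zF15 : List (List (ℕ × List ℕ)) :=
  [[(1, []),
   (2, []),
   (0, []),
   (3, W (nat_lit 0x7c13))],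
  [(3, []),
   (0, W (nat_lit 0x1f08414)),
   (2, W (nat_lit 0x7c1506413)),
   (1, W (nat_lit 0x5413))],
  [(1, W (nat_lit 0x5414)),
   (0, W (nat_lit 0x8413)),
   (3, W (nat_lit 0x1f06413)),
   (2, [19])]]
noncomputable def zus18 : List (List ℕ) :=
  [[8],
  [10],
  W (nat_lit 0x240c),
  W (nat_lit 0x240e)]
noncomputable def zF19 : List (List (ℕ × List ℕ)) :=
  [[(1, []),
   (0, W (nat_lit 0x150500f)),
   (4, W (nat_lit 0x84190500e)),
   (3, W (nat_lit 0x1f0541904c0e)),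
   (2, W (nat_lit 0x841506414))],
  [(2, []),
   (0, W (nat_lit 0x1504c0d)),
   (4, W (nat_lit 0x1f0841504c0f)),
   (1, []),
   (3, W (nat_lit 0x640e))]]
noncomputable def zus22 : List (List ℕ) :=
  [[0],
  [1],
  [2],
  [3],
  W (nat_lit 0x401),
  W (nat_lit 0x403),
  W (nat_lit 0x802),
  W (nat_lit 0x81b),
  W (nat_lit 0x817),
  W (nat_lit 0x410),
  W (nat_lit 0x40e),
  W (nat_lit 0x40c),
  W (nat_lit 0x40b),
  W (nat_lit 0x100f),
  W (nat_lit 0x10041b),
  W (nat_lit 0x80b),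
  W (nat_lit 0x40a),
  W (nat_lit 0x100b),
  W (nat_lit 0x10040c),
  W (nat_lit 0x80a)]
noncomputable def zF23 : List (List (ℕ × List ℕ)) :=
  [[(1, []),
   (5, []),
   (0, []),
   (8, W (nat_lit 0x1f0500d0240c)),
   (10, W (nat_lit 0x1f054140240e)),
   (7, []),
   (12, W (nat_lit 0x7c210541904c0b)),
   (2, []),
   (15, W (nat_lit 0x21064140240e)),
   (3, W (nat_lit 0x7c21064140240e)),
   (19, W (nat_lit 0x1f084130240e)),
   (4, W (nat_lit 0x840e0240c)),
   (16, [10]),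
   (6, W (nat_lit 0x210540f0240e)),
   (11, W (nat_lit 0x1f0540d0240e)),
   (17, W (nat_lit 0x7c2105409)),
   (20, W (nat_lit 0x7c150641403409)),
   (9, W (nat_lit 0x150640b)),
   (18, W (nat_lit 0x7c150640e0240c)),
   (14, W (nat_lit 0x1f054190500f0240e)),
   (13, W (nat_lit 0x7c150641403809))],
  [(3, []),
   (6, []),
   (1, W (nat_lit 0x84190500d0240e)),
   (4, []),
   (0, []),
   (5, W (nat_lit 0x4c0d)),
   (2, W (nat_lit 0x64130380b)),
   (14, W (nat_lit 0x7c15064130340b)),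
   (12, W (nat_lit 0x54190500f)),
   (11, W (nat_lit 0x1904c0d0240e)),
   (7, W (nat_lit 0x640f)),
   (18, W (nat_lit 0x15064140240e)),
   (16, W (nat_lit 0x210641403c09)),
   (13, W (nat_lit 0x1f0840e)),
   (10, W (nat_lit 0x841904c0e0240e)),
   (15, W (nat_lit 0x1f0640f)),
   (8, W (nat_lit 0x84150500b)),
   (20, W (nat_lit 0x150500f)),
   (9, W (nat_lit 0x1f084150641403409)),
   (17, W (nat_lit 0x1403c09)),
   (19, W (nat_lit 0x210540e0240e))]]
noncomputable def GM_v0 : Lev :=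
  ⟨0, 21, sg (W (nat_lit 0xc010040100c0100c01)), [[8], [10]], 0, 2⟩
noncomputable def GM_v1 : Lev :=
  ⟨21, 5, sg (W (nat_lit 0x240b02c09)), [[12], [14], [16]], 2, 3⟩
noncomputable def GM_v2 : Lev :=
  ⟨1, 4, sg (W (nat_lit 0x440d)), [[18], [20], [22]], 5, 3⟩
noncomputable def GM_v3 : Lev :=
  ⟨2, 3, sg (W (nat_lit 0x4c13)), [[20], [24], [26], [28]], 8, 3⟩
noncomputable def GM_v4 : Lev :=
  ⟨22, 4, sg (W (nat_lit 0x6415)), [[30], [32]], 11, 2⟩
noncomputable def GM_v5 : Lev :=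
  ⟨5, 4, sg (W (nat_lit 0x841f)), [], 13, 0⟩
noncomputable def GM_vs6 : List Lev :=
  []
noncomputable def GM_vs5 : List Lev :=
  GM_v5 :: GM_vs6
noncomputable def GM_vs4 : List Lev :=
  GM_v4 :: GM_vs5
noncomputable def GM_vs3 : List Lev :=
  GM_v3 :: GM_vs4
noncomputable def GM_vs2 : List Lev :=
  GM_v2 :: GM_vs3
noncomputable def GM_vs1 : List Lev :=
  GM_v1 :: GM_vs2
noncomputable def GM_vs : List Lev :=
  GM_v0 :: GM_vs1
noncomputable def zus27 : List (List ℕ) :=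
  [[58],
  [62],
  W (nat_lit 0xec3f)]
noncomputable def zF28 : List (List (ℕ × List ℕ)) :=
  [[(1, []),
   (0, []),
   (3, []),
   (2, [])],
  [(2, []),
   (3, []),
   (0, []),
   (1, [])]]
noncomputable def zt31 : List ℕ :=
  []
noncomputable def zcj32 : List (List ℕ) :=
  [W (nat_lit 0xec3f),
  [58]]
noncomputable def zus35 : List (List ℕ) :=
  [[54],
  [55],
  W (nat_lit 0xdc36)]
noncomputable def zF36 : List (List (ℕ × List ℕ)) :=
  [[(0, W (nat_lit 0xec3e)),
   (2, W (nat_lit 0x3b0fc3d)),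
   (3, W (nat_lit 0xec3e)),
   (1, [])],
  [(1, []),
   (2, []),
   (0, []),
   (3, W (nat_lit 0x3b0fc3d))],
  [(2, [60]),
   (3, W (nat_lit 0x3b0fc3e)),
   (0, [61]),
   (1, W (nat_lit 0xfc3d))]]
noncomputable def zE39 : List (ℕ × List ℕ) :=
  [(50, W (nat_lit 0xec38))]
noncomputable def zt40 : List ℕ :=
  W (nat_lit 0xf438)
noncomputable def zcj41 : List (List ℕ) :=
  [[60],
  W (nat_lit 0xec38),
  W (nat_lit 0xf438)]
noncomputable def zus45 : List (List ℕ) :=
  [[46],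
  [47]]
noncomputable def zF46 : List (List (ℕ × List ℕ)) :=
  [[(0, W (nat_lit 0x3d0e02e)),
   (2, W (nat_lit 0xfc2e)),
   (1, W (nat_lit 0xec3f0f4370d82e))],
  [(1, []),
   (2, W (nat_lit 0x3b0f837)),
   (0, [])],
  [(1, W (nat_lit 0xec3f0f8370d82e)),
   (0, W (nat_lit 0xec3f0dc2e)),
   (2, W (nat_lit 0x3b0dc2e))]]
noncomputable def zus49 : List (List ℕ) :=
  [[35],
  [43],
  W (nat_lit 0x9029)]
noncomputable def zF50 : List (List (ℕ × List ℕ)) :=
  [[(1, []),
   (0, W (nat_lit 0x3f0f837)),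
   (2, W (nat_lit 0x3d0e02e)),
   (3, W (nat_lit 0x3f0b830))],
  [(0, W (nat_lit 0x3f0f8370d830)),
   (3, []),
   (1, W (nat_lit 0xfc3e0dc36)),
   (2, W (nat_lit 0x3f0f437))],
  [(1, W (nat_lit 0xec370d830)),
   (3, W (nat_lit 0x3b0fc380b830)),
   (0, []),
   (2, W (nat_lit 0xec3e0e02e))]]
noncomputable def zus53 : List (List ℕ) :=
  [[36],
  [37],
  [38],
  W (nat_lit 0x9423)]
noncomputable def zF54 : List (List (ℕ × List ℕ)) :=
  [[(0, W (nat_lit 0xfc3e0dc24)),
   (4, []),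
   (3, W (nat_lit 0xfc3d0b82c)),
   (1, W (nat_lit 0xf4380b82c)),
   (2, W (nat_lit 0x380b82c))],
  [(1, []),
   (4, W (nat_lit 0x3b0f8370d82e0bc2c)),
   (0, []),
   (3, W (nat_lit 0x3f0f8370bc2c)),
   (2, W (nat_lit 0xec3e0dc360b82f09029))],
  [(3, []),
   (1, W (nat_lit 0xec3e0e030)),
   (0, W (nat_lit 0x3809029)),
   (2, W (nat_lit 0x3b0f8380bc24)),
   (4, W (nat_lit 0x3b0f4370b82c))]]
noncomputable def zrs57 : List (ℕ × List ℕ) :=
  [(3, W (nat_lit 0x410a842)),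
  (35, W (nat_lit 0x4110441)),
  (21, [65])]
noncomputable def GA_w0_1_v0 : Lev :=
  ⟨3, 20, sg (W (nat_lit 0x230942508c2509c25)), [[66], [35], [68]], 29, 2⟩
noncomputable def GA_w0_1_v1 : Lev :=
  ⟨5, 16, sg (W (nat_lit 0x430904509043)), [[70], [72], [74]], 31, 3⟩
noncomputable def GA_w0_1_v2 : Lev :=
  ⟨9, 9, sg (W (nat_lit 0x1244b12447)), [[76]], 34, 1⟩
noncomputable def GA_w0_1_v3 : Lev :=
  ⟨2, 2, sg [76], [], 35, 0⟩
noncomputable def GA_w0_1_vs4 : List Lev :=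
  []
noncomputable def GA_w0_1_vs3 : List Lev :=
  GA_w0_1_v3 :: GA_w0_1_vs4
noncomputable def GA_w0_1_vs2 : List Lev :=
  GA_w0_1_v2 :: GA_w0_1_vs3
noncomputable def GA_w0_1_vs1 : List Lev :=
  GA_w0_1_v1 :: GA_w0_1_vs2
noncomputable def GA_w0_1_vs : List Lev :=
  GA_w0_1_v0 :: GA_w0_1_vs1
noncomputable def zcj59 : List (List ℕ) :=
  [W (nat_lit 0xec3e0dc360b824),
  W (nat_lit 0xec3f0f4370d824),
  W (nat_lit 0xf42f09029)]
noncomputable def GA_w0_2_v0 : Lev :=
  ⟨35, 16, sg (W (nat_lit 0x2709c2309423)), [[78], [80]], 35, 2⟩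
noncomputable def GA_w0_2_v1 : Lev :=
  ⟨1, 15, sg (W (nat_lit 0x4f1444f13c4f1444f)), [[82], [84]], 37, 2⟩
noncomputable def GA_w0_2_v2 : Lev :=
  ⟨5, 12, sg (W (nat_lit 0x5314c5315453)), [[86]], 39, 1⟩
noncomputable def GA_w0_2_v3 : Lev :=
  ⟨2, 2, sg [86], [], 40, 0⟩
noncomputable def GA_w0_2_vs4 : List Lev :=
  []
noncomputable def GA_w0_2_vs3 : List Lev :=
  GA_w0_2_v3 :: GA_w0_2_vs4
noncomputable def GA_w0_2_vs2 : List Lev :=
  GA_w0_2_v2 :: GA_w0_2_vs3
noncomputable def GA_w0_2_vs1 : List Lev :=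
  GA_w0_2_v1 :: GA_w0_2_vs2
noncomputable def GA_w0_2_vs : List Lev :=
  GA_w0_2_v0 :: GA_w0_2_vs1
noncomputable def zcj63 : List (List ℕ) :=
  [W (nat_lit 0x3b0fc3d09026),
  W (nat_lit 0x3d0c0240a427)]
noncomputable def GA_v0 : Lev :=
  ⟨0, 42, sg (W (nat_lit 0xc01014070040500c01)), [[34], [36], [38]], 13, 3⟩
noncomputable def GA_v1 : Lev :=
  ⟨21, 5, sg (W (nat_lit 0x8c2308c25)), [[35], [40], [42]], 16, 2⟩
noncomputable def GA_v2 : Lev :=
  ⟨1, 4, sg (W (nat_lit 0x290a424)), [[44], [46], [48]], 18, 3⟩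
noncomputable def GA_v3 : Lev :=
  ⟨2, 3, sg (W (nat_lit 0xb42f)), [[50], [45]], 21, 1⟩
noncomputable def GA_v4 : Lev :=
  ⟨3, 2, sg [45], [[52], [54], [56]], 22, 3⟩
noncomputable def GA_v5 : Lev :=
  ⟨22, 4, sg (W (nat_lit 0x350d437)), [[58], [60]], 25, 2⟩
noncomputable def GA_v6 : Lev :=
  ⟨29, 3, sg (W (nat_lit 0xf43d)), [[58], [62]], 27, 1⟩
noncomputable def GA_v7 : Lev :=
  ⟨5, 4, sg (W (nat_lit 0xfc3b)), [], 28, 0⟩
noncomputable def GA_vs8 : List Lev :=
  []
noncomputable def GA_vs7 : List Lev :=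
  GA_v7 :: GA_vs8
noncomputable def GA_vs6 : List Lev :=
  GA_v6 :: GA_vs7
noncomputable def GA_vs5 : List Lev :=
  GA_v5 :: GA_vs6
noncomputable def GA_vs4 : List Lev :=
  GA_v4 :: GA_vs5
noncomputable def GA_vs3 : List Lev :=
  GA_v3 :: GA_vs4
noncomputable def GA_vs2 : List Lev :=
  GA_v2 :: GA_vs3
noncomputable def GA_vs1 : List Lev :=
  GA_v1 :: GA_vs2
noncomputable def GA_vs : List Lev :=
  GA_v0 :: GA_vs1
noncomputable def zcj67 : List (List ℕ) :=
  [W (nat_lit 0xf8370d82409423),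
  W (nat_lit 0xdc2f09026),
  W (nat_lit 0x3b0fc3e0dc360bc26)]
noncomputable def zB70 : List BG :=
  [⟨[64], [([35], W (nat_lit 0xf8370d82409423)), ([40], W (nat_lit 0xdc2f09026)), ([42], W (nat_lit 0x3b0fc3e0dc360bc26))],
  [([⟨[], [36], 3, W (nat_lit 0x3d0dc360bc25)⟩], []),
   ([⟨[], [37], 3, W (nat_lit 0x3b0fc370b82f0b025)⟩,
    ⟨[36], [38], 2, W (nat_lit 0x3b0dc3609029)⟩], W (nat_lit 0x4010040300402)),
   ([⟨[], [41], 1, W (nat_lit 0x3d0e03009025)⟩], W (nat_lit 0xc010080100801)),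
   ([⟨[], [], 0, []⟩,
    ⟨[36], W (nat_lit 0x9431), 1, W (nat_lit 0x3b0f8380c0240a427)⟩], W (nat_lit 0x100401))]⟩]
noncomputable def zE71 : List (ℕ × List ℕ) :=
  [(0, W (nat_lit 0x3b0f4380c024094410a842)),
  (2, W (nat_lit 0x3b0fc3d0dc360b82c0942310842)),
  (4, W (nat_lit 0xec3f0f4370d82e0b02508c4110441)),
  (6, W (nat_lit 0xec3f0f4380b82f0902510441))]
noncomputable def zm76 : ℕ :=
  (nat_lit 0x800000100)
noncomputable def zm77 : ℕ :=
  (nat_lit 0x9001101080)
noncomputable def cL_F : List (List ℕ × ℕ × ℕ) :=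
  [([0], zm76, zm76),
  ([2], zm77, zm77)]
noncomputable def cLG_v0 : Lev :=
  ⟨1, 42, sg (W (nat_lit 0x403014070040500c01)), [[88], [90]], 40, 2⟩
noncomputable def cLG_v1 : Lev :=
  ⟨0, 20, sg (W (nat_lit 0x16c5916c5916c59)), [[92], [94], [96]], 42, 3⟩
noncomputable def cLG_v2 : Lev :=
  ⟨5, 16, sg (W (nat_lit 0x5f1845d17c5d)), [[98], [100], [102]], 45, 3⟩
noncomputable def cLG_v3 : Lev :=
  ⟨10, 9, sg (W (nat_lit 0x18c6719463)), [[104]], 48, 1⟩
noncomputable def cLG_v4 : Lev :=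
  ⟨3, 2, sg [104], [], 49, 0⟩
noncomputable def cLG_vs5 : List Lev :=
  []
noncomputable def cLG_vs4 : List Lev :=
  cLG_v4 :: cLG_vs5
noncomputable def cLG_vs3 : List Lev :=
  cLG_v3 :: cLG_vs4
noncomputable def cLG_vs2 : List Lev :=
  cLG_v2 :: cLG_vs3
noncomputable def cLG_vs1 : List Lev :=
  cLG_v1 :: cLG_vs2
noncomputable def cLG_vs : List Lev :=
  cLG_v0 :: cLG_vs1
noncomputable def cL_x : List (ℕ × List ℕ) :=
  [((nat_lit 0), []),
  ((nat_lit 0), []),
  ((nat_lit 0), [(nat_lit 0x1fffe0)]),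
  ((nat_lit 0), []),
  ((nat_lit 0), [])]
noncomputable def cL_G : Gl :=
  ⟨P, ns, (app D []), (diag [[0], [2]]), [], [], memM (app D []) [], true⟩
noncomputable def cL_s : St :=
  ⟨(mkS P.n cLG_vs cL_x), [[0], [2], [4], [6]], [], mapL Prod.snd cL_F, memM (app D []) [], []⟩
noncomputable def zt81 : ST :=
  (.img [2] 0 (.img (W (nat_lit 0x401)) 2 (.dif 1 0 (.br 0 [] [] [(1, [])] (.cons (.img (W (nat_lit 0x1002)) 1 (.br 0 [] [] [(0, [])] (.cons (.orb 0 (.img (W (nat_lit 0x401)) 8 (.and 1 0 (.br 0 [] [] [(5, [])] (.cons (.img (W (nat_lit 0xc02)) 1 (.br 0 [] [] [(10, [])] (.cons (.img [1] 6 (.br 0 [] [] [(3, [])] (.cons .fnd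
 .nil)))
 .nil)))
 .nil)))))
 .nil)))
 .nil)))))
noncomputable def T_v0 : Lev :=
  ⟨1, 2, sg [108], [[106], [110], [112], [114], [116], [118], [120]], 57, 0⟩
noncomputable def T_v1 : Lev :=
  ⟨0, 4, sg (W (nat_lit 0x1c46f)), [[122], [124], [126]], 57, 3⟩
noncomputable def T_v2 : Lev :=
  ⟨2, 2, sg [122], [[128], [127], [130], [132]], 60, 3⟩
noncomputable def T_v3 : Lev :=
  ⟨22, 4, sg (W (nat_lit 0x20c81)), [[134], [136]], 63, 2⟩
noncomputable def T_v4 : Lev :=
  ⟨5, 4, sg (W (nat_lit 0x22487)), [], 65, 0⟩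
noncomputable def T_vs5 : List Lev :=
  []
noncomputable def T_vs4 : List Lev :=
  T_v4 :: T_vs5
noncomputable def T_vs3 : List Lev :=
  T_v3 :: T_vs4
noncomputable def T_vs2 : List Lev :=
  T_v2 :: T_vs3
noncomputable def T_vs1 : List Lev :=
  T_v1 :: T_vs2
noncomputable def T_vs : List Lev :=
  T_v0 :: T_vs1
noncomputable def T_ps : List PcG :=
  [⟨[106], 2, [120], [W (nat_lit 0x1e4771c46d), W (nat_lit 0x1e4771c46f), W (nat_lit 0x1e471), W (nat_lit 0x1e4771d473), [116], W (nat_lit 0x1e477), [120]]⟩,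
  ⟨[108], 2, W (nat_lit 0x1e4771d473), [W (nat_lit 0x771cc6f), W (nat_lit 0x1e4771d471), W (nat_lit 0x1dc73), W (nat_lit 0x1dc75), [118], [120]]⟩,
  ⟨[110], 2, [], [[112], W (nat_lit 0x791dc73), W (nat_lit 0x1dc75), [118], [120]]⟩,
  ⟨[112], 2, [], [W (nat_lit 0x1dc73), W (nat_lit 0x1e475), [118], [120]]⟩,
  ⟨[114], 2, W (nat_lit 0x1e477), [[116], [118], [120]]⟩,
  ⟨[116], 2, [120], [[118], [120]]⟩,
  ⟨[118], 2, [], [[120]]⟩,
  ⟨[120], 2, [], []⟩]
noncomputable def v0_E : List (ℕ × List CE) :=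
  [(3, [])]
noncomputable def v0_R : List (List ℕ) :=
  [[],
  [106]]
noncomputable def zts91 : List (List ℕ) :=
  [W (nat_lit 0x3b0f8370b830),
  W (nat_lit 0xfc3e0dc240942301423),
  W (nat_lit 0xfc3d0e02e0b02508c03),
  W (nat_lit 0x3e0e02508c01),
  W (nat_lit 0x3b0fc3e0dc2e0b02508c03),
  W (nat_lit 0x3f0dc2508c01),
  W (nat_lit 0xf837),
  W (nat_lit 0xec3d0dc36)]
noncomputable def zcj94 : List (List (List ℕ)) :=
  [[W (nat_lit 0x1e4771c46d), W (nat_lit 0x1e4771c46f), W (nat_lit 0x1e471), W (nat_lit 0x1e4771d473), [116], W (nat_lit 0x1e477), [120]],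
  [[108], W (nat_lit 0x771cc6f), W (nat_lit 0x1e4771d471), W (nat_lit 0x1dc73), W (nat_lit 0x1dc75), [118], [120]],
  [W (nat_lit 0x791cc6d), [110], [112], W (nat_lit 0x791dc73), W (nat_lit 0x1dc75), [118], [120]],
  [W (nat_lit 0x771d46d), [110], [112], W (nat_lit 0x1dc73), W (nat_lit 0x1e475), [118], [120]],
  [W (nat_lit 0x1dc6d), W (nat_lit 0x791dc6f), W (nat_lit 0x1dc71), [114], [116], [118], [120]],
  [W (nat_lit 0x1dc6d), W (nat_lit 0x1dc6f), W (nat_lit 0x1e471), [114], [116], [118], [120]],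
  [[108], [110], [112], [114], [116], [118], [120]],
  [[108], [110], [112], [114], [116], [118], [120]]]
noncomputable def v1_E : List (ℕ × List CE) :=
  [(3, []),
  (3, [])]
noncomputable def v1_R : List (List ℕ) :=
  [[],
  [108],
  [106],
  W (nat_lit 0x1b46b)]
noncomputable def zcj101 : List (List (List ℕ)) :=
  [[W (nat_lit 0x1e4771c46f), W (nat_lit 0x1e471), W (nat_lit 0x1e4771d473), [116], W (nat_lit 0x1e477), [120]],
  [W (nat_lit 0x771cc6f), W (nat_lit 0x1e4771d471), W (nat_lit 0x1dc73), W (nat_lit 0x1dc75), [118], [120]],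
  [[110], [112], W (nat_lit 0x791dc73), W (nat_lit 0x1dc75), [118], [120]],
  [[110], [112], W (nat_lit 0x1dc73), W (nat_lit 0x1e475), [118], [120]],
  [W (nat_lit 0x791dc6f), W (nat_lit 0x1dc71), [114], [116], [118], [120]],
  [W (nat_lit 0x1dc6f), W (nat_lit 0x1e471), [114], [116], [118], [120]],
  [[110], [112], [114], [116], [118], [120]],
  [[110], [112], [114], [116], [118], [120]]]
noncomputable def v2_E : List (ℕ × List CE) :=
  [(3, []),
  (3, []),
  (3, []),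
  (3, [])]
noncomputable def v2_R : List (List ℕ) :=
  [[],
  [110],
  [108],
  W (nat_lit 0x1bc6d),
  [106],
  W (nat_lit 0x1bc6b),
  W (nat_lit 0x1b46b),
  W (nat_lit 0x6f1b46b)]
noncomputable def zcj108 : List (List (List ℕ)) :=
  [[W (nat_lit 0x1e471), W (nat_lit 0x1e4771d473), [116], W (nat_lit 0x1e477), [120]],
  [W (nat_lit 0x1e4771d471), W (nat_lit 0x1dc73), W (nat_lit 0x1dc75), [118], [120]],
  [[112], W (nat_lit 0x791dc73), W (nat_lit 0x1dc75), [118], [120]],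
  [[112], W (nat_lit 0x1dc73), W (nat_lit 0x1e475), [118], [120]],
  [W (nat_lit 0x1dc71), [114], [116], [118], [120]],
  [W (nat_lit 0x1e471), [114], [116], [118], [120]],
  [[112], [114], [116], [118], [120]],
  [[112], [114], [116], [118], [120]]]
noncomputable def v3_E : List (ℕ × List CE) :=
  [(3, []),
  (1, [ceD, ⟨false, [106], 0, [118]⟩]),
  (1, [ceD, ⟨false, [106], 0, [118]⟩]),
  (3, []),
  (1, [ceD, ⟨false, [108], 0, W (nat_lit 0x1e477)⟩]),
  (0, [⟨true, [], 1, [118]⟩, ⟨true, [], 1, W (nat_lit 0x1e477)⟩]),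
  (0, [⟨true, [], 1, [114]⟩, ⟨true, [], 1, W (nat_lit 0x1e4771d473)⟩]),
  (1, [ceD, ⟨false, [108], 0, W (nat_lit 0x771d473)⟩])]
noncomputable def v3_R : List (List ℕ) :=
  [[],
  [112],
  [110],
  [108],
  W (nat_lit 0x1bc6d),
  W (nat_lit 0x711bc6d),
  [106],
  W (nat_lit 0x6f1b46b)]
noncomputable def zcj115 : List (List (List ℕ)) :=
  [[W (nat_lit 0x1e4771d473), [116], W (nat_lit 0x1e477), [120]],
  [W (nat_lit 0x1dc73), W (nat_lit 0x1dc75), [118], [120]],
  [W (nat_lit 0x791dc73), W (nat_lit 0x1dc75), [118], [120]],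
  [W (nat_lit 0x1dc73), W (nat_lit 0x1e475), [118], [120]],
  [[114], [116], [118], [120]],
  [[114], [116], [118], [120]],
  [[114], [116], [118], [120]],
  [[114], [116], [118], [120]]]
noncomputable def v4_E : List (ℕ × List CE) :=
  [(3, []),
  (3, []),
  (1, [ceD, ⟨false, [108], 0, [118]⟩]),
  (0, [⟨true, [], 1, W (nat_lit 0x791dc75)⟩, ⟨true, [], 1, W (nat_lit 0x1dc75)⟩]),
  (1, [ceD, ⟨false, [108], 0, [118]⟩]),
  (1, [ceD, ⟨false, [108], 0, [116]⟩]),
  (3, []),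
  (3, [])]
noncomputable def v4_R : List (List ℕ) :=
  [[],
  [114],
  [112],
  W (nat_lit 0x1cc71),
  [110],
  W (nat_lit 0x1bc6d),
  W (nat_lit 0x711bc6d),
  [106],
  W (nat_lit 0x1cc6b),
  W (nat_lit 0x6f1b46b),
  W (nat_lit 0x1cc6f1b46b)]
noncomputable def zcj122 : List (List (List ℕ)) :=
  [[[116], W (nat_lit 0x1e477), [120]],
  [W (nat_lit 0x1dc75), [118], [120]],
  [W (nat_lit 0x1dc75), [118], [120]],
  [W (nat_lit 0x1e475), [118], [120]],
  [[116], [118], [120]],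
  [[116], [118], [120]],
  [[116], [118], [120]],
  [[116], [118], [120]]]
noncomputable def v5_E : List (ℕ × List CE) :=
  [(3, []),
  (1, [ceD, ⟨false, [106], 0, [118]⟩]),
  (1, [ceD, ⟨false, [108], 0, W (nat_lit 0x1e477)⟩]),
  (1, [ceD, ⟨false, [106], 0, W (nat_lit 0x1e477)⟩]),
  (3, []),
  (0, [⟨true, [], 1, [120]⟩, ⟨true, [], 1, []⟩]),
  (1, [ceD, ⟨false, [112], 0, [120]⟩]),
  (1, [ceD, ⟨false, [114], 0, [118]⟩]),
  (0, [⟨true, [], 1, [120]⟩, ⟨true, [], 1, []⟩]),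
  (0, [⟨true, [], 1, []⟩, ⟨true, [], 1, [120]⟩]),
  (1, [ceD, ⟨false, [106], 0, [118]⟩])]
noncomputable def v5_R : List (List ℕ) :=
  [[],
  [116],
  [114],
  [112],
  W (nat_lit 0x1cc71),
  [110],
  W (nat_lit 0x1d46f),
  W (nat_lit 0x711bc6d),
  [106],
  W (nat_lit 0x1cc6f1b46b)]
noncomputable def zcj129 : List (List (List ℕ)) :=
  [[W (nat_lit 0x1e477), [120]],
  [[118], [120]],
  [[118], [120]],
  [[118], [120]],
  [[118], [120]],
  [[118], [120]],
  [[118], [120]],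
  [[118], [120]]]
noncomputable def v6_E : List (ℕ × List CE) :=
  [(3, []),
  (1, [ceD, ⟨false, [108], 0, []⟩]),
  (0, [⟨true, [], 1, [120]⟩, ⟨true, [], 1, [120]⟩]),
  (1, [ceD, ⟨false, [114], 0, []⟩]),
  (1, [ceD, ⟨false, [110], 0, [120]⟩]),
  (1, [ceD, ⟨false, [114], 0, [120]⟩]),
  (0, [⟨true, [], 1, [120]⟩, ⟨true, [], 1, [120]⟩]),
  (1, [ceD, ⟨false, [114], 0, [120]⟩]),
  (3, []),
  (3, [])]
noncomputable def v6_R : List (List ℕ) :=
  [[],
  [118],
  [116],
  [112],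
  W (nat_lit 0x1cc71),
  [110],
  W (nat_lit 0x711bc6d),
  [106],
  W (nat_lit 0x1dc6b),
  W (nat_lit 0x1cc6f1b46b),
  W (nat_lit 0x771cc6f1b46b)]
noncomputable def zcj136 : List (List (List ℕ)) :=
  [[[120]],
  [[120]],
  [[120]],
  [[120]],
  [[120]],
  [[120]],
  [[120]],
  [[120]]]
noncomputable def v7_E : List (ℕ × List CE) :=
  [(3, []),
  (1, [ceD, ⟨false, [106], 0, []⟩]),
  (0, [⟨true, [], 1, []⟩, ⟨true, [], 1, []⟩]),
  (1, [ceD, ⟨false, [106], 0, []⟩]),
  (0, [⟨true, [], 1, []⟩, ⟨true, [], 1, []⟩]),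
  (1, [ceD, ⟨false, [132], 0, []⟩]),
  (1, [ceD, ⟨false, [106], 0, []⟩]),
  (0, [⟨true, [], 1, []⟩, ⟨true, [], 1, []⟩]),
  (1, [ceD, ⟨false, [106], 0, []⟩]),
  (1, [ceD, ⟨false, [118], 0, []⟩]),
  (0, [⟨true, [], 1, []⟩, ⟨true, [], 1, []⟩])]
noncomputable def v7_R : List (List ℕ) :=
  [[],
  [120],
  [118],
  [112],
  [110],
  W (nat_lit 0x711bc6d),
  W (nat_lit 0x1dc6b),
  W (nat_lit 0x1cc6f1b46b)]
noncomputable def v8_F : List (List ℕ × ℕ × List ℕ) :=
  [([], 0, []),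
  ([], 1, []),
  (W (nat_lit 0x3d0b830), 1, []),
  (W (nat_lit 0xec3f0f8370bc2c0942300825), 1, []),
  (W (nat_lit 0xec3d0e02e0b0250082b), 1, []),
  (W (nat_lit 0xfc3d0dc300b02508c03), 2, []),
  (W (nat_lit 0x3f0f4370c02600c23), 4, []),
  (W (nat_lit 0xf4370b82f0942300429), 3, [])]
noncomputable def v8_R : List (List ℕ) :=
  [[], [138], [140], [142], [144]]
noncomputable def zts146 : List (List ℕ) :=
  [W (nat_lit 0x3b0f8370b830),
  W (nat_lit 0xfc3e0dc240942301423),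
  W (nat_lit 0xfc3d0e02e0b02508c03),
  W (nat_lit 0x3e0e02508c01),
  W (nat_lit 0x3b0fc3e0dc2e0b02508c03),
  W (nat_lit 0x3f0dc2508c01),
  W (nat_lit 0xf837),
  W (nat_lit 0xec3d0dc36)]
noncomputable def zm149 : ℕ :=
  (nat_lit 0x521020001f)
noncomputable def cC0_F : List (List ℕ × ℕ × ℕ) :=
  [([0], zm149, zm149)]
noncomputable def cC0G_v0 : Lev :=
  ⟨5, 21, sg (W (nat_lit 0x30040100c010040300401)), [[166], [168]], 79, 2⟩
noncomputable def cC0G_v1 : Lev :=
  ⟨17, 20, sg (W (nat_lit 0x29ca92a4a72a4a72a4a7)), [[170], [172], [174]], 81, 3⟩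
noncomputable def cC0G_v2 : Lev :=
  ⟨0, 16, sg (W (nat_lit 0xab2b4ab2bcab)), [[172]], 84, 0⟩
noncomputable def cC0G_v3 : Lev :=
  ⟨1, 3, sg (W (nat_lit 0x2b4ad)), [], 84, 0⟩
noncomputable def cC0G_vs4 : List Lev :=
  []
noncomputable def cC0G_vs3 : List Lev :=
  cC0G_v3 :: cC0G_vs4
noncomputable def cC0G_vs2 : List Lev :=
  cC0G_v2 :: cC0G_vs3
noncomputable def cC0G_vs1 : List Lev :=
  cC0G_v1 :: cC0G_vs2
noncomputable def cC0G_vs : List Lev :=
  cC0G_v0 :: cC0G_vs1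
noncomputable def cC0_x : List (ℕ × List ℕ) :=
  [((nat_lit 0), [(nat_lit 0x1fffff)]),
  ((nat_lit 0), []),
  ((nat_lit 0), [(nat_lit 0x1ddddd)]),
  ((nat_lit 0), [(nat_lit 0x2202)])]
noncomputable def cC0_G : Gl :=
  ⟨P, ns, (app D []), (diag [[138]]), [], [], memM (app D []) [[146], [148], [150], [152]], true⟩
noncomputable def cC0_s : St :=
  ⟨(mkS P.n cC0G_vs cC0_x), [[0], [2]], [], mapL Prod.snd cC0_F, memM (app D []) [[146], [148], [150], [152]], []⟩
noncomputable def zt153 : ST :=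
  (.orb 0 (.dif 0 1 (.br 0 [W (nat_lit 0xa32949b24c95), W (nat_lit 0x28ca524c95), W (nat_lit 0x9b24c95)] (W (nat_lit 0x10040500c01)) [(5, [])] (.cons (.img [0] 0 (.br 0 [] [] [(17, [])] (.cons (.orb 0 (.and 6 0 (.br 0 [W (nat_lit 0x24c95), W (nat_lit 0x28c95)] (W (nat_lit 0xc01)) [(0, [])] (.cons (.orb 0 (.and 0 9 (.br 0 [] [] [(1, [])] (.cons .fnd
 .nil))))
 .nil))))
 .nil)))
 .nil))))
noncomputable def D0_ps : List PcG :=
  [⟨[176], 2, [], [[156]]⟩,
  ⟨[156], 2, [], []⟩]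
noncomputable def D0_v0 : Lev :=
  ⟨5, 4, sg (W (nat_lit 0x2c49d)), [], 85, 0⟩
noncomputable def D0_vs1 : List Lev :=
  []
noncomputable def D0_vs : List Lev :=
  D0_v0 :: D0_vs1
noncomputable def zps160 : List (List ℕ × List ℕ) :=
  [([149], [147]), ([149], [152])]
noncomputable def zts163 : List (List ℕ) :=
  [W (nat_lit 0x2ccb5),
  [178]]
noncomputable def zts166 : List (List ℕ) :=
  [[],
  [176],
  [156],
  [176],
  [176],
  [],
  [156],
  W (nat_lit 0x274b1),
  [156],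
  [156],
  [],
  W (nat_lit 0x274b1),
  [176],
  W (nat_lit 0x274b1),
  W (nat_lit 0x274b1),
  []]
noncomputable def zcj169 : List (List (List ℕ)) :=
  [[[156], [176]],
  [[156], [176]],
  [[156], [176]],
  [[156], [176]]]
noncomputable def zcj172 : List (List (List ℕ)) :=
  [[[156], [176]],
  [[156], [176]],
  [[156], [176]],
  [[156], [176]]]
noncomputable def Q0_ps : List PcG :=
  [⟨[182], 2, [], [[176]]⟩,
  ⟨[176], 2, [], []⟩]
noncomputable def Q0_v0 : Lev :=
  ⟨5, 4, sg (W (nat_lit 0x2dcb1)), [], 88, 0⟩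
noncomputable def Q0_vs1 : List Lev :=
  []
noncomputable def Q0_vs : List Lev :=
  Q0_v0 :: Q0_vs1
noncomputable def zts178 : List (List ℕ) :=
  [[176],
  W (nat_lit 0x274b1)]
noncomputable def zcj181 : List (List (List ℕ)) :=
  [[[176], [182]],
  [[176], [182]]]
noncomputable def Z0_ps : List PcG :=
  [⟨[176], 2, [], [[156]]⟩,
  ⟨[156], 2, [], []⟩]
noncomputable def Z0_v0 : Lev :=
  ⟨5, 4, sg (W (nat_lit 0x2c49d)), [], 85, 0⟩
noncomputable def Z0_vs1 : List Lev :=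
  []
noncomputable def Z0_vs : List Lev :=
  Z0_v0 :: Z0_vs1
noncomputable def cQ0_F : List (List ℕ × ℕ × ℕ) :=
  []
noncomputable def cQ0G_v0 : Lev :=
  ⟨5, 4, sg (W (nat_lit 0x2c49d)), [], 85, 0⟩
noncomputable def cQ0G_vs1 : List Lev :=
  []
noncomputable def cQ0G_vs : List Lev :=
  cQ0G_v0 :: cQ0G_vs1
noncomputable def cQ0_x : List (ℕ × List ℕ) :=
  []
noncomputable def cQ0_G : Gl :=
  ⟨P, ns, (app D []), (diag [[176], [182]]), [], [], memM (app D []) [[156], [176]], true⟩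
noncomputable def cQ0_s : St :=
  ⟨(mkS P.n cQ0G_vs cQ0_x), [[156], [176]], [], mapL Prod.snd cQ0_F, memM (app D []) [[156], [176]], []⟩
noncomputable def zt190 : ST :=
  .fnd
noncomputable def cC1_F : List (List ℕ × ℕ × ℕ) :=
  []
noncomputable def cC1G_v0 : Lev :=
  ⟨0, 21, sg (W (nat_lit 0xc010040100c0100c01)), [[8], [10]], 0, 2⟩
noncomputable def cC1G_v1 : Lev :=
  ⟨28, 16, sg (W (nat_lit 0x240902c090240b02409)), [[194], [196]], 93, 2⟩
noncomputable def cC1G_v2 : Lev :=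
  ⟨1, 5, sg (W (nat_lit 0x314c530cc3)), [[198], [200]], 95, 2⟩
noncomputable def cC1G_v3 : Lev :=
  ⟨6, 4, sg (W (nat_lit 0xc731cc9)), [[198]], 97, 0⟩
noncomputable def cC1G_v4 : Lev :=
  ⟨5, 3, sg (W (nat_lit 0x31cc7)), [], 97, 0⟩
noncomputable def cC1G_vs5 : List Lev :=
  []
noncomputable def cC1G_vs4 : List Lev :=
  cC1G_v4 :: cC1G_vs5
noncomputable def cC1G_vs3 : List Lev :=
  cC1G_v3 :: cC1G_vs4
noncomputable def cC1G_vs2 : List Lev :=
  cC1G_v2 :: cC1G_vs3
noncomputable def cC1G_vs1 : List Lev :=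
  cC1G_v1 :: cC1G_vs2
noncomputable def cC1G_vs : List Lev :=
  cC1G_v0 :: cC1G_vs1
noncomputable def cC1_x : List (ℕ × List ℕ) :=
  [((nat_lit 0xa000000000000000000000001), [(nat_lit 0x1fffff)]),
  ((nat_lit 0x10000000000000000000000010), [(nat_lit 0x48a200000)]),
  ((nat_lit 0x6000000000000000000000000), [(nat_lit 0x44442)]),
  ((nat_lit 0), [(nat_lit 0x44440),
   (nat_lit 0x200000)]),
  ((nat_lit 0), [(nat_lit 0x1a0),
   (nat_lit 0x28000800000),
   (nat_lit 0x40a000000)])]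
noncomputable def cC1_G : Gl :=
  ⟨P, ns, (app D []), (diag [[140]]), [], [], memM (app D []) [[184], [186]], true⟩
noncomputable def cC1_s : St :=
  ⟨(mkS P.n cC1G_vs cC1_x), [[0], [2]], [], mapL Prod.snd cC1_F, memM (app D []) [[184], [186]], []⟩
noncomputable def zt197 : ST :=
  (.orb 0 (.br 0 [W (nat_lit 0x300bc), W (nat_lit 0x300c12f4bc)] (W (nat_lit 0x40100c0100c01)) [(1, W (nat_lit 0x8c4)), (2, W (nat_lit 0x4c8)), (0, [])] (.cons (.img [0] 0 (.orb 0 (.and 1 0 (.mis 0))))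
 (.cons (.img [0] 0 (.br 0 [] [] [(36, W (nat_lit 0x24ca))] (.cons (.orb 0 (.br 0 [W (nat_lit 0xc12f4b9)] (W (nat_lit 0x40100401)) [(1, [197])] (.cons (.orb 0 (.br 0 [[189], W (nat_lit 0xc0304be)] (W (nat_lit 0x100403)) [(8, [])] (.cons (.orb 2 (.img [0] 0 (.and 2 0 (.mis 0))))
 .nil)))
 .nil)))
 .nil)))
 (.cons (.img [0] 0 (.br 0 [] [] [(28, [])] (.cons (.orb 0 (.br 0 [W (nat_lit 0x300c1), [191]] (W (nat_lit 0xc01)) [(6, [195]), (1, [])] (.cons (.orb 1 (.img [0] 0 (.and 2 0 (.mis 0))))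
 (.cons (.orb 0 (.br 0 [[192], W (nat_lit 0x300c1)] (W (nat_lit 0xc01)) [(6, [])] (.cons (.orb 0 (.orb 1 (.img [0] 0 (.and 2 0 (.br 0 [] [] [(5, [])] (.cons .fnd
 .nil))))))
 .nil)))
 .nil))))
 .nil)))
 .nil)))))
noncomputable def zus201 : List (List ℕ) :=
  [[210],
  [212],
  W (nat_lit 0x34cd5)]
noncomputable def zF202 : List (List (ℕ × List ℕ)) :=
  [[(1, []),
   (0, []),
   (3, []),
   (2, [])],
  [(2, []),
   (3, []),
   (0, []),
   (1, [])]]
noncomputable def zE205 : List (ℕ × List ℕ) :=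
  [(208, W (nat_lit 0x34cd5))]
noncomputable def zt206 : List ℕ :=
  []
noncomputable def zcj207 : List (List ℕ) :=
  [[212],
  W (nat_lit 0x34cd5)]
noncomputable def zus211 : List (List ℕ) :=
  [[202],
  [203],
  W (nat_lit 0x32ccd),
  W (nat_lit 0x32cce)]
noncomputable def zF212 : List (List (ℕ × List ℕ)) :=
  [[(1, []),
   (2, []),
   (0, []),
   (3, W (nat_lit 0x354cf)),
   (4, W (nat_lit 0xd3354d0))],
  [(0, W (nat_lit 0x354d0)),
   (3, []),
   (2, [206]),
   (4, []),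
   (1, [])]]
noncomputable def D1_v0 : Lev :=
  ⟨1, 5, sg (W (nat_lit 0x334cd32ccb)), [[206], [208]], 99, 2⟩
noncomputable def D1_v1 : Lev :=
  ⟨0, 3, sg (W (nat_lit 0x33ccf)), [[210], [212]], 101, 2⟩
noncomputable def D1_v2 : Lev :=
  ⟨5, 4, sg (W (nat_lit 0x354d3)), [], 103, 0⟩
noncomputable def D1_vs3 : List Lev :=
  []
noncomputable def D1_vs2 : List Lev :=
  D1_v2 :: D1_vs3
noncomputable def D1_vs1 : List Lev :=
  D1_v1 :: D1_vs2
noncomputable def D1_vs : List Lev :=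
  D1_v0 :: D1_vs1
noncomputable def zps216 : List (List ℕ × List ℕ) :=
  [([185], W (nat_lit 0x2e8bc)), ([186], W (nat_lit 0x2e4b9))]
noncomputable def zts219 : List (List ℕ) :=
  [W (nat_lit 0xdf36cd7),
  W (nat_lit 0x37cdb)]
noncomputable def zts222 : List (List ℕ) :=
  [[],
  W (nat_lit 0x33ccc),
  W (nat_lit 0x34cd533ccb),
  []]
noncomputable def zcj225 : List (List (List ℕ)) :=
  [[W (nat_lit 0xd332ccd), W (nat_lit 0x354cf)],
  [W (nat_lit 0x354cf), W (nat_lit 0xd3354cf32ccd)]]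
noncomputable def zcj228 : List (List (List ℕ)) :=
  [[W (nat_lit 0xd332ccd), W (nat_lit 0x354cf)],
  [W (nat_lit 0x354cf), W (nat_lit 0xd3354cf32ccd)]]
noncomputable def zE231 : Net :=
  (.cons 12 (nat_lit 0x66d)
 (.cons 6 (nat_lit 0x3d034)
 (.cons 3 (nat_lit 0x43181)
 (.cons 1 (nat_lit 0x200001)
 (.cons 1 (nat_lit 0x480482)
 (.cons 1 (nat_lit 0x248041)
 (.cons 3 (nat_lit 0x4)
 (.cons 6 (nat_lit 0x30010)
 (.cons 12 (nat_lit 0x6f4)
 .nil)))))))))
noncomputable def zK232 : Lk :=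
  ⟨zE231, 1, 2, 1⟩
noncomputable def zts235 : List (List ℕ) :=
  [W (nat_lit 0x3aced39ce3),
  W (nat_lit 0xeb3b4e8)]
noncomputable def zts238 : List (List ℕ) :=
  [W (nat_lit 0xd3340cb),
  W (nat_lit 0xd3354cb)]
noncomputable def P1_v0 : Lev :=
  ⟨5, 4, sg (W (nat_lit 0x34cd5)), [], 120, 0⟩
noncomputable def P1_vs1 : List Lev :=
  []
noncomputable def P1_vs : List Lev :=
  P1_v0 :: P1_vs1
noncomputable def P1_ps : List PcG :=
  [⟨[212], 2, [], [[210]]⟩,
  ⟨[210], 2, [], []⟩]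
noncomputable def w1_0_E : List (ℕ × List CE) :=
  [(3, [])]
noncomputable def w1_0_R : List (List ℕ) :=
  [[],
  [212]]
noncomputable def zts257 : List (List ℕ) :=
  [[212],
  [210]]
noncomputable def zcj260 : List (List (List ℕ)) :=
  [[[210]],
  [[210]]]
noncomputable def w1_1_E : List (ℕ × List CE) :=
  [(3, []),
  (3, [])]
noncomputable def w1_1_R : List (List ℕ) :=
  [[],
  [210],
  [212],
  W (nat_lit 0x34cd5)]
noncomputable def w1_2_F : List (List ℕ × ℕ × List ℕ) :=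
  [([], 0, []),
  ([], 1, []),
  (W (nat_lit 0xd3354cf), 1, []),
  (W (nat_lit 0xd3354d0), 1, [])]
noncomputable def w1_2_R : List (List ℕ) :=
  [[], [210]]
noncomputable def zts270 : List (List ℕ) :=
  [[212],
  [210]]
noncomputable def cC2_F : List (List ℕ × ℕ × ℕ) :=
  []
noncomputable def cC2G_v0 : Lev :=
  ⟨0, 21, sg (W (nat_lit 0xc010040100c0100c01)), [[8], [10]], 0, 2⟩
noncomputable def cC2G_v1 : Lev :=
  ⟨38, 16, sg (W (nat_lit 0x90240b0240b02409)), [[258], [260]], 125, 2⟩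
noncomputable def cC2G_v2 : Lev :=
  ⟨1, 5, sg (W (nat_lit 0x40d0341505)), [[262], [258]], 127, 1⟩
noncomputable def cC2G_v3 : Lev :=
  ⟨7, 4, sg (W (nat_lit 0x10740d07)), [[264]], 128, 1⟩
noncomputable def cC2G_v4 : Lev :=
  ⟨2, 3, sg (W (nat_lit 0x42509)), [], 129, 0⟩
noncomputable def cC2G_vs5 : List Lev :=
  []
noncomputable def cC2G_vs4 : List Lev :=
  cC2G_v4 :: cC2G_vs5
noncomputable def cC2G_vs3 : List Lev :=
  cC2G_v3 :: cC2G_vs4
noncomputable def cC2G_vs2 : List Lev :=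
  cC2G_v2 :: cC2G_vs3
noncomputable def cC2G_vs1 : List Lev :=
  cC2G_v1 :: cC2G_vs2
noncomputable def cC2G_vs : List Lev :=
  cC2G_v0 :: cC2G_vs1
noncomputable def cC2_x : List (ℕ × List ℕ) :=
  [((nat_lit 0x3), [(nat_lit 0x1fffff)]),
  ((nat_lit 0), [(nat_lit 0x48a200000)]),
  ((nat_lit 0x600000000000000000000000000000000), [(nat_lit 0x88882)]),
  ((nat_lit 0x200000000000000000000000000000000), [(nat_lit 0x88880),
   (nat_lit 0x200000)]),
  ((nat_lit 0x1000000000000000000000000000000000), [(nat_lit 0x1c),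
   (nat_lit 0x80000000)]),
  ((nat_lit 0), [(nat_lit 0x10000000)])]
noncomputable def cC2_G : Gl :=
  ⟨P, ns, (app D []), (diag [[142]]), [], [], memM (app D []) [[248], [250]], true⟩
noncomputable def cC2_s : St :=
  ⟨(mkS P.n cC2G_vs cC2_x), [[0], [2]], [], mapL Prod.snd cC2_F, memM (app D []) [[248], [250]], []⟩
noncomputable def zt281 : ST :=
  (.orb 0 (.br 0 [W (nat_lit 0x404fd3fcfc), W (nat_lit 0xff3e4fb)] (W (nat_lit 0x100c0100c01)) [(1, W (nat_lit 0x1002)), (0, [])] (.cons (.img [0] 0 (.orb 0 (.and 1 0 (.mis 0))))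
 (.cons (.img [0] 0 (.br 0 [] [] [(38, [])] (.cons (.orb 0 (.br 0 [W (nat_lit 0x3f4ff3e901), W (nat_lit 0x1013f4ff3e901)] (W (nat_lit 0xc01)) [(11, W (nat_lit 0x41503)), (1, [])] (.cons (.img [0] 0 (.orb 1 (.and 1 0 (.mis 0))))
 (.cons (.orb 0 (.br 0 [[256]] [0] [(11, [259]), (7, [])] (.cons (.orb 1 (.img [0] 0 (.and 2 0 (.mis 0))))
 (.cons (.orb 0 (.br 0 [] [] [(3, [265]), (4, [264]), (2, [])] (.cons (.orb 0 (.img [0] 0 (.and 2 0 (.mis 0))))
 (.cons (.orb 0 (.img [0] 0 (.and 2 0 (.mis 0))))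
 (.cons .fnd
 .nil)))))
 .nil))))
 .nil))))
 .nil)))
 .nil))))
noncomputable def D2_ps : List PcG :=
  [⟨[276], 2, [], [W (nat_lit 0x45d17), W (nat_lit 0x42d0b)]⟩,
  ⟨[278], 3, [], [[266]]⟩,
  ⟨[266], 3, [], []⟩]
noncomputable def zE285 : List (ℕ × List ℕ) :=
  [(268, [278]),
  (270, [276])]
noncomputable def D2_v0 : Lev :=
  ⟨0, 3, sg (W (nat_lit 0x42d0b)), [[272], [274]], 132, 2⟩
noncomputable def D2_v1 : Lev :=
  ⟨11, 2, sg [274], [[272]], 134, 0⟩
noncomputable def D2_v2 : Lev :=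
  ⟨1, 3, sg (W (nat_lit 0x44511)), [], 134, 0⟩
noncomputable def D2_vs3 : List Lev :=
  []
noncomputable def D2_vs2 : List Lev :=
  D2_v2 :: D2_vs3
noncomputable def D2_vs1 : List Lev :=
  D2_v1 :: D2_vs2
noncomputable def D2_vs : List Lev :=
  D2_v0 :: D2_vs1
noncomputable def zps290 : List (List ℕ × List ℕ) :=
  [([249], W (nat_lit 0x3e8fc)), ([248], [250]), (W (nat_lit 0x3e8fa), W (nat_lit 0x3f0f9))]
noncomputable def zts293 : List (List ℕ) :=
  [W (nat_lit 0x12447d19),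
  W (nat_lit 0x12347d19),
  W (nat_lit 0x49119)]
noncomputable def zts296 : List (List ℕ) :=
  [[],
  W (nat_lit 0x11144d0c),
  W (nat_lit 0x11144d0c),
  []]
noncomputable def zcj299 : List (List (List ℕ)) :=
  [[[273], W (nat_lit 0x4490c), W (nat_lit 0x44d0b)],
  [W (nat_lit 0x4490c), [272], W (nat_lit 0x11144d0c)]]
noncomputable def zcj302 : List (List (List ℕ)) :=
  [[[273], W (nat_lit 0x4490c), W (nat_lit 0x44d0b)],
  [W (nat_lit 0x4490c), [272], W (nat_lit 0x11144d0c)]]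
noncomputable def Q2_ps : List PcG :=
  [⟨[298], 3, [], [[292]]⟩,
  ⟨[292], 3, [], []⟩]
noncomputable def zE305 : List (ℕ × List ℕ) :=
  [(294, [298])]
noncomputable def Q2_v0 : Lev :=
  ⟨0, 3, sg (W (nat_lit 0x49525)), [[296]], 144, 1⟩
noncomputable def Q2_v1 : Lev :=
  ⟨1, 3, sg (W (nat_lit 0x4a529)), [], 145, 0⟩
noncomputable def Q2_vs2 : List Lev :=
  []
noncomputable def Q2_vs1 : List Lev :=
  Q2_v1 :: Q2_vs2
noncomputable def Q2_vs : List Lev :=
  Q2_v0 :: Q2_vs1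
noncomputable def zts310 : List (List ℕ) :=
  [W (nat_lit 0x4450b),
  W (nat_lit 0x4490b)]
noncomputable def zcj313 : List (List (List ℕ)) :=
  [[[292], W (nat_lit 0x4a925)],
  [[292], W (nat_lit 0x4a925)],
  [[293], W (nat_lit 0x4a526)]]
noncomputable def Z2_ps : List PcG :=
  [⟨[300], 3, [], [[273]]⟩,
  ⟨[273], 3, [], []⟩]
noncomputable def Z2_v0 : Lev :=
  ⟨0, 3, sg (W (nat_lit 0x4b52d)), [[273]], 147, 0⟩
noncomputable def Z2_v1 : Lev :=
  ⟨1, 3, sg (W (nat_lit 0x44912)), [], 147, 0⟩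
noncomputable def Z2_vs2 : List Lev :=
  []
noncomputable def Z2_vs1 : List Lev :=
  Z2_v1 :: Z2_vs2
noncomputable def Z2_vs : List Lev :=
  Z2_v0 :: Z2_vs1
noncomputable def cQ2_F : List (List ℕ × ℕ × ℕ) :=
  []
noncomputable def cQ2G_v0 : Lev :=
  ⟨1, 9, sg (W (nat_lit 0x4350b4350b)), [[302]], 147, 1⟩
noncomputable def cQ2G_v1 : Lev :=
  ⟨5, 2, sg [302], [], 148, 0⟩
noncomputable def cQ2G_vs2 : List Lev :=
  []
noncomputable def cQ2G_vs1 : List Lev :=
  cQ2G_v1 :: cQ2G_vs2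
noncomputable def cQ2G_vs : List Lev :=
  cQ2G_v0 :: cQ2G_vs1
noncomputable def cQ2_x : List (ℕ × List ℕ) :=
  [((nat_lit 0), [(nat_lit 0x97682)]),
  ((nat_lit 0), [(nat_lit 0x10)])]
noncomputable def cQ2_G : Gl :=
  ⟨P, ns, (app D []), (diag [[292], [294]]), [], [], memM (app D []) [[273], [300]], true⟩
noncomputable def cQ2_s : St :=
  ⟨(mkS P.n cQ2G_vs cQ2_x), [[266], [268], [270]], [], mapL Prod.snd cQ2_F, memM (app D []) [[273], [300]], []⟩
noncomputable def zt322 : ST :=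
  (.orb 0 (.br 0 [[301], W (nat_lit 0x4452d)] (W (nat_lit 0xc0100c01)) [(1, [])] (.cons (.orb 0 (.img [1] 0 (.br 0 [] [] [(5, [])] (.cons .fnd
 .nil))))
 .nil)))
noncomputable def zm326 : ℕ :=
  (nat_lit 0x6b066006b)
noncomputable def cC3_F : List (List ℕ × ℕ × ℕ) :=
  [([0], zm326, zm326)]
noncomputable def cC3G_v0 : Lev :=
  ⟨0, 21, sg (W (nat_lit 0xc010040100c0100c01)), [[8], [10]], 0, 2⟩
noncomputable def cC3G_v1 : Lev :=
  ⟨28, 16, sg (W (nat_lit 0x240902c090240b02409)), [[194], [196]], 93, 2⟩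
noncomputable def cC3G_v2 : Lev :=
  ⟨3, 15, sg (W (nat_lit 0xc3314c3314c3)), [[318], [320]], 155, 2⟩
noncomputable def cC3G_v3 : Lev :=
  ⟨5, 4, sg (W (nat_lit 0x5053f)), [], 157, 0⟩
noncomputable def cC3G_vs4 : List Lev :=
  []
noncomputable def cC3G_vs3 : List Lev :=
  cC3G_v3 :: cC3G_vs4
noncomputable def cC3G_vs2 : List Lev :=
  cC3G_v2 :: cC3G_vs3
noncomputable def cC3G_vs1 : List Lev :=
  cC3G_v1 :: cC3G_vs2
noncomputable def cC3G_vs : List Lev :=
  cC3G_v0 :: cC3G_vs1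
noncomputable def cC3_x : List (ℕ × List ℕ) :=
  [((nat_lit 0), [(nat_lit 0x1fffff)]),
  ((nat_lit 0), [(nat_lit 0x3fb75c00000)]),
  ((nat_lit 0), [(nat_lit 0x1bbbbc)]),
  ((nat_lit 0), [])]
noncomputable def cC3_G : Gl :=
  ⟨P, ns, (app D []), (diag [[144]]), [], [], memM (app D []) [[304], [306]], true⟩
noncomputable def cC3_s : St :=
  ⟨(mkS P.n cC3G_vs cC3_x), [[0], [2]], [], mapL Prod.snd cC3_F, memM (app D []) [[304], [306]], []⟩
noncomputable def zt330 : ST :=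
  (.orb 0 (.and 1 0 (.br 0 [W (nat_lit 0x13b4e1354c538), W (nat_lit 0x13d4e133)] (W (nat_lit 0x40100c01)) [(0, [])] (.cons (.orb 0 (.and 4 0 (.br 0 [W (nat_lit 0x13b4f538), W (nat_lit 0x4ed35)] (W (nat_lit 0x300401)) [(28, [])] (.cons (.orb 0 (.and 5 0 (.br 0 [W (nat_lit 0x13b4f535), W (nat_lit 0x4f538)] (W (nat_lit 0xc01)) [(3, [])] (.cons (.dif 1 0 (.br 0 [W (nat_lit 0x4ed3d4e135)] [0] [(5, [])] (.cons .fnd
 .nil)))
 .nil))))
 .nil))))
 .nil))))
noncomputable def zt334 : List ℕ :=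
  []
noncomputable def zcj335 : List (List ℕ) :=
  []
noncomputable def zE338 : List (ℕ × List ℕ) :=
  [(332, W (nat_lit 0x5454f))]
noncomputable def zt339 : List ℕ :=
  []
noncomputable def zcj340 : List (List ℕ) :=
  [[336]]
noncomputable def zE344 : List (ℕ × List ℕ) :=
  [(328, [332])]
noncomputable def zt345 : List ℕ :=
  []
noncomputable def zcj346 : List (List ℕ) :=
  [W (nat_lit 0x5454d),
  [336]]
noncomputable def zE350 : List (ℕ × List ℕ) :=
  [(324, W (nat_lit 0x5454c))]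
noncomputable def zt351 : List ℕ :=
  [332]
noncomputable def zcj352 : List (List ℕ) :=
  [[332],
  W (nat_lit 0x5454c)]
noncomputable def zus356 : List (List ℕ) :=
  [[322],
  [323],
  W (nat_lit 0x50d38),
  W (nat_lit 0x50d43),
  W (nat_lit 0x50d45),
  W (nat_lit 0x50d49)]
noncomputable def zF357 : List (List (ℕ × List ℕ)) :=
  [[(0, W (nat_lit 0x5454b)),
   (2, W (nat_lit 0x52d47)),
   (3, W (nat_lit 0x52d47)),
   (1, []),
   (5, W (nat_lit 0x5454d53147)),
   (6, []),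
   (4, W (nat_lit 0x53147))],
  [(1, []),
   (4, []),
   (0, []),
   (5, [330]),
   (6, W (nat_lit 0x1515354c)),
   (2, W (nat_lit 0x53547)),
   (3, W (nat_lit 0x14d53147))]]
noncomputable def D3_v0 : Lev :=
  ⟨0, 7, sg (W (nat_lit 0x13750d374dd43)), [[324], [326]], 158, 2⟩
noncomputable def D3_v1 : Lev :=
  ⟨25, 2, sg [326], [[328], [330]], 160, 2⟩
noncomputable def D3_v2 : Lev :=
  ⟨21, 3, sg (W (nat_lit 0x52d4b)), [[332], [334]], 162, 2⟩
noncomputable def D3_v3 : Lev :=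
  ⟨1, 2, sg [332], [[336]], 164, 1⟩
noncomputable def D3_v4 : Lev :=
  ⟨5, 2, sg [336], [], 165, 0⟩
noncomputable def D3_vs5 : List Lev :=
  []
noncomputable def D3_vs4 : List Lev :=
  D3_v4 :: D3_vs5
noncomputable def D3_vs3 : List Lev :=
  D3_v3 :: D3_vs4
noncomputable def D3_vs2 : List Lev :=
  D3_v2 :: D3_vs3
noncomputable def D3_vs1 : List Lev :=
  D3_v1 :: D3_vs2
noncomputable def D3_vs : List Lev :=
  D3_v0 :: D3_vs1
noncomputable def zps361 : List (List ℕ × List ℕ) :=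
  [(W (nat_lit 0x4d132), [307]), (W (nat_lit 0x4c932), W (nat_lit 0x4cd32))]
noncomputable def zts364 : List (List ℕ) :=
  [[344],
  W (nat_lit 0x15f5755a55555)]
noncomputable def zts367 : List (List ℕ) :=
  [[],
  W (nat_lit 0x5354c50d45),
  W (nat_lit 0x5454c50d38),
  []]
noncomputable def zcj370 : List (List (List ℕ)) :=
  [[W (nat_lit 0x1515314750d45), W (nat_lit 0x5454c50d49)],
  [W (nat_lit 0x1515314750d45), W (nat_lit 0x14d52d4750d38)]]
noncomputable def zcj373 : List (List (List ℕ)) :=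
  [[W (nat_lit 0x1515314750d45), W (nat_lit 0x5454c50d49)],
  [W (nat_lit 0x1515314750d45), W (nat_lit 0x14d52d4750d38)]]
noncomputable def zE376 : Net :=
  (.cons 24 (nat_lit 0x1e3c75)
 (.cons 12 (nat_lit 0xdf0000ed4)
 (.cons 6 (nat_lit 0x1300f01c03c)
 (.cons 3 (nat_lit 0x1061041c0105)
 (.cons 1 (nat_lit 0x208000008)
 (.cons 1 (nat_lit 0x482412400412)
 (.cons 1 (nat_lit 0x41249048208)
 (.cons 3 (nat_lit 0x4100180002)
 (.cons 6 (nat_lit 0x4004)
 (.cons 12 (nat_lit 0xc10000ac8)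
 (.cons 24 (nat_lit 0x1e3ab0)
 .nil)))))))))))
noncomputable def zK377 : Lk :=
  ⟨zE376, 1, 2, 1⟩
noncomputable def zts380 : List (List ℕ) :=
  [W (nat_lit 0x5b16d),
  W (nat_lit 0x16e58569)]
noncomputable def zts383 : List (List ℕ) :=
  [W (nat_lit 0x15152d4750d49),
  W (nat_lit 0x15152d4750d45)]
noncomputable def P3_v0 : Lev :=
  ⟨1, 2, sg [382], [[386], [388]], 189, 2⟩
noncomputable def P3_v1 : Lev :=
  ⟨22, 2, sg [388], [[386]], 191, 0⟩
noncomputable def P3_v2 : Lev :=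
  ⟨5, 2, sg [386], [], 191, 0⟩
noncomputable def P3_vs3 : List Lev :=
  []
noncomputable def P3_vs2 : List Lev :=
  P3_v2 :: P3_vs3
noncomputable def P3_vs1 : List Lev :=
  P3_v1 :: P3_vs2
noncomputable def P3_vs : List Lev :=
  P3_v0 :: P3_vs1
noncomputable def P3_ps : List PcG :=
  [⟨[382], 2, [], [W (nat_lit 0x54581), [336]]⟩,
  ⟨[384], 2, [336], [[336]]⟩,
  ⟨[336], 2, [], []⟩]
noncomputable def w3_0_E : List (ℕ × List CE) :=
  [(3, [])]
noncomputable def w3_0_R : List (List ℕ) :=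
  [[],
  [382]]
noncomputable def zts402 : List (List ℕ) :=
  [W (nat_lit 0x5454d),
  W (nat_lit 0x14d52d47),
  [336]]
noncomputable def zcj405 : List (List (List ℕ)) :=
  [[W (nat_lit 0x54581), [336]],
  [[384], [336]],
  [[384], [336]]]
noncomputable def w3_1_E : List (ℕ × List CE) :=
  [(3, []),
  (3, [])]
noncomputable def w3_1_R : List (List ℕ) :=
  [[],
  [384],
  [382],
  W (nat_lit 0x6057f)]
noncomputable def zcj412 : List (List (List ℕ)) :=
  [[[336]],
  [[336]],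
  [[336]]]
noncomputable def w3_2_E : List (ℕ × List CE) :=
  [(3, []),
  (0, [⟨true, [], 1, []⟩, ⟨true, [], 1, []⟩]),
  (1, [ceD, ⟨false, [384], 0, []⟩]),
  (1, [ceD, ⟨false, [382], 0, []⟩])]
noncomputable def w3_2_R : List (List ℕ) :=
  [[],
  [336],
  [382],
  W (nat_lit 0x6057f)]
noncomputable def w3_3_F : List (List ℕ × ℕ × List ℕ) :=
  [([], 0, []),
  (W (nat_lit 0x5454c50d45), 1, []),
  (W (nat_lit 0x1515354b50d45), 1, []),
  ([], 1, [])]
noncomputable def w3_3_R : List (List ℕ) :=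
  [[], [374]]
noncomputable def zts422 : List (List ℕ) :=
  [W (nat_lit 0x5454d),
  W (nat_lit 0x14d52d47),
  [336]]
noncomputable def zcj430 : List (List (List ℕ)) :=
  [[[0], W (nat_lit 0x641303c090040b)],
  [W (nat_lit 0x1f084150641403c0b0080b), [2]],
  [W (nat_lit 0x7c210640d0240e), W (nat_lit 0x7c210340b0100b)],
  [W (nat_lit 0x7c21054140240e00410), W (nat_lit 0x841504c0d0240c)]]
noncomputable def zE433 : Net :=
  (.cons 12 (nat_lit 0xc78)
 (.cons 6 (nat_lit 0x1d026)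
 (.cons 3 (nat_lit 0xc4141)
 (.cons 1 (nat_lit 0x201200)
 (.cons 1 (nat_lit 0x412480)
 (.cons 1 (nat_lit 0x201208)
 (.cons 6 (nat_lit 0x3c024)
 (.cons 12 (nat_lit 0xd78)
 .nil))))))))
noncomputable def zK434 : Lk :=
  ⟨zE433, 1, 3, 1⟩
noncomputable def zts437 : List (List ℕ) :=
  [W (nat_lit 0x6859666d8c6218a),
  W (nat_lit 0x19f6518f62189)]
noncomputable def zts440 : List (List ℕ) :=
  [W (nat_lit 0x1f08415064090080a),
  W (nat_lit 0x1f0841303409038010041b)]

theorem zb2 : schB D [[30], [32]] [] zus0 zF1 4 = true := by decide +kernel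
theorem zr3 : chk (schR [[30], [32]] zus0 zF1) = true := by decide +kernel
theorem zb6 : schB D [[20], [24], [26], [28]] [[30], [32]] zus4 zF5 4 = true := by decide +kernel
theorem zr7 : chk (schR [[20], [24], [26], [28]] zus4 zF5) = true := by decide +kernel
theorem zb11 : bnd (pcB D [[20], [24], [26], [28]] 3 zt9 zcj10) (leB (app D zE8) [[18], [20], [22]] ([22] :: [[20], [24], [26], [28]])) = true := by decide +kernel
theorem zr12 : chk (pcR [[20], [24], [26], [28]] [22] 3 zt9 zcj10) = true := by decide +kernel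
theorem zr13 : chk (defRels zE8) = true := by decide +kernel
theorem zb16 : schB D [[12], [14], [16]] [[18], [20], [22]] zus14 zF15 4 = true := by decide +kernel
theorem zr17 : chk (schR [[12], [14], [16]] zus14 zF15) = true := by decide +kernel
theorem zb20 : schB D [[8], [10]] [[12], [14], [16]] zus18 zF19 5 = true := by decide +kernel
theorem zr21 : chk (schR [[8], [10]] zus18 zF19) = true := by decide +kernel
theorem zb24 : schB D [[0], [2]] [[8], [10]] zus22 zF23 21 = true := by decide +kernel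
theorem zr25 : chk (schR [[0], [2]] zus22 zF23) = true := by decide +kernel
theorem zc26 : P.chainB ns D GM_vs [[0], [2]] = true := by decide +kernel
theorem zb29 : schB D [[58], [62]] [] zus27 zF28 4 = true := by decide +kernel
theorem zr30 : chk (schR [[58], [62]] zus27 zF28) = true := by decide +kernel
theorem zb33 : bnd (pcB D [[58], [62]] 3 zt31 zcj32) (leB (app D []) [[58], [60]] ([60] :: [[58], [62]])) = true := by decide +kernel
theorem zr34 : chk (pcR [[58], [62]] [60] 3 zt31 zcj32) = true := by decide +kernel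
theorem zb37 : schB D [[52], [54], [56]] [[58], [60]] zus35 zF36 4 = true := by decide +kernel
theorem zr38 : chk (schR [[52], [54], [56]] zus35 zF36) = true := by decide +kernel
theorem zb42 : bnd (pcB D [[52], [54], [56]] 2 zt40 zcj41) (leB (app D zE39) [[50], [45]] ([45] :: [[52], [54], [56]])) = true := by decide +kernel
theorem zr43 : chk (pcR [[52], [54], [56]] [45] 2 zt40 zcj41) = true := by decide +kernel
theorem zr44 : chk (defRels zE39) = true := by decide +kernel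
theorem zb47 : schB D [[44], [46], [48]] [[50], [45]] zus45 zF46 3 = true := by decide +kernel
theorem zr48 : chk (schR [[44], [46], [48]] zus45 zF46) = true := by decide +kernel
theorem zb51 : schB D [[35], [40], [42]] [[44], [46], [48]] zus49 zF50 4 = true := by decide +kernel
theorem zr52 : chk (schR [[35], [40], [42]] zus49 zF50) = true := by decide +kernel
theorem zb55 : schB D [[34], [36], [38]] [[35], [40], [42]] zus53 zF54 5 = true := by decide +kernel
theorem zr56 : chk (schR [[34], [36], [38]] zus53 zF54) = true := by decide +kernel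
theorem zc58 : P.chainB ns D GA_w0_1_vs [[34], [36], [38]] = true := by decide +kernel
theorem zb60 : wdB D [[34], [36], [38]] GA_w0_1_v0.nx zcj59 = true := by decide +kernel
theorem zr61 : chk (wdR GA_w0_1_v0.nx (W (nat_lit 0x410a842)) zcj59) = true := by decide +kernel
theorem zc62 : P.chainB ns D GA_w0_2_vs [[34], [36], [38]] = true := by decide +kernel
theorem zb64 : wdB D [[34], [36], [38]] GA_w0_2_v0.nx zcj63 = true := by decide +kernel
theorem zr65 : chk (wdR GA_w0_2_v0.nx (W (nat_lit 0x4110441)) zcj63) = true := by decide +kernel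
theorem zc66 : P.chainB ns D GA_vs [[0], [2], [4], [6]] = true := by decide +kernel
theorem zb68 : wdB D [[34], [36], [38]] GA_v1.nx zcj67 = true := by decide +kernel
theorem zr69 : chk (wdR GA_v1.nx [65] zcj67) = true := by decide +kernel
theorem zb72 : bB P.n P.N ns (app D zE71) [[0], [2], [4], [6]] [[34], [36], [38]] 0 zrs57 zB70 = true := by decide +kernel
theorem zb73 : P.invSz ns [[0], [2], [4], [6]] 0 (orbM P.N ns GA_v0) 42 = true := by decide +kernel
theorem zr74 : chk (bR 0 zrs57 zB70) = true := by decide +kernel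
theorem zr75 : chk (defRels zE71) = true := by decide +kernel
theorem zf78 : P.fixXB ns (diag [[0], [2]]) cL_F = true := by decide +kernel
theorem zc79 : P.chainB ns D cLG_vs [[0], [2], [4], [6]] = true := by decide +kernel
theorem zs80 : ssB P.N ns D (mkS P.n cLG_vs cL_x) [[0], [2], [4], [6]] = true := by decide +kernel
theorem zs82 : cL_G.chk zt81 cL_s none = true := by decide +kernel
theorem zr83 : chk (comR [] (mapL Prod.snd (diag [[0], [2]]))) = true := by decide +kernel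
theorem zm84 : leB D [] [[0], [2], [4], [6]] = true := by decide +kernel
theorem zc85 : P.chainB ns D T_vs [[106], [108], [110], [112], [114], [116], [118], [120]] = true := by decide +kernel
theorem zr86 : chk (pcsR T_ps []) = true := by decide +kernel
theorem zb87 : bnd (pcsB D T_ps []) (leB (app D []) [[106], [108], [110], [112], [114], [116], [118], [120]] (pcGens T_ps [])) = true := by decide +kernel
theorem zq88 : cvN 2 [106] [[]] v0_E = v0_R := by decide +kernel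
theorem zr89 : chk (cvR 2 2 [106] [[]] v0_E) = true := by decide +kernel
theorem zb90 : cvB D [[106], [108], [110], [112], [114], [116], [118], [120]] [[108], [110], [112], [114], [116], [118], [120]] 2 [106] [[]] v0_E = true := by decide +kernel
theorem zm92 : leB D zts91 [[0], [2], [4], [6]] = true := by decide +kernel
theorem zr93 : chk (zp [] [[106], [108], [110], [112], [114], [116], [118], [120]] zts91) = true := by decide +kernel
theorem zm95 : nrmB D [[106], [108], [110], [112], [114], [116], [118], [120]] [[108], [110], [112], [114], [116], [118], [120]] zcj94 = true := by decide +kernel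
theorem zr96 : chk (nrmR [[106], [108], [110], [112], [114], [116], [118], [120]] [[108], [110], [112], [114], [116], [118], [120]] zcj94) = true := by decide +kernel
theorem zm97 : leB D [[108], [110], [112], [114], [116], [118], [120]] [[106], [108], [110], [112], [114], [116], [118], [120]] = true := by decide +kernel
theorem zq98 : cvN 2 [108] v0_R v1_E = v1_R := by decide +kernel
theorem zr99 : chk (cvR 2 2 [108] v0_R v1_E) = true := by decide +kernel
theorem zb100 : cvB D [[106], [108], [110], [112], [114], [116], [118], [120]] [[110], [112], [114], [116], [118], [120]] 2 [108] v0_R v1_E = true := by decide +kernel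
theorem zm102 : nrmB D [[106], [108], [110], [112], [114], [116], [118], [120]] [[110], [112], [114], [116], [118], [120]] zcj101 = true := by decide +kernel
theorem zr103 : chk (nrmR [[106], [108], [110], [112], [114], [116], [118], [120]] [[110], [112], [114], [116], [118], [120]] zcj101) = true := by decide +kernel
theorem zm104 : leB D [[110], [112], [114], [116], [118], [120]] [[106], [108], [110], [112], [114], [116], [118], [120]] = true := by decide +kernel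
theorem zq105 : cvN 2 [110] v1_R v2_E = v2_R := by decide +kernel
theorem zr106 : chk (cvR 2 2 [110] v1_R v2_E) = true := by decide +kernel
theorem zb107 : cvB D [[106], [108], [110], [112], [114], [116], [118], [120]] [[112], [114], [116], [118], [120]] 2 [110] v1_R v2_E = true := by decide +kernel
theorem zm109 : nrmB D [[106], [108], [110], [112], [114], [116], [118], [120]] [[112], [114], [116], [118], [120]] zcj108 = true := by decide +kernel
theorem zr110 : chk (nrmR [[106], [108], [110], [112], [114], [116], [118], [120]] [[112], [114], [116], [118], [120]] zcj108) = true := by decide +kernel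
theorem zm111 : leB D [[112], [114], [116], [118], [120]] [[106], [108], [110], [112], [114], [116], [118], [120]] = true := by decide +kernel
theorem zq112 : cvN 2 [112] v2_R v3_E = v3_R := by decide +kernel
theorem zr113 : chk (cvR 2 2 [112] v2_R v3_E) = true := by decide +kernel
theorem zb114 : cvB D [[106], [108], [110], [112], [114], [116], [118], [120]] [[114], [116], [118], [120]] 2 [112] v2_R v3_E = true := by decide +kernel
theorem zm116 : nrmB D [[106], [108], [110], [112], [114], [116], [118], [120]] [[114], [116], [118], [120]] zcj115 = true := by decide +kernel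
theorem zr117 : chk (nrmR [[106], [108], [110], [112], [114], [116], [118], [120]] [[114], [116], [118], [120]] zcj115) = true := by decide +kernel
theorem zm118 : leB D [[114], [116], [118], [120]] [[106], [108], [110], [112], [114], [116], [118], [120]] = true := by decide +kernel
theorem zq119 : cvN 2 [114] v3_R v4_E = v4_R := by decide +kernel
theorem zr120 : chk (cvR 2 2 [114] v3_R v4_E) = true := by decide +kernel
theorem zb121 : cvB D [[106], [108], [110], [112], [114], [116], [118], [120]] [[116], [118], [120]] 2 [114] v3_R v4_E = true := by decide +kernel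
theorem zm123 : nrmB D [[106], [108], [110], [112], [114], [116], [118], [120]] [[116], [118], [120]] zcj122 = true := by decide +kernel
theorem zr124 : chk (nrmR [[106], [108], [110], [112], [114], [116], [118], [120]] [[116], [118], [120]] zcj122) = true := by decide +kernel
theorem zm125 : leB D [[116], [118], [120]] [[106], [108], [110], [112], [114], [116], [118], [120]] = true := by decide +kernel
theorem zq126 : cvN 2 [116] v4_R v5_E = v5_R := by decide +kernel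
theorem zr127 : chk (cvR 2 2 [116] v4_R v5_E) = true := by decide +kernel
theorem zb128 : cvB D [[106], [108], [110], [112], [114], [116], [118], [120]] [[118], [120]] 2 [116] v4_R v5_E = true := by decide +kernel
theorem zm130 : nrmB D [[106], [108], [110], [112], [114], [116], [118], [120]] [[118], [120]] zcj129 = true := by decide +kernel
theorem zr131 : chk (nrmR [[106], [108], [110], [112], [114], [116], [118], [120]] [[118], [120]] zcj129) = true := by decide +kernel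
theorem zm132 : leB D [[118], [120]] [[106], [108], [110], [112], [114], [116], [118], [120]] = true := by decide +kernel
theorem zq133 : cvN 2 [118] v5_R v6_E = v6_R := by decide +kernel
theorem zr134 : chk (cvR 2 2 [118] v5_R v6_E) = true := by decide +kernel
theorem zb135 : cvB D [[106], [108], [110], [112], [114], [116], [118], [120]] [[120]] 2 [118] v5_R v6_E = true := by decide +kernel
theorem zm137 : nrmB D [[106], [108], [110], [112], [114], [116], [118], [120]] [[120]] zcj136 = true := by decide +kernel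
theorem zr138 : chk (nrmR [[106], [108], [110], [112], [114], [116], [118], [120]] [[120]] zcj136) = true := by decide +kernel
theorem zm139 : leB D [[120]] [[106], [108], [110], [112], [114], [116], [118], [120]] = true := by decide +kernel
theorem zq140 : cvN 2 [120] v6_R v7_E = v7_R := by decide +kernel
theorem zr141 : chk (cvR 2 2 [120] v6_R v7_E) = true := by decide +kernel
theorem zb142 : cvB D [[106], [108], [110], [112], [114], [116], [118], [120]] [] 2 [120] v6_R v7_E = true := by decide +kernel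
theorem zr143 : chk (fuR v7_R v8_R v8_F) = true := by decide +kernel
theorem zb144 : fuB D [[0], [2], [4], [6]] [] v7_R v8_R v8_F = true := by decide +kernel
theorem zm145 : leB D [[0], [2], [4], [6]] [[0], [2], [4], [6]] = true := by decide +kernel
theorem zm147 : leB D zts146 [[0], [2], [4], [6]] = true := by decide +kernel
theorem zr148 : chk (zp [] [[106], [108], [110], [112], [114], [116], [118], [120]] zts146) = true := by decide +kernel
theorem zf150 : P.fixXB ns (diag [[138]]) cC0_F = true := by decide +kernel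
theorem zc151 : P.chainB ns D cC0G_vs [[0], [2]] = true := by decide +kernel
theorem zs152 : ssB P.N ns D (mkS P.n cC0G_vs cC0_x) [[0], [2]] = true := by decide +kernel
theorem zs154 : cC0_G.chk zt153 cC0_s none = true := by decide +kernel
theorem zr155 : chk (comR [[146], [148], [150], [152]] (mapL Prod.snd (diag [[138]]))) = true := by decide +kernel
theorem zm156 : leB D [[146], [148], [150], [152]] [[0], [2]] = true := by decide +kernel
theorem zr157 : chk (pcsR D0_ps []) = true := by decide +kernel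
theorem zb158 : bnd (pcsB D D0_ps []) (leB (app D []) [[156], [176]] (pcGens D0_ps [])) = true := by decide +kernel
theorem zc159 : P.chainB ns D D0_vs [[156], [176]] = true := by decide +kernel
theorem zm161 : bnd (leB D (mapL Prod.fst zps160) [[146], [148], [150], [152]]) (leB D (mapL Prod.snd zps160) [[146], [148], [150], [152]]) = true := by decide +kernel
theorem zr162 : chk (zp [] [[178], [180]] (mapL comW zps160)) = true := by decide +kernel
theorem zm164 : leB D zts163 [[178], [180]] = true := by decide +kernel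
theorem zr165 : chk (zp [] [[156], [176]] zts163) = true := by decide +kernel
theorem zm167 : leB D zts166 [[156], [176]] = true := by decide +kernel
theorem zr168 : chk (zp [] (comWs [[146], [148], [150], [152]] [[146], [148], [150], [152]]) zts166) = true := by decide +kernel
theorem zm170 : nrmB D [[146], [148], [150], [152]] [[156], [176]] zcj169 = true := by decide +kernel
theorem zr171 : chk (nrmR [[146], [148], [150], [152]] [[156], [176]] zcj169) = true := by decide +kernel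
theorem zm173 : nrmB D [[146], [148], [150], [152]] [[156], [176]] zcj172 = true := by decide +kernel
theorem zr174 : chk (nrmR [[146], [148], [150], [152]] [[156], [176]] zcj172) = true := by decide +kernel
theorem zr175 : chk (pcsR Q0_ps []) = true := by decide +kernel
theorem zb176 : bnd (pcsB D Q0_ps []) (leB (app D []) [[176], [182]] (pcGens Q0_ps [])) = true := by decide +kernel
theorem zc177 : P.chainB ns D Q0_vs [[176], [182]] = true := by decide +kernel
theorem zm179 : leB D zts178 [[156], [176]] = true := by decide +kernel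
theorem zr180 : chk (zp [] [[176], [182]] zts178) = true := by decide +kernel
theorem zm182 : nrmB D [[156], [176]] [[176], [182]] zcj181 = true := by decide +kernel
theorem zr183 : chk (nrmR [[156], [176]] [[176], [182]] zcj181) = true := by decide +kernel
theorem zr184 : chk (pcsR Z0_ps []) = true := by decide +kernel
theorem zb185 : bnd (pcsB D Z0_ps []) (leB (app D []) [[156], [176]] (pcGens Z0_ps [])) = true := by decide +kernel
theorem zc186 : P.chainB ns D Z0_vs [[156], [176]] = true := by decide +kernel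
theorem zf187 : P.fixXB ns (diag [[176], [182]]) cQ0_F = true := by decide +kernel
theorem zc188 : P.chainB ns D cQ0G_vs [[156], [176]] = true := by decide +kernel
theorem zs189 : ssB P.N ns D (mkS P.n cQ0G_vs cQ0_x) [[156], [176]] = true := by decide +kernel
theorem zs191 : cQ0_G.chk zt190 cQ0_s none = true := by decide +kernel
theorem zr192 : chk (comR [[156], [176]] (mapL Prod.snd (diag [[176], [182]]))) = true := by decide +kernel
theorem zm193 : leB D [[156], [176]] [[156], [176]] = true := by decide +kernel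
theorem zf194 : P.fixXB ns (diag [[140]]) cC1_F = true := by decide +kernel
theorem zc195 : P.chainB ns D cC1G_vs [[0], [2]] = true := by decide +kernel
theorem zs196 : ssB P.N ns D (mkS P.n cC1G_vs cC1_x) [[0], [2]] = true := by decide +kernel
theorem zs198 : cC1_G.chk zt197 cC1_s none = true := by decide +kernel
theorem zr199 : chk (comR [[184], [186]] (mapL Prod.snd (diag [[140]]))) = true := by decide +kernel
theorem zm200 : leB D [[184], [186]] [[0], [2]] = true := by decide +kernel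
theorem zb203 : schB D [[210], [212]] [] zus201 zF202 4 = true := by decide +kernel
theorem zr204 : chk (schR [[210], [212]] zus201 zF202) = true := by decide +kernel
theorem zb208 : bnd (pcB D [[210], [212]] 3 zt206 zcj207) (leB (app D zE205) [[206], [208]] ([206] :: [[210], [212]])) = true := by decide +kernel
theorem zr209 : chk (pcR [[210], [212]] [206] 3 zt206 zcj207) = true := by decide +kernel
theorem zr210 : chk (defRels zE205) = true := by decide +kernel
theorem zb213 : schB D [[202], [204]] [[206], [208]] zus211 zF212 5 = true := by decide +kernel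
theorem zr214 : chk (schR [[202], [204]] zus211 zF212) = true := by decide +kernel
theorem zc215 : P.chainB ns D D1_vs [[202], [204]] = true := by decide +kernel
theorem zm217 : bnd (leB D (mapL Prod.fst zps216) [[184], [186]]) (leB D (mapL Prod.snd zps216) [[184], [186]]) = true := by decide +kernel
theorem zr218 : chk (zp [] [[214], [216]] (mapL comW zps216)) = true := by decide +kernel
theorem zm220 : leB D zts219 [[214], [216]] = true := by decide +kernel
theorem zr221 : chk (zp [] [[202], [204]] zts219) = true := by decide +kernel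
theorem zm223 : leB D zts222 [[202], [204]] = true := by decide +kernel
theorem zr224 : chk (zp [] (comWs [[184], [186]] [[184], [186]]) zts222) = true := by decide +kernel
theorem zm226 : nrmB D [[184], [186]] [[202], [204]] zcj225 = true := by decide +kernel
theorem zr227 : chk (nrmR [[184], [186]] [[202], [204]] zcj225) = true := by decide +kernel
theorem zm229 : nrmB D [[184], [186]] [[202], [204]] zcj228 = true := by decide +kernel
theorem zr230 : chk (nrmR [[184], [186]] [[202], [204]] zcj228) = true := by decide +kernel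
theorem zl233 : zK232.relB CL.Q49M.L34.P CL.Std.A5.P CL.Q49M.L34.ns [[226], [228]] [[0], [2]] = true := by decide +kernel
theorem zl234 : allL (zK232.pl CL.Q49M.L34.P CL.Std.A5.P CL.Q49M.L34.ns CL.Std.A5.ns 0) (zp [] [[226], [228]] [[0], [2]]) = true := by decide +kernel
theorem zm236 : leB D zts235 [[226], [228]] = true := by decide +kernel
theorem zr237 : chk (zp [] [[202], [204]] zts235) = true := by decide +kernel
theorem zm239 : leB D zts238 [[202], [204]] = true := by decide +kernel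
theorem zr240 : chk (zp [] [[226], [228]] zts238) = true := by decide +kernel
theorem zr241 : chk [([238, 140], [140, 192, 238])] = true := by decide +kernel
theorem zr242 : chk [([192, 140], [140, 192])] = true := by decide +kernel
theorem zr243 : chk [([240, 192], [192, 210, 240])] = true := by decide +kernel
theorem zr244 : chk [([242, 242], [210])] = true := by decide +kernel
theorem zr245 : chk [([244, 244], [210])] = true := by decide +kernel
theorem zr246 : chk [([242, 238], [238, 242])] = true := by decide +kernel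
theorem zr247 : chk [([246, 240], [240, 238])] = true := by decide +kernel
theorem zr248 : chk [([244, 246], [246, 244])] = true := by decide +kernel
theorem zr249 : chk [([210, 210], [])] = true := by decide +kernel
theorem zn250 : movB P.n P.N ns [210] 5 = true := by decide +kernel
theorem zc251 : P.chainB ns D P1_vs [[212], [210]] = true := by decide +kernel
theorem zr252 : chk (pcsR P1_ps []) = true := by decide +kernel
theorem zb253 : bnd (pcsB D P1_ps []) (leB (app D []) [[212], [210]] (pcGens P1_ps [])) = true := by decide +kernel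
theorem zq254 : cvN 2 [212] [[]] w1_0_E = w1_0_R := by decide +kernel
theorem zr255 : chk (cvR 2 2 [212] [[]] w1_0_E) = true := by decide +kernel
theorem zb256 : cvB D [[212], [210]] [[210]] 2 [212] [[]] w1_0_E = true := by decide +kernel
theorem zm258 : leB D zts257 [[202], [204]] = true := by decide +kernel
theorem zr259 : chk (zp [] [[212], [210]] zts257) = true := by decide +kernel
theorem zm261 : nrmB D [[212], [210]] [[210]] zcj260 = true := by decide +kernel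
theorem zr262 : chk (nrmR [[212], [210]] [[210]] zcj260) = true := by decide +kernel
theorem zm263 : leB D [[210]] [[212], [210]] = true := by decide +kernel
theorem zq264 : cvN 2 [210] w1_0_R w1_1_E = w1_1_R := by decide +kernel
theorem zr265 : chk (cvR 2 2 [210] w1_0_R w1_1_E) = true := by decide +kernel
theorem zb266 : cvB D [[212], [210]] [] 2 [210] w1_0_R w1_1_E = true := by decide +kernel
theorem zr267 : chk (fuR w1_1_R w1_2_R w1_2_F) = true := by decide +kernel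
theorem zb268 : fuB D [[202], [204]] [] w1_1_R w1_2_R w1_2_F = true := by decide +kernel
theorem zm269 : leB D [[202], [204]] [[202], [204]] = true := by decide +kernel
theorem zm271 : leB D zts270 [[202], [204]] = true := by decide +kernel
theorem zr272 : chk (zp [] [[212], [210]] zts270) = true := by decide +kernel
theorem zm273 : leB D [[244]] [[0], [2]] = true := by decide +kernel
theorem zm274 : leB D [[242]] [[0], [2]] = true := by decide +kernel
theorem zm275 : leB D [[192]] [[0], [2]] = true := by decide +kernel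
theorem zm276 : leB D [[240]] [[202], [204]] = true := by decide +kernel
theorem zm277 : leB D [[238]] [[0], [2]] = true := by decide +kernel
theorem zf278 : P.fixXB ns (diag [[142]]) cC2_F = true := by decide +kernel
theorem zc279 : P.chainB ns D cC2G_vs [[0], [2]] = true := by decide +kernel
theorem zs280 : ssB P.N ns D (mkS P.n cC2G_vs cC2_x) [[0], [2]] = true := by decide +kernel
theorem zs282 : cC2_G.chk zt281 cC2_s none = true := by decide +kernel
theorem zr283 : chk (comR [[248], [250]] (mapL Prod.snd (diag [[142]]))) = true := by decide +kernel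
theorem zm284 : leB D [[248], [250]] [[0], [2]] = true := by decide +kernel
theorem zr286 : chk (pcsR D2_ps []) = true := by decide +kernel
theorem zr287 : chk (defRels zE285) = true := by decide +kernel
theorem zb288 : bnd (pcsB D D2_ps []) (leB (app D zE285) [[266], [268], [270]] (pcGens D2_ps [])) = true := by decide +kernel
theorem zc289 : P.chainB ns D D2_vs [[266], [268], [270]] = true := by decide +kernel
theorem zm291 : bnd (leB D (mapL Prod.fst zps290) [[248], [250]]) (leB D (mapL Prod.snd zps290) [[248], [250]]) = true := by decide +kernel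
theorem zr292 : chk (zp [] [[280], [282], [284]] (mapL comW zps290)) = true := by decide +kernel
theorem zm294 : leB D zts293 [[280], [282], [284]] = true := by decide +kernel
theorem zr295 : chk (zp [] [[266], [268], [270]] zts293) = true := by decide +kernel
theorem zm297 : leB D zts296 [[266], [268], [270]] = true := by decide +kernel
theorem zr298 : chk (zp [] (comWs [[248], [250]] [[248], [250]]) zts296) = true := by decide +kernel
theorem zm300 : nrmB D [[248], [250]] [[266], [268], [270]] zcj299 = true := by decide +kernel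
theorem zr301 : chk (nrmR [[248], [250]] [[266], [268], [270]] zcj299) = true := by decide +kernel
theorem zm303 : nrmB D [[248], [250]] [[266], [268], [270]] zcj302 = true := by decide +kernel
theorem zr304 : chk (nrmR [[248], [250]] [[266], [268], [270]] zcj302) = true := by decide +kernel
theorem zr306 : chk (pcsR Q2_ps []) = true := by decide +kernel
theorem zr307 : chk (defRels zE305) = true := by decide +kernel
theorem zb308 : bnd (pcsB D Q2_ps []) (leB (app D zE305) [[292], [294]] (pcGens Q2_ps [])) = true := by decide +kernel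
theorem zc309 : P.chainB ns D Q2_vs [[292], [294]] = true := by decide +kernel
theorem zm311 : leB D zts310 [[266], [268], [270]] = true := by decide +kernel
theorem zr312 : chk (zp [] [[292], [294]] zts310) = true := by decide +kernel
theorem zm314 : nrmB D [[266], [268], [270]] [[292], [294]] zcj313 = true := by decide +kernel
theorem zr315 : chk (nrmR [[266], [268], [270]] [[292], [294]] zcj313) = true := by decide +kernel
theorem zr316 : chk (pcsR Z2_ps []) = true := by decide +kernel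
theorem zb317 : bnd (pcsB D Z2_ps []) (leB (app D []) [[273], [300]] (pcGens Z2_ps [])) = true := by decide +kernel
theorem zc318 : P.chainB ns D Z2_vs [[273], [300]] = true := by decide +kernel
theorem zf319 : P.fixXB ns (diag [[292], [294]]) cQ2_F = true := by decide +kernel
theorem zc320 : P.chainB ns D cQ2G_vs [[266], [268], [270]] = true := by decide +kernel
theorem zs321 : ssB P.N ns D (mkS P.n cQ2G_vs cQ2_x) [[266], [268], [270]] = true := by decide +kernel
theorem zs323 : cQ2_G.chk zt322 cQ2_s none = true := by decide +kernel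
theorem zr324 : chk (comR [[273], [300]] (mapL Prod.snd (diag [[292], [294]]))) = true := by decide +kernel
theorem zm325 : leB D [[273], [300]] [[266], [268], [270]] = true := by decide +kernel
theorem zf327 : P.fixXB ns (diag [[144]]) cC3_F = true := by decide +kernel
theorem zc328 : P.chainB ns D cC3G_vs [[0], [2]] = true := by decide +kernel
theorem zs329 : ssB P.N ns D (mkS P.n cC3G_vs cC3_x) [[0], [2]] = true := by decide +kernel
theorem zs331 : cC3_G.chk zt330 cC3_s none = true := by decide +kernel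
theorem zr332 : chk (comR [[304], [306]] (mapL Prod.snd (diag [[144]]))) = true := by decide +kernel
theorem zm333 : leB D [[304], [306]] [[0], [2]] = true := by decide +kernel
theorem zb336 : bnd (pcB D [] 2 zt334 zcj335) (leB (app D []) [[336]] ([336] :: [])) = true := by decide +kernel
theorem zr337 : chk (pcR [] [336] 2 zt334 zcj335) = true := by decide +kernel
theorem zb341 : bnd (pcB D [[336]] 2 zt339 zcj340) (leB (app D zE338) [[332], [334]] ([334] :: [[336]])) = true := by decide +kernel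
theorem zr342 : chk (pcR [[336]] [334] 2 zt339 zcj340) = true := by decide +kernel
theorem zr343 : chk (defRels zE338) = true := by decide +kernel
theorem zb347 : bnd (pcB D [[332], [334]] 3 zt345 zcj346) (leB (app D zE344) [[328], [330]] ([330] :: [[332], [334]])) = true := by decide +kernel
theorem zr348 : chk (pcR [[332], [334]] [330] 3 zt345 zcj346) = true := by decide +kernel
theorem zr349 : chk (defRels zE344) = true := by decide +kernel
theorem zb353 : bnd (pcB D [[328], [330]] 2 zt351 zcj352) (leB (app D zE350) [[324], [326]] ([326] :: [[328], [330]])) = true := by decide +kernel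
theorem zr354 : chk (pcR [[328], [330]] [326] 2 zt351 zcj352) = true := by decide +kernel
theorem zr355 : chk (defRels zE350) = true := by decide +kernel
theorem zb358 : schB D [[310], [322]] [[324], [326]] zus356 zF357 7 = true := by decide +kernel
theorem zr359 : chk (schR [[310], [322]] zus356 zF357) = true := by decide +kernel
theorem zc360 : P.chainB ns D D3_vs [[310], [322]] = true := by decide +kernel
theorem zm362 : bnd (leB D (mapL Prod.fst zps361) [[304], [306]]) (leB D (mapL Prod.snd zps361) [[304], [306]]) = true := by decide +kernel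
theorem zr363 : chk (zp [] [[338], [340]] (mapL comW zps361)) = true := by decide +kernel
theorem zm365 : leB D zts364 [[338], [340]] = true := by decide +kernel
theorem zr366 : chk (zp [] [[310], [322]] zts364) = true := by decide +kernel
theorem zm368 : leB D zts367 [[310], [322]] = true := by decide +kernel
theorem zr369 : chk (zp [] (comWs [[304], [306]] [[304], [306]]) zts367) = true := by decide +kernel
theorem zm371 : nrmB D [[304], [306]] [[310], [322]] zcj370 = true := by decide +kernel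
theorem zr372 : chk (nrmR [[304], [306]] [[310], [322]] zcj370) = true := by decide +kernel
theorem zm374 : nrmB D [[304], [306]] [[310], [322]] zcj373 = true := by decide +kernel
theorem zr375 : chk (nrmR [[304], [306]] [[310], [322]] zcj373) = true := by decide +kernel
theorem zl378 : zK377.relB CL.Q49M.L34.P CL.Std.L32.P CL.Q49M.L34.ns [[352], [354]] [[0], [2]] = true := by decide +kernel
theorem zl379 : allL (zK377.pl CL.Q49M.L34.P CL.Std.L32.P CL.Q49M.L34.ns CL.Std.L32.ns 0) (zp [] [[352], [354]] [[0], [2]]) = true := by decide +kernel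
theorem zm381 : leB D zts380 [[352], [354]] = true := by decide +kernel
theorem zr382 : chk (zp [] [[310], [322]] zts380) = true := by decide +kernel
theorem zm384 : leB D zts383 [[310], [322]] = true := by decide +kernel
theorem zr385 : chk (zp [] [[352], [354]] zts383) = true := by decide +kernel
theorem zr386 : chk [([368, 144], [144, 372, 368])] = true := by decide +kernel
theorem zr387 : chk [([372, 144], [144, 372])] = true := by decide +kernel
theorem zr388 : chk [([370, 372], [372, 374, 370])] = true := by decide +kernel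
theorem zr389 : chk [([376, 376], [374])] = true := by decide +kernel
theorem zr390 : chk [([378, 378], [374])] = true := by decide +kernel
theorem zr391 : chk [([376, 368], [368, 376])] = true := by decide +kernel
theorem zr392 : chk [([380, 370], [370, 368])] = true := by decide +kernel
theorem zr393 : chk [([378, 380], [380, 378])] = true := by decide +kernel
theorem zr394 : chk [([374, 374], [])] = true := by decide +kernel
theorem zn395 : movB P.n P.N ns [374] 5 = true := by decide +kernel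
theorem zc396 : P.chainB ns D P3_vs [[382], [384], [336]] = true := by decide +kernel
theorem zr397 : chk (pcsR P3_ps []) = true := by decide +kernel
theorem zb398 : bnd (pcsB D P3_ps []) (leB (app D []) [[382], [384], [336]] (pcGens P3_ps [])) = true := by decide +kernel
theorem zq399 : cvN 2 [382] [[]] w3_0_E = w3_0_R := by decide +kernel
theorem zr400 : chk (cvR 2 2 [382] [[]] w3_0_E) = true := by decide +kernel
theorem zb401 : cvB D [[382], [384], [336]] [[384], [336]] 2 [382] [[]] w3_0_E = true := by decide +kernel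
theorem zm403 : leB D zts402 [[310], [322]] = true := by decide +kernel
theorem zr404 : chk (zp [] [[382], [384], [336]] zts402) = true := by decide +kernel
theorem zm406 : nrmB D [[382], [384], [336]] [[384], [336]] zcj405 = true := by decide +kernel
theorem zr407 : chk (nrmR [[382], [384], [336]] [[384], [336]] zcj405) = true := by decide +kernel
theorem zm408 : leB D [[384], [336]] [[382], [384], [336]] = true := by decide +kernel
theorem zq409 : cvN 2 [384] w3_0_R w3_1_E = w3_1_R := by decide +kernel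
theorem zr410 : chk (cvR 2 2 [384] w3_0_R w3_1_E) = true := by decide +kernel
theorem zb411 : cvB D [[382], [384], [336]] [[336]] 2 [384] w3_0_R w3_1_E = true := by decide +kernel
theorem zm413 : nrmB D [[382], [384], [336]] [[336]] zcj412 = true := by decide +kernel
theorem zr414 : chk (nrmR [[382], [384], [336]] [[336]] zcj412) = true := by decide +kernel
theorem zm415 : leB D [[336]] [[382], [384], [336]] = true := by decide +kernel
theorem zq416 : cvN 2 [336] w3_1_R w3_2_E = w3_2_R := by decide +kernel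
theorem zr417 : chk (cvR 2 2 [336] w3_1_R w3_2_E) = true := by decide +kernel
theorem zb418 : cvB D [[382], [384], [336]] [] 2 [336] w3_1_R w3_2_E = true := by decide +kernel
theorem zr419 : chk (fuR w3_2_R w3_3_R w3_3_F) = true := by decide +kernel
theorem zb420 : fuB D [[310], [322]] [] w3_2_R w3_3_R w3_3_F = true := by decide +kernel
theorem zm421 : leB D [[310], [322]] [[310], [322]] = true := by decide +kernel
theorem zm423 : leB D zts422 [[310], [322]] = true := by decide +kernel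
theorem zr424 : chk (zp [] [[382], [384], [336]] zts422) = true := by decide +kernel
theorem zm425 : leB D [[378]] [[0], [2]] = true := by decide +kernel
theorem zm426 : leB D [[376]] [[0], [2]] = true := by decide +kernel
theorem zm427 : leB D [[372]] [[0], [2]] = true := by decide +kernel
theorem zm428 : leB D [[370]] [[310], [322]] = true := by decide +kernel
theorem zm429 : leB D [[368]] [[0], [2]] = true := by decide +kernel
theorem zm431 : nrmB D [[0], [2], [4], [6]] [[0], [2]] zcj430 = true := by decide +kernel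
theorem zr432 : chk (nrmR [[0], [2], [4], [6]] [[0], [2]] zcj430) = true := by decide +kernel
theorem zl435 : zK434.relB CL.Q49M.L34.P CL.Std.L34.P CL.Q49M.L34.ns [[390], [392]] [[0], [2]] = true := by decide +kernel
theorem zl436 : allL (zK434.pl CL.Q49M.L34.P CL.Std.L34.P CL.Q49M.L34.ns CL.Std.L34.ns 0) (zp [] [[390], [392]] [[0], [2]]) = true := by decide +kernel
theorem zm438 : leB D zts437 [[390], [392]] = true := by decide +kernel
theorem zr439 : chk (zp [] [[0], [2]] zts437) = true := by decide +kernel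
theorem zm441 : leB D zts440 [[0], [2]] = true := by decide +kernel
theorem zr442 : chk (zp [] [[390], [392]] zts440) = true := by decide +kernel
theorem zk443 : allL (keepB P.n P.N) ns0 = true := by decide +kernel
theorem ze444 : extB ns0 ns 4 ws [] = true := by decide +kernel
theorem zn445 : P.netsB ns (mkDefs ws 4) = true := by decide +kernel

variable {G X : Type*} [Group G] [MulAction G X] {e : ℕ → X} {gs : List G}

theorem keep0 : allL (keepB P.n P.N) ns0 = true := zk443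

theorem len {k} (c : Ctx P e gs ns0 [] k) : gs.length = 4 := c.len ze444

theorem ctx0 {k} (c : Ctx P e gs ns0 [] k) : Ctx P e (ext gs ws) ns D chk0 :=
  c.ext rfl ze444 zn445

theorem ctx {k} (c : Ctx P e gs ns0 [] k) {H : Subgroup G} (hF : Faithful e P.n H) (hH : ∀ g ∈ gs, g ∈ H) :
    Ctx P e (ext gs ws) ns D chk :=
  (ctx0 c).withB hF (mem_of_mem_ext hH _)

instance instNe : NeZero P.n := ⟨by decide⟩
noncomputable def gs0 : List (Equiv.Perm (Fin P.n)) := permsOf P.n P.N ns0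
noncomputable def gs1 : List (Equiv.Perm (Fin P.n)) := ext gs0 ws
theorem c1 : Ctx P (eF P.n) gs1 ns D chk :=
  ctx (ctx_permsOf hP keep0) (faithful_eF _) fun _ _ => trivial

theorem GM_u5 (c : Ctx P e gs ns D chk) :
    UB (subW gs [[30], [32]]) 4 :=
  (c.sch_step (UB.nil gs)
    (c.rels _ zr3) zb2).le (by decide)

theorem GM_u4 (c : Ctx P e gs ns D chk) :
    UB (subW gs [[20], [24], [26], [28]]) 16 :=
  (c.sch_step (GM_u5 c)
    (c.rels _ zr7) zb6).le (by decide)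

theorem GM_u3 (c : Ctx P e gs ns D chk) :
    UB (subW gs [[18], [20], [22]]) 48 :=
  (c.pc_step (GM_u4 c) (c.rels _ zr13)
    (c.rels _ zr12) zb11).le (by decide)

theorem GM_u2 (c : Ctx P e gs ns D chk) :
    UB (subW gs [[12], [14], [16]]) 192 :=
  (c.sch_step (GM_u3 c)
    (c.rels _ zr17) zb16).le (by decide)

theorem GM_u1 (c : Ctx P e gs ns D chk) :
    UB (subW gs [[8], [10]]) 960 :=
  (c.sch_step (GM_u2 c)
    (c.rels _ zr21) zb20).le (by decide)

theorem GM_u0 (c : Ctx P e gs ns D chk) :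
    UB (subW gs [[0], [2]]) 20160 :=
  (c.sch_step (GM_u1 c)
    (c.rels _ zr25) zb24).le (by decide)

theorem GM_ub (c : Ctx P e gs ns D chk) :
    UB (subW gs [[0], [2]]) 20160 :=
  (GM_u0 c)

theorem GM_c : P.chainB ns D GM_vs [[0], [2]] = true :=
  zc26

theorem GM_o : prodL GM_vs 1 = 20160 := by decide +kernel

theorem GM_ex (c : Ctx P e gs ns D chk) :
    Exact e P.n P.N gs ns 1 GM_vs [[0], [2]] :=
  c.exact GM_c GM_o (GM_ub c)

theorem GM_card (c : Ctx P e gs ns D chk) :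
    Nat.card (subW gs [[0], [2]]) = 20160 :=
  (GM_ex c).card.trans GM_o

theorem GA_u7 (c : Ctx P e gs ns D chk) :
    UB (subW gs [[58], [62]]) 4 :=
  (c.sch_step (UB.nil gs)
    (c.rels _ zr30) zb29).le (by decide)

theorem GA_u6 (c : Ctx P e gs ns D chk) :
    UB (subW gs [[58], [60]]) 12 :=
  (c.pc_step (GA_u7 c) (Rels.nil _)
    (c.rels _ zr34) zb33).le (by decide)

theorem GA_u5 (c : Ctx P e gs ns D chk) :
    UB (subW gs [[52], [54], [56]]) 48 :=
  (c.sch_step (GA_u6 c)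
    (c.rels _ zr38) zb37).le (by decide)

theorem GA_u4 (c : Ctx P e gs ns D chk) :
    UB (subW gs [[50], [45]]) 96 :=
  (c.pc_step (GA_u5 c) (c.rels _ zr44)
    (c.rels _ zr43) zb42).le (by decide)

theorem GA_u3 (c : Ctx P e gs ns D chk) :
    UB (subW gs [[44], [46], [48]]) 288 :=
  (c.sch_step (GA_u4 c)
    (c.rels _ zr48) zb47).le (by decide)

theorem GA_u2 (c : Ctx P e gs ns D chk) :
    UB (subW gs [[35], [40], [42]]) 1152 :=
  (c.sch_step (GA_u3 c)
    (c.rels _ zr52) zb51).le (by decide)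

theorem GA_u1 (c : Ctx P e gs ns D chk) :
    UB (subW gs [[34], [36], [38]]) 5760 :=
  (c.sch_step (GA_u2 c)
    (c.rels _ zr56) zb55).le (by decide)

theorem GA_w0_1_c : P.chainB ns D GA_w0_1_vs [[34], [36], [38]] = true :=
  zc58

theorem GA_w0_1_o : prodL GA_w0_1_vs 1 = 5760 := by decide +kernel

theorem GA_w0_2_c : P.chainB ns D GA_w0_2_vs [[34], [36], [38]] = true :=
  zc62

theorem GA_w0_2_o : prodL GA_w0_2_vs 1 = 5760 := by decide +kernel

theorem GA_c : P.chainB ns D GA_vs [[0], [2], [4], [6]] = true :=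
  zc66

theorem GA_o : prodL GA_vs 1 = 241920 := by decide +kernel

theorem GA_u0w (c : Ctx P e gs ns D chk) :
    AllWd e gs [[34], [36], [38]] zrs57 :=
  ⟨c.wd (v := GA_w0_1_v0) (vs := GA_w0_1_vs1) (GA_u1 c) GA_w0_1_c GA_w0_1_o
      (c.rels _ zr61) zb60,
    ⟨c.wd (v := GA_w0_2_v0) (vs := GA_w0_2_vs1) (GA_u1 c) GA_w0_2_c GA_w0_2_o
      (c.rels _ zr65) zb64,
    ⟨c.wd (v := GA_v1) (vs := GA_vs2) (GA_u1 c) (Par.chainB_tail GA_c) (by decide +kernel)
      (c.rels _ zr69) zb68,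
    trivial⟩⟩⟩

theorem GA_u0 (c : Ctx P e gs ns D chk) :
    UB (subW gs [[0], [2], [4], [6]]) 241920 :=
  (c.b_step (GA_u1 c) (GA_u0w c) (c.rels _ zr75)
    (c.rels _ zr74) zb72 zb73).le (by decide)

theorem GA_ub (c : Ctx P e gs ns D chk) :
    UB (subW gs [[0], [2], [4], [6]]) 241920 :=
  (GA_u0 c)

theorem GA_ex (c : Ctx P e gs ns D chk) :
    Exact e P.n P.N gs ns 1 GA_vs [[0], [2], [4], [6]] :=
  c.exact GA_c GA_o (GA_ub c)

theorem GA_card (c : Ctx P e gs ns D chk) :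
    Nat.card (subW gs [[0], [2], [4], [6]]) = 241920 :=
  (GA_ex c).card.trans GA_o

theorem cLG_c : P.chainB ns D cLG_vs [[0], [2], [4], [6]] = true :=
  zc79

theorem cLG_o : prodL cLG_vs 1 = 241920 := by decide +kernel

theorem cL (c : Ctx P e gs ns D chk) :
    (subW gs [[0], [2], [4], [6]]) ⊓ Subgroup.centralizer (subW gs [[0], [2]] : Set G) = (subW gs []) :=
  c.cent (lx := [[0], [2]]) (Rels.nil _) (c.sOk (c.exact cLG_c cLG_o (GA_ub c)) zs80) (fun _ h => by cases h)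
    (c.fixX zf78) (c.rels _ zr83) zm84 zs82

theorem T_c : P.chainB ns D T_vs [[106], [108], [110], [112], [114], [116], [118], [120]] = true :=
  zc85

theorem T_o : prodL T_vs 1 = 256 := by decide +kernel

theorem T_lb (c : Ctx P e gs ns D chk) :
    LB (subW gs [[106], [108], [110], [112], [114], [116], [118], [120]]) 256 :=
  c.lb T_c T_o

theorem T_pr (c : Ctx P e gs ns D chk) :
    Rels gs (pcsR T_ps []) :=
  (c.rels _ zr86)

theorem T_pe (c : Ctx P e gs ns D chk) :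
    Rels gs (defRels []) :=
  (Rels.nil _)

theorem T_pb : bnd (pcsB D T_ps []) (leB (app D []) [[106], [108], [110], [112], [114], [116], [118], [120]] (pcGens T_ps [])) = true := zb87

theorem T_ub (c : Ctx P e gs ns D chk) :
    UB (subW gs [[106], [108], [110], [112], [114], [116], [118], [120]]) 256 :=
  c.pcs (UB.nil gs) (T_pe c) (T_pr c) T_pb (by decide +kernel)

theorem T_card (c : Ctx P e gs ns D chk) :
    Nat.card (subW gs [[106], [108], [110], [112], [114], [116], [118], [120]]) = 256 :=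
  (T_ub c).card_eq (T_lb c)

theorem v_le0 (c : Ctx P e gs ns D chk) :
    (subW gs [[106], [108], [110], [112], [114], [116], [118], [120]]) ≤ (subW gs [[0], [2], [4], [6]]) :=
  (c.le_of_rels (ws := [[106], [108], [110], [112], [114], [116], [118], [120]]) (l := [[0], [2], [4], [6]]) (c.rels _ zr93) zm92)

theorem v0 (c : Ctx P e gs ns D chk) :
    Cov 2 (subW gs [[106], [108], [110], [112], [114], [116], [118], [120]]) (subW gs [[0], [2], [4], [6]]) gs v0_R (subW gs [[108], [110], [112], [114], [116], [118], [120]]) :=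
  Cov.step' (q := 2) (g := [106]) c.defs (by norm_num) (Cov.init 2 (subW gs [[106], [108], [110], [112], [114], [116], [118], [120]]) (subW gs [[0], [2], [4], [6]]) gs)
    (pc_lvl' c.defs (T_pr c) T_pb (T_lb c) 0 (by decide +kernel))
    (c.le_normalizer (cj := zcj94) (((T_ub c).mono (c.le zm97)).1) (c.rels _ zr96) zm95) (v_le0 c)
    (c.rels _ zr89) zb90 zq88

theorem v1 (c : Ctx P e gs ns D chk) :
    Cov 2 (subW gs [[106], [108], [110], [112], [114], [116], [118], [120]]) (subW gs [[0], [2], [4], [6]]) gs v1_R (subW gs [[110], [112], [114], [116], [118], [120]]) :=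
  Cov.step' (q := 2) (g := [108]) c.defs (by norm_num) (v0 c)
    (pc_lvl' c.defs (T_pr c) T_pb (T_lb c) 1 (by decide +kernel))
    (c.le_normalizer (cj := zcj101) (((T_ub c).mono (c.le zm104)).1) (c.rels _ zr103) zm102) (v_le0 c)
    (c.rels _ zr99) zb100 zq98

theorem v2 (c : Ctx P e gs ns D chk) :
    Cov 2 (subW gs [[106], [108], [110], [112], [114], [116], [118], [120]]) (subW gs [[0], [2], [4], [6]]) gs v2_R (subW gs [[112], [114], [116], [118], [120]]) :=
  Cov.step' (q := 2) (g := [110]) c.defs (by norm_num) (v1 c)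
    (pc_lvl' c.defs (T_pr c) T_pb (T_lb c) 2 (by decide +kernel))
    (c.le_normalizer (cj := zcj108) (((T_ub c).mono (c.le zm111)).1) (c.rels _ zr110) zm109) (v_le0 c)
    (c.rels _ zr106) zb107 zq105

theorem v3 (c : Ctx P e gs ns D chk) :
    Cov 2 (subW gs [[106], [108], [110], [112], [114], [116], [118], [120]]) (subW gs [[0], [2], [4], [6]]) gs v3_R (subW gs [[114], [116], [118], [120]]) :=
  Cov.step' (q := 2) (g := [112]) c.defs (by norm_num) (v2 c)
    (pc_lvl' c.defs (T_pr c) T_pb (T_lb c) 3 (by decide +kernel))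
    (c.le_normalizer (cj := zcj115) (((T_ub c).mono (c.le zm118)).1) (c.rels _ zr117) zm116) (v_le0 c)
    (c.rels _ zr113) zb114 zq112

theorem v4 (c : Ctx P e gs ns D chk) :
    Cov 2 (subW gs [[106], [108], [110], [112], [114], [116], [118], [120]]) (subW gs [[0], [2], [4], [6]]) gs v4_R (subW gs [[116], [118], [120]]) :=
  Cov.step' (q := 2) (g := [114]) c.defs (by norm_num) (v3 c)
    (pc_lvl' c.defs (T_pr c) T_pb (T_lb c) 4 (by decide +kernel))
    (c.le_normalizer (cj := zcj122) (((T_ub c).mono (c.le zm125)).1) (c.rels _ zr124) zm123) (v_le0 c)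
    (c.rels _ zr120) zb121 zq119

theorem v5 (c : Ctx P e gs ns D chk) :
    Cov 2 (subW gs [[106], [108], [110], [112], [114], [116], [118], [120]]) (subW gs [[0], [2], [4], [6]]) gs v5_R (subW gs [[118], [120]]) :=
  Cov.step' (q := 2) (g := [116]) c.defs (by norm_num) (v4 c)
    (pc_lvl' c.defs (T_pr c) T_pb (T_lb c) 5 (by decide +kernel))
    (c.le_normalizer (cj := zcj129) (((T_ub c).mono (c.le zm132)).1) (c.rels _ zr131) zm130) (v_le0 c)
    (c.rels _ zr127) zb128 zq126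

theorem v6 (c : Ctx P e gs ns D chk) :
    Cov 2 (subW gs [[106], [108], [110], [112], [114], [116], [118], [120]]) (subW gs [[0], [2], [4], [6]]) gs v6_R (subW gs [[120]]) :=
  Cov.step' (q := 2) (g := [118]) c.defs (by norm_num) (v5 c)
    (pc_lvl' c.defs (T_pr c) T_pb (T_lb c) 6 (by decide +kernel))
    (c.le_normalizer (cj := zcj136) (((T_ub c).mono (c.le zm139)).1) (c.rels _ zr138) zm137) (v_le0 c)
    (c.rels _ zr134) zb135 zq133

theorem v7 (c : Ctx P e gs ns D chk) :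
    Cov 2 (subW gs [[106], [108], [110], [112], [114], [116], [118], [120]]) (subW gs [[0], [2], [4], [6]]) gs v7_R (subW gs []) :=
  Cov.step' (q := 2) (g := [120]) c.defs (by norm_num) (v6 c)
    (pc_lvl' c.defs (T_pr c) T_pb (T_lb c) 7 (by decide +kernel))
    (le_normalizer_nil gs _) (v_le0 c)
    (c.rels _ zr141) zb142 zq140

theorem v8 (c : Ctx P e gs ns D chk) :
    Cov 2 (subW gs [[106], [108], [110], [112], [114], [116], [118], [120]]) (subW gs [[0], [2], [4], [6]]) gs v8_R (subW gs []) :=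
  Cov.fuse c.defs (v7 c) (le_normalizer_nil gs _) (c.le zm145)
    (c.rels _ zr143) zb144

theorem v_cls (c : Ctx P e gs ns D chk) :
    Cls 2 (subW gs [[106], [108], [110], [112], [114], [116], [118], [120]]) (subW gs [[0], [2], [4], [6]]) gs [[], [138], [140], [142], [144]] :=
  (v8 c).cls

theorem T_le (c : Ctx P e gs ns D chk) :
    (subW gs [[106], [108], [110], [112], [114], [116], [118], [120]]) ≤ (subW gs [[0], [2], [4], [6]]) :=
  (c.le_of_rels (ws := [[106], [108], [110], [112], [114], [116], [118], [120]]) (l := [[0], [2], [4], [6]]) (c.rels _ zr148) zm147)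

theorem cC0G_c : P.chainB ns D cC0G_vs [[0], [2]] = true :=
  zc151

theorem cC0G_o : prodL cC0G_vs 1 = 20160 := by decide +kernel

theorem cC0 (c : Ctx P e gs ns D chk) :
    (subW gs [[0], [2]]) ⊓ Subgroup.centralizer (subW gs [[138]] : Set G) = (subW gs [[146], [148], [150], [152]]) :=
  c.cent (lx := [[138]]) (Rels.nil _) (c.sOk (c.exact cC0G_c cC0G_o (GM_ub c)) zs152) (fun _ h => by cases h)
    (c.fixX zf150) (c.rels _ zr155) zm156 zs154

theorem D0_pr (c : Ctx P e gs ns D chk) :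
    Rels gs (pcsR D0_ps []) :=
  (c.rels _ zr157)

theorem D0_pe (c : Ctx P e gs ns D chk) :
    Rels gs (defRels []) :=
  (Rels.nil _)

theorem D0_pb : bnd (pcsB D D0_ps []) (leB (app D []) [[156], [176]] (pcGens D0_ps [])) = true := zb158

theorem D0_ub (c : Ctx P e gs ns D chk) :
    UB (subW gs [[156], [176]]) 4 :=
  c.pcs (UB.nil gs) (D0_pe c) (D0_pr c) D0_pb (by decide +kernel)

theorem D0_c : P.chainB ns D D0_vs [[156], [176]] = true :=
  zc159

theorem D0_o : prodL D0_vs 1 = 4 := by decide +kernel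

theorem D0_lb (c : Ctx P e gs ns D chk) :
    LB (subW gs [[156], [176]]) 4 :=
  c.lb D0_c D0_o

theorem D0_card (c : Ctx P e gs ns D chk) :
    Nat.card (subW gs [[156], [176]]) = 4 :=
  (D0_ub c).card_eq (D0_lb c)

theorem cm0_c_le (c : Ctx P e gs ns D chk) :
    (subW gs [[178], [180]]) ≤ ⁅(subW gs [[146], [148], [150], [152]]), (subW gs [[146], [148], [150], [152]])⁆ :=
  c.le_commutator (ps := zps160) (c.rels _ zr162) zm161

theorem cm0 (c : Ctx P e gs ns D chk) :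
    ⁅(subW gs [[146], [148], [150], [152]]), (subW gs [[146], [148], [150], [152]])⁆ = (subW gs [[156], [176]]) :=
  have hfin : Finite (subW gs [[156], [176]]) := (D0_ub c).1
  le_antisymm (commutator_subW_le (c.le_normalizer (cj := zcj172) hfin (c.rels _ zr174) zm173) (c.le_normalizer (cj := zcj169) hfin (c.rels _ zr171) zm170)
    (c.le_of_rels (ws := (comWs [[146], [148], [150], [152]] [[146], [148], [150], [152]])) (l := [[156], [176]]) (c.rels _ zr168) zm167)) ((c.le_of_rels (ws := [[156], [176]]) (l := [[178], [180]]) (c.rels _ zr165) zm164).trans (cm0_c_le c))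

theorem Q0_pr (c : Ctx P e gs ns D chk) :
    Rels gs (pcsR Q0_ps []) :=
  (c.rels _ zr175)

theorem Q0_pe (c : Ctx P e gs ns D chk) :
    Rels gs (defRels []) :=
  (Rels.nil _)

theorem Q0_pb : bnd (pcsB D Q0_ps []) (leB (app D []) [[176], [182]] (pcGens Q0_ps [])) = true := zb176

theorem Q0_ub (c : Ctx P e gs ns D chk) :
    UB (subW gs [[176], [182]]) 4 :=
  c.pcs (UB.nil gs) (Q0_pe c) (Q0_pr c) Q0_pb (by decide +kernel)

theorem Q0_c : P.chainB ns D Q0_vs [[176], [182]] = true :=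
  zc177

theorem Q0_o : prodL Q0_vs 1 = 4 := by decide +kernel

theorem Q0_lb (c : Ctx P e gs ns D chk) :
    LB (subW gs [[176], [182]]) 4 :=
  c.lb Q0_c Q0_o

theorem Q0_card (c : Ctx P e gs ns D chk) :
    Nat.card (subW gs [[176], [182]]) = 4 :=
  (Q0_ub c).card_eq (Q0_lb c)

theorem Q0_le (c : Ctx P e gs ns D chk) :
    (subW gs [[176], [182]]) ≤ (subW gs [[156], [176]]) :=
  (c.le_of_rels (ws := [[176], [182]]) (l := [[156], [176]]) (c.rels _ zr180) zm179)

theorem nQ0 (c : Ctx P e gs ns D chk) :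
    (subW gs [[156], [176]]) ≤ Subgroup.normalizer (subW gs [[176], [182]] : Set G) :=
  have hfin : Finite (subW gs [[176], [182]]) := (Q0_ub c).1
  (c.le_normalizer (cj := zcj181) hfin (c.rels _ zr183) zm182)

theorem Z0_pr (c : Ctx P e gs ns D chk) :
    Rels gs (pcsR Z0_ps []) :=
  (c.rels _ zr184)

theorem Z0_pe (c : Ctx P e gs ns D chk) :
    Rels gs (defRels []) :=
  (Rels.nil _)

theorem Z0_pb : bnd (pcsB D Z0_ps []) (leB (app D []) [[156], [176]] (pcGens Z0_ps [])) = true := zb185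

theorem Z0_ub (c : Ctx P e gs ns D chk) :
    UB (subW gs [[156], [176]]) 4 :=
  c.pcs (UB.nil gs) (Z0_pe c) (Z0_pr c) Z0_pb (by decide +kernel)

theorem Z0_c : P.chainB ns D Z0_vs [[156], [176]] = true :=
  zc186

theorem Z0_o : prodL Z0_vs 1 = 4 := by decide +kernel

theorem Z0_lb (c : Ctx P e gs ns D chk) :
    LB (subW gs [[156], [176]]) 4 :=
  c.lb Z0_c Z0_o

theorem Z0_card (c : Ctx P e gs ns D chk) :
    Nat.card (subW gs [[156], [176]]) = 4 :=
  (Z0_ub c).card_eq (Z0_lb c)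

theorem cQ0G_c : P.chainB ns D cQ0G_vs [[156], [176]] = true :=
  zc188

theorem cQ0G_o : prodL cQ0G_vs 1 = 4 := by decide +kernel

theorem cQ0 (c : Ctx P e gs ns D chk) :
    (subW gs [[156], [176]]) ⊓ Subgroup.centralizer (subW gs [[176], [182]] : Set G) = (subW gs [[156], [176]]) :=
  c.cent (lx := [[176], [182]]) (Rels.nil _) (c.sOk (c.exact cQ0G_c cQ0G_o (D0_ub c)) zs189) (fun _ h => by cases h)
    (c.fixX zf187) (c.rels _ zr192) zm193 zs191

theorem row0 (c : Ctx P e gs ns D chk) :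
    Row True (subW gs [[0], [2]]) (wordG gs [138]) :=
  row_con (dd (cC0 c) (cm0 c)) (Q0_le c) (nQ0 c) (isPGroup_of_card (Q0_card c) 2 (by norm_num)) (cQ0 c)
    (isPGroup_of_card (Z0_card c) 2 (by norm_num))

theorem cC1G_c : P.chainB ns D cC1G_vs [[0], [2]] = true :=
  zc195

theorem cC1G_o : prodL cC1G_vs 1 = 20160 := by decide +kernel

theorem cC1 (c : Ctx P e gs ns D chk) :
    (subW gs [[0], [2]]) ⊓ Subgroup.centralizer (subW gs [[140]] : Set G) = (subW gs [[184], [186]]) :=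
  c.cent (lx := [[140]]) (Rels.nil _) (c.sOk (c.exact cC1G_c cC1G_o (GM_ub c)) zs196) (fun _ h => by cases h)
    (c.fixX zf194) (c.rels _ zr199) zm200 zs198

theorem D1_u2 (c : Ctx P e gs ns D chk) :
    UB (subW gs [[210], [212]]) 4 :=
  (c.sch_step (UB.nil gs)
    (c.rels _ zr204) zb203).le (by decide)

theorem D1_u1 (c : Ctx P e gs ns D chk) :
    UB (subW gs [[206], [208]]) 12 :=
  (c.pc_step (D1_u2 c) (c.rels _ zr210)
    (c.rels _ zr209) zb208).le (by decide)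

theorem D1_u0 (c : Ctx P e gs ns D chk) :
    UB (subW gs [[202], [204]]) 60 :=
  (c.sch_step (D1_u1 c)
    (c.rels _ zr214) zb213).le (by decide)

theorem D1_ub (c : Ctx P e gs ns D chk) :
    UB (subW gs [[202], [204]]) 60 :=
  (D1_u0 c)

theorem D1_c : P.chainB ns D D1_vs [[202], [204]] = true :=
  zc215

theorem D1_o : prodL D1_vs 1 = 60 := by decide +kernel

theorem D1_ex (c : Ctx P e gs ns D chk) :
    Exact e P.n P.N gs ns 1 D1_vs [[202], [204]] :=
  c.exact D1_c D1_o (D1_ub c)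

theorem D1_card (c : Ctx P e gs ns D chk) :
    Nat.card (subW gs [[202], [204]]) = 60 :=
  (D1_ex c).card.trans D1_o

theorem cm1_c_le (c : Ctx P e gs ns D chk) :
    (subW gs [[214], [216]]) ≤ ⁅(subW gs [[184], [186]]), (subW gs [[184], [186]])⁆ :=
  c.le_commutator (ps := zps216) (c.rels _ zr218) zm217

theorem cm1 (c : Ctx P e gs ns D chk) :
    ⁅(subW gs [[184], [186]]), (subW gs [[184], [186]])⁆ = (subW gs [[202], [204]]) :=
  have hfin : Finite (subW gs [[202], [204]]) := (D1_ub c).1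
  le_antisymm (commutator_subW_le (c.le_normalizer (cj := zcj228) hfin (c.rels _ zr230) zm229) (c.le_normalizer (cj := zcj225) hfin (c.rels _ zr227) zm226)
    (c.le_of_rels (ws := (comWs [[184], [186]] [[184], [186]])) (l := [[202], [204]]) (c.rels _ zr224) zm223)) ((c.le_of_rels (ws := [[202], [204]]) (l := [[214], [216]]) (c.rels _ zr221) zm220).trans (cm1_c_le c))

theorem iso1_r {Γ Y : Type*} [Group Γ] [MulAction Γ Y] {e' : ℕ → Y} {cs : List Γ} {D₁ D₂ : List (ℕ × List ℕ)}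
    {k₁ k₂ : List (List ℕ × List ℕ) → Bool} (c : Ctx CL.Q49M.L34.P e gs CL.Q49M.L34.ns D₁ k₁) (c' : Ctx CL.Std.A5.P e' cs CL.Std.A5.ns D₂ k₂)
    (hF : Faithful e' CL.Std.A5.P.n (subW cs [[0], [2]])) :
    RelLe gs [[226], [228]] cs [[0], [2]] :=
  c.relLe (K := zK232) c' hF zl233 (fun (t : ℕ) (ht : t < 1) => match t, ht with
    | 0, _ => zl234
    | t + 1, h => absurd h (by omega))

theorem iso1_e (c : Ctx P e gs ns D chk) :
    subW gs (app [[226], [228]] []) = (subW gs [[202], [204]]) :=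
  le_antisymm (c.le_of_rels (ws := [[226], [228]]) (l := [[202], [204]]) (c.rels _ zr240) zm239) (c.le_of_rels (ws := [[202], [204]]) (l := [[226], [228]]) (c.rels _ zr237) zm236)

theorem iso1 (c : Ctx P e gs ns D chk) :
    Nonempty ((subW gs [[202], [204]]) ≃* (subW CL.Std.A5.gs1 [[0], [2]])) :=
  (RelLe.quo' (l := [[226], [228]]) (lQ := []) (iso1_r c CL.Std.A5.c1 ((faithful_eF _).mono le_top)) (by decide) (iso1_e c) (a := 1) (b := 60) (D1_ub c)
    (LB.one _) (LB.of_card CL.Std.A5.card)).equiv_nil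

theorem e1_1 (c : Ctx P e gs ns D chk) :
    wordG gs [238, 140] = wordG gs [140, 192, 238] :=
  c.eq zr241

theorem e0_1 (c : Ctx P e gs ns D chk) :
    wordG gs [192, 140] = wordG gs [140, 192] :=
  c.eq zr242

theorem e2_1 (c : Ctx P e gs ns D chk) :
    wordG gs [240, 192] = wordG gs [192, 210, 240] :=
  c.eq zr243

theorem e3_1 (c : Ctx P e gs ns D chk) :
    wordG gs [242, 242] = wordG gs [210] :=
  c.eq zr244

theorem e4_1 (c : Ctx P e gs ns D chk) :
    wordG gs [244, 244] = wordG gs [210] :=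
  c.eq zr245

theorem e5_1 (c : Ctx P e gs ns D chk) :
    wordG gs [242, 238] = wordG gs [238, 242] :=
  c.eq zr246

theorem e6_1 (c : Ctx P e gs ns D chk) :
    wordG gs [246, 240] = wordG gs [240, 238] :=
  c.eq zr247

theorem e8_1 (c : Ctx P e gs ns D chk) :
    wordG gs [244, 246] = wordG gs [246, 244] :=
  c.eq zr248

theorem e9_1 (c : Ctx P e gs ns D chk) :
    wordG gs [210, 210] = wordG gs [] :=
  c.eq zr249

theorem e7_1 (c : Ctx P e gs ns D chk) :
    (wordG gs [210]) ≠ 1 :=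
  c.ne_one zn250

theorem P1_c : P.chainB ns D P1_vs [[212], [210]] = true :=
  zc251

theorem P1_o : prodL P1_vs 1 = 4 := by decide +kernel

theorem P1_lb (c : Ctx P e gs ns D chk) :
    LB (subW gs [[212], [210]]) 4 :=
  c.lb P1_c P1_o

theorem P1_pr (c : Ctx P e gs ns D chk) :
    Rels gs (pcsR P1_ps []) :=
  (c.rels _ zr252)

theorem P1_pe (c : Ctx P e gs ns D chk) :
    Rels gs (defRels []) :=
  (Rels.nil _)

theorem P1_pb : bnd (pcsB D P1_ps []) (leB (app D []) [[212], [210]] (pcGens P1_ps [])) = true := zb253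

theorem P1_ub (c : Ctx P e gs ns D chk) :
    UB (subW gs [[212], [210]]) 4 :=
  c.pcs (UB.nil gs) (P1_pe c) (P1_pr c) P1_pb (by decide +kernel)

theorem P1_card (c : Ctx P e gs ns D chk) :
    Nat.card (subW gs [[212], [210]]) = 4 :=
  (P1_ub c).card_eq (P1_lb c)

theorem w1__le0 (c : Ctx P e gs ns D chk) :
    (subW gs [[212], [210]]) ≤ (subW gs [[202], [204]]) :=
  (c.le_of_rels (ws := [[212], [210]]) (l := [[202], [204]]) (c.rels _ zr259) zm258)

theorem w1_0 (c : Ctx P e gs ns D chk) :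
    Cov 2 (subW gs [[212], [210]]) (subW gs [[202], [204]]) gs w1_0_R (subW gs [[210]]) :=
  Cov.step' (q := 2) (g := [212]) c.defs (by norm_num) (Cov.init 2 (subW gs [[212], [210]]) (subW gs [[202], [204]]) gs)
    (pc_lvl' c.defs (P1_pr c) P1_pb (P1_lb c) 0 (by decide +kernel))
    (c.le_normalizer (cj := zcj260) (((P1_ub c).mono (c.le zm263)).1) (c.rels _ zr262) zm261) (w1__le0 c)
    (c.rels _ zr255) zb256 zq254

theorem w1_1 (c : Ctx P e gs ns D chk) :
    Cov 2 (subW gs [[212], [210]]) (subW gs [[202], [204]]) gs w1_1_R (subW gs []) :=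
  Cov.step' (q := 2) (g := [210]) c.defs (by norm_num) (w1_0 c)
    (pc_lvl' c.defs (P1_pr c) P1_pb (P1_lb c) 1 (by decide +kernel))
    (le_normalizer_nil gs _) (w1__le0 c)
    (c.rels _ zr265) zb266 zq264

theorem w1_2 (c : Ctx P e gs ns D chk) :
    Cov 2 (subW gs [[212], [210]]) (subW gs [[202], [204]]) gs w1_2_R (subW gs []) :=
  Cov.fuse c.defs (w1_1 c) (le_normalizer_nil gs _) (c.le zm269)
    (c.rels _ zr267) zb268

theorem w1__cls (c : Ctx P e gs ns D chk) :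
    Cls 2 (subW gs [[212], [210]]) (subW gs [[202], [204]]) gs [[], [210]] :=
  (w1_2 c).cls

theorem P1_le (c : Ctx P e gs ns D chk) :
    (subW gs [[212], [210]]) ≤ (subW gs [[202], [204]]) :=
  (c.le_of_rels (ws := [[212], [210]]) (l := [[202], [204]]) (c.rels _ zr272) zm271)

theorem row1 (c : Ctx P e gs ns D chk) :
    Row True (subW gs [[0], [2]]) (wordG gs [140]) :=
  have := (D1_ub c).1
  have := CL.Std.A5.simple
  row_cmp (dd (cC1 c) (cm1 c)) (iso1 c).some.isSimpleGroup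
    (w_of (c.mem zm277) (c.mem zm276) (c.mem zm275) (c.mem zm274) (c.mem zm273)
      (e1_1 c) (e0_1 c) (e2_1 c) (e3_1 c) (e4_1 c) (e5_1 c) (e6_1 c) (e8_1 c) (e7_1 c) (st_one (e7_1 c) (e9_1 c) ((w1__cls c).up (by norm_num) (k := 2) (D1_card c) (by decide +kernel) (P1_card c) (P1_le c))))

theorem cC2G_c : P.chainB ns D cC2G_vs [[0], [2]] = true :=
  zc279

theorem cC2G_o : prodL cC2G_vs 1 = 20160 := by decide +kernel

theorem cC2 (c : Ctx P e gs ns D chk) :
    (subW gs [[0], [2]]) ⊓ Subgroup.centralizer (subW gs [[142]] : Set G) = (subW gs [[248], [250]]) :=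
  c.cent (lx := [[142]]) (Rels.nil _) (c.sOk (c.exact cC2G_c cC2G_o (GM_ub c)) zs280) (fun _ h => by cases h)
    (c.fixX zf278) (c.rels _ zr283) zm284 zs282

theorem D2_pr (c : Ctx P e gs ns D chk) :
    Rels gs (pcsR D2_ps []) :=
  (c.rels _ zr286)

theorem D2_pe (c : Ctx P e gs ns D chk) :
    Rels gs (defRels zE285) :=
  (c.rels _ zr287)

theorem D2_pb : bnd (pcsB D D2_ps []) (leB (app D zE285) [[266], [268], [270]] (pcGens D2_ps [])) = true := zb288

theorem D2_ub (c : Ctx P e gs ns D chk) :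
    UB (subW gs [[266], [268], [270]]) 18 :=
  c.pcs (UB.nil gs) (D2_pe c) (D2_pr c) D2_pb (by decide +kernel)

theorem D2_c : P.chainB ns D D2_vs [[266], [268], [270]] = true :=
  zc289

theorem D2_o : prodL D2_vs 1 = 18 := by decide +kernel

theorem D2_lb (c : Ctx P e gs ns D chk) :
    LB (subW gs [[266], [268], [270]]) 18 :=
  c.lb D2_c D2_o

theorem D2_card (c : Ctx P e gs ns D chk) :
    Nat.card (subW gs [[266], [268], [270]]) = 18 :=
  (D2_ub c).card_eq (D2_lb c)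

theorem cm2_c_le (c : Ctx P e gs ns D chk) :
    (subW gs [[280], [282], [284]]) ≤ ⁅(subW gs [[248], [250]]), (subW gs [[248], [250]])⁆ :=
  c.le_commutator (ps := zps290) (c.rels _ zr292) zm291

theorem cm2 (c : Ctx P e gs ns D chk) :
    ⁅(subW gs [[248], [250]]), (subW gs [[248], [250]])⁆ = (subW gs [[266], [268], [270]]) :=
  have hfin : Finite (subW gs [[266], [268], [270]]) := (D2_ub c).1
  le_antisymm (commutator_subW_le (c.le_normalizer (cj := zcj302) hfin (c.rels _ zr304) zm303) (c.le_normalizer (cj := zcj299) hfin (c.rels _ zr301) zm300)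
    (c.le_of_rels (ws := (comWs [[248], [250]] [[248], [250]])) (l := [[266], [268], [270]]) (c.rels _ zr298) zm297)) ((c.le_of_rels (ws := [[266], [268], [270]]) (l := [[280], [282], [284]]) (c.rels _ zr295) zm294).trans (cm2_c_le c))

theorem Q2_pr (c : Ctx P e gs ns D chk) :
    Rels gs (pcsR Q2_ps []) :=
  (c.rels _ zr306)

theorem Q2_pe (c : Ctx P e gs ns D chk) :
    Rels gs (defRels zE305) :=
  (c.rels _ zr307)

theorem Q2_pb : bnd (pcsB D Q2_ps []) (leB (app D zE305) [[292], [294]] (pcGens Q2_ps [])) = true := zb308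

theorem Q2_ub (c : Ctx P e gs ns D chk) :
    UB (subW gs [[292], [294]]) 9 :=
  c.pcs (UB.nil gs) (Q2_pe c) (Q2_pr c) Q2_pb (by decide +kernel)

theorem Q2_c : P.chainB ns D Q2_vs [[292], [294]] = true :=
  zc309

theorem Q2_o : prodL Q2_vs 1 = 9 := by decide +kernel

theorem Q2_lb (c : Ctx P e gs ns D chk) :
    LB (subW gs [[292], [294]]) 9 :=
  c.lb Q2_c Q2_o

theorem Q2_card (c : Ctx P e gs ns D chk) :
    Nat.card (subW gs [[292], [294]]) = 9 :=
  (Q2_ub c).card_eq (Q2_lb c)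

theorem Q2_le (c : Ctx P e gs ns D chk) :
    (subW gs [[292], [294]]) ≤ (subW gs [[266], [268], [270]]) :=
  (c.le_of_rels (ws := [[292], [294]]) (l := [[266], [268], [270]]) (c.rels _ zr312) zm311)

theorem nQ2 (c : Ctx P e gs ns D chk) :
    (subW gs [[266], [268], [270]]) ≤ Subgroup.normalizer (subW gs [[292], [294]] : Set G) :=
  have hfin : Finite (subW gs [[292], [294]]) := (Q2_ub c).1
  (c.le_normalizer (cj := zcj313) hfin (c.rels _ zr315) zm314)

theorem Z2_pr (c : Ctx P e gs ns D chk) :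
    Rels gs (pcsR Z2_ps []) :=
  (c.rels _ zr316)

theorem Z2_pe (c : Ctx P e gs ns D chk) :
    Rels gs (defRels []) :=
  (Rels.nil _)

theorem Z2_pb : bnd (pcsB D Z2_ps []) (leB (app D []) [[273], [300]] (pcGens Z2_ps [])) = true := zb317

theorem Z2_ub (c : Ctx P e gs ns D chk) :
    UB (subW gs [[273], [300]]) 9 :=
  c.pcs (UB.nil gs) (Z2_pe c) (Z2_pr c) Z2_pb (by decide +kernel)

theorem Z2_c : P.chainB ns D Z2_vs [[273], [300]] = true :=
  zc318

theorem Z2_o : prodL Z2_vs 1 = 9 := by decide +kernel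

theorem Z2_lb (c : Ctx P e gs ns D chk) :
    LB (subW gs [[273], [300]]) 9 :=
  c.lb Z2_c Z2_o

theorem Z2_card (c : Ctx P e gs ns D chk) :
    Nat.card (subW gs [[273], [300]]) = 9 :=
  (Z2_ub c).card_eq (Z2_lb c)

theorem cQ2G_c : P.chainB ns D cQ2G_vs [[266], [268], [270]] = true :=
  zc320

theorem cQ2G_o : prodL cQ2G_vs 1 = 18 := by decide +kernel

theorem cQ2 (c : Ctx P e gs ns D chk) :
    (subW gs [[266], [268], [270]]) ⊓ Subgroup.centralizer (subW gs [[292], [294]] : Set G) = (subW gs [[273], [300]]) :=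
  c.cent (lx := [[292], [294]]) (Rels.nil _) (c.sOk (c.exact cQ2G_c cQ2G_o (D2_ub c)) zs321) (fun _ h => by cases h)
    (c.fixX zf319) (c.rels _ zr324) zm325 zs323

theorem row2 (c : Ctx P e gs ns D chk) :
    Row True (subW gs [[0], [2]]) (wordG gs [142]) :=
  row_p Nat.prime_three (dd (cC2 c) (cm2 c)) (Q2_le c) (nQ2 c) (isPGroup_of_card (Q2_card c) 2 (by norm_num)) (cQ2 c)
    (isPGroup_of_card (Z2_card c) 2 (by norm_num))

theorem cC3G_c : P.chainB ns D cC3G_vs [[0], [2]] = true :=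
  zc328

theorem cC3G_o : prodL cC3G_vs 1 = 20160 := by decide +kernel

theorem cC3 (c : Ctx P e gs ns D chk) :
    (subW gs [[0], [2]]) ⊓ Subgroup.centralizer (subW gs [[144]] : Set G) = (subW gs [[304], [306]]) :=
  c.cent (lx := [[144]]) (Rels.nil _) (c.sOk (c.exact cC3G_c cC3G_o (GM_ub c)) zs329) (fun _ h => by cases h)
    (c.fixX zf327) (c.rels _ zr332) zm333 zs331

theorem D3_u4 (c : Ctx P e gs ns D chk) :
    UB (subW gs [[336]]) 2 :=
  (c.pc_step (UB.nil gs) (Rels.nil _)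
    (c.rels _ zr337) zb336).le (by decide)

theorem D3_u3 (c : Ctx P e gs ns D chk) :
    UB (subW gs [[332], [334]]) 4 :=
  (c.pc_step (D3_u4 c) (c.rels _ zr343)
    (c.rels _ zr342) zb341).le (by decide)

theorem D3_u2 (c : Ctx P e gs ns D chk) :
    UB (subW gs [[328], [330]]) 12 :=
  (c.pc_step (D3_u3 c) (c.rels _ zr349)
    (c.rels _ zr348) zb347).le (by decide)

theorem D3_u1 (c : Ctx P e gs ns D chk) :
    UB (subW gs [[324], [326]]) 24 :=
  (c.pc_step (D3_u2 c) (c.rels _ zr355)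
    (c.rels _ zr354) zb353).le (by decide)

theorem D3_u0 (c : Ctx P e gs ns D chk) :
    UB (subW gs [[310], [322]]) 168 :=
  (c.sch_step (D3_u1 c)
    (c.rels _ zr359) zb358).le (by decide)

theorem D3_ub (c : Ctx P e gs ns D chk) :
    UB (subW gs [[310], [322]]) 168 :=
  (D3_u0 c)

theorem D3_c : P.chainB ns D D3_vs [[310], [322]] = true :=
  zc360

theorem D3_o : prodL D3_vs 1 = 168 := by decide +kernel

theorem D3_ex (c : Ctx P e gs ns D chk) :
    Exact e P.n P.N gs ns 1 D3_vs [[310], [322]] :=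
  c.exact D3_c D3_o (D3_ub c)

theorem D3_card (c : Ctx P e gs ns D chk) :
    Nat.card (subW gs [[310], [322]]) = 168 :=
  (D3_ex c).card.trans D3_o

theorem cm3_c_le (c : Ctx P e gs ns D chk) :
    (subW gs [[338], [340]]) ≤ ⁅(subW gs [[304], [306]]), (subW gs [[304], [306]])⁆ :=
  c.le_commutator (ps := zps361) (c.rels _ zr363) zm362

theorem cm3 (c : Ctx P e gs ns D chk) :
    ⁅(subW gs [[304], [306]]), (subW gs [[304], [306]])⁆ = (subW gs [[310], [322]]) :=
  have hfin : Finite (subW gs [[310], [322]]) := (D3_ub c).1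
  le_antisymm (commutator_subW_le (c.le_normalizer (cj := zcj373) hfin (c.rels _ zr375) zm374) (c.le_normalizer (cj := zcj370) hfin (c.rels _ zr372) zm371)
    (c.le_of_rels (ws := (comWs [[304], [306]] [[304], [306]])) (l := [[310], [322]]) (c.rels _ zr369) zm368)) ((c.le_of_rels (ws := [[310], [322]]) (l := [[338], [340]]) (c.rels _ zr366) zm365).trans (cm3_c_le c))

theorem iso3_r {Γ Y : Type*} [Group Γ] [MulAction Γ Y] {e' : ℕ → Y} {cs : List Γ} {D₁ D₂ : List (ℕ × List ℕ)}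
    {k₁ k₂ : List (List ℕ × List ℕ) → Bool} (c : Ctx CL.Q49M.L34.P e gs CL.Q49M.L34.ns D₁ k₁) (c' : Ctx CL.Std.L32.P e' cs CL.Std.L32.ns D₂ k₂)
    (hF : Faithful e' CL.Std.L32.P.n (subW cs [[0], [2]])) :
    RelLe gs [[352], [354]] cs [[0], [2]] :=
  c.relLe (K := zK377) c' hF zl378 (fun (t : ℕ) (ht : t < 1) => match t, ht with
    | 0, _ => zl379
    | t + 1, h => absurd h (by omega))

theorem iso3_e (c : Ctx P e gs ns D chk) :
    subW gs (app [[352], [354]] []) = (subW gs [[310], [322]]) :=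
  le_antisymm (c.le_of_rels (ws := [[352], [354]]) (l := [[310], [322]]) (c.rels _ zr385) zm384) (c.le_of_rels (ws := [[310], [322]]) (l := [[352], [354]]) (c.rels _ zr382) zm381)

theorem iso3 (c : Ctx P e gs ns D chk) :
    Nonempty ((subW gs [[310], [322]]) ≃* (subW CL.Std.L32.gs1 [[0], [2]])) :=
  (RelLe.quo' (l := [[352], [354]]) (lQ := []) (iso3_r c CL.Std.L32.c1 ((faithful_eF _).mono le_top)) (by decide) (iso3_e c) (a := 1) (b := 168) (D3_ub c)
    (LB.one _) (LB.of_card CL.Std.L32.card)).equiv_nil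

theorem e1_3 (c : Ctx P e gs ns D chk) :
    wordG gs [368, 144] = wordG gs [144, 372, 368] :=
  c.eq zr386

theorem e0_3 (c : Ctx P e gs ns D chk) :
    wordG gs [372, 144] = wordG gs [144, 372] :=
  c.eq zr387

theorem e2_3 (c : Ctx P e gs ns D chk) :
    wordG gs [370, 372] = wordG gs [372, 374, 370] :=
  c.eq zr388

theorem e3_3 (c : Ctx P e gs ns D chk) :
    wordG gs [376, 376] = wordG gs [374] :=
  c.eq zr389

theorem e4_3 (c : Ctx P e gs ns D chk) :
    wordG gs [378, 378] = wordG gs [374] :=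
  c.eq zr390

theorem e5_3 (c : Ctx P e gs ns D chk) :
    wordG gs [376, 368] = wordG gs [368, 376] :=
  c.eq zr391

theorem e6_3 (c : Ctx P e gs ns D chk) :
    wordG gs [380, 370] = wordG gs [370, 368] :=
  c.eq zr392

theorem e8_3 (c : Ctx P e gs ns D chk) :
    wordG gs [378, 380] = wordG gs [380, 378] :=
  c.eq zr393

theorem e9_3 (c : Ctx P e gs ns D chk) :
    wordG gs [374, 374] = wordG gs [] :=
  c.eq zr394

theorem e7_3 (c : Ctx P e gs ns D chk) :
    (wordG gs [374]) ≠ 1 :=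
  c.ne_one zn395

theorem P3_c : P.chainB ns D P3_vs [[382], [384], [336]] = true :=
  zc396

theorem P3_o : prodL P3_vs 1 = 8 := by decide +kernel

theorem P3_lb (c : Ctx P e gs ns D chk) :
    LB (subW gs [[382], [384], [336]]) 8 :=
  c.lb P3_c P3_o

theorem P3_pr (c : Ctx P e gs ns D chk) :
    Rels gs (pcsR P3_ps []) :=
  (c.rels _ zr397)

theorem P3_pe (c : Ctx P e gs ns D chk) :
    Rels gs (defRels []) :=
  (Rels.nil _)

theorem P3_pb : bnd (pcsB D P3_ps []) (leB (app D []) [[382], [384], [336]] (pcGens P3_ps [])) = true := zb398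

theorem P3_ub (c : Ctx P e gs ns D chk) :
    UB (subW gs [[382], [384], [336]]) 8 :=
  c.pcs (UB.nil gs) (P3_pe c) (P3_pr c) P3_pb (by decide +kernel)

theorem P3_card (c : Ctx P e gs ns D chk) :
    Nat.card (subW gs [[382], [384], [336]]) = 8 :=
  (P3_ub c).card_eq (P3_lb c)

theorem w3__le0 (c : Ctx P e gs ns D chk) :
    (subW gs [[382], [384], [336]]) ≤ (subW gs [[310], [322]]) :=
  (c.le_of_rels (ws := [[382], [384], [336]]) (l := [[310], [322]]) (c.rels _ zr404) zm403)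

theorem w3_0 (c : Ctx P e gs ns D chk) :
    Cov 2 (subW gs [[382], [384], [336]]) (subW gs [[310], [322]]) gs w3_0_R (subW gs [[384], [336]]) :=
  Cov.step' (q := 2) (g := [382]) c.defs (by norm_num) (Cov.init 2 (subW gs [[382], [384], [336]]) (subW gs [[310], [322]]) gs)
    (pc_lvl' c.defs (P3_pr c) P3_pb (P3_lb c) 0 (by decide +kernel))
    (c.le_normalizer (cj := zcj405) (((P3_ub c).mono (c.le zm408)).1) (c.rels _ zr407) zm406) (w3__le0 c)
    (c.rels _ zr400) zb401 zq399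

theorem w3_1 (c : Ctx P e gs ns D chk) :
    Cov 2 (subW gs [[382], [384], [336]]) (subW gs [[310], [322]]) gs w3_1_R (subW gs [[336]]) :=
  Cov.step' (q := 2) (g := [384]) c.defs (by norm_num) (w3_0 c)
    (pc_lvl' c.defs (P3_pr c) P3_pb (P3_lb c) 1 (by decide +kernel))
    (c.le_normalizer (cj := zcj412) (((P3_ub c).mono (c.le zm415)).1) (c.rels _ zr414) zm413) (w3__le0 c)
    (c.rels _ zr410) zb411 zq409

theorem w3_2 (c : Ctx P e gs ns D chk) :
    Cov 2 (subW gs [[382], [384], [336]]) (subW gs [[310], [322]]) gs w3_2_R (subW gs []) :=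
  Cov.step' (q := 2) (g := [336]) c.defs (by norm_num) (w3_1 c)
    (pc_lvl' c.defs (P3_pr c) P3_pb (P3_lb c) 2 (by decide +kernel))
    (le_normalizer_nil gs _) (w3__le0 c)
    (c.rels _ zr417) zb418 zq416

theorem w3_3 (c : Ctx P e gs ns D chk) :
    Cov 2 (subW gs [[382], [384], [336]]) (subW gs [[310], [322]]) gs w3_3_R (subW gs []) :=
  Cov.fuse c.defs (w3_2 c) (le_normalizer_nil gs _) (c.le zm421)
    (c.rels _ zr419) zb420

theorem w3__cls (c : Ctx P e gs ns D chk) :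
    Cls 2 (subW gs [[382], [384], [336]]) (subW gs [[310], [322]]) gs [[], [374]] :=
  (w3_3 c).cls

theorem P3_le (c : Ctx P e gs ns D chk) :
    (subW gs [[382], [384], [336]]) ≤ (subW gs [[310], [322]]) :=
  (c.le_of_rels (ws := [[382], [384], [336]]) (l := [[310], [322]]) (c.rels _ zr424) zm423)

theorem row3 (c : Ctx P e gs ns D chk) :
    Row True (subW gs [[0], [2]]) (wordG gs [144]) :=
  have := (D3_ub c).1
  have := CL.Std.L32.simple
  row_cmp (dd (cC3 c) (cm3 c)) (iso3 c).some.isSimpleGroup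
    (w_of (c.mem zm429) (c.mem zm428) (c.mem zm427) (c.mem zm426) (c.mem zm425)
      (e1_3 c) (e0_3 c) (e2_3 c) (e3_3 c) (e4_3 c) (e5_3 c) (e6_3 c) (e8_3 c) (e7_3 c) (st_one (e7_3 c) (e9_3 c) ((w3__cls c).up (by norm_num) (k := 3) (D3_card c) (by decide +kernel) (P3_card c) (P3_le c))))

theorem tb (c : Ctx P e gs ns D chk) :
    Tb True (subW gs [[0], [2], [4], [6]]) (subW gs [[0], [2]]) :=
  have := (GA_ub c).1
  tb_of ((v_cls c).up (by norm_num) (k := 8) (GA_card c) (by decide +kernel) (T_card c) (T_le c))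
    (List.forall_mem_cons.2 ⟨row0 c, (List.forall_mem_cons.2 ⟨row1 c, (List.forall_mem_cons.2 ⟨row2 c, (List.forall_mem_cons.2 ⟨row3 c, fun _ h => by cases h⟩)⟩)⟩)⟩)

theorem nrm (c : Ctx P e gs ns D chk) :
    (subW gs [[0], [2], [4], [6]]) ≤ Subgroup.normalizer (subW gs [[0], [2]] : Set G) :=
  have hfin : Finite (subW gs [[0], [2]]) := (GM_ub c).1
  (c.le_normalizer (cj := zcj430) hfin (c.rels _ zr432) zm431)

theorem md (c : Ctx P e gs ns D chk) :
    Mk True (subW gs [[0], [2], [4], [6]]) (subW gs [[0], [2]]) 20160 12 :=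
  ⟨nrm c, GM_card c, (GA_card c).trans (by norm_num), (cL c).trans (subW_nil _), tb c⟩

theorem isoM_r {Γ Y : Type*} [Group Γ] [MulAction Γ Y] {e' : ℕ → Y} {cs : List Γ} {D₁ D₂ : List (ℕ × List ℕ)}
    {k₁ k₂ : List (List ℕ × List ℕ) → Bool} (c : Ctx CL.Q49M.L34.P e gs CL.Q49M.L34.ns D₁ k₁) (c' : Ctx CL.Std.L34.P e' cs CL.Std.L34.ns D₂ k₂)
    (hF : Faithful e' CL.Std.L34.P.n (subW cs [[0], [2]])) :
    RelLe gs [[390], [392]] cs [[0], [2]] :=
  c.relLe (K := zK434) c' hF zl435 (fun (t : ℕ) (ht : t < 1) => match t, ht with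
    | 0, _ => zl436
    | t + 1, h => absurd h (by omega))

theorem isoM_e (c : Ctx P e gs ns D chk) :
    subW gs (app [[390], [392]] []) = (subW gs [[0], [2]]) :=
  le_antisymm (c.le_of_rels (ws := [[390], [392]]) (l := [[0], [2]]) (c.rels _ zr442) zm441) (c.le_of_rels (ws := [[0], [2]]) (l := [[390], [392]]) (c.rels _ zr439) zm438)

theorem isoM (c : Ctx P e gs ns D chk) :
    Nonempty ((subW gs [[0], [2]]) ≃* (subW CL.Std.L34.gs1 [[0], [2]])) :=
  (RelLe.quo' (l := [[390], [392]]) (lQ := []) (isoM_r c CL.Std.L34.c1 ((faithful_eF _).mono le_top)) (by decide) (isoM_e c) (a := 1) (b := 20160) (GM_ub c)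
    (LB.one _) (LB.of_card CL.Std.L34.card)).equiv_nil


end CL.Q49M.L34
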