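/-
Project Q49 (S1849): the tables for `L₃(4)`, `G₂(4)` and `Ru`.
-/
import Cfsg.Agent.Q49.ML34
import Cfsg.Agent.Q49.MG24
import Cfsg.Agent.Q49.MRu
import Cfsg.Agent.Q49.InOf
import Cfsg.Agent.Known.MathieuIso
import Cfsg.Agent.Spor.J4DMain
import Cfsg.Agent.Spor.StdHS
import Cfsg.Agent.Spor.J2Main
import Cfsg.Agent.S2601
import Cfsg.Agent.S2121
import Cfsg.Agent.S2102
import Cfsg.Agent.S2051
import Cfsg.Agent.S2077

set_option autoImplicit false

namespace CL.Q49M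

open Cfsg Subgroup CL.Even CL.Grp CL.Loc CL.PG CL.Q49

universe u

open CL.IV.RuC in
theorem mkRu : Mk True (⊤ : Subgroup Spor.Ru) ⊤ 145926144000 1 := by
  obtain ⟨_, gs, m⟩ := xtop CL.Std.Ru.iso
  have := m.finite
  have c := m.c
  have c' := Ru.rctx c m.fa fun _ _ => trivial
  have hl := Ru.rlen c
  have r1 := Ru.rrow1 c' (m.ub _)
  have r0 := Ru.rQD c'
  rw [subW_ext hl _ (by decide +kernel), wordG_ext hl _ (by decide +kernel)] at r1
  rw [subW_ext hl _ (by decide +kernel), subW_ext hl _ (by decide +kernel)] at r0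
  have r2 : Row True (subW gs [[0], [2]]) (wordG gs [56]) :=
    row_con' (xcz c (m.ub _)) r0 (xnq c) (isPGroup_of_card (xQ_card c) 11 (by norm_num)) (xcq c (m.ub _))
      (isPGroup_of_card (xoz c) 1 (by norm_num))
  rw [m.top] at r1 r2
  have hs : IsSimpleGroup Spor.Ru := have := CL.Std.Ru.simple; CL.Std.Ru.iso.some.symm.isSimpleGroup
  refine ⟨le_norm_of_le le_rfl, card_top.trans m.card, card_top.trans m.card, ?_,
    tb_of ((xv_cls c).top (k := 14) Nat.prime_two m.card (by decide +kernel) (xP_card c))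
      (List.forall_mem_cons.2 ⟨r2, List.forall_mem_cons.2 ⟨r1, fun _ h => by cases h⟩⟩)⟩
  rw [top_inf_eq, coe_top, centralizer_univ]
  refine (hs.eq_bot_or_eq_top_of_normal _ inferInstance).resolve_right fun h => ?_
  have k := m.top_inf (xcq c (m.ub _))
  have k1 : (⊤ : Subgroup Spor.Ru) ≤ subW gs [[56]] := k ▸ fun x _ y _ => mem_center_iff.1 (h ▸ mem_top x) y
  have := card_le_of_le k1
  rw [card_top, m.card, xoz c] at this
  omega

theorem out_L34 {F : Type} [Field F] [Fintype F] (hF : Fintype.card F = 4) :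
    Nat.card (Cfsg.Out (Matrix.ProjectiveSpecialLinearGroup (Fin 3) F)) ≤ 12 := by
  have : Fact (Nat.Prime 2) := ⟨Nat.prime_two⟩
  obtain ⟨φ, h1, -, h2⟩ := Agent.S2601.result (F := F) (p := 2) (f := 2) (n := 3) (by norm_num) hF le_rfl
  rw [← φ.ker.card_mul_index, h2, index_ker, MonoidHom.range_eq_top.2 h1, card_top]
  simp

theorem exp_L34 {G : Type u} [Group G] [Finite G] {K L : Subgroup G} {z : G} (p : Pr K L z) {F : Type} [Field F]
    [Fintype F] (hF : Fintype.card F = 4) (f : (K ⧸ center K) ≃* Matrix.ProjectiveSpecialLinearGroup (Fin 3) F) :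
    ∀ c ∈ K ⊓ 𝒞(K), c ^ 2 = 1 := fun c hc => by
  have hx : (⟨c, hc.1⟩ : K) ∈ center K := mem_center_iff.2 fun y => Subtype.ext (hc.2 y y.2)
  have hq := InOfx.core_eq p.qs p.z2
  have e := (QuotientGroup.quotientMulEquivOfEq hq).trans f
  have hn : Nat.card (K ⧸ pCore 2 K) = 20160 :=
    (Nat.card_congr (e.trans (CL.Std.L34.iso hF).some.symm).toEquiv).trans CL.Std.L34.card
  have bot : center K = ⊥ → c ^ 2 = 1 := fun h => by
    rw [h, mem_bot] at hx
    rw [show c = 1 from congrArg Subtype.val hx, one_pow]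
  have no : ∀ {Y : Type} [Group Y] {m : ℕ}, Nat.card Y = m → m ≠ 20160 → Nonempty ((K ⧸ pCore 2 K) ≃* Y) → c ^ 2 = 1 :=
    fun h1 h2 ⟨g⟩ => absurd (h1.symm.trans ((Nat.card_congr g.toEquiv).symm.trans hn)) h2
  rcases p.ev with ⟨-, -, -, h⟩ | (⟨F, _, _, -, ⟨f⟩⟩ | ⟨F, _, _, -, ⟨f⟩⟩) | h | h | h | h | h | h | h | h | h
  · exact congrArg Subtype.val ((h ⟨F, _, _, hF, ⟨e⟩⟩).2 _ (hq ▸ hx))
  · exact bot (InOfx.psl (n := 1) p.qs f)
  · exact bot (InOfx.psl (n := 0) p.qs f)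
  · exact no CL.Spor.card_M11 (by norm_num) h
  · exact no CL.Spor.card_M12 (by norm_num) h
  · exact no CL.Spor.card_M22 (by norm_num) h
  · exact no CL.Spor.card_M23 (by norm_num) h
  · exact no CL.Spor.card_M24 (by norm_num) h
  · exact no CL.J2.card_J2 (by norm_num) h
  · exact no CL.J4M.card (by norm_num) h
  · exact no Spor.Leech.isHS_HS.2 (by norm_num) h
  · exact no ((Nat.card_congr CL.Std.Ru.iso.some.toEquiv).symm.trans CL.Std.Ru.card) (by norm_num) h

end CL.Q49M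

namespace CL.Q49

open Cfsg Subgroup CL.Even CL.Q49M

universe u

theorem tabRuB : Tab.{u} fun X _ => Spor.IsoRu X := fun _ _ _ _ _ _ p hL _ ⟨f⟩ =>
  have : Finite Spor.Ru := Nat.finite_of_card_ne_zero (by rw [← card_top, mkRu.cM]; norm_num)
  (mkRu.tab topEquiv Agent.S2077.result.le f p hL fun _ => exp_two Agent.S2051.result f p.qs).2

theorem tabL34B : Tab.{u} fun X _ => IsoL34 X := fun _ _ _ _ _ _ p hL _ ⟨_, _, _, hF, ⟨f⟩⟩ =>
  ((L34.md L34.c1).tab ((L34.isoM L34.c1).some.trans (CL.Std.L34.iso hF).some) (out_L34 hF) f p hL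
    fun _ => exp_L34 p hF f).2

theorem tabG24B : Tab.{u} fun X _ => IsoG24 X := fun _ _ _ _ _ _ p hL _ ⟨F, _, _, hF, ⟨f⟩⟩ =>
  have : Fact (Nat.Prime 2) := ⟨Nat.prime_two⟩
  have : CharP F 2 := charP_of_card_eq_prime_pow (f := 2) hF
  ((G24.md G24.c1).tab ((G24.isoM G24.c1).some.trans (CL.Std.G24c.iso hF).some)
    (Agent.S2121.result 2 2 hF (by norm_num)).le f p hL fun _ => exp_two (Agent.S2102.result hF) f p.qs).2

end CL.Q49
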