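/-
Auxiliary models.
Generated by tools/pg.
-/
import Cfsg.Agent.Spor.PGCtx
import Cfsg.Agent.Spor.PGSub
import Cfsg.Agent.Spor.StdCore
import Cfsg.Agent.Spor.StdG24c
import Cfsg.Agent.Spor.StdSym
import Cfsg.Agent.Spor.StdU33

set_option autoImplicit false
set_option maxRecDepth 200000
set_option Elab.async false
set_option linter.unusedVariables false

namespace CL.Q49M.G24Aux2.T
open CL.PG

def P : Par := ⟨36, 40, 6, 3⟩
theorem hP : P.Ok := by decide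
noncomputable def a0 : Net := (.cons 20 (nat_lit 0x7f485)
 (.cons 10 (nat_lit 0xcb0008c)
 (.cons 5 (nat_lit 0x781902c1c)
 (.cons 1 (nat_lit 0x1014802140)
 (.cons 1 (nat_lit 0x29085214a0)
 (.cons 1 (nat_lit 0x5094252848)
 (.cons 1 (nat_lit 0x2940100401)
 (.cons 5 (nat_lit 0x70040280c)
 (.cons 10 (nat_lit 0x1c200082)
 (.cons 20 (nat_lit 0x7f660)
 .nil))))))))))
noncomputable def a1 : Net := (.cons 20 (nat_lit 0xdc009)
 (.cons 10 (nat_lit 0x7400363)
 (.cons 5 (nat_lit 0x54150341a)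
 (.cons 1 (nat_lit 0x2000000020)
 (.cons 1 (nat_lit 0x5200202140)
 (.cons 1 (nat_lit 0x2900529481)
 (.cons 1 (nat_lit 0x1090212942)
 (.cons 1 (nat_lit 0x14a400481)
 (.cons 5 (nat_lit 0x500a0401a)
 (.cons 10 (nat_lit 0x26e00354)
 (.cons 20 (nat_lit 0xd4d80)
 .nil)))))))))))
noncomputable def a2 : Net := (.cons 20 (nat_lit 0xeaf46)
 (.cons 10 (nat_lit 0x208001f0)
 (.cons 5 (nat_lit 0x600d01810)
 (.cons 1 (nat_lit 0x808000020)
 (.cons 1 (nat_lit 0x1214000942)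
 (.cons 1 (nat_lit 0x214a401084)
 (.cons 1 (nat_lit 0x5284212948)
 (.cons 1 (nat_lit 0x280a529024)
 (.cons 5 (nat_lit 0x1c01002)
 (.cons 10 (nat_lit 0x2a8001ec)
 (.cons 20 (nat_lit 0xee970)
 .nil)))))))))))
noncomputable def a3 : Net := (.cons 20 (nat_lit 0x4a48e)
 (.cons 10 (nat_lit 0x13c00164)
 (.cons 5 (nat_lit 0x640401c1e)
 (.cons 1 (nat_lit 0x2000080)
 (.cons 1 (nat_lit 0x4014002140)
 (.cons 1 (nat_lit 0x29084290a0)
 (.cons 1 (nat_lit 0x1094a12840)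
 (.cons 1 (nat_lit 0x284a1014a0)
 (.cons 5 (nat_lit 0x601a0300c)
 (.cons 10 (nat_lit 0x2a00384)
 (.cons 20 (nat_lit 0x4ca40)
 .nil)))))))))))
noncomputable def a4 : Net := (.cons 20 (nat_lit 0xfc418)
 (.cons 10 (nat_lit 0x211002aa)
 (.cons 5 (nat_lit 0x680903416)
 (.cons 1 (nat_lit 0x20)
 (.cons 1 (nat_lit 0x4010202040)
 (.cons 1 (nat_lit 0x2108421484)
 (.cons 1 (nat_lit 0x5094842902)
 (.cons 1 (nat_lit 0x4a100484)
 (.cons 5 (nat_lit 0x8100201e)
 (.cons 10 (nat_lit 0x3940029e)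
 (.cons 20 (nat_lit 0xfc680)
 .nil)))))))))))
noncomputable def a5 : Net := (.cons 20 (nat_lit 0xc8dc0)
 (.cons 10 (nat_lit 0xa80026c)
 (.cons 5 (nat_lit 0x30120580c)
 (.cons 1 (nat_lit 0x802000000)
 (.cons 1 (nat_lit 0x5094000000)
 (.cons 1 (nat_lit 0x2148000080)
 (.cons 1 (nat_lit 0x5094012040)
 (.cons 1 (nat_lit 0x2802100484)
 (.cons 5 (nat_lit 0x30120580c)
 (.cons 10 (nat_lit 0xa80024c)
 (.cons 20 (nat_lit 0xc8dc0)
 .nil)))))))))))
noncomputable def a6 : Net := (.cons 20 (nat_lit 0xaee90)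
 (.cons 10 (nat_lit 0x121000ec)
 (.cons 5 (nat_lit 0x50010141c)
 (.cons 1 (nat_lit 0x2000400)
 (.cons 1 (nat_lit 0x204a02900)
 (.cons 1 (nat_lit 0x1485290a0)
 (.cons 1 (nat_lit 0x4290a12940)
 (.cons 1 (nat_lit 0x108028420)
 (.cons 5 (nat_lit 0x601000004)
 (.cons 10 (nat_lit 0x3ae000a8)
 (.cons 20 (nat_lit 0xa5710)
 .nil)))))))))))
noncomputable def a7 : Net := (.cons 20 (nat_lit 0xcdc20)
 (.cons 10 (nat_lit 0x22100192)
 (.cons 5 (nat_lit 0x280202000)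
 (.cons 1 (nat_lit 0x400)
 (.cons 1 (nat_lit 0x1400280a)
 (.cons 1 (nat_lit 0x148109084)
 (.cons 1 (nat_lit 0x294a1290a)
 (.cons 1 (nat_lit 0x840508480)
 (.cons 5 (nat_lit 0x80a00000)
 (.cons 10 (nat_lit 0x33c00192)
 (.cons 20 (nat_lit 0xcdc20)
 .nil)))))))))))
noncomputable def a8 : Net := (.cons 20 (nat_lit 0xca548)
 (.cons 10 (nat_lit 0x20800308)
 (.cons 5 (nat_lit 0x201c02014)
 (.cons 1 (nat_lit 0x940400020)
 (.cons 1 (nat_lit 0x5280a00140)
 (.cons 1 (nat_lit 0x21405200a0)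
 (.cons 1 (nat_lit 0x5280a42140)
 (.cons 1 (nat_lit 0x948420420)
 (.cons 5 (nat_lit 0x201c02014)
 (.cons 10 (nat_lit 0x20800300)
 (.cons 20 (nat_lit 0xca548)
 .nil)))))))))))
noncomputable def a9 : Net := (.cons 20 (nat_lit 0x4b548)
 (.cons 10 (nat_lit 0x21c00138)
 (.cons 5 (nat_lit 0x201402402)
 (.cons 1 (nat_lit 0x800000000)
 (.cons 1 (nat_lit 0x5000002800)
 (.cons 1 (nat_lit 0x2008501020)
 (.cons 1 (nat_lit 0x521020284a)
 (.cons 1 (nat_lit 0x940500020)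
 (.cons 5 (nat_lit 0x201400002)
 (.cons 10 (nat_lit 0x30800138)
 (.cons 20 (nat_lit 0x4b548)
 .nil)))))))))))
noncomputable def a10 : Net := (.cons 20 (nat_lit 0xcdc20)
 (.cons 10 (nat_lit 0x22100192)
 (.cons 5 (nat_lit 0x280202000)
 (.cons 1 (nat_lit 0x400)
 (.cons 1 (nat_lit 0x1400280a)
 (.cons 1 (nat_lit 0x148109084)
 (.cons 1 (nat_lit 0x294a1290a)
 (.cons 1 (nat_lit 0x840508480)
 (.cons 5 (nat_lit 0x80a00000)
 (.cons 10 (nat_lit 0x33c00192)
 (.cons 20 (nat_lit 0xcdc20)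
 .nil)))))))))))
noncomputable def ns0 : List Net := [a0, a1]
noncomputable def ws : List (List ℕ) :=
  [W (nat_lit 0xc02008020100200802),
  W (nat_lit 0x3004010100100401),
  W (nat_lit 0x501c070140501405),
  W (nat_lit 0x701c05),
  W (nat_lit 0x240c),
  W (nat_lit 0xb0240c0280c),
  W (nat_lit 0xd0400e),
  W (nat_lit 0x400d0400e),
  W (nat_lit 0x481204c12)]
noncomputable def ns : List Net := [a0, a1, a2, a3, a4, a5, a6, a7, a8, a9, a10]
noncomputable def D : List (ℕ × List ℕ) := app [] (mkDefs ws 2)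
noncomputable def chk : List (List ℕ × List ℕ) → Bool := P.relsB ns
noncomputable def G_v0 : Lev :=
  ⟨0, 36, sg (W (nat_lit 0x300403004030040100c01)), [[4], [6]], 0, 2⟩
noncomputable def G_v1 : Lev :=
  ⟨1, 7, sg (W (nat_lit 0x1c0501c05)), [[8], [10]], 2, 2⟩
noncomputable def G_v2 : Lev :=
  ⟨3, 3, sg (W (nat_lit 0x2409)), [[12], [14]], 4, 2⟩
noncomputable def G_v3 : Lev :=
  ⟨6, 2, sg [12], [[16], [18]], 6, 2⟩
noncomputable def G_v4 : Lev :=
  ⟨2, 2, sg [16], [[20]], 8, 1⟩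
noncomputable def G_v5 : Lev :=
  ⟨4, 2, sg [20], [], 9, 0⟩
noncomputable def G_vs6 : List Lev :=
  []
noncomputable def G_vs5 : List Lev :=
  G_v5 :: G_vs6
noncomputable def G_vs4 : List Lev :=
  G_v4 :: G_vs5
noncomputable def G_vs3 : List Lev :=
  G_v3 :: G_vs4
noncomputable def G_vs2 : List Lev :=
  G_v2 :: G_vs3
noncomputable def G_vs1 : List Lev :=
  G_v1 :: G_vs2
noncomputable def G_vs : List Lev :=
  G_v0 :: G_vs1

theorem zc0 : P.chainB ns D G_vs [[0], [2]] = true := by decide +kernel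
theorem zk1 : allL (keepB P.n P.N) ns0 = true := by decide +kernel
theorem ze2 : extB ns0 ns 2 ws [] = true := by decide +kernel
theorem zn3 : P.netsB ns (mkDefs ws 2) = true := by decide +kernel

section
variable {G X : Type*} [Group G] [MulAction G X] {e : ℕ → X} {gs : List G}

theorem keep0 : allL (keepB P.n P.N) ns0 = true := zk1

theorem len {k} (c : Ctx P e gs ns0 [] k) : gs.length = 2 := c.len ze2

theorem ctx0 {k} (c : Ctx P e gs ns0 [] k) : Ctx P e (ext gs ws) ns D chk0 :=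
  c.ext rfl ze2 zn3

theorem ctx {k} (c : Ctx P e gs ns0 [] k) {H : Subgroup G} (hF : Faithful e P.n H) (hH : ∀ g ∈ gs, g ∈ H) :
    Ctx P e (ext gs ws) ns D chk :=
  (ctx0 c).withB hF (mem_of_mem_ext hH _)

instance instNe : NeZero P.n := ⟨by decide⟩
noncomputable def gs0 : List (Equiv.Perm (Fin P.n)) := permsOf P.n P.N ns0
noncomputable def gs1 : List (Equiv.Perm (Fin P.n)) := ext gs0 ws
theorem c1 : Ctx P (eF P.n) gs1 ns D chk :=
  ctx (ctx_permsOf hP keep0) (faithful_eF _) fun _ _ => trivial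

theorem G_c : P.chainB ns D G_vs [[0], [2]] = true :=
  zc0

theorem G_o : prodL G_vs 1 = 6048 := by decide +kernel

theorem G_lb (c : Ctx P e gs ns D chk) :
    LB (subW gs [[0], [2]]) 6048 :=
  c.lb G_c G_o

end
end CL.Q49M.G24Aux2.T

namespace CL.Q49M.G24Aux2.S
open CL.PG

def P : Par := ⟨64, 64, 6, 3⟩
theorem hP : P.Ok := by decide
noncomputable def a0 : Net := (.cons 32 (nat_lit 0xbadfffc0)
 (.cons 16 (nat_lit 0x3bf70000ec20)
 (.cons 8 (nat_lit 0xb500c300cf00f0)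
 (.cons 4 (nat_lit 0x8090101000e0d05)
 (.cons 2 (nat_lit 0x2021023201023101)
 (.cons 1 (nat_lit 0x4140144114144151)
 (.cons 2 (nat_lit 0x2000020200002202)
 (.cons 4 (nat_lit 0x40e060006020200)
 (.cons 8 (nat_lit 0xa0007c00c80000)
 (.cons 16 (nat_lit 0x1da00003fe4)
 (.cons 32 (nat_lit 0xeb5ebff8)
 .nil)))))))))))
noncomputable def a1 : Net := (.cons 32 (nat_lit 0xacb0c180)
 (.cons 16 (nat_lit 0xf8220000fa8a)
 (.cons 8 (nat_lit 0x65000800940022)
 (.cons 4 (nat_lit 0xd080e0a07020d00)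
 (.cons 2 (nat_lit 0x2300103013233221)
 (.cons 1 (nat_lit 0x4150415114054154)
 (.cons 2 (nat_lit 0x2200000000000200)
 (.cons 4 (nat_lit 0x8020e0406020402)
 (.cons 8 (nat_lit 0x2800c400f000cc)
 (.cons 16 (nat_lit 0xc1d000004078)
 (.cons 32 (nat_lit 0x69962188)
 .nil)))))))))))
noncomputable def a2 : Net := (.cons 32 (nat_lit 0xff47daf2)
 (.cons 16 (nat_lit 0x7efa000043b8)
 (.cons 8 (nat_lit 0x1007400b6006a)
 (.cons 4 (nat_lit 0xf0c0f030b090304)
 (.cons 2 (nat_lit 0x1020033021122030)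
 (.cons 1 (nat_lit 0x4151541040110144)
 (.cons 2 (nat_lit 0x2202000000000220)
 (.cons 4 (nat_lit 0x8060e0e0404000a)
 (.cons 8 (nat_lit 0x1400c000140024)
 (.cons 16 (nat_lit 0xa2220000d3a0)
 (.cons 32 (nat_lit 0x7cefff20)
 .nil)))))))))))
noncomputable def a3 : Net := (.cons 32 (nat_lit 0x7a9d3768)
 (.cons 16 (nat_lit 0x6b9d00003772)
 (.cons 8 (nat_lit 0x1b002c00300020)
 (.cons 4 (nat_lit 0x20903080709070c)
 (.cons 2 (nat_lit 0x3133120110313030)
 (.cons 1 (nat_lit 0x5111114151114454)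
 (.cons 2 (nat_lit 0x20202000202002)
 (.cons 4 (nat_lit 0x800020c00000004)
 (.cons 8 (nat_lit 0xa000a00024004c)
 (.cons 16 (nat_lit 0x87f800003ac0)
 (.cons 32 (nat_lit 0x85fe3dc0)
 .nil)))))))))))
noncomputable def a4 : Net := (.cons 32 (nat_lit 0x830812a)
 (.cons 16 (nat_lit 0x9d6c000007f4)
 (.cons 8 (nat_lit 0xd4005d001b0074)
 (.cons 4 (nat_lit 0xb070e03070c0b0a)
 (.cons 2 (nat_lit 0x3222120310311302)
 (.cons 1 (nat_lit 0x4054410101144154)
 (.cons 2 (nat_lit 0x2002020002200000)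
 (.cons 4 (nat_lit 0x40004020a000604)
 (.cons 8 (nat_lit 0x90008000740030)
 (.cons 16 (nat_lit 0xbb4c00007ad0)
 (.cons 32 (nat_lit 0x4808310a)
 .nil)))))))))))
noncomputable def a5 : Net := (.cons 32 (nat_lit 0xf00060)
 (.cons 16 (nat_lit 0x900000b800)
 (.cons 8 (nat_lit 0x38009c)
 (.cons 4 (nat_lit 0x80d020408)
 (.cons 2 (nat_lit 0x20033202000230)
 (.cons 1 (nat_lit 0x1415550111454054)
 (.cons 2 (nat_lit 0x20000220000000)
 (.cons 4 (nat_lit 0x802020408)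
 (.cons 8 (nat_lit 0x380018)
 (.cons 16 (nat_lit 0x900000b800)
 (.cons 32 (nat_lit 0xf00060)
 .nil)))))))))))
noncomputable def a6 : Net := (.cons 32 (nat_lit 0x2d06da10)
 (.cons 16 (nat_lit 0x6f860000d050)
 (.cons 8 (nat_lit 0x9a0048001c00c4)
 (.cons 4 (nat_lit 0x1020706050e040c)
 (.cons 2 (nat_lit 0x1310211300310320)
 (.cons 1 (nat_lit 0x1405550500504044)
 (.cons 2 (nat_lit 0x200000000000020)
 (.cons 4 (nat_lit 0x6020806000e040c)
 (.cons 8 (nat_lit 0x1a0048001c00c4)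
 (.cons 16 (nat_lit 0x6f860000d050)
 (.cons 32 (nat_lit 0x2d06da10)
 .nil)))))))))))
noncomputable def a7 : Net := (.cons 32 (nat_lit 0x4808310a)
 (.cons 16 (nat_lit 0xced100007a74)
 (.cons 8 (nat_lit 0x15001900aa0058)
 (.cons 4 (nat_lit 0x503030502050902)
 (.cons 2 (nat_lit 0x1231012212311312)
 (.cons 1 (nat_lit 0x4051014145105140)
 (.cons 2 (nat_lit 0x2002200200220)
 (.cons 4 (nat_lit 0xe02040c0a080406)
 (.cons 8 (nat_lit 0xc000cc00840040)
 (.cons 16 (nat_lit 0x610000047f8)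
 (.cons 32 (nat_lit 0x830812a)
 .nil)))))))))))
noncomputable def a8 : Net := (.cons 32 (nat_lit 0xaa0630)
 (.cons 16 (nat_lit 0x32bc00006720)
 (.cons 8 (nat_lit 0x8e005400d80004)
 (.cons 4 (nat_lit 0x8040f0a0b0a0400)
 (.cons 2 (nat_lit 0x2202023202102000)
 (.cons 1 (nat_lit 0x4111110044040400)
 (.cons 2 (nat_lit 0x2202200020000000)
 (.cons 4 (nat_lit 0x800000004080400)
 (.cons 8 (nat_lit 0x88005000d80000)
 (.cons 16 (nat_lit 0x36f800006720)
 (.cons 32 (nat_lit 0xaa0630)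
 .nil)))))))))))
noncomputable def a9 : Net := (.cons 32 (nat_lit 0xd4d4ccb0)
 (.cons 16 (nat_lit 0xb4d800001a10)
 (.cons 8 (nat_lit 0x76005c00820000)
 (.cons 4 (nat_lit 0x803020d060a00)
 (.cons 2 (nat_lit 0x1030130200221000)
 (.cons 1 (nat_lit 0x1040415000100510)
 (.cons 2 (nat_lit 0x20020000200000)
 (.cons 4 (nat_lit 0xc0200020a00)
 (.cons 8 (nat_lit 0x5c00800000)
 (.cons 16 (nat_lit 0xb4d800001a10)
 (.cons 32 (nat_lit 0xd4d4ccb0)
 .nil)))))))))))
noncomputable def a10 : Net := (.cons 32 (nat_lit 0xa6008a00)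
 (.cons 16 (nat_lit 0xe51500009282)
 (.cons 8 (nat_lit 0xec00c4004a0040)
 (.cons 4 (nat_lit 0x2030e090a090c0c)
 (.cons 2 (nat_lit 0x2210200130001022)
 (.cons 1 (nat_lit 0x1401441054400014)
 (.cons 2 (nat_lit 0x2200200000000022)
 (.cons 4 (nat_lit 0x60c040a08040c)
 (.cons 8 (nat_lit 0xc400e4004a0040)
 (.cons 16 (nat_lit 0x822000009002)
 (.cons 32 (nat_lit 0xa6008a00)
 .nil)))))))))))
noncomputable def a11 : Net := (.cons 32 (nat_lit 0x426027e)
 (.cons 16 (nat_lit 0x904c0000808a)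
 (.cons 8 (nat_lit 0x94001b00610040)
 (.cons 4 (nat_lit 0x9040c0b0108060e)
 (.cons 2 (nat_lit 0x2131311121012332)
 (.cons 1 (nat_lit 0x5114054501141440)
 (.cons 2 (nat_lit 0x220002000000220)
 (.cons 4 (nat_lit 0x20006080a040406)
 (.cons 8 (nat_lit 0x50001e007400ca)
 (.cons 16 (nat_lit 0x508200003404)
 (.cons 32 (nat_lit 0x8250b80)
 .nil)))))))))))
noncomputable def a12 : Net := (.cons 32 (nat_lit 0x5fc9f7f4)
 (.cons 16 (nat_lit 0xd4120000dc5e)
 (.cons 8 (nat_lit 0xae008400300028)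
 (.cons 4 (nat_lit 0xd070b000c0f0004)
 (.cons 2 (nat_lit 0x201202100212212)
 (.cons 1 (nat_lit 0x1404510014504144)
 (.cons 2 (nat_lit 0x2000000020000222)
 (.cons 4 (nat_lit 0x80408080c080202)
 (.cons 8 (nat_lit 0xea000e00a20010)
 (.cons 16 (nat_lit 0x948000003938)
 (.cons 32 (nat_lit 0xedbfedcc)
 .nil)))))))))))
noncomputable def a13 : Net := (.cons 32 (nat_lit 0xa6008a00)
 (.cons 16 (nat_lit 0xe51500009282)
 (.cons 8 (nat_lit 0xec00c4004a0040)
 (.cons 4 (nat_lit 0x2030e090a090c0c)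
 (.cons 2 (nat_lit 0x2210200130001022)
 (.cons 1 (nat_lit 0x1401441054400014)
 (.cons 2 (nat_lit 0x2200200000000022)
 (.cons 4 (nat_lit 0x60c040a08040c)
 (.cons 8 (nat_lit 0xc400e4004a0040)
 (.cons 16 (nat_lit 0x822000009002)
 (.cons 32 (nat_lit 0xa6008a00)
 .nil)))))))))))
noncomputable def ns0 : List Net := [a0, a1]
noncomputable def ws : List (List ℕ) :=
  [W (nat_lit 0x8020100400802),
  W (nat_lit 0x2008030040300803),
  W (nat_lit 0x1807),
  W (nat_lit 0x1c070180701808),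
  W (nat_lit 0x2c0a0280c),
  W (nat_lit 0xa0300c),
  W (nat_lit 0x400e),
  W (nat_lit 0x3c0e),
  W (nat_lit 0x180601c06),
  W (nat_lit 0x801808),
  W (nat_lit 0x200501c0601807),
  W (nat_lit 0x60180802006)]
noncomputable def ns : List Net := [a0, a1, a2, a3, a4, a5, a6, a7, a8, a9, a10, a11, a12, a13]
noncomputable def D : List (ℕ × List ℕ) := app [] (mkDefs ws 2)
noncomputable def chk : List (List ℕ × List ℕ) → Bool := P.relsB ns
noncomputable def zt0 : List ℕ :=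
  []
noncomputable def zcj1 : List (List ℕ) :=
  []
noncomputable def zt4 : List ℕ :=
  []
noncomputable def zcj5 : List (List ℕ) :=
  [[18]]
noncomputable def zE8 : List (ℕ × List ℕ) :=
  [(12, W (nat_lit 0x4c0f))]
noncomputable def zt9 : List ℕ :=
  W (nat_lit 0x4c11)
noncomputable def zcj10 : List (List ℕ) :=
  [[18],
  [16]]
noncomputable def zus14 : List (List ℕ) :=
  [[10],
  W (nat_lit 0x2c09)]
noncomputable def zF15 : List (List (ℕ × List ℕ)) :=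
  [[(0, W (nat_lit 0x440d)),
   (2, []),
   (1, [12])],
  [(1, []),
   (0, []),
   (2, [18])]]
noncomputable def zus18 : List (List ℕ) :=
  [[4],
  [5],
  [6],
  W (nat_lit 0x1405),
  W (nat_lit 0x1806),
  W (nat_lit 0x140b)]
noncomputable def zF19 : List (List (ℕ × List ℕ)) :=
  [[(1, []),
   (4, []),
   (0, []),
   (6, W (nat_lit 0x4c0d02c09)),
   (3, W (nat_lit 0x130440d)),
   (2, []),
   (5, W (nat_lit 0x440d02c09))],
  [(3, []),
   (1, W (nat_lit 0x4c1102c09)),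
   (0, W (nat_lit 0x440d)),
   (2, W (nat_lit 0x4c0d)),
   (5, W (nat_lit 0x4c0d02c09)),
   (6, W (nat_lit 0x4c110340b)),
   (4, W (nat_lit 0x110340b))]]
noncomputable def zrs22 : List (ℕ × List ℕ) :=
  [(1, [0]),
  (21, [1]),
  (2, W (nat_lit 0x80201411))]
noncomputable def G_v0 : Lev :=
  ⟨0, 36, sg (W (nat_lit 0x300403004030040100c01)), [[4], [6]], 0, 2⟩
noncomputable def G_v1 : Lev :=
  ⟨1, 7, sg (W (nat_lit 0x140701405)), [[8], [10]], 2, 2⟩
noncomputable def G_v2 : Lev :=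
  ⟨3, 3, sg (W (nat_lit 0x240b)), [[12], [14]], 4, 2⟩
noncomputable def G_v3 : Lev :=
  ⟨6, 2, sg [12], [[16], [18]], 6, 2⟩
noncomputable def G_v4 : Lev :=
  ⟨2, 2, sg [16], [[18]], 8, 0⟩
noncomputable def G_v5 : Lev :=
  ⟨4, 2, sg [18], [], 8, 0⟩
noncomputable def G_vs6 : List Lev :=
  []
noncomputable def G_vs5 : List Lev :=
  G_v5 :: G_vs6
noncomputable def G_vs4 : List Lev :=
  G_v4 :: G_vs5
noncomputable def G_vs3 : List Lev :=
  G_v3 :: G_vs4
noncomputable def G_vs2 : List Lev :=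
  G_v2 :: G_vs3
noncomputable def G_vs1 : List Lev :=
  G_v1 :: G_vs2
noncomputable def G_vs : List Lev :=
  G_v0 :: G_vs1
noncomputable def zcj24 : List (List ℕ) :=
  [W (nat_lit 0x340b),
  W (nat_lit 0xd02c0901405)]
noncomputable def G_w0_2_v0 : Lev :=
  ⟨21, 7, sg (W (nat_lit 0x140501c05)), [[20], [22]], 8, 2⟩
noncomputable def G_w0_2_v1 : Lev :=
  ⟨2, 12, sg (W (nat_lit 0x17054170541705417)), [[20]], 10, 0⟩
noncomputable def G_w0_2_v2 : Lev :=
  ⟨1, 2, sg [20], [], 10, 0⟩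
noncomputable def G_w0_2_vs3 : List Lev :=
  []
noncomputable def G_w0_2_vs2 : List Lev :=
  G_w0_2_v2 :: G_w0_2_vs3
noncomputable def G_w0_2_vs1 : List Lev :=
  G_w0_2_v1 :: G_w0_2_vs2
noncomputable def G_w0_2_vs : List Lev :=
  G_w0_2_v0 :: G_w0_2_vs1
noncomputable def zcj28 : List (List ℕ) :=
  [W (nat_lit 0x4c0d02c09),
  W (nat_lit 0x130440b)]
noncomputable def G_w0_3_v0 : Lev :=
  ⟨2, 21, sg (W (nat_lit 0x501c0501c0501c05)), [[24], [26]], 10, 2⟩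
noncomputable def G_w0_3_v1 : Lev :=
  ⟨7, 8, sg (W (nat_lit 0x641906c19)), [], 12, 0⟩
noncomputable def G_w0_3_vs2 : List Lev :=
  []
noncomputable def G_w0_3_vs1 : List Lev :=
  G_w0_3_v1 :: G_w0_3_vs2
noncomputable def G_w0_3_vs : List Lev :=
  G_w0_3_v0 :: G_w0_3_vs1
noncomputable def zcj32 : List (List ℕ) :=
  [W (nat_lit 0x440d),
  [16]]
noncomputable def zB35 : List BG :=
  [⟨[1], [([8], W (nat_lit 0x340b)), ([10], W (nat_lit 0xd02c0901405))],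
  [([⟨[], [], 2, []⟩], []),
   ([⟨[], [], 0, []⟩,
    ⟨[4], [6], 3, W (nat_lit 0x340b)⟩], W (nat_lit 0x40200401)),
   ([⟨[], W (nat_lit 0x2808), 3, [12]⟩,
    ⟨[4], [4], 1, W (nat_lit 0x4c110340b02406)⟩], W (nat_lit 0x100801)),
   ([⟨[], W (nat_lit 0x2c07), 3, W (nat_lit 0x4c1102c090140b)⟩,
    ⟨W (nat_lit 0x1405), [8], 2, W (nat_lit 0x440d02c06)⟩,
    ⟨W (nat_lit 0x1808), W (nat_lit 0x1405), 1, W (nat_lit 0x130440b01405)⟩], W (nat_lit 0x4010080100801))]⟩]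
noncomputable def zE36 : List (ℕ × List ℕ) :=
  [(2, W (nat_lit 0x13014050080201411))]
noncomputable def zE41 : Net :=
  .nil
noncomputable def zK42 : Lk :=
  ⟨zE41, 1, 3, 1⟩
noncomputable def zE45 : Net :=
  (.cons 32 (nat_lit 0xfffffff0)
 (.cons 16 (nat_lit 0xf0000000f)
 (.cons 8 (nat_lit 0xf000f000f000f)
 (.cons 4 (nat_lit 0xf0f0f0f0f0f0f0f)
 .nil))))
noncomputable def zK46 : Lk :=
  ⟨zE45, 1, 3, 1⟩

theorem zb2 : bnd (pcB D [] 2 zt0 zcj1) (leB (app D []) [[18]] ([18] :: [])) = true := by decide +kernel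
theorem zr3 : chk (pcR [] [18] 2 zt0 zcj1) = true := by decide +kernel
theorem zb6 : bnd (pcB D [[18]] 2 zt4 zcj5) (leB (app D []) [[16], [18]] ([16] :: [[18]])) = true := by decide +kernel
theorem zr7 : chk (pcR [[18]] [16] 2 zt4 zcj5) = true := by decide +kernel
theorem zb11 : bnd (pcB D [[16], [18]] 2 zt9 zcj10) (leB (app D zE8) [[12], [14]] ([14] :: [[16], [18]])) = true := by decide +kernel
theorem zr12 : chk (pcR [[16], [18]] [14] 2 zt9 zcj10) = true := by decide +kernel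
theorem zr13 : chk (defRels zE8) = true := by decide +kernel
theorem zb16 : schB D [[8], [10]] [[12], [14]] zus14 zF15 3 = true := by decide +kernel
theorem zr17 : chk (schR [[8], [10]] zus14 zF15) = true := by decide +kernel
theorem zb20 : schB D [[4], [6]] [[8], [10]] zus18 zF19 7 = true := by decide +kernel
theorem zr21 : chk (schR [[4], [6]] zus18 zF19) = true := by decide +kernel
theorem zc23 : P.chainB ns D G_vs [[0], [2]] = true := by decide +kernel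
theorem zb25 : wdB D [[4], [6]] G_v1.nx zcj24 = true := by decide +kernel
theorem zr26 : chk (wdR G_v1.nx [0] zcj24) = true := by decide +kernel
theorem zc27 : P.chainB ns D G_w0_2_vs [[4], [6]] = true := by decide +kernel
theorem zb29 : wdB D [[4], [6]] G_w0_2_v0.nx zcj28 = true := by decide +kernel
theorem zr30 : chk (wdR G_w0_2_v0.nx [1] zcj28) = true := by decide +kernel
theorem zc31 : P.chainB ns D G_w0_3_vs [[4], [6]] = true := by decide +kernel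
theorem zb33 : wdB D [[4], [6]] G_w0_3_v0.nx zcj32 = true := by decide +kernel
theorem zr34 : chk (wdR G_w0_3_v0.nx (W (nat_lit 0x80201411)) zcj32) = true := by decide +kernel
theorem zb37 : bB P.n P.N ns (app D zE36) [[0], [2]] [[4], [6]] 0 zrs22 zB35 = true := by decide +kernel
theorem zb38 : P.invSz ns [[0], [2]] 0 (orbM P.N ns G_v0) 36 = true := by decide +kernel
theorem zr39 : chk (bR 0 zrs22 zB35) = true := by decide +kernel
theorem zr40 : chk (defRels zE36) = true := by decide +kernel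
theorem zl43 : zK42.relB CL.Q49M.G24Aux2.S.P CL.Q49M.G24Aux2.T.P CL.Q49M.G24Aux2.S.ns [[0], [2]] [[0], [2]] = true := by decide +kernel
theorem zl44 : allL (zK42.pl CL.Q49M.G24Aux2.S.P CL.Q49M.G24Aux2.T.P CL.Q49M.G24Aux2.S.ns CL.Q49M.G24Aux2.T.ns 0) (zp [] [[0], [2]] [[0], [2]]) = true := by decide +kernel
theorem zl47 : zK46.relB CL.Q49M.G24Aux2.S.P CL.Std.U33.P CL.Q49M.G24Aux2.S.ns [[0], [2]] [[0], [2]] = true := by decide +kernel
theorem zl48 : allL (zK46.pl CL.Q49M.G24Aux2.S.P CL.Std.U33.P CL.Q49M.G24Aux2.S.ns CL.Std.U33.ns 0) (zp [] [[0], [2]] [[0], [2]]) = true := by decide +kernel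
theorem zk49 : allL (keepB P.n P.N) ns0 = true := by decide +kernel
theorem ze50 : extB ns0 ns 2 ws [] = true := by decide +kernel
theorem zn51 : P.netsB ns (mkDefs ws 2) = true := by decide +kernel

section
variable {G X : Type*} [Group G] [MulAction G X] {e : ℕ → X} {gs : List G}

theorem keep0 : allL (keepB P.n P.N) ns0 = true := zk49

theorem len {k} (c : Ctx P e gs ns0 [] k) : gs.length = 2 := c.len ze50

theorem ctx0 {k} (c : Ctx P e gs ns0 [] k) : Ctx P e (ext gs ws) ns D chk0 :=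
  c.ext rfl ze50 zn51

theorem ctx {k} (c : Ctx P e gs ns0 [] k) {H : Subgroup G} (hF : Faithful e P.n H) (hH : ∀ g ∈ gs, g ∈ H) :
    Ctx P e (ext gs ws) ns D chk :=
  (ctx0 c).withB hF (mem_of_mem_ext hH _)

instance instNe : NeZero P.n := ⟨by decide⟩
noncomputable def gs0 : List (Equiv.Perm (Fin P.n)) := permsOf P.n P.N ns0
noncomputable def gs1 : List (Equiv.Perm (Fin P.n)) := ext gs0 ws
theorem c1 : Ctx P (eF P.n) gs1 ns D chk :=
  ctx (ctx_permsOf hP keep0) (faithful_eF _) fun _ _ => trivial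

theorem G_u5 (c : Ctx P e gs ns D chk) :
    UB (subW gs [[18]]) 2 :=
  (c.pc_step (UB.nil gs) (Rels.nil _)
    (c.rels _ zr3) zb2).le (by decide)

theorem G_u4 (c : Ctx P e gs ns D chk) :
    UB (subW gs [[16], [18]]) 4 :=
  (c.pc_step (G_u5 c) (Rels.nil _)
    (c.rels _ zr7) zb6).le (by decide)

theorem G_u3 (c : Ctx P e gs ns D chk) :
    UB (subW gs [[12], [14]]) 8 :=
  (c.pc_step (G_u4 c) (c.rels _ zr13)
    (c.rels _ zr12) zb11).le (by decide)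

theorem G_u2 (c : Ctx P e gs ns D chk) :
    UB (subW gs [[8], [10]]) 24 :=
  (c.sch_step (G_u3 c)
    (c.rels _ zr17) zb16).le (by decide)

theorem G_u1 (c : Ctx P e gs ns D chk) :
    UB (subW gs [[4], [6]]) 168 :=
  (c.sch_step (G_u2 c)
    (c.rels _ zr21) zb20).le (by decide)

theorem G_c : P.chainB ns D G_vs [[0], [2]] = true :=
  zc23

theorem G_o : prodL G_vs 1 = 6048 := by decide +kernel

theorem G_w0_2_c : P.chainB ns D G_w0_2_vs [[4], [6]] = true :=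
  zc27

theorem G_w0_2_o : prodL G_w0_2_vs 1 = 168 := by decide +kernel

theorem G_w0_3_c : P.chainB ns D G_w0_3_vs [[4], [6]] = true :=
  zc31

theorem G_w0_3_o : prodL G_w0_3_vs 1 = 168 := by decide +kernel

theorem G_u0w (c : Ctx P e gs ns D chk) :
    AllWd e gs [[4], [6]] zrs22 :=
  ⟨c.wd (v := G_v1) (vs := G_vs2) (G_u1 c) (Par.chainB_tail G_c) (by decide +kernel)
      (c.rels _ zr26) zb25,
    ⟨c.wd (v := G_w0_2_v0) (vs := G_w0_2_vs1) (G_u1 c) G_w0_2_c G_w0_2_o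
      (c.rels _ zr30) zb29,
    ⟨c.wd (v := G_w0_3_v0) (vs := G_w0_3_vs1) (G_u1 c) G_w0_3_c G_w0_3_o
      (c.rels _ zr34) zb33,
    trivial⟩⟩⟩

theorem G_u0 (c : Ctx P e gs ns D chk) :
    UB (subW gs [[0], [2]]) 6048 :=
  (c.b_step (G_u1 c) (G_u0w c) (c.rels _ zr40)
    (c.rels _ zr39) zb37 zb38).le (by decide)

theorem G_ub (c : Ctx P e gs ns D chk) :
    UB (subW gs [[0], [2]]) 6048 :=
  (G_u0 c)

theorem toT {Γ Y : Type*} [Group Γ] [MulAction Γ Y] {e' : ℕ → Y} {cs : List Γ} {D₁ D₂ : List (ℕ × List ℕ)}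
    {k₁ k₂ : List (List ℕ × List ℕ) → Bool} (c : Ctx CL.Q49M.G24Aux2.S.P e gs CL.Q49M.G24Aux2.S.ns D₁ k₁) (c' : Ctx CL.Q49M.G24Aux2.T.P e' cs CL.Q49M.G24Aux2.T.ns D₂ k₂)
    (hF : Faithful e' CL.Q49M.G24Aux2.T.P.n (subW cs [[0], [2]])) :
    RelLe gs [[0], [2]] cs [[0], [2]] :=
  c.relLe (K := zK42) c' hF zl43 (fun (t : ℕ) (ht : t < 1) => match t, ht with
    | 0, _ => zl44
    | t + 1, h => absurd h (by omega))

theorem toB {Γ Y : Type*} [Group Γ] [MulAction Γ Y] {e' : ℕ → Y} {cs : List Γ} {D₁ D₂ : List (ℕ × List ℕ)}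
    {k₁ k₂ : List (List ℕ × List ℕ) → Bool} (c : Ctx CL.Q49M.G24Aux2.S.P e gs CL.Q49M.G24Aux2.S.ns D₁ k₁) (c' : Ctx CL.Std.U33.P e' cs CL.Std.U33.ns D₂ k₂)
    (hF : Faithful e' CL.Std.U33.P.n (subW cs [[0], [2]])) :
    RelLe gs [[0], [2]] cs [[0], [2]] :=
  c.relLe (K := zK46) c' hF zl47 (fun (t : ℕ) (ht : t < 1) => match t, ht with
    | 0, _ => zl48
    | t + 1, h => absurd h (by omega))

theorem rel {Γ Y : Type*} [Group Γ] [MulAction Γ Y] {e' : ℕ → Y} {cs : List Γ} {D₂ : List (ℕ × List ℕ)}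
    {k₂ : List (List ℕ × List ℕ) → Bool} (c' : Ctx CL.Std.U33.P e' cs CL.Std.U33.ns D₂ k₂) (hF : Faithful e' CL.Std.U33.P.n (subW cs [[0], [2]])) :
    RelLe CL.Q49M.G24Aux2.T.gs1 [[0], [2]] cs [[0], [2]] :=
  ((toT c1 CL.Q49M.G24Aux2.T.c1 ((faithful_eF _).mono le_top)).symm_of_card (G_ub c1) (CL.Q49M.G24Aux2.T.G_lb CL.Q49M.G24Aux2.T.c1)).trans (toB c1 c' hF)

end
end CL.Q49M.G24Aux2.S

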